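import Cfsg.Prelude.Def_OddOrder
import Cfsg.Agent.Lib.OddUse.Basic

/-!
A minimal counterexample to the solvability of the groups of odd order is a minimal simple group of
odd order.
-/

set_option autoImplicit false
set_option linter.style.haveILetI false

namespace Cfsg.Agent.Grp.FT

universe u

/-- If there is no minimal simple group of odd order, every group of odd order is solvable. -/
theorem odd_order_of
    (hMS : ∀ (G : Type u) [Group G] [Finite G], Cfsg.IsMinSimpleOddOrder G → False)
    (G : Type u) [Group G] [Finite G] (hG : Odd (Nat.card G)) : Group.IsSolvable G := by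
  induction hn : Nat.card G using Nat.strong_induction_on generalizing G with
  | _ n ih =>
    subst hn
    rcases subsingleton_or_nontrivial G with h | h
    · infer_instance
    have hsub : ∀ H : Subgroup G, H ≠ ⊤ → Group.IsSolvable H := fun H hH =>
      ih _ (lt_of_le_of_ne (Nat.le_of_dvd Nat.card_pos H.card_subgroup_dvd_card)
        fun e => hH (Subgroup.eq_top_of_card_eq H e))
        H (hG.of_dvd_nat H.card_subgroup_dvd_card) rfl
    by_cases hs : IsSimpleGroup G
    · by_contra hns
      exact hMS G ⟨hG, hs, fun hc => hns (Group.isSolvable_of_comm fun a b => mul_comm' a b), hsub⟩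
    · obtain ⟨N, hN, hN1, hNt⟩ : ∃ N : Subgroup G, N.Normal ∧ N ≠ ⊥ ∧ N ≠ ⊤ := by
        by_contra hno
        push Not at hno
        exact hs ⟨fun H hH => or_iff_not_imp_left.2 (hno H hH)⟩
      haveI := hsub N hNt
      haveI : Group.IsSolvable (G ⧸ N) := by
        have hlt : Nat.card (G ⧸ N) < Nat.card G := by
          conv_rhs => rw [Subgroup.card_eq_card_quotient_mul_card_subgroup N]
          exact lt_mul_of_one_lt_right Nat.card_pos ((Subgroup.one_lt_card_iff_ne_bot N).2 hN1)
        exact ih _ hlt (G ⧸ N) (hG.of_dvd_nat N.card_quotient_dvd_card) rfl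
      exact Group.isSolvable_of_ker_le_range N.subtype (QuotientGroup.mk' N) (by simp)

/-- Given solvability in odd order, no minimal simple group of odd order exists. -/
theorem not_minSimpleOdd {G : Type u} [Group G]
    (hsol : Odd (Nat.card G) → Group.IsSolvable G) (hG : Cfsg.IsMinSimpleOddOrder G) : False := by
  haveI := hG.2.1
  exact OddUse.not_isSolvable_of_simple hG.2.2.1 (hsol hG.1)

end Cfsg.Agent.Grp.FT
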