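import Cfsg.Agent.Lib.Grp.FT.Member

/-!
The coordinates of a member on the grid and on the other members.
-/

set_option autoImplicit false
set_option linter.unusedSectionVars false
set_option linter.style.haveILetI false

namespace Cfsg.Agent.Grp.FT

open Cfsg Cfsg.Agent.Char
open scoped ComplexConjugate

universe u

variable {G : Type u} [Group G] [Fintype G] {W₁ W₂ : Subgroup G}

/-- Inner products of functions with disjoint supports vanish. -/
theorem inner_zero_of_support {a b : G → ℂ} (h : ∀ g, a g = 0 ∨ b g = 0) : classInner a b = 0 := by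
  simp only [classInner]
  rw [Finset.sum_eq_zero fun g _ => ?_, mul_zero]
  rcases h g with h | h <;> simp [h]

namespace Member

variable (M N : Member G)

theorem tau_cross (h : Disjoint M.reg N.reg) (α : M.L → ℂ) (β : N.L → ℂ) : classInner (M.tau α) (N.tau β) = 0 := by
  refine inner_zero_of_support fun g => ?_
  by_cases hg : g ∈ M.reg
  · exact Or.inr (N.tau_outside fun h' => Set.disjoint_left.1 h hg h')
  · exact Or.inl (M.tau_outside hg)

theorem Z_cross (h : Disjoint M.reg N.reg) (i : M.ι) (j : N.ι) : classInner (M.Z i) (N.Z j) = 0 := by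
  have hX : ∀ (M : Member G) (i : M.ι), M.Z i - M.Z (M.bar i) = M.tau (M.xi i - M.xi (M.bar i)) := fun M i => by
    have e : M.xi i - M.xi (M.bar i) = (M.xi i - (M.d i : ℂ) • M.xi M.i₀) - (M.xi (M.bar i) - (M.d (M.bar i) : ℂ) • M.xi M.i₀) := by
      rw [M.d_bar]; abel
    rw [tau, e, dade_sub, M.Z_diff, M.Z_diff, M.d_bar]
    abel
  have h0 : classInner (M.Z i - M.Z (M.bar i)) (N.Z j - N.Z (N.bar j)) = 0 := by
    rw [hX, hX]; exact M.tau_cross N h _ _
  obtain ⟨a1, a2, a3, a4⟩ := unit_inner (M.Z_gen i) (N.Z_gen j) (M.Z_norm i) (N.Z_norm j)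
  have hz : zInner (M.Z i) (N.Z j) = 0 := by
    by_contra hne
    have hs : ∃ ε : ℂ, ε ≠ 0 ∧ conj ε = ε ∧ M.Z i = ε • N.Z j := by
      rcases (by omega : zInner (M.Z i) (N.Z j) = 1 ∨ zInner (M.Z i) (N.Z j) = -1) with e | e
      · exact ⟨1, one_ne_zero, map_one _, by rw [a3 e, one_smul]⟩
      · exact ⟨-1, by simp, by simp, by rw [a4 e, neg_one_smul]⟩
    obtain ⟨ε, hε0, hεr, he⟩ := hs
    have heb : M.Z (M.bar i) = ε • N.Z (N.bar j) := by
      rw [← M.Z_conj, ← N.Z_conj, he]; funext g; simp [conjFun, hεr]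
    rw [he, heb, ← smul_sub, classInner_smul_left, classInner_sub_left, classInner_sub_right, classInner_sub_right] at h0
    simp only [N.Z_orth, if_true, if_neg (N.bar_ne j), if_neg (N.bar_ne j).symm] at h0
    have : ε * 2 = 0 := by linear_combination h0
    simp [hε0] at this
  rw [zInner_spec (M.Z_gen i) (N.Z_gen j), hz, Int.cast_zero]

/-- The coordinate of `beta` on another member. -/
noncomputable def g (M N : Member G) : ℤ := zInner M.delta (N.Z N.i₀)

theorem beta_cross (h : Disjoint M.reg N.reg) (j : N.ι) :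
    classInner M.beta (N.Z j) = (N.d j : ℂ) * (M.g N : ℂ) := by
  have h0 : classInner M.beta (N.tau (N.xi j - (N.d j : ℂ) • N.xi N.i₀)) = 0 := M.tau_cross N h _ _
  rw [tau, N.Z_diff, classInner_sub_right, classInner_smul_right, map_natCast, sub_eq_zero] at h0
  rw [h0, g, ← zInner_spec M.delta_gen (N.Z_gen _)]
  congr 1
  have hone : classInner (fun _ : G => (1 : ℂ)) (N.Z N.i₀) = 0 := by rw [← classInner_conj_symm, N.Z_one, map_zero]
  rw [delta, classInner_add_left, classInner_sub_left, hone, M.Z_cross N h, sub_zero, add_zero]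

/-- Parity of the cross coordinates. -/
theorem parity (hodd : Odd (Nat.card G)) (h : Disjoint M.reg N.reg) : Odd (M.g N + N.g M) := by
  have h0 : classInner M.beta N.beta = 0 := M.tau_cross N h _ _
  have e : ∀ K : Member G, K.beta = (fun _ => (1 : ℂ)) + K.delta - K.Z K.i₀ := fun K => by rw [delta]; abel
  obtain ⟨k, hk⟩ := inner_even hodd M.delta_gen N.delta_gen M.delta_real N.delta_real M.delta_one
  have h1 : classInner M.delta (N.Z N.i₀) = (M.g N : ℂ) := zInner_spec M.delta_gen (N.Z_gen _)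
  have h2 : classInner (M.Z M.i₀) N.delta = (N.g M : ℂ) := by
    rw [← classInner_conj_symm, show classInner N.delta (M.Z M.i₀) = (N.g M : ℂ) from zInner_spec N.delta_gen (M.Z_gen _),
      map_intCast]
  have h3 : classInner (fun _ : G => (1 : ℂ)) N.delta = 0 := by rw [← classInner_conj_symm, N.delta_one, map_zero]
  have h4 : classInner (fun _ : G => (1 : ℂ)) (N.Z N.i₀) = 0 := by rw [← classInner_conj_symm, N.Z_one, map_zero]
  rw [e M, e N] at h0
  simp only [classInner_sub_left, classInner_sub_right, classInner_add_left, classInner_add_right,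
    classInner_self_irr isIrr_one, M.delta_one, M.Z_one, h1, h2, h3, h4, M.Z_cross N h,
    zInner_spec M.delta_gen N.delta_gen, hk] at h0
  have h5 : (1 + (k + k) - M.g N - N.g M : ℤ) = 0 := by
    apply Int.cast_injective (α := ℂ)
    push_cast at h0 ⊢
    linear_combination h0
  exact ⟨k, by omega⟩

variable (E : Grid W₁ W₂)

theorem tau_V (E : Grid W₁ W₂) (h : Disjoint M.reg (mixed W₁ W₂)) (α : M.L → ℂ) (a : ↥W₁) (b : ↥W₂) (ha : a ≠ 1) (hb : b ≠ 1) :
    M.tau α ((a : G) * b) = 0 :=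
  M.tau_outside fun hg => Set.disjoint_left.1 h hg (mixed_mul E.self ha hb)

theorem Z_grid (hodd : Odd (Nat.card G)) (h : Disjoint M.reg (mixed W₁ W₂)) (i : M.ι) (f : ↥W₁ →* ℂˣ) (g : ↥W₂ →* ℂˣ) :
    classInner (M.Z i) (E.eta f g) = 0 := by
  have e : M.xi i - M.xi (M.bar i) = (M.xi i - (M.d i : ℂ) • M.xi M.i₀) - (M.xi (M.bar i) - (M.d (M.bar i) : ℂ) • M.xi M.i₀) := by
    rw [M.d_bar]; abel
  have hs : Supp M.A M.L (M.xi i - M.xi (M.bar i)) := e ▸ (M.xi_supp i).sub (M.xi_supp _)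
  have hX : M.Z i - M.Z (M.bar i) = M.tau (M.xi i - M.xi (M.bar i)) := by
    rw [tau, e, dade_sub, M.Z_diff, M.Z_diff, M.d_bar]; abel
  have hgen := IsGenChar.sub (M.Z_gen i) (M.Z_gen (M.bar i))
  have h1 : classInner (M.Z i - M.Z (M.bar i)) (fun _ => 1) = 0 := by rw [classInner_sub_left, M.Z_one, M.Z_one, sub_self]
  have hN : classInner (M.Z i - M.Z (M.bar i)) (M.Z i - M.Z (M.bar i)) = ((2 : ℤ) : ℂ) := by
    simp only [classInner_sub_left, classInner_sub_right, M.Z_orth, if_true, if_neg (M.bar_ne i), if_neg (M.bar_ne i).symm]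
    norm_num
  have h0 := E.coef_eq_zero hodd hgen (fun a b ha hb => by rw [hX]; exact M.tau_V E h _ a b ha hb) h1 hN le_rfl f g
  obtain ⟨a1, a2, a3, a4⟩ := unit_inner (M.Z_gen i) (E.gen f g) (M.Z_norm i) (E.norm_one f g)
  have h2 := E.coef_spec hgen f g
  rw [h0, Int.cast_zero, classInner_sub_left, sub_eq_zero] at h2
  have hsp := zInner_spec (M.Z_gen i) (E.gen f g)
  by_cases h3 : zInner (M.Z i) (E.eta f g) = 0
  · rw [hsp, h3, Int.cast_zero]
  rcases (by omega : zInner (M.Z i) (E.eta f g) = 1 ∨ zInner (M.Z i) (E.eta f g) = -1) with e | e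
  · rw [h2, ← a3 e, M.Z_orth, if_neg (M.bar_ne i)]
  · rw [h2, show E.eta f g = -M.Z i by rw [a4 e, neg_neg], classInner_neg_right, M.Z_orth, if_neg (M.bar_ne i), neg_zero]

theorem coef_one : E.coef M.beta 1 1 = 1 := zInner_eq (by rw [E.one, M.beta_one, Int.cast_one])

theorem coef_add (h : Disjoint M.reg (mixed W₁ W₂)) (f : ↥W₁ →* ℂˣ) (g : ↥W₂ →* ℂˣ) :
    E.coef M.beta f g = E.coef M.beta f 1 + E.coef M.beta 1 g - 1 := by
  rw [E.coef_add M.beta_gen (M.tau_V E h _) f g, M.coef_one E]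

/-- The coordinates are invariant under field automorphisms. -/
theorem coef_map (hodd : Odd (Nat.card G)) (h : Disjoint M.reg (mixed W₁ W₂)) (σ : ℂ ≃+* ℂ) (f : ↥W₁ →* ℂˣ)
    (g : ↥W₂ →* ℂˣ) :
    E.coef M.beta ((Units.map σ.toRingHom.toMonoidHom).comp f) ((Units.map σ.toRingHom.toMonoidHom).comp g) =
      E.coef M.beta f g := by
  obtain ⟨i, -, hi⟩ := M.beta_map σ
  apply zInner_eq
  have h1 := inner_map₂ M.beta_gen (E.gen f g) σ
  rw [hi, E.map_eta hodd, E.coef_spec M.beta_gen, map_intCast, classInner_sub_left, classInner_add_left,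
    M.Z_grid E hodd h, M.Z_grid E hodd h, add_zero, sub_zero] at h1
  exact h1

/-- Galois transitivity on the nontrivial characters of a group of prime order. -/
theorem exists_map_eq {U : Subgroup G} (hU : (Nat.card U).Prime) {f f' : ↥U →* ℂˣ} (hf : f ≠ 1) (hf' : f' ≠ 1) :
    ∃ σ : ℂ ≃+* ℂ, (Units.map σ.toRingHom.toMonoidHom).comp f = f' := by
  haveI := Fact.mk hU
  obtain ⟨x, hx⟩ := (isCyclic_of_prime_card (α := ↥U) rfl).exists_generator
  have key : ∀ f : ↥U →* ℂˣ, f ≠ 1 → IsPrimitiveRoot (f x : ℂ) (Nat.card U) := by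
    intro f hf
    have h1 : f x ^ Nat.card U = 1 := by rw [← map_pow, pow_card_eq_one', map_one]
    have h2 : orderOf (f x) = Nat.card U := orderOf_eq_prime h1 fun e => hf (MonoidHom.ext fun y => by
      obtain ⟨k, rfl⟩ := Subgroup.mem_zpowers_iff.1 (hx y); simp [e])
    have h3 := IsPrimitiveRoot.orderOf (f x : ℂ)
    rwa [orderOf_units, h2] at h3
  haveI : NeZero (Nat.card U) := ⟨hU.ne_zero⟩
  obtain ⟨k, hklt, hkf⟩ := (key f hf).eq_pow_of_pow_eq_one (key f' hf').pow_eq_one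
  have hk : k.Coprime (Nat.card U) := by
    refine ((hU.coprime_iff_not_dvd).2 fun hd => ?_).symm
    rw [Nat.eq_zero_of_dvd_of_lt hd hklt, pow_zero] at hkf
    exact (key f' hf').ne_one hU.one_lt hkf.symm
  obtain ⟨σ, hσ⟩ := exists_ringAut_pow (Nat.card U) k hU.pos hk
  refine ⟨σ, MonoidHom.ext fun y => ?_⟩
  obtain ⟨m, rfl⟩ := Subgroup.mem_zpowers_iff.1 (hx y)
  rw [map_zpow, map_zpow]
  congr 1
  refine Units.ext ?_
  show σ (f x : ℂ) = (f' x : ℂ)
  rw [hσ _ (key f hf).pow_eq_one, hkf]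

theorem coef_left_const (hodd : Odd (Nat.card G)) (h : Disjoint M.reg (mixed W₁ W₂)) (hq : (Nat.card W₁).Prime)
    {f f' : ↥W₁ →* ℂˣ} (hf : f ≠ 1) (hf' : f' ≠ 1) : E.coef M.beta f 1 = E.coef M.beta f' 1 := by
  obtain ⟨σ, hσ⟩ := exists_map_eq hq hf hf'
  rw [← M.coef_map E hodd h σ f 1, hσ, MonoidHom.comp_one]

theorem coef_right_const (hodd : Odd (Nat.card G)) (h : Disjoint M.reg (mixed W₁ W₂)) (hp : (Nat.card W₂).Prime)
    {g g' : ↥W₂ →* ℂˣ} (hg : g ≠ 1) (hg' : g' ≠ 1) : E.coef M.beta 1 g = E.coef M.beta 1 g' := by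
  obtain ⟨σ, hσ⟩ := exists_map_eq hp hg hg'
  rw [← M.coef_map E hodd h σ 1 g, hσ, MonoidHom.comp_one]

/-- The orthonormal system made of the grid, the own family and the other families. -/
theorem budget (hodd : Odd (Nat.card G)) (h : Disjoint M.reg (mixed W₁ W₂)) [Fintype (↥W₁ →* ℂˣ)] [Fintype (↥W₂ →* ℂˣ)]
    {κ : Type*} [Fintype κ] (N : κ → Member G) (hN : ∀ k, Disjoint M.reg (N k).reg)
    (hN2 : ∀ k l, k ≠ l → Disjoint (N k).reg (N l).reg) (hNV : ∀ k, Disjoint (N k).reg (mixed W₁ W₂)) :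
    ∑ g, ∑ f, E.coef M.beta f g ^ 2 + ((M.n : ℤ) * M.g M ^ 2 - 2 * M.g M + 1) +
        ∑ k, ((N k).n : ℤ) * M.g (N k) ^ 2 ≤ (M.e : ℤ) + 1 := by
  classical
  let v : (((↥W₁ →* ℂˣ) × (↥W₂ →* ℂˣ)) ⊕ (M.ι ⊕ Σ k, (N k).ι)) → G → ℂ := Sum.elim (fun p => E.eta p.1 p.2) (Sum.elim M.Z fun x => (N x.1).Z x.2)
  let c : (((↥W₁ →* ℂˣ) × (↥W₂ →* ℂˣ)) ⊕ (M.ι ⊕ Σ k, (N k).ι)) → ℤ := Sum.elim (fun p => E.coef M.beta p.1 p.2)
    (Sum.elim (fun i => (M.d i : ℤ) * M.g M - if i = M.i₀ then 1 else 0) fun x => ((N x.1).d x.2 : ℤ) * M.g (N x.1))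
  have hsymm : ∀ {a b : G → ℂ}, classInner a b = 0 → classInner b a = 0 := fun {a b} h => by
    rw [← classInner_conj_symm, h, map_zero]
  have hv : ∀ x y, classInner (v x) (v y) = if x = y then 1 else 0 := by
    rintro (p | i | ⟨k, i⟩) (p' | i' | ⟨k', i'⟩) <;>
      simp only [v, Sum.elim_inl, Sum.elim_inr, reduceCtorEq, if_false]
    · rw [E.eta_inner]; exact if_congr (by simp) rfl rfl
    · exact hsymm (M.Z_grid E hodd h _ _ _)
    · exact hsymm ((N k').Z_grid E hodd (hNV k') _ _ _)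
    · exact M.Z_grid E hodd h _ _ _
    · rw [M.Z_orth]; exact if_congr (by simp) rfl rfl
    · exact M.Z_cross _ (hN k') _ _
    · exact (N k).Z_grid E hodd (hNV k) _ _ _
    · exact hsymm (M.Z_cross _ (hN k) _ _)
    · by_cases hk : k = k'
      · subst hk; rw [(N k).Z_orth]; exact if_congr (by simp) rfl rfl
      · rw [(N k).Z_cross _ (hN2 k k' hk), if_neg (by simp [hk])]
  have hg0 : classInner M.beta (M.Z M.i₀) + 1 = (M.g M : ℂ) := by
    have : classInner (fun _ : G => (1 : ℂ)) (M.Z M.i₀) = 0 := hsymm (M.Z_one _)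
    rw [g, ← zInner_spec M.delta_gen (M.Z_gen _), delta, classInner_add_left, classInner_sub_left, this, M.Z_norm, sub_zero]
  have hc : ∀ x, classInner M.beta (v x) = c x := by
    rintro (p | i | ⟨k, i⟩) <;> simp only [v, c, Sum.elim_inl, Sum.elim_inr]
    · exact E.coef_spec M.beta_gen _ _
    · rw [M.beta_coord, hg0]; push_cast; split_ifs <;> simp
    · rw [M.beta_cross _ (hN k)]; push_cast; rfl
  have hb := (bessel_int v (fun x y => by convert hv x y) M.beta c hc M.beta_norm).1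
  simp only [c, Fintype.sum_sum_type, Sum.elim_inl, Sum.elim_inr, Fintype.sum_prod_type, Fintype.sum_sigma] at hb
  rw [Finset.sum_comm] at hb
  have h1 : ∑ i, ((M.d i : ℤ) * M.g M - if i = M.i₀ then 1 else 0) ^ 2 = (M.n : ℤ) * M.g M ^ 2 - 2 * M.g M + 1 := by
    have e : ∀ i, ((M.d i : ℤ) * M.g M - if i = M.i₀ then 1 else 0) ^ 2 =
        (M.d i : ℤ) ^ 2 * M.g M ^ 2 + if i = M.i₀ then -2 * M.g M + 1 else 0 := fun i => by
      split_ifs with hi
      · subst hi; rw [M.d₀]; push_cast; ring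
      · ring
    rw [Finset.sum_congr rfl fun i _ => e i, Finset.sum_add_distrib, ← Finset.sum_mul, Finset.sum_ite_eq',
      if_pos (Finset.mem_univ _)]
    have : (∑ i, (M.d i : ℤ) ^ 2) = (M.n : ℤ) := by exact_mod_cast M.sum_d
    rw [this]; ring
  have h2 : ∀ k, ∑ i, (((N k).d i : ℤ) * M.g (N k)) ^ 2 = ((N k).n : ℤ) * M.g (N k) ^ 2 := fun k => by
    simp only [mul_pow, ← Finset.sum_mul]
    congr 1
    exact_mod_cast (N k).sum_d
  rw [h1, Finset.sum_congr rfl fun k _ => h2 k] at hb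
  linarith

end Member

end Cfsg.Agent.Grp.FT
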