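import Cfsg.Agent.Lib.Grp.FT.Instances
import Cfsg.Agent.Lib.Grp.FT.Coords

/-!
The measures of the regions of the covering and the total energy.
-/

set_option autoImplicit false
set_option linter.unusedSectionVars false
set_option linter.style.haveILetI false
set_option maxHeartbeats 1000000

namespace Cfsg.Agent.Grp.FT

open Subgroup Cfsg.Agent.Char Cfsg.Agent.Transfer Cfsg.Agent.Transfer.Loc
open scoped ComplexConjugate Classical Pointwise

attribute [local instance] _root_.Classical.propDecidable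

universe u

variable {G : Type u} [Group G] [Fintype G]

/-- The measure of the regular set of a maximal subgroup. -/
noncomputable def meas (M : Subgroup G) : ℝ := ((Nat.card (Cfsg.sigmaCore M) : ℝ) - 1) / Nat.card M

theorem meas_nonneg (M : Subgroup G) : 0 ≤ meas M := by
  refine div_nonneg (sub_nonneg.2 ?_) (Nat.cast_nonneg _)
  exact_mod_cast (Nat.card_pos (α := Cfsg.sigmaCore M))

theorem energy_reg_one (hG : Cfsg.IsMinSimpleOddOrder G) {M : Subgroup G} (hM : IsCoatom M) :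
    energy (reg M) (fun _ => (1 : ℂ)) = meas M := by
  rw [energy_const_one, show (Nat.card (reg M)) = (reg M).ncard from Nat.card_coe_set_eq _, reg_card hG hM, meas]
  have h1 : (M.index : ℝ) * Nat.card M = Nat.card G := by exact_mod_cast M.index_mul_card
  rw [← h1, Nat.cast_mul, Nat.cast_sub Nat.card_pos, Nat.cast_one]
  have : (M.index : ℝ) ≠ 0 := Nat.cast_ne_zero.2 Subgroup.index_ne_zero_of_finite
  have : (Nat.card M : ℝ) ≠ 0 := Nat.cast_ne_zero.2 Nat.card_pos.ne'
  field_simp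

theorem one_not_mixed (W₁ W₂ : Subgroup G) : (1 : G) ∉ mixed W₁ W₂ := by
  rintro ⟨y, z, hz, h⟩
  have : z = 1 := by
    have e : y⁻¹ * 1 * y = z := by rw [h]; group
    simpa using e.symm
  exact hz.2 (Or.inl (this ▸ W₁.one_mem))

theorem normSq_lin {U : Subgroup G} (f : ↥U →* ℂˣ) (x : ↥U) : Complex.normSq (f x : ℂ) = 1 := by
  have h1 : (f x : ℂ) ^ Nat.card U = 1 := by
    rw [← Units.val_pow_eq_pow_val, ← map_pow, pow_card_eq_one', map_one, Units.val_one]
  rw [Complex.normSq_eq_norm_sq, Complex.norm_eq_one_of_pow_eq_one h1 Nat.card_pos.ne', one_pow]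

theorem Grid.normSq_mixed {W₁ W₂ : Subgroup G} (E : Grid W₁ W₂) (f : ↥W₁ →* ℂˣ) (g : ↥W₂ →* ℂˣ) {x : G}
    (hx : x ∈ mixed W₁ W₂) : Complex.normSq (E.eta f g x) = 1 := by
  obtain ⟨y, z, hz, rfl⟩ := hx
  obtain ⟨a, b, ha, hb, rfl⟩ := exists_of_mem_V E.self hz
  rw [E.classFun f g _ y, E.val f g a b ha hb, map_mul, normSq_lin, normSq_lin, one_mul]

namespace Pair

variable {S T W₁ W₂ : Subgroup G} (h : Pair S T W₁ W₂) {𝓛 : Finset (Subgroup G)}
  (hc : Cover S T W₁ W₂ 𝓛)
include h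

theorem energy_mixed_one : energy (mixed W₁ W₂) (fun _ => (1 : ℂ)) =
    (1 - (Nat.card W₁ : ℝ)⁻¹) * (1 - (Nat.card W₂ : ℝ)⁻¹) := by
  rw [energy_const_one, show Nat.card (mixed W₁ W₂) = (mixed W₁ W₂).ncard from Nat.card_coe_set_eq _]
  have hq : (Nat.card W₁ : ℝ) ≠ 0 := Nat.cast_ne_zero.2 Nat.card_pos.ne'
  have hw : (Nat.card W₂ : ℝ) ≠ 0 := Nat.cast_ne_zero.2 Nat.card_pos.ne'
  have hG0 : (Nat.card G : ℝ) ≠ 0 := Nat.cast_ne_zero.2 Nat.card_pos.ne'
  have key := h.mixed_card.1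
  have h1 : 2 ≤ Nat.card W₁ := Finite.one_lt_card_iff_nontrivial.2 ((Subgroup.nontrivial_iff_ne_bot _).2 h.W₁_ne)
  have h2 : 2 ≤ Nat.card W₂ := Finite.one_lt_card_iff_nontrivial.2 ((Subgroup.nontrivial_iff_ne_bot _).2 h.W₂_ne)
  have hle : Nat.card W₁ + Nat.card W₂ ≤ Nat.card W₁ * Nat.card W₂ := Nat.add_le_mul h1 h2
  rw [Nat.sub_sub] at key
  have key' : (Nat.card W₁ : ℝ) * Nat.card W₂ * (mixed W₁ W₂).ncard =
      ((Nat.card W₁ : ℝ) * Nat.card W₂ - ((Nat.card W₁ : ℝ) + Nat.card W₂) + 1) * Nat.card G := by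
    have := congrArg (Nat.cast (R := ℝ)) key
    push_cast [Nat.cast_sub hle] at this
    exact this
  field_simp
  linear_combination key'

theorem energy_mixed (E : Grid W₁ W₂) (f : ↥W₁ →* ℂˣ) (g : ↥W₂ →* ℂˣ) : energy (mixed W₁ W₂) (E.eta f g) =
    (1 - (Nat.card W₁ : ℝ)⁻¹) * (1 - (Nat.card W₂ : ℝ)⁻¹) := by
  rw [← h.energy_mixed_one]
  simp only [energy]
  congr 1
  refine Finset.sum_congr rfl fun x _ => ?_
  by_cases hx : x ∈ mixed W₁ W₂
  · rw [Set.indicator_of_mem hx, Set.indicator_of_mem hx, E.normSq_mixed f g hx, map_one]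
  · rw [Set.indicator_of_notMem hx, Set.indicator_of_notMem hx]

theorem one_not_reg {M : Subgroup G} (hR : ∀ a ∈ Cfsg.sigmaCore M, a ≠ 1 → Cfsg.supportR M a = ⊥) :
    (1 : G) ∉ reg M := by
  rintro ⟨a, ⟨ha, ha1⟩, r, hr, y, e⟩
  rw [hR a ha ha1, mem_bot] at hr
  subst hr
  refine ha1 ?_
  rw [mul_one] at e
  exact conj_eq_one_iff.1 e.symm

theorem one_not_regI {L : Subgroup G} (hL : IsCoatom L) (hI : Cfsg.IsOfTypeI L) : (1 : G) ∉ reg L := by
  rw [← memberI_reg h.hG hL hI]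
  exact DadeImg.one_not_supp (memberI h.hG hL hI).hD

include hc

theorem disjoint_family : ∀ A ∈ insert S (insert T 𝓛), ∀ B ∈ insert S (insert T 𝓛), A ≠ B → Disjoint (reg A) (reg B) := by
  intro A hA B hB
  exact hc.disjoint A (by simpa using hA) B (by simpa using hB)

theorem S_not_mem : S ∉ insert T 𝓛 := by
  rw [Finset.mem_insert, not_or]
  refine ⟨fun e => ?_, fun hS => ?_⟩
  · exact h.kp.not_conj 1 (by simp [e])
  · exact h.kappa_S.ne_empty (kappa_empty_of_typeI h.hG h.hS (hc.typeI S hS))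

theorem T_not_mem : T ∉ 𝓛 := fun hT => h.kappa_T.ne_empty (kappa_empty_of_typeI h.hG h.hT (hc.typeI T hT))

/-- The energy on the regions is at most the norm. -/
theorem total (χ : G → ℂ) :
    energy (mixed W₁ W₂) χ + energy (reg S) χ + energy (reg T) χ + ∑ L ∈ 𝓛, energy (reg L) χ ≤
      (Cfsg.classInner χ χ).re := by
  have h1 := sum_energy_le (insert S (insert T 𝓛)) reg (h.disjoint_family hc) χ
  rw [Finset.sum_insert (h.S_not_mem hc), Finset.sum_insert (h.T_not_mem hc)] at h1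
  have h2 : Disjoint (mixed W₁ W₂) (⋃ A ∈ insert S (insert T 𝓛), reg A) := by
    rw [Set.disjoint_iUnion₂_right]
    exact fun A hA => (hc.disjoint_mixed A (by simpa using hA)).symm
  have h3 := energy_union h2 χ
  have h4 := energy_le_norm (s := mixed W₁ W₂ ∪ ⋃ A ∈ insert S (insert T 𝓛), reg A) χ
  linarith

/-- The measures of the regions add up to one. -/
theorem measure_eq : ∑ L ∈ 𝓛, meas L + meas S + meas T + (Nat.card G : ℝ)⁻¹ =
    (Nat.card W₁ : ℝ)⁻¹ + (Nat.card W₂ : ℝ)⁻¹ - ((Nat.card W₁ : ℝ) * Nat.card W₂)⁻¹ := by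
  have h1 := sum_energy_le (insert S (insert T 𝓛)) reg (h.disjoint_family hc) (fun _ => (1 : ℂ))
  rw [Finset.sum_insert (h.S_not_mem hc), Finset.sum_insert (h.T_not_mem hc), energy_reg_one h.hG h.hS,
    energy_reg_one h.hG h.hT, Finset.sum_congr rfl fun L hL => energy_reg_one h.hG (hc.coatom L hL)] at h1
  have h2 : Disjoint (mixed W₁ W₂) (⋃ A ∈ insert S (insert T 𝓛), reg A) := by
    rw [Set.disjoint_iUnion₂_right]
    exact fun A hA => (hc.disjoint_mixed A (by simpa using hA)).symm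
  have h5 : (1 : G) ∉ mixed W₁ W₂ ∪ ⋃ A ∈ insert S (insert T 𝓛), reg A := by
    rintro (hm | hm)
    · exact one_not_mixed W₁ W₂ hm
    · obtain ⟨A, hA, hA'⟩ := Set.mem_iUnion₂.1 hm
      rcases Finset.mem_insert.1 hA with rfl | hA
      · exact h.one_not_reg (fun a ha ha1 => h.supportR_S ha ha1) hA'
      rcases Finset.mem_insert.1 hA with rfl | hA
      · exact h.one_not_reg (fun a ha ha1 => h.supportR_T ha ha1) hA'
      · exact h.one_not_regI (hc.coatom A hA) (hc.typeI A hA) hA'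
  have h6 : (mixed W₁ W₂ ∪ ⋃ A ∈ insert S (insert T 𝓛), reg A) ∪ {(1 : G)} = Set.univ := by
    refine Set.eq_univ_of_forall fun g => ?_
    by_cases hg : g = 1
    · exact Or.inr hg
    refine Or.inl ?_
    rcases hc.cover g hg with hm | hm | hm | ⟨L, hL, hm⟩
    · exact Or.inl hm
    · exact Or.inr (Set.mem_iUnion₂.2 ⟨S, Finset.mem_insert_self _ _, hm⟩)
    · exact Or.inr (Set.mem_iUnion₂.2 ⟨T, Finset.mem_insert_of_mem (Finset.mem_insert_self _ _), hm⟩)
    · exact Or.inr (Set.mem_iUnion₂.2 ⟨L, Finset.mem_insert_of_mem (Finset.mem_insert_of_mem hL), hm⟩)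
  have h7 : Disjoint (mixed W₁ W₂ ∪ ⋃ A ∈ insert S (insert T 𝓛), reg A) ({1} : Set G) :=
    Set.disjoint_singleton_right.2 h5
  have h8 := energy_union h7 (fun _ => (1 : ℂ))
  rw [h6, energy_univ, classInner_self_irr isIrr_one, Complex.one_re, energy_union h2, h.energy_mixed_one, ← h1,
    energy_const_one] at h8
  rw [show Nat.card ({1} : Set G) = 1 by simp, Nat.cast_one, one_div] at h8
  rw [mul_inv]
  linarith

end Pair

/-- The measure of a member of type I. -/
theorem memberI_meas (hG : Cfsg.IsMinSimpleOddOrder G) {L : Subgroup G} (hL : IsCoatom L) (hI : Cfsg.IsOfTypeI L) :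
    meas L = ((memberI hG hL hI).n : ℝ) / ((memberI hG hL hI).e * (memberI hG hL hI).n + 1) := by
  obtain ⟨h1, h2⟩ := memberI_card hG hL hI
  have h3 : (Cfsg.sigmaCore L).relIndex L * Nat.card (Cfsg.sigmaCore L) = Nat.card L := by
    have := Subgroup.relIndex_mul_relIndex (⊥ : Subgroup G) (Cfsg.sigmaCore L) L bot_le (TransHyp.piCoreOf_le L)
    rw [Subgroup.relIndex_bot_left, Subgroup.relIndex_bot_left] at this
    rw [mul_comm]; exact this
  rw [meas, ← h3, ← h2, ← h1]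
  push_cast
  have he : ((memberI hG hL hI).e : ℝ) ≠ 0 := by
    rw [h2]; exact Nat.cast_ne_zero.2 Subgroup.index_ne_zero_of_finite
  have : ((memberI hG hL hI).e : ℝ) * (memberI hG hL hI).n + 1 ≠ 0 := by positivity
  field_simp
  ring

/-- Any maximal subgroup of type I can be made one of the family. -/
theorem Pair.exists_cover_mem {S T W₁ W₂ : Subgroup G} (h : Pair S T W₁ W₂) {𝓛 : Finset (Subgroup G)}
    (hc : Cover S T W₁ W₂ 𝓛) {L : Subgroup G} (hL : IsCoatom L) (hI : Cfsg.IsOfTypeI L) :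
    ∃ 𝓜 : Finset (Subgroup G), Cover S T W₁ W₂ 𝓜 ∧ L ∈ 𝓜 := by
  have hG := h.hG
  obtain ⟨c, hc'⟩ := hc.complete L hL hI
  set L₀ := L.map (MulAut.conj c).toMonoidHom
  have hreg : reg L₀ = reg L := reg_conj hG hL c
  let r : Subgroup G → Subgroup G := fun A => if A = L₀ then L else A
  have hr : ∀ A, reg (r A) = reg A := fun A => by
    simp only [r]; split_ifs with e
    · rw [e, hreg]
    · rfl
  refine ⟨𝓛.image r, ⟨?_, ?_, ?_, ?_, ?_, ?_⟩, Finset.mem_image.2 ⟨L₀, hc', if_pos rfl⟩⟩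
  · intro A hA
    obtain ⟨B, hB, rfl⟩ := Finset.mem_image.1 hA
    simp only [r]; split_ifs
    exacts [hL, hc.coatom B hB]
  · intro A hA
    obtain ⟨B, hB, rfl⟩ := Finset.mem_image.1 hA
    simp only [r]; split_ifs
    exacts [hI, hc.typeI B hB]
  · intro A hA hAI
    obtain ⟨d, hd⟩ := hc.complete A hA hAI
    by_cases e : A.map (MulAut.conj d).toMonoidHom = L₀
    · refine ⟨c⁻¹ * d, Finset.mem_image.2 ⟨L₀, hc', ?_⟩⟩
      have e' : L = L₀.map (MulAut.conj c⁻¹).toMonoidHom := by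
        show L = MulAut.conj c⁻¹ • MulAut.conj c • L
        rw [Grp.conj_smul_conj_smul, inv_mul_cancel, map_one, one_smul]
      simp only [r, if_true]
      rw [e', ← e]
      exact Grp.conj_smul_conj_smul _ _ A
    · exact ⟨d, Finset.mem_image.2 ⟨_, hd, if_neg e⟩⟩
  · intro g hg
    rcases hc.cover g hg with h | h | h | ⟨A, hA, h⟩
    · exact Or.inl h
    · exact Or.inr (Or.inl h)
    · exact Or.inr (Or.inr (Or.inl h))
    · exact Or.inr (Or.inr (Or.inr ⟨r A, Finset.mem_image_of_mem r hA, (hr A).symm ▸ h⟩))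
  · have hrS : r S = S := if_neg fun e : S = L₀ => h.S_not_mem hc (Finset.mem_insert_of_mem (by rw [e]; exact hc'))
    have hrT : r T = T := if_neg fun e : T = L₀ => h.T_not_mem hc (by rw [e]; exact hc')
    have key : ∀ A ∈ insert S (insert T (↑(𝓛.image r) : Set (Subgroup G))),
        ∃ A' ∈ insert S (insert T (↑𝓛 : Set (Subgroup G))), r A' = A := by
      intro A hA
      simp only [Set.mem_insert_iff, Finset.mem_coe] at hA
      rcases hA with rfl | rfl | hA
      · exact ⟨A, Or.inl rfl, hrS⟩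
      · exact ⟨A, Or.inr (Or.inl rfl), hrT⟩
      · obtain ⟨B, hB, rfl⟩ := Finset.mem_image.1 hA
        exact ⟨B, Or.inr (Or.inr hB), rfl⟩
    intro A hA B hB hAB
    obtain ⟨A', hA', rfl⟩ := key A hA
    obtain ⟨B', hB', rfl⟩ := key B hB
    rw [hr, hr]
    exact hc.disjoint A' hA' B' hB' fun e => hAB (congrArg r e)
  · intro A hA
    simp only [Set.mem_insert_iff, Finset.mem_coe] at hA
    rcases hA with rfl | rfl | hA
    · exact hc.disjoint_mixed A (Or.inl rfl)
    · exact hc.disjoint_mixed A (Or.inr (Or.inl rfl))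
    · obtain ⟨B, hB, rfl⟩ := Finset.mem_image.1 hA
      exact hr B ▸ hc.disjoint_mixed B (Or.inr (Or.inr hB))

end Cfsg.Agent.Grp.FT
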