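import Cfsg.Agent.Lib.Grp.FT.NonTwoMember
import Cfsg.Agent.Lib.Grp.FT.Measure

/-!
The first image of `T` carries too much energy when neither the basic function nor the fixed characters see it.
-/

set_option autoImplicit false
set_option linter.unusedSectionVars false
set_option linter.style.haveILetI false
set_option maxHeartbeats 1000000

namespace Cfsg.Agent.Grp.FT

open Subgroup Cfsg.Agent.Char Cfsg.Agent.Transfer Cfsg.Agent.Transfer.Loc
open scoped ComplexConjugate commutatorElement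

attribute [local instance] _root_.Classical.propDecidable

universe u

variable {G : Type u} [Group G] [Fintype G]

noncomputable local instance (priority := high) subFintypeM (H : Subgroup G) : Fintype H := Fintype.ofFinite _

noncomputable local instance (priority := high) subSubFintypeM (H : Subgroup G) (K : Subgroup H) : Fintype K :=
  Fintype.ofFinite _

namespace Pair

variable {S T W₁ W₂ : Subgroup G} (h : Pair S T W₁ W₂) (hT2 : Cfsg.IsSigmaDecomposition T W₂ ⊥)
include h hT2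

/-- The measure of `S` is at most `1 / (3 q)`. -/
theorem meas_S_le_three : meas S ≤ ((3 : ℝ) * Nat.card W₁)⁻¹ := by
  obtain ⟨U, hU, hU1⟩ := h.decomp_S
  obtain ⟨h1, h2, -⟩ := derived_compl h.hG h.hS hU h.W₁_ne
  have e1 := Subgroup.relIndex_mul_relIndex (Cfsg.sigmaCore S) ⁅S, S⁆ S h1.1 h2.1
  rw [(complIn_relIndex h1).1, (complIn_relIndex h2).1] at e1
  have e2 := Subgroup.relIndex_mul_relIndex (⊥ : Subgroup G) (Cfsg.sigmaCore S) S bot_le (h1.1.trans h2.1)
  rw [Subgroup.relIndex_bot_left, Subgroup.relIndex_bot_left, ← e1] at e2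
  have hU3 : 3 ≤ Nat.card U := by
    have hne : Nat.card U ≠ 1 := fun e => hU1 (Subgroup.card_eq_one.1 e)
    obtain ⟨j, hj⟩ := h.hG.1.of_dvd_nat (card_subgroup_dvd_card U)
    omega
  rw [meas, ← e2]
  have hs : (1 : ℝ) ≤ Nat.card (Cfsg.sigmaCore S) := by exact_mod_cast Nat.card_pos
  have hu : (3 : ℝ) ≤ Nat.card U := by exact_mod_cast hU3
  have hq : (0 : ℝ) < Nat.card W₁ := by exact_mod_cast Nat.card_pos
  push_cast
  rw [div_le_iff₀ (by positivity)]
  have h3 : ((3 : ℝ) * Nat.card W₁)⁻¹ * ((Nat.card (Cfsg.sigmaCore S) : ℝ) * (Nat.card U * Nat.card W₁)) =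
      (Nat.card (Cfsg.sigmaCore S) : ℝ) * (Nat.card U / 3) := by
    field_simp
  rw [h3]
  nlinarith

variable {𝓛 : Finset (Subgroup G)} (hc : Cover S T W₁ W₂ 𝓛)
include hc

/-- The contradiction. -/
theorem impossible (E : Grid W₁ W₂) (X : Exc T W₁ W₂) {Z : (h.memberT hT2).ι → G → ℂ}
    (hZ : (h.memberT hT2).ZOK Z)
    (hg₀ : Cfsg.classInner (h.memberT hT2).beta (Z (h.memberT hT2).i₀) + 1 = 0)
    (hD : ∀ f : ↥W₁ →* ℂˣ, f ≠ 1 →
      defect (core T) ((Cfsg.sigmaCore T : Set G) \ {1}) ((h.memberT hT2).xi (h.memberT hT2).i₀)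
        (Z (h.memberT hT2).i₀) (X.theta f) = 0)
    (hL0 : ∀ L (hL : L ∈ 𝓛), ((h.memberT hT2).withZ Z hZ).g (memberI h.hG (hc.coatom L hL) (hc.typeI L hL)) = 0) :
    False := by
  classical
  have hF := h.linFam hT2 hZ
  have hI := h.img hT2 hc E hZ
  have hnt := h.nonTwo hT2
  set i₀ := (h.memberT hT2).i₀
  set A := (Cfsg.sigmaCore T : Set G) \ {1}
  set ξ : T → ℂ := (h.memberT hT2).xi i₀ with hξ
  set F : core T → ℂ := fun x => Z i₀ (x : G) with hFdef
  haveI := E.finite_left; haveI := E.swap.finite_left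
  letI := Fintype.ofFinite (↥W₁ →* ℂˣ); letI := Fintype.ofFinite (↥W₂ →* ℂˣ)
  obtain ⟨c₀, hc₀⟩ := IsGenChar.classInner_int (hF.xi_gen i₀) (IsGenChar.comp T.subtype (hF.gen i₀))
  replace hc₀ : Cfsg.classInner ξ (fun x : T => Z i₀ x) - 1 = ((c₀ - 1 : ℤ) : ℂ) := by
    rw [show (fun x : T => Z i₀ (x : G)) = fun x => Z i₀ (T.subtype x) from rfl, hξ, hc₀]; push_cast; rfl
  choose d hd hdeq using fun φ : Cfsg.IrrCharacter (core T) => IsIrr.one_eq_pos φ.2
  -- the orbit of the source and the other characters without defect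
  let O : Finset (Cfsg.IrrCharacter (core T)) := Finset.univ.filter fun φ =>
    φ.1 1 = 1 ∧ φ.1 ≠ (fun _ => 1) ∧ Cfsg.indFun (core T) φ.1 = ξ
  let R : Finset (Cfsg.IrrCharacter (core T)) := Finset.univ.filter fun φ =>
    φ.1 = (fun _ => 1) ∨ (∃ f : ↥W₁ →* ℂˣ, f ≠ 1 ∧ φ.1 = X.theta f)
  have hξirr : Cfsg.IsIrrCharacter T ξ := hI.irr i₀
  have hndth : ∀ f : ↥W₁ →* ℂˣ, f ≠ 1 → X.theta f 1 ≠ 1 := fun f hf e => by
    obtain ⟨m, hm, hm3, -⟩ := X.theta_deg hnt hf
    rw [hm] at e
    exact absurd (Nat.cast_injective (R := ℂ) (e.trans Nat.cast_one.symm)) (by omega)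
  have hOR : Disjoint O R := by
    rw [Finset.disjoint_left]
    intro φ hO hR
    obtain ⟨h1, h2, -⟩ := (Finset.mem_filter.1 hO).2
    rcases (Finset.mem_filter.1 hR).2 with e | ⟨f, hf, e⟩
    · exact h2 e
    · rw [e] at h1; exact hndth f hf h1
  have hcoefO : ∀ φ ∈ O, Cfsg.classInner F φ.1 = ((c₀ - 1 : ℤ) + 1 : ℂ) * d φ := by
    intro φ hφ
    obtain ⟨h1, h2, h3⟩ := (Finset.mem_filter.1 hφ).2
    have hp := hF.pair φ.1
    rw [hF.defect_linear φ.2 h1 h2, h3, hF.norm₀, h1, one_mul, hc₀] at hp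
    have hd1 : d φ = 1 := Nat.cast_injective (R := ℂ) (by rw [← hdeq, h1, Nat.cast_one])
    rw [← classInner_conj_symm, hFdef, hp, hd1]
    push_cast
    simp only [map_add, map_sub, map_intCast, map_one, map_zero]
    ring
  have hcoefR : ∀ φ ∈ R, Cfsg.classInner F φ.1 = ((c₀ - 1 : ℤ) : ℂ) * d φ := by
    intro φ hφ
    have hp := hF.pair φ.1
    rw [hc₀] at hp
    rcases (Finset.mem_filter.1 hφ).2 with e | ⟨f, hf, e⟩
    · have hD1 : defect (core T) A ξ (Z i₀) φ.1 = 0 := by
        rw [defect, sig, e, one_smul, one_smul]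
        have hx : Cfsg.classInner (Cfsg.indFun (core T) (fun _ => 1)) ξ = 0 := by
          rw [hI.base_eq X, classInner_sum_left]
          exact Finset.sum_eq_zero fun g _ => (hI.inner_mu_xi X i₀ 1 g).1
        rw [classInner_add_left, hF.Z_norm₀, hx, sub_zero]
        rw [h.beta_eq hT2] at hg₀
        exact hg₀
      have hd1 : d φ = 1 := Nat.cast_injective (R := ℂ) (by rw [← hdeq, e, Nat.cast_one])
      have hx : Cfsg.classInner (Cfsg.indFun (core T) φ.1) ξ = 0 := by
        rw [e, hI.base_eq X, classInner_sum_left]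
        exact Finset.sum_eq_zero fun g _ => (hI.inner_mu_xi X i₀ 1 g).1
      rw [hD1, hx, show φ.1 1 = 1 by rw [e], one_mul, zero_add, zero_add] at hp
      rw [← classInner_conj_symm, hFdef, hp, map_intCast, hd1, Nat.cast_one, mul_one]
    · have hx : Cfsg.classInner (Cfsg.indFun (core T) φ.1) ξ = 0 := by
        rw [e, (X.theta_spec hnt f).2, classInner_sum_left]
        exact Finset.sum_eq_zero fun g _ => (hI.inner_mu_xi X i₀ f g).1
      have hD1 : defect (core T) A ξ (Z i₀) φ.1 = 0 := by rw [e]; exact hD f hf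
      rw [hD1, hx, zero_add, zero_add, hdeq] at hp
      rw [← classInner_conj_symm, hFdef, hp, map_mul, map_natCast, map_intCast]
      ring
  -- the sizes of the two blocks
  have hO : (∑ φ ∈ O, (d φ : ℝ) ^ 2) = Nat.card W₂ := by
    have hcl : Cfsg.IsClassFunction (core T) (fun k : core T => ξ k) :=
      IsGenChar.classFun (IsGenChar.comp (core T).subtype (hF.xi_gen i₀))
    have e := congrFun (classFunction_expansion hcl) 1
    rw [Finset.sum_apply] at e
    have e' : (Nat.card W₂ : ℂ) = ((∑ φ ∈ O, (d φ) ^ 2 : ℕ) : ℂ) := by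
      rw [← hnt.index_eq, ← hF.xi_one i₀]
      refine (show ξ 1 = (fun k : core T => ξ k) 1 from rfl).trans (e.trans ?_)
      rw [Finset.sum_filter]
      push_cast
      refine Finset.sum_congr rfl fun φ _ => ?_
      rw [Pi.smul_apply, smul_eq_mul, ← classInner_conj_symm,
        ← classInner_indFun _ φ.1 (hF.xi_classFun i₀)]
      by_cases hφ : φ.1 1 = 1 ∧ φ.1 ≠ (fun _ => 1) ∧ Cfsg.indFun (core T) φ.1 = ξ
      · have hd1 : d φ = 1 := Nat.cast_injective (R := ℂ) (by rw [← hdeq, hφ.1, Nat.cast_one])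
        rw [if_pos hφ, hφ.2.2, hdeq, hF.norm₀, map_one, hd1]
        simp
      · rw [if_neg hφ, hdeq]
        suffices hh : Cfsg.classInner (Cfsg.indFun (core T) φ.1) ξ = 0 by rw [hh, map_zero, zero_mul]
        by_cases h1 : φ.1 1 = 1
        · by_cases h2 : φ.1 = fun _ => 1
          · rw [h2, hI.base_eq X, classInner_sum_left]
            exact Finset.sum_eq_zero fun g _ => (hI.inner_mu_xi X i₀ 1 g).1
          · obtain ⟨i, hi⟩ := hF.lin φ.1 φ.2 h1 h2
            rw [← hi, hξ, hF.orth, if_neg]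
            intro e2
            exact hφ ⟨h1, h2, by rw [← hi, e2]⟩
        · rcases X.norm_cases hnt φ.2 with hn | ⟨f, hf⟩
          · refine classInner_irr_ne (IsChar.irr_of_norm_one (isCharacter_indFun _ (IsIrr.isCharacter φ.2)) hn) hξirr
              fun e2 => h1 ?_
            have e3 := congrFun e2 1
            rw [indFun_one_eq, hξ, hF.xi_one] at e3
            exact mul_left_cancel₀ (Nat.cast_ne_zero.2 Subgroup.index_ne_zero_of_finite) (e3.trans (mul_one _).symm)
          · rw [hf, (X.theta_spec hnt f).2, classInner_sum_left]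
            exact Finset.sum_eq_zero fun g _ => (hI.inner_mu_xi X i₀ f g).1
    have : Nat.card W₂ = ∑ φ ∈ O, (d φ) ^ 2 := Nat.cast_injective e'
    rw [this]; push_cast; rfl
  set w : ℝ := (Nat.card W₂ : ℝ) with hw
  set q : ℝ := (Nat.card W₁ : ℝ) with hq
  set W : ℝ := ∑ φ ∈ R, (d φ : ℝ) ^ 2 with hWdef
  have hR : (q - 1) * (2 * w - 1) ^ 2 ≤ W := by
    let θ : {f : ↥W₁ →* ℂˣ // f ≠ 1} → Cfsg.IrrCharacter (core T) := fun f =>
      ⟨X.theta f.1, (X.theta_spec hnt f.1).1⟩
    have hinj : Function.Injective θ := fun f f' e => Subtype.ext (X.theta_inj hnt (congrArg Subtype.val e))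
    have hsub : Finset.univ.image θ ⊆ R := fun φ hφ => by
      obtain ⟨f, -, rfl⟩ := Finset.mem_image.1 hφ
      exact Finset.mem_filter.2 ⟨Finset.mem_univ _, Or.inr ⟨f.1, f.2, rfl⟩⟩
    refine le_trans ?_ (Finset.sum_le_sum_of_subset_of_nonneg hsub fun φ _ _ => sq_nonneg _)
    rw [Finset.sum_image fun f _ f' _ e => hinj e]
    refine le_trans (le_of_eq ?_) (Finset.card_nsmul_le_sum _ _ ((2 * w - 1) ^ 2) fun f _ => ?_)
    · rw [Finset.card_univ, Fintype.card_subtype_compl, Fintype.card_subtype_eq, E.card_left, nsmul_eq_mul,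
        Nat.cast_sub Nat.card_pos, Nat.cast_one]
    · obtain ⟨m, hm, -, -, hmw, -⟩ := X.theta_deg hnt f.2
      have e : d (θ f) = m := Nat.cast_injective (R := ℂ) ((hdeq (θ f)).symm.trans hm)
      rw [e]
      have h1 : 2 * w ≤ (m : ℝ) + 1 := by rw [hw]; exact_mod_cast hmw
      have h2 : (3 : ℝ) ≤ w := by rw [hw]; exact_mod_cast hnt.card₂_three
      exact pow_le_pow_left₀ (by linarith) (by linarith) 2
  -- the energy at `T`
  have hFc : Cfsg.IsClassFunction (core T) F :=
    IsGenChar.classFun (IsGenChar.comp (core T).subtype (IsGenChar.comp T.subtype (hF.gen i₀)))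
  have htb := two_block hFc d hdeq O R hOR ((c₀ - 1 : ℤ) : ℂ) 1 hcoefR hcoefO
  rw [map_one, one_mul, hO] at htb
  have hET : W / (w + W) ≤ energy (reg T) (Z i₀) := by
    have hreg : reg T = {g | ∃ a ∈ A, ∃ x : G, g = x * a * x⁻¹} := by
      rw [← h.memberT_reg hT2]
      exact ti_supp A
    rw [hreg, ti_energy hF.hD (IsGenChar.classFun (hF.gen i₀))]
    have e : ∑ a : T, ((fun x : T => (x : G)) ⁻¹' A).indicator (fun x => Complex.normSq (Z i₀ (x : G))) a =
        (∑ x : core T, Complex.normSq (F x)) - Complex.normSq (F 1) := by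
      rw [← Finset.add_sum_erase _ _ (Finset.mem_univ (1 : core T)), add_sub_cancel_left]
      rw [← Finset.sum_subset (Finset.subset_univ ((Finset.univ.erase (1 : core T)).image Subtype.val)) fun a _ ha => ?_,
        Finset.sum_image fun a _ b _ e => Subtype.ext e]
      · refine Finset.sum_congr rfl fun x hx => ?_
        rw [Set.indicator_of_mem]
        exact (hF.hA (x : T)).2 ⟨x.2, fun e => (Finset.mem_erase.1 hx).1 (Subtype.ext e)⟩
      · rw [Set.indicator_of_notMem]
        intro haA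
        obtain ⟨h1, h2⟩ := (hF.hA a).1 haA
        exact ha (Finset.mem_image.2 ⟨⟨a, h1⟩,
          Finset.mem_erase.2 ⟨fun e => h2 (congrArg Subtype.val e), Finset.mem_univ _⟩, rfl⟩)
    rw [e]
    have hTK : (Nat.card T : ℝ) = w * Nat.card (core T) := by
      rw [← (core T).card_mul_index, hnt.index_eq, Nat.cast_mul, hw]; ring
    have hK : (0 : ℝ) < Nat.card (core T) := by exact_mod_cast Nat.card_pos
    have hw0 : (0 : ℝ) < w := by rw [hw]; exact_mod_cast Nat.card_pos
    calc W / (w + W) = (Nat.card T : ℝ)⁻¹ * ((Nat.card (core T) : ℝ) * (w * W / (w + W))) := by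
          rw [hTK]; field_simp
      _ ≤ _ := mul_le_mul_of_nonneg_left htb (by positivity)
  -- the energies of the others
  set M := (h.memberT hT2).withZ Z hZ with hM
  have hg0 : M.g M = 0 := by
    have e : Cfsg.classInner M.beta (M.Z M.i₀) + 1 = 0 := hg₀
    rw [M.g_self] at e
    exact_mod_cast e
  have hEL : ∀ L ∈ 𝓛, meas L ≤ energy (reg L) (Z i₀) := by
    intro L hL
    set N := memberI h.hG (hc.coatom L hL) (hc.typeI L hL)
    have hNreg : N.reg = reg L := memberI_reg h.hG (hc.coatom L hL) (hc.typeI L hL)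
    have hdis : Disjoint M.reg N.reg := by
      rw [hNreg, show M.reg = reg T from h.memberT_reg hT2]
      exact hc.disjoint T (by simp) L (by simp [hL]) fun e => h.T_not_mem hc (e ▸ hL)
    have hodd := M.parity N h.hG.1 hdis
    rw [hL0 L hL, zero_add] at hodd
    have hv := N.value_le' (IsGenChar.classFun (hF.gen i₀)) fun i => by
      rw [show Cfsg.classInner (Z i₀) (N.Z i) = 0 from M.Z_cross N hdis i₀ i,
        show Cfsg.classInner (Z i₀) (N.Z N.i₀) = 0 from M.Z_cross N hdis i₀ N.i₀, mul_zero]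
    have hb := N.beta_cross M hdis.symm i₀
    rw [show M.d i₀ = 1 from h.memberT_deg hT2 i₀, Nat.cast_one, one_mul] at hb
    have hb' : Cfsg.classInner (Z i₀) N.beta = (N.g M : ℂ) := by
      rw [← classInner_conj_symm, show Cfsg.classInner N.beta (Z i₀) = _ from hb, map_intCast]
    rw [hb', hNreg, ← memberI_meas h.hG (hc.coatom L hL) (hc.typeI L hL)] at hv
    refine le_trans ?_ hv
    refine le_mul_of_one_le_left (meas_nonneg L) ?_
    rw [show ((N.g M : ℤ) : ℂ) = ((N.g M : ℝ) : ℂ) by simp, Complex.normSq_ofReal]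
    have h1 : (1 : ℤ) ≤ N.g M * N.g M := by
      have h0 : N.g M ≠ 0 := fun e => by rw [e] at hodd; exact Int.not_odd_zero hodd
      nlinarith [Int.one_le_abs h0, sq_abs (N.g M)]
    exact_mod_cast h1
  have htot := h.total hc (Z i₀)
  rw [hF.Z_norm₀, Complex.one_re] at htot
  have hsum := Finset.sum_le_sum hEL
  have hmeas := h.measure_eq hc
  have hS := h.meas_S_le_three hT2
  have hS0 := energy_nonneg (reg S) (Z i₀)
  have hV0 := energy_nonneg (mixed W₁ W₂) (Z i₀)
  have hT : meas T + (Nat.card G : ℝ)⁻¹ ≤ w⁻¹ := by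
    have hTK : (Nat.card T : ℝ) = w * Nat.card (Cfsg.sigmaCore T) := by
      rw [← hnt.card_core, ← (core T).card_mul_index, hnt.index_eq, Nat.cast_mul, hw]; ring
    have hTG : (Nat.card T : ℝ) ≤ Nat.card G := by exact_mod_cast Subgroup.card_le_card_group T
    have hK : (0 : ℝ) < Nat.card (Cfsg.sigmaCore T) := by exact_mod_cast Nat.card_pos
    have hw0 : (0 : ℝ) < w := by rw [hw]; exact_mod_cast Nat.card_pos
    have h1 : (Nat.card G : ℝ)⁻¹ ≤ (Nat.card T : ℝ)⁻¹ := inv_anti₀ (by rw [hTK]; positivity) hTG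
    refine le_trans (add_le_add le_rfl h1) (le_of_eq ?_)
    rw [meas, hTK]
    field_simp
    ring
  have hw3 : (3 : ℝ) ≤ w := by rw [hw]; exact_mod_cast hnt.card₂_three
  have hq3 : (3 : ℝ) ≤ q := by rw [hq, ← E.card_left]; exact_mod_cast E.three_le h.hG.1
  rw [← hw, ← hq] at hmeas
  rw [← hq] at hS
  have hW0 : 0 < w + W := by nlinarith [sq_nonneg (2 * w - 1)]
  have key : q⁻¹ - (q * w)⁻¹ - (3 * q)⁻¹ ≤ w / (w + W) := by
    have e : W / (w + W) + w / (w + W) = 1 := by rw [← add_div, add_comm W w, div_self hW0.ne']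
    linarith
  have key2 : (3 * q)⁻¹ ≤ q⁻¹ - (q * w)⁻¹ - (3 * q)⁻¹ := by
    have h1 : (q * w)⁻¹ ≤ (3 * q)⁻¹ := inv_anti₀ (by positivity) (by nlinarith)
    have h2 : q⁻¹ = 3 * (3 * q)⁻¹ := by field_simp
    linarith
  have h3 := key2.trans key
  rw [inv_eq_one_div, div_le_div_iff₀ (by positivity) hW0, one_mul] at h3
  have h5 : 5 * (2 * w - 1) ≤ (2 * w - 1) ^ 2 := by nlinarith
  have h6 : (q - 1) * (5 * (2 * w - 1)) ≤ W := le_trans (mul_le_mul_of_nonneg_left h5 (by linarith)) hR
  nlinarith [mul_nonneg (show (0:ℝ) ≤ q - 3 by linarith) (show (0:ℝ) ≤ w - 3 by linarith)]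

end Pair

end Cfsg.Agent.Grp.FT
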