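import Mathlib.GroupTheory.FiniteAbelian.Duality
import Mathlib.Analysis.Complex.Polynomial.Basic
import Mathlib.RingTheory.RootsOfUnity.AlgebraicallyClosed
import Mathlib.GroupTheory.Index
import Mathlib.Algebra.Group.End

/-!
Invariant alternating pairings on an irreducible module of odd prime dimension over a group of odd order
operators normalised by a cyclic group of that prime order vanish.
-/

set_option autoImplicit false
set_option linter.style.haveILetI false
set_option linter.unusedSectionVars false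

namespace Cfsg.Agent.Grp.FT

open Subgroup

universe u v

variable {V : Type u} [CommGroup V] [Finite V]

/-- A finite abelian group with a nondegenerate alternating pairing has square order. -/
theorem card_isSquare_of_pairing (B : V →* V →* ℂˣ) (halt : ∀ v, B v v = 1)
    (hnd : ∀ v, (∀ u, B v u = 1) → v = 1) : IsSquare (Nat.card V) := by
  classical
  have hskew : ∀ a b, B a b = (B b a)⁻¹ := fun a b => by
    have h1 := halt (a * b)
    simp only [map_mul, MonoidHom.mul_apply, halt, one_mul, mul_one] at h1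
    rw [eq_inv_iff_mul_eq_one, mul_comm]
    exact h1
  let Iso : Subgroup V → Prop := fun L => ∀ x ∈ L, ∀ y ∈ L, B x y = 1
  obtain ⟨L, hL, hmax⟩ : ∃ L, Iso L ∧ ∀ L', Iso L' → L ≤ L' → L' = L := by
    obtain ⟨L, hL, hmax⟩ := Set.Finite.exists_maximal (s := {L : Subgroup V | Iso L}) (Set.toFinite _)
      ⟨⊥, fun x hx y hy => by rw [Subgroup.mem_bot.1 hx, map_one]; rfl⟩
    exact ⟨L, hL, fun L' h1 h2 => le_antisymm (hmax h1 h2) h2⟩
  -- restriction to `L`
  let Φ : V →* (L →* ℂˣ) :=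
    { toFun := fun v => (B v).comp L.subtype
      map_one' := by ext x; simp
      map_mul' := fun a b => by ext x; simp }
  have hker : Φ.ker = L := by
    refine le_antisymm (fun x hx => ?_) fun x hx => ?_
    · have hx' : ∀ y ∈ L, B x y = 1 := fun y hy => DFunLike.congr_fun (MonoidHom.mem_ker.1 hx) ⟨y, hy⟩
      have hiso : Iso (L ⊔ zpowers x) := by
        intro a ha b hb
        obtain ⟨a₁, ha₁, a₂, ha₂, rfl⟩ := Subgroup.mem_sup.1 ha
        obtain ⟨b₁, hb₁, b₂, hb₂, rfl⟩ := Subgroup.mem_sup.1 hb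
        obtain ⟨m, rfl⟩ := mem_zpowers_iff.1 ha₂
        obtain ⟨n, rfl⟩ := mem_zpowers_iff.1 hb₂
        simp only [map_mul, map_zpow, MonoidHom.mul_apply, MonoidHom.zpow_apply, hL a₁ ha₁ b₁ hb₁,
          hx' b₁ hb₁, halt x, hskew a₁ x, hx' a₁ ha₁]
        simp
      exact hmax _ hiso le_sup_left ▸ mem_sup_right (mem_zpowers x)
    · exact MonoidHom.mem_ker.2 (MonoidHom.ext fun y => hL x hx y y.2)
  -- every character of `L` is such a restriction
  have hBinj : Function.Injective B := (injective_iff_map_eq_one B).2 fun v hv =>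
    hnd v fun u => DFunLike.congr_fun hv u
  haveI : Finite (V →* ℂˣ) := Nat.finite_of_card_ne_zero
    (by rw [CommGroup.card_monoidHom_of_hasEnoughRootsOfUnity]; exact Nat.card_pos.ne')
  have hBsurj : Function.Surjective B :=
    (Nat.bijective_iff_injective_and_card B).2 ⟨hBinj,
      (CommGroup.card_monoidHom_of_hasEnoughRootsOfUnity V ℂ).symm⟩ |>.2
  have hΦ : Function.Surjective Φ := fun η => by
    obtain ⟨φ, hφ⟩ := MonoidHom.domRestrict_surjective (M := ℂ) L η
    obtain ⟨v, rfl⟩ := hBsurj φ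
    exact ⟨v, hφ⟩
  refine ⟨Nat.card L, ?_⟩
  have h1 := Subgroup.card_mul_index Φ.ker
  rw [Subgroup.index_ker, MonoidHom.range_eq_top.2 hΦ, Subgroup.card_top,
    CommGroup.card_monoidHom_of_hasEnoughRootsOfUnity, hker] at h1
  exact h1.symm

/-- The cardinality of a join of two subgroups of an abelian group meeting trivially. -/
theorem card_sup_of_inf_eq_bot {H N : Subgroup V} (hd : H ⊓ N = ⊥) :
    Nat.card ↥(H ⊔ N) = Nat.card H * Nat.card N := by
  refine (Nat.card_prod H N).symm.trans (Nat.card_congr (Equiv.ofBijective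
    (fun p : H × N => (⟨(p.1 : V) * p.2, mul_mem_sup p.1.2 p.2.2⟩ : ↥(H ⊔ N))) ⟨?_, ?_⟩)) |>.symm
  · rintro ⟨a, b⟩ ⟨c, d⟩ e
    have e' : (a : V) * b = c * d := congrArg Subtype.val e
    have h1 : ((c : V)⁻¹ * a) ∈ H ⊓ N := ⟨H.mul_mem (H.inv_mem c.2) a.2, by
      have : (c : V)⁻¹ * a = d * (b : V)⁻¹ := by rw [eq_mul_inv_iff_mul_eq, mul_assoc, e', inv_mul_cancel_left]
      rw [this]; exact N.mul_mem d.2 (N.inv_mem b.2)⟩
    rw [hd, mem_bot, inv_mul_eq_one] at h1
    obtain rfl : c = a := Subtype.ext h1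
    obtain rfl : b = d := Subtype.ext (mul_left_cancel e')
    rfl
  · rintro ⟨x, hx⟩
    obtain ⟨a, ha, b, hb, rfl⟩ := Subgroup.mem_sup.1 hx
    exact ⟨(⟨a, ha⟩, ⟨b, hb⟩), rfl⟩

variable {A : Type v} [CommGroup A] [Finite A] {q w : ℕ}

/-- The vanishing of an invariant alternating pairing. -/
theorem pairing_trivial (hq : q.Prime) (hw : w.Prime) (hw2 : w ≠ 2) (hcard : Nat.card V = q ^ w)
    (hexp : ∀ v : V, v ^ q = 1) (Δ : Subgroup (MulAut V)) (hodd : ∀ δ ∈ Δ, Odd (orderOf δ)) (hΔ : Δ ≠ ⊥)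
    (ω : MulAut V) (hω : ω ^ w = 1) (hnorm : ∀ δ ∈ Δ, ω⁻¹ * δ * ω ∈ Δ)
    (hirr : ∀ S : Subgroup V, S ≠ ⊥ → (∀ δ ∈ Δ, ∀ x ∈ S, δ x ∈ S) → (∀ x ∈ S, ω x ∈ S) → S = ⊤)
    (b : V →* V →* A) (halt : ∀ v, b v v = 1) (hinv : ∀ δ ∈ Δ, ∀ u v, b (δ u) (δ v) = b u v) :
    ∀ u v, b u v = 1 := by
  classical
  haveI := Fact.mk hq
  by_contra! hb
  obtain ⟨u₀, v₀, hb₀⟩ := hb
  have hadj : ∀ δ ∈ Δ, ∀ u v, b (δ u) v = b u (δ⁻¹ v) := fun δ hδ u v => by
    have h1 := hinv δ hδ u (δ⁻¹ v)
    rwa [MulAut.apply_inv_self] at h1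
  obtain ⟨φ, hφ⟩ := CommGroup.exists_apply_ne_one_of_hasEnoughRootsOfUnity A ℂ hb₀
  let B : V →* V →* ℂˣ :=
    { toFun := fun v => φ.comp (b v)
      map_one' := by ext x; simp
      map_mul' := fun x y => by ext z; simp }
  -- a minimal invariant subgroup
  have hV1 : (⊤ : Subgroup V) ≠ ⊥ := fun e => hb₀ (by
    rw [mem_bot.1 (e ▸ mem_top u₀ : u₀ ∈ (⊥ : Subgroup V)), map_one]; rfl)
  obtain ⟨V₀, ⟨hV₀, hV₀i⟩, hmin⟩ := Set.Finite.exists_minimal
    (s := {S : Subgroup V | S ≠ ⊥ ∧ ∀ δ ∈ Δ, ∀ x ∈ S, δ x ∈ S}) (Set.toFinite _)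
    ⟨⊤, hV1, fun _ _ _ _ => mem_top _⟩
  by_cases htop : V₀ = ⊤
  · -- irreducible: the radical is trivial
    have hnd : ∀ v, (∀ u, B v u = 1) → v = 1 := by
      let R : Subgroup V := B.ker
      have hR : ∀ δ ∈ Δ, ∀ x ∈ R, δ x ∈ R := fun δ hδ x hx => MonoidHom.mem_ker.2 (MonoidHom.ext fun u => by
        show φ (b (δ x) u) = 1
        rw [hadj δ hδ]
        exact DFunLike.congr_fun (MonoidHom.mem_ker.1 hx) (δ⁻¹ u))
      intro v hv
      by_contra hv1
      have hR0 : R ≠ ⊥ := fun e => hv1 (mem_bot.1 (e ▸ MonoidHom.mem_ker.2 (MonoidHom.ext hv) : v ∈ (⊥ : Subgroup V)))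
      have h1 : (⊤ : Subgroup V) ≤ R := htop ▸ hmin (y := R) ⟨hR0, hR⟩ (htop ▸ le_top)
      exact hφ (DFunLike.congr_fun (MonoidHom.mem_ker.1 (h1 (mem_top u₀))) v₀)
    obtain ⟨r, hr⟩ := card_isSquare_of_pairing B (fun v => by show φ (b v v) = 1; rw [halt, map_one]) hnd
    rw [hcard] at hr
    obtain ⟨k, -, rfl⟩ := (Nat.dvd_prime_pow hq).1 (Dvd.intro r hr.symm)
    rw [← pow_add] at hr
    have := Nat.pow_right_injective hq.two_le hr
    exact hw2 ((hw.even_iff).1 ⟨k, this⟩)
  · -- reducible: a basis of common eigenvectors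
    have hconj : ∀ (n : ℕ), ∀ δ ∈ Δ, (ω ^ n)⁻¹ * δ * ω ^ n ∈ Δ := by
      intro n
      induction n with
      | zero => simp
      | succ n ih =>
        intro δ hδ
        rw [pow_succ, mul_inv_rev, show ω⁻¹ * (ω ^ n)⁻¹ * δ * (ω ^ n * ω) = ω⁻¹ * ((ω ^ n)⁻¹ * δ * ω ^ n) * ω by group]
        exact hnorm _ (ih δ hδ)
    let Vn : ℕ → Subgroup V := fun n => V₀.map (ω ^ n).toMonoidHom
    have hVi : ∀ n, ∀ δ ∈ Δ, ∀ x ∈ Vn n, δ x ∈ Vn n := by
      rintro n δ hδ _ ⟨x, hx, rfl⟩
      refine ⟨((ω ^ n)⁻¹ * δ * ω ^ n) x, hV₀i _ (hconj n δ hδ) x hx, ?_⟩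
      show (ω ^ n) (((ω ^ n)⁻¹ * δ * ω ^ n) x) = δ ((ω ^ n) x)
      rw [← MulAut.mul_apply, ← MulAut.mul_apply, ← mul_assoc, ← mul_assoc, mul_inv_cancel, one_mul]
    have hVtop : ⨆ n, Vn n = ⊤ := by
      refine hirr _ (ne_bot_of_le_ne_bot hV₀ ((le_of_eq ?_).trans (le_iSup Vn 0))) ?_ ?_
      · simp only [Vn, pow_zero]; exact (Subgroup.map_id V₀).symm
      · intro δ hδ x hx
        induction hx using Subgroup.iSup_induction' with
        | hp i x hx => exact mem_iSup_of_mem i (hVi i δ hδ x hx)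
        | h1 => simp
        | hmul x y _ _ hx hy => rw [map_mul]; exact mul_mem hx hy
      · intro x hx
        induction hx using Subgroup.iSup_induction' with
        | hp i x hx =>
          obtain ⟨y, hy, rfl⟩ := hx
          exact mem_iSup_of_mem (i + 1) ⟨y, hy, by
            show (ω ^ (i + 1)) y = ω ((ω ^ i) y)
            rw [pow_succ']; rfl⟩
        | h1 => simp
        | hmul x y _ _ hx hy => rw [map_mul]; exact mul_mem hx hy
    have hVcard : ∀ n, Nat.card (Vn n) = Nat.card V₀ := fun n =>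
      Subgroup.card_map_of_injective (ω ^ n).injective
    -- the partial joins
    let S : ℕ → Subgroup V := fun n => Nat.rec (motive := fun _ => Subgroup V) ⊥ (fun m s => s ⊔ Vn m) n
    have hSi : ∀ n, ∀ δ ∈ Δ, ∀ x ∈ S n, δ x ∈ S n := by
      intro n
      induction n with
      | zero => intro δ _ x hx; rw [show S 0 = ⊥ from rfl, mem_bot] at hx ⊢; rw [hx, map_one]
      | succ n ih =>
        intro δ hδ x hx
        obtain ⟨a, ha, c, hc, rfl⟩ := Subgroup.mem_sup.1 (show x ∈ S n ⊔ Vn n from hx)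
        rw [map_mul]
        exact mul_mem_sup (ih δ hδ a ha) (hVi n δ hδ c hc)
    have hScard : ∀ n, ∃ m, Nat.card ↥(S n) = Nat.card V₀ ^ m := by
      intro n
      induction n with
      | zero => exact ⟨0, by rw [pow_zero]; exact Subgroup.card_bot⟩
      | succ n ih =>
        obtain ⟨m, hm⟩ := ih
        by_cases hle : Vn n ≤ S n
        · exact ⟨m, (congrArg (fun H : Subgroup V => Nat.card H) (sup_eq_left.2 hle : S (n + 1) = S n)).trans hm⟩
        · refine ⟨m + 1, ?_⟩
          show Nat.card ↥(S n ⊔ Vn n) = _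
          have hd : S n ⊓ Vn n = ⊥ := by
            by_contra hd
            let U : Subgroup V := (S n ⊓ Vn n).comap (ω ^ n).toMonoidHom
            have hU : U ≤ V₀ := fun x hx => by
              obtain ⟨y, hy, e⟩ := (hx : (ω ^ n) x ∈ S n ⊓ Vn n).2
              rwa [← (ω ^ n).injective e]
            have hU0 : U ≠ ⊥ := fun e => hd (le_bot_iff.1 fun x hx => by
              have h2 : (ω ^ n)⁻¹ x ∈ U := by
                show (ω ^ n) ((ω ^ n)⁻¹ x) ∈ S n ⊓ Vn n
                rwa [MulAut.apply_inv_self]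
              rw [e, mem_bot] at h2
              rw [mem_bot, ← MulAut.apply_inv_self _ (ω ^ n) x, h2, map_one])
            have hUi : ∀ δ ∈ Δ, ∀ x ∈ U, δ x ∈ U := fun δ hδ x hx => by
              have h3 : (ω ^ n * δ * (ω ^ n)⁻¹) ∈ Δ := by
                obtain ⟨m, hm⟩ : ∃ m, ω ^ m = (ω ^ n)⁻¹ := ⟨(w - 1) * n, by
                  rw [eq_inv_iff_mul_eq_one, ← pow_add, show (w - 1) * n + n = w * n by
                    rw [← Nat.succ_mul, Nat.succ_eq_add_one, Nat.sub_add_cancel hw.one_le], pow_mul, hω, one_pow]⟩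
                have h4 := hconj m δ hδ
                rwa [hm, inv_inv] at h4
              have hx' : (ω ^ n) x ∈ S n ⊓ Vn n := hx
              show (ω ^ n) (δ x) ∈ S n ⊓ Vn n
              have e : (ω ^ n) (δ x) = (ω ^ n * δ * (ω ^ n)⁻¹) ((ω ^ n) x) := by
                simp [MulAut.mul_apply]
              rw [e]
              exact ⟨hSi n _ h3 _ hx'.1, hVi n _ h3 _ hx'.2⟩
            refine hle ?_
            rintro _ ⟨y, hy, rfl⟩
            exact ((hmin (y := U) ⟨hU0, hUi⟩ hU hy : y ∈ U) : (ω ^ n) y ∈ S n ⊓ Vn n).1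
          rw [card_sup_of_inf_eq_bot hd, hm, hVcard, pow_succ]
    have hperiod : ∀ n, Vn n = Vn (n % w) := fun n => by
      simp only [Vn]
      conv_lhs => rw [← Nat.mod_add_div n w, pow_add, pow_mul, hω, one_pow, mul_one]
    have hmono : ∀ n m, n < m → Vn n ≤ S m := by
      intro n m hnm
      induction m with
      | zero => omega
      | succ m ih =>
        rcases Nat.lt_succ_iff_lt_or_eq.1 hnm with h | h
        · exact (ih h).trans le_sup_left
        · subst h; exact le_sup_right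
    have hStop : S w = ⊤ := top_unique (hVtop ▸ iSup_le fun n => hperiod n ▸ hmono _ w (Nat.mod_lt n hw.pos))
    obtain ⟨m, hm⟩ := hScard w
    rw [hStop, Subgroup.card_top, hcard] at hm
    obtain ⟨k, hkw, hk⟩ := (Nat.dvd_prime_pow hq).1 (hcard ▸ V₀.card_subgroup_dvd_card)
    rw [hk, ← pow_mul] at hm
    have hkm := Nat.pow_right_injective hq.two_le hm
    have hk1 : k = 1 := (hw.eq_one_or_self_of_dvd k (Dvd.intro m hkm.symm)).resolve_right fun e => htop
      (Subgroup.eq_top_of_card_eq V₀ (by rw [hk, e, hcard]))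
    subst hk1
    rw [pow_one] at hk
    haveI : IsCyclic V₀ := isCyclic_of_prime_card hk
    obtain ⟨⟨v, hvV⟩, hgen⟩ := IsCyclic.exists_generator (α := V₀)
    have hv : ∀ x ∈ V₀, ∃ a : ℕ, x = v ^ a := fun x hx => by
      obtain ⟨a, ha⟩ := Submonoid.mem_powers_iff _ _ |>.1 (mem_powers_iff_mem_zpowers.2 (hgen ⟨x, hx⟩))
      exact ⟨a, (congrArg Subtype.val ha).symm⟩
    have hv1 : v ≠ 1 := fun e => hV₀ (le_bot_iff.1 fun x hx => by
      obtain ⟨a, rfl⟩ := hv x hx
      rw [e, one_pow]; exact one_mem _)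
    let p : ℕ → V := fun i => (ω ^ i) v
    have hp1 : ∀ i, p i ≠ 1 := fun i e => hv1 ((ω ^ i).injective (e.trans (map_one _).symm))
    have hmem : ∀ i, ∀ x ∈ Vn i, ∃ a : ℕ, x = p i ^ a := by
      rintro i _ ⟨y, hy, rfl⟩
      obtain ⟨a, rfl⟩ := hv y hy
      exact ⟨a, map_pow _ _ _⟩
    have heig : ∀ i, ∀ δ ∈ Δ, ∃ a : ℕ, δ (p i) = p i ^ a := fun i δ hδ =>
      hmem i _ (hVi i δ hδ _ ⟨v, hvV, rfl⟩)
    have hpm : ∀ i n, p (i + w * n) = p i := fun i n => by
      simp only [p]; rw [pow_add, pow_mul, hω, one_pow, mul_one]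
    -- a nonorthogonal pair
    obtain ⟨i, j, hij⟩ : ∃ i j, b (p i) (p j) ≠ 1 := by
      by_contra! hall
      refine hb₀ ?_
      have h1 : ∀ x : V, ∀ i, b (p i) x = 1 := fun x i => by
        have hx : x ∈ ⨆ n, Vn n := hVtop ▸ mem_top x
        induction hx using Subgroup.iSup_induction' with
        | hp n x hx => obtain ⟨a, rfl⟩ := hmem n x hx; rw [map_pow, hall, one_pow]
        | h1 => rw [map_one]
        | hmul x y _ _ hx hy => rw [map_mul, hx, hy, one_mul]
      have hx : u₀ ∈ ⨆ n, Vn n := hVtop ▸ mem_top u₀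
      have h2 : ∀ x ∈ ⨆ n, Vn n, b x v₀ = 1 := fun x hx => by
        induction hx using Subgroup.iSup_induction' with
        | hp n x hx => obtain ⟨a, rfl⟩ := hmem n x hx; rw [map_pow, MonoidHom.pow_apply, h1, one_pow]
        | h1 => rw [map_one]; rfl
        | hmul x y _ _ hx hy => rw [map_mul, MonoidHom.mul_apply, hx, hy, one_mul]
      exact h2 u₀ hx
    let R : ℕ → ℕ → Prop := fun i j => ∀ δ ∈ Δ, ∀ a : ℕ, δ (p i) = p i ^ a → δ⁻¹ (p j) = p j ^ a
    have hR : R i j := fun δ hδ a ha => by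
      obtain ⟨c, hc⟩ := heig j δ⁻¹ (inv_mem hδ)
      have h1 : b (p i) (p j) ^ a = b (p i) (p j) ^ c := by
        rw [← MonoidHom.pow_apply, ← map_pow, ← ha, hadj δ hδ, hc, map_pow]
      have hord : orderOf (b (p i) (p j)) = q := orderOf_eq_prime
        (by rw [← map_pow, hexp, map_one]) hij
      have h2 : a ≡ c [MOD q] := hord ▸ pow_eq_pow_iff_modEq.1 h1
      have hord' : orderOf (p j) = q := orderOf_eq_prime (hexp _) (hp1 j)
      rw [hc]
      exact pow_eq_pow_iff_modEq.2 (hord'.symm ▸ h2.symm)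
    have hshift : ∀ i j n, R i j → R (i + n) (j + n) := by
      intro i j n hR δ hδ a ha
      have e : ∀ k, p (k + n) = (ω ^ n) (p k) := fun k => by simp only [p]; rw [add_comm, pow_add]; rfl
      have h1 := hR _ (hconj n δ hδ) a (by
        have h0 : δ ((ω ^ n) (p i)) = (ω ^ n) (p i ^ a) := by rw [← e, ha, e, map_pow]
        show (ω ^ n)⁻¹ (δ ((ω ^ n) (p i))) = _
        rw [h0, MulAut.inv_apply_self])
      rw [mul_inv_rev, mul_inv_rev, inv_inv, ← mul_assoc] at h1
      have h2 := congrArg (ω ^ n) h1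
      rw [map_pow, ← e, MulAut.mul_apply, MulAut.mul_apply, MulAut.apply_inv_self, ← e] at h2
      exact h2
    obtain ⟨k, hk', hkj⟩ : ∃ k, ¬ w ∣ k ∧ p (i + k) = p j := by
      refine ⟨j + w * (i + 1) - i, fun hd => ?_, ?_⟩
      · obtain ⟨c, hc⟩ := hd
        have h1 : j + w * (i + 1) = i + w * c := by
          have := Nat.le_mul_of_pos_left (i + 1) hw.pos
          omega
        refine hij ?_
        rw [← hpm j (i + 1), h1, hpm, halt]
      · have h0 : i + (j + w * (i + 1) - i) = j + w * (i + 1) := by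
          have := Nat.le_mul_of_pos_left (i + 1) hw.pos
          omega
        rw [h0, hpm]
    have hR' : R i (i + k) := by
      intro δ hδ a ha
      rw [hkj]; exact hR δ hδ a ha
    have htwo : ∀ n, ∀ δ ∈ Δ, ∀ a : ℕ, δ (p i) = p i ^ a → δ (p (i + 2 * k * n)) = p (i + 2 * k * n) ^ a := by
      intro n
      induction n with
      | zero => intro δ _ a ha; simpa using ha
      | succ n ih =>
        intro δ hδ a ha
        have h1 := hshift i (i + k) (2 * k * n) hR' δ hδ a (ih δ hδ a ha)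
        have h2 := hshift i (i + k) (k + 2 * k * n) hR' δ⁻¹ (inv_mem hδ) a (by
          rw [← add_assoc]; exact h1)
        rw [inv_inv] at h2
        rwa [show i + 2 * k * (n + 1) = i + k + (k + 2 * k * n) by ring]
    obtain ⟨t, ht⟩ : ∃ t, w + 1 = 2 * t := by
      obtain ⟨t, ht⟩ := hw.odd_of_ne_two hw2
      exact ⟨t + 1, by omega⟩
    have hfix : ∀ δ ∈ Δ, δ (p (i + k)) = p (i + k) := by
      intro δ hδ
      obtain ⟨a, ha⟩ := heig i δ hδ
      have h1 := htwo t δ hδ a ha
      rw [show i + 2 * k * t = i + k + w * k by rw [mul_assoc, mul_left_comm, ← ht]; ring, hpm] at h1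
      have h2 := hR' δ hδ a ha
      have h3 : (δ * δ) (p (i + k)) = p (i + k) := by
        rw [MulAut.mul_apply, h1, ← h2, MulAut.apply_inv_self]
      obtain ⟨l, hl⟩ := hodd δ hδ
      have h5 : ∀ m : ℕ, ((δ * δ) ^ m) (p (i + k)) = p (i + k) := by
        intro m
        induction m with
        | zero => rfl
        | succ m ih => rw [pow_succ, MulAut.mul_apply, h3, ih]
      have h4 : (δ * δ) ^ (l + 1) = δ := by
        rw [← pow_two, ← pow_mul, show 2 * (l + 1) = orderOf δ + 1 by omega, pow_succ, pow_orderOf_eq_one, one_mul]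
      have := h5 (l + 1)
      rwa [h4] at this
    refine hΔ (le_bot_iff.1 fun δ hδ => mem_bot.2 ?_)
    refine MulEquiv.ext fun x => ?_
    rw [MulAut.one_apply]
    have hx : x ∈ ⨆ n, Vn n := hVtop ▸ mem_top x
    induction hx using Subgroup.iSup_induction' with
    | hp n x hx =>
      obtain ⟨a, rfl⟩ := hmem n x hx
      rw [map_pow]
      congr 1
      have hexp' : i + k + (n + w * (i + k) - (i + k)) = n + w * (i + k) := by
        have := Nat.le_mul_of_pos_left (i + k) hw.pos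
        omega
      have h1 := hfix _ (hconj (n + w * (i + k) - (i + k)) δ hδ)
      rw [MulAut.mul_apply, MulAut.mul_apply] at h1
      have h2 := congrArg (ω ^ (n + w * (i + k) - (i + k))) h1
      rw [MulAut.apply_inv_self] at h2
      have h3 : (ω ^ (n + w * (i + k) - (i + k))) (p (i + k)) = p n := by
        rw [show (ω ^ (n + w * (i + k) - (i + k))) (p (i + k)) = p (i + k + (n + w * (i + k) - (i + k))) by
          show _ = (ω ^ (i + k + (n + w * (i + k) - (i + k)))) v
          rw [add_comm (i + k), pow_add _ (n + w * (i + k) - (i + k))]; rfl, hexp', hpm]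
      rwa [h3] at h2
    | h1 => rw [map_one]
    | hmul x y _ _ hx hy => rw [map_mul, hx, hy]

end Cfsg.Agent.Grp.FT
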