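import Cfsg.Agent.Lib.Grp.FT.NonTwoDegree
import Cfsg.Agent.Lib.Grp.FT.NonTwoPairing
import Cfsg.Agent.S1357

/-!
Types III and IV: the common degree `v` of the fixed characters, and the structure of `T` when `[T' : T''] = v`.
-/

set_option autoImplicit false
set_option linter.unusedSectionVars false
set_option linter.style.haveILetI false
set_option maxHeartbeats 1000000

namespace Cfsg.Agent.Grp.FT

open Subgroup Cfsg.Agent.Transfer Cfsg.Agent.Transfer.Loc Cfsg.Agent.Char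
open scoped commutatorElement

universe u

variable {G : Type u} [Group G] [Finite G]

/-- A supplement of the derived subgroup in a nilpotent group is the whole group. -/
theorem eq_of_sup_commutator {R Q : Subgroup G} [Group.IsNilpotent Q] (hRQ : R ≤ Q)
    (hQR : Q ≤ normalizer (R : Set G)) (h : Q ≤ R ⊔ ⁅Q, Q⁆) : R = Q := by
  haveI : (R.subgroupOf Q).Normal := (normal_subgroupOf_iff_le_normalizer hRQ).2 hQR
  refine le_antisymm hRQ (Subgroup.subgroupOf_eq_top.1 ?_)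
  by_contra hne
  haveI : Nontrivial (↥Q ⧸ R.subgroupOf Q) := QuotientGroup.nontrivial_iff.2 hne
  refine (Group.IsSolvable.commutator_lt_top_of_nontrivial (↥Q ⧸ R.subgroupOf Q)).ne (top_unique fun x _ => ?_)
  obtain ⟨a, rfl⟩ := QuotientGroup.mk'_surjective (R.subgroupOf Q) x
  have hcom : ⁅Q, Q⁆ ≤ ((commutator (↥Q ⧸ R.subgroupOf Q)).comap (QuotientGroup.mk' _)).map Q.subtype := by
    rw [commutator_le]
    intro u hu v hv
    refine ⟨⁅(⟨u, hu⟩ : ↥Q), ⟨v, hv⟩⁆, ?_, by simp [commutatorElement_def]⟩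
    rw [SetLike.mem_coe, mem_comap, map_commutatorElement, commutator_def]
    exact commutator_mem_commutator (mem_top _) (mem_top _)
  have hR : R ≤ ((commutator (↥Q ⧸ R.subgroupOf Q)).comap (QuotientGroup.mk' _)).map Q.subtype := fun u hu =>
    ⟨⟨u, hRQ hu⟩, by
      rw [SetLike.mem_coe, mem_comap, QuotientGroup.mk'_apply, (QuotientGroup.eq_one_iff (⟨u, hRQ hu⟩ : ↥Q)).2 hu]
      exact one_mem _, rfl⟩
  obtain ⟨b, hb, e⟩ := (h.trans (sup_le hR hcom)) a.2
  obtain rfl : b = a := Subtype.ext e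
  exact hb

namespace Split

variable {T W₁ W₂ Q D Q₀ : Subgroup G} (h : Split T W₁ W₂ Q D Q₀)
include h

theorem core_norm_sup : Cfsg.sigmaCore T ≤ normalizer ((Q ⊔ ⁅D, D⁆ : Subgroup G) : Set G) := by
  intro k hk
  obtain ⟨u, hu, d, hd, rfl⟩ := h.compl.2.2.2 k hk
  refine mul_mem (le_normalizer (mem_sup_left hu)) ?_
  refine Subgroup.mem_normalizer_iff.2 fun g => ?_
  have key : ∀ d ∈ D, ∀ g ∈ Q ⊔ ⁅D, D⁆, d * g * d⁻¹ ∈ Q ⊔ ⁅D, D⁆ := by
    intro d hd g hg
    have hle : (Q ⊔ ⁅D, D⁆).map (MulAut.conj d).toMonoidHom ≤ Q ⊔ ⁅D, D⁆ := by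
      rw [Subgroup.map_sup]
      refine sup_le ((Subgroup.map_le_iff_le_comap).2 fun a ha => mem_sup_left ?_)
        ((Subgroup.map_le_iff_le_comap).2 fun a ha => mem_sup_right ?_)
      · exact Grp.mem_conj_normalizer (h.normQ (h.DT hd)) ha
      · exact Grp.mem_conj_normalizer (Grp.left_le_normalizer_commutator D D hd) ha
    exact hle ⟨g, hg, rfl⟩
  exact ⟨key d hd g, fun hg => by
    have h1 := key d⁻¹ (D.inv_mem hd) _ hg
    convert h1 using 1
    group⟩

theorem derived_le : ⁅Cfsg.sigmaCore T, Cfsg.sigmaCore T⁆ ≤ Q ⊔ ⁅D, D⁆ := by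
  rw [commutator_le]
  intro x hx y hy
  obtain ⟨u, hu, d, hd, rfl⟩ := h.compl.2.2.2 x hx
  obtain ⟨v, hv, e, he, rfl⟩ := h.compl.2.2.2 y hy
  have hnQ : ∀ {t a : G}, t ∈ D → a ∈ Q → t * a * t⁻¹ ∈ Q := fun ht ha =>
    Grp.mem_conj_normalizer (h.normQ (h.DT ht)) ha
  rw [show ⁅u * d, v * e⁆ = u * (d * v * d⁻¹) * ⁅d, e⁆ * (e * u⁻¹ * e⁻¹ * v⁻¹) by
    simp only [commutatorElement_def]; group]
  exact mul_mem (mul_mem (mem_sup_left (Q.mul_mem hu (hnQ hd hv)))
    (mem_sup_right (commutator_mem_commutator hd he)))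
    (mem_sup_left (Q.mul_mem (hnQ he (Q.inv_mem hu)) (Q.inv_mem hv)))

theorem relIndex_sup {C : Subgroup G} (hC : C ≤ D) :
    (Q ⊔ C).relIndex (Cfsg.sigmaCore T) = C.relIndex D := by
  have h1 : Nat.card ↥(Q ⊔ C) = Nat.card Q * Nat.card C := by
    refine (complIn_card (A := Q) (B := C) (M := Q ⊔ C) ⟨le_sup_left, le_sup_right, le_bot_iff.1
      ((inf_le_inf_left Q hC).trans h.compl.2.2.1.le), fun g hg => ?_⟩).symm
    rw [← SetLike.mem_coe, Subgroup.coe_mul_of_right_le_normalizer_left Q C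
      ((hC.trans h.DT).trans h.normQ)] at hg
    obtain ⟨a, ha, c, hc, e⟩ := hg
    exact ⟨a, ha, c, hc, e.symm⟩
  have h2 := Grp.card_mul_relIndex (sup_le h.Q_le_core (hC.trans h.D_le_core) : Q ⊔ C ≤ Cfsg.sigmaCore T)
  rw [h1, ← complIn_card h.compl, ← Grp.card_mul_relIndex hC, ← mul_assoc] at h2
  exact Nat.eq_of_mul_eq_mul_left (Nat.mul_pos Nat.card_pos Nat.card_pos) h2

theorem derived_le_kern : ⁅Cfsg.sigmaCore T, Cfsg.sigmaCore T⁆ ≤ Q ⊔ kern Q D Q₀ :=
  h.derived_le.trans (sup_le_sup_left h.quot_facts.1 _)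

theorem index_dvd : (kern Q D Q₀).relIndex D ∣ ⁅Cfsg.sigmaCore T, Cfsg.sigmaCore T⁆.relIndex (Cfsg.sigmaCore T) := by
  rw [← h.relIndex_sup h.kern_le]
  exact ⟨_, ((mul_comm _ _).trans (relIndex_mul_relIndex _ _ _ h.derived_le_kern
    (sup_le h.Q_le_core (h.kern_le.trans h.D_le_core)))).symm⟩

section
variable (heq : ⁅Cfsg.sigmaCore T, Cfsg.sigmaCore T⁆.relIndex (Cfsg.sigmaCore T) = (kern Q D Q₀).relIndex D)
include heq

theorem derived_eq : ⁅Cfsg.sigmaCore T, Cfsg.sigmaCore T⁆ = Q ⊔ kern Q D Q₀ := by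
  refine Subgroup.eq_of_le_of_card_ge h.derived_le_kern (le_of_eq ?_)
  have hle : Q ⊔ kern Q D Q₀ ≤ Cfsg.sigmaCore T := sup_le h.Q_le_core (h.kern_le.trans h.D_le_core)
  have h1 := Grp.card_mul_relIndex hle
  have h2 := Grp.card_mul_relIndex (h.derived_le_kern.trans hle)
  rw [h.relIndex_sup h.kern_le] at h1
  rw [heq] at h2
  exact Nat.eq_of_mul_eq_mul_right (lt_trans Nat.zero_lt_one h.one_lt_kern_index) (h1.trans h2.symm)

theorem kern_eq : kern Q D Q₀ = ⁅D, D⁆ := by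
  refine le_antisymm (fun c hc => ?_) h.quot_facts.1
  have h1 : c ∈ Q ⊔ ⁅D, D⁆ := h.derived_le ((h.derived_eq heq).symm ▸ mem_sup_right hc)
  rw [← SetLike.mem_coe, Subgroup.coe_mul_of_right_le_normalizer_left Q _
    ((D.commutator_le_self.trans h.DT).trans h.normQ)] at h1
  obtain ⟨u, hu, d, hd, e⟩ := h1
  have h2 : u ∈ Q ⊓ D := ⟨hu, by
    rw [show u = c * d⁻¹ by rw [← e]; group]
    exact D.mul_mem (h.kern_le hc) (D.inv_mem (D.commutator_le_self hd))⟩
  rw [h.compl.2.2.1, mem_bot] at h2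
  subst h2
  simp only [one_mul] at e
  exact e ▸ hd

theorem commutator_eq : ⁅Q, D⁆ = Q := by
  haveI := Fact.mk h.nt.prime₁
  haveI := h.pGroup.isNilpotent
  have hR : ⁅Q, D⁆ ≤ Q := Grp.commutator_le_left_of_le_normalizer (h.DT.trans h.normQ)
  refine eq_of_sup_commutator hR (Grp.left_le_normalizer_commutator D Q) ?_
  set M := ⁅Q, D⁆ ⊔ ⁅Q, Q⁆ ⊔ ⁅D, D⁆ with hM
  have hMQ : ⁅Q, D⁆ ⊔ ⁅Q, Q⁆ ≤ Q := sup_le hR Q.commutator_le_self
  have hMσ : M ≤ Cfsg.sigmaCore T :=
    sup_le (hMQ.trans h.Q_le_core) (D.commutator_le_self.trans h.D_le_core)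
  -- modulo `M` the generators commute
  have key : ∀ k ∈ Cfsg.sigmaCore T, ∀ m ∈ M, k * m * k⁻¹ ∈ M := by
    intro k hk m hm
    obtain ⟨u, hu, d, hd, rfl⟩ := h.compl.2.2.2 k hk
    have step : ∀ g : G, (∀ a ∈ ⁅Q, D⁆, g * a * g⁻¹ ∈ M) → (∀ a ∈ ⁅Q, Q⁆, g * a * g⁻¹ ∈ M) →
        (∀ a ∈ ⁅D, D⁆, g * a * g⁻¹ ∈ M) → ∀ a ∈ M, g * a * g⁻¹ ∈ M := by
      intro g h1 h2 h3 a ha
      have hle : M.map (MulAut.conj g).toMonoidHom ≤ M := by
        conv_lhs => rw [hM, Subgroup.map_sup, Subgroup.map_sup]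
        exact sup_le (sup_le (Subgroup.map_le_iff_le_comap.2 h1) (Subgroup.map_le_iff_le_comap.2 h2))
          (Subgroup.map_le_iff_le_comap.2 h3)
      exact hle ⟨a, ha, rfl⟩
    have hu' : ∀ a ∈ M, u * a * u⁻¹ ∈ M := step u
      (fun a ha => mem_sup_left (mem_sup_left (Grp.mem_conj_normalizer (Grp.left_le_normalizer_commutator D Q hu) ha)))
      (fun a ha => mem_sup_left (mem_sup_right (Grp.mem_conj_normalizer (Grp.left_le_normalizer_commutator Q Q hu) ha)))
      (fun a ha => by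
        rw [show u * a * u⁻¹ = ⁅u, a⁆ * a by simp [commutatorElement_def]]
        exact mul_mem (mem_sup_left (mem_sup_left (commutator_mem_commutator hu (D.commutator_le_self ha))))
          (mem_sup_right ha))
    have hd' : ∀ a ∈ M, d * a * d⁻¹ ∈ M := step d
      (fun a ha => mem_sup_left (mem_sup_left (Grp.mem_conj_normalizer (Grp.right_le_normalizer_commutator D Q hd) ha)))
      (fun a ha => by
        have hle : (⁅Q, Q⁆).map (MulAut.conj d).toMonoidHom ≤ ⁅Q, Q⁆ := by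
          rw [Subgroup.map_commutator]
          exact Subgroup.commutator_mono
            (Subgroup.map_le_iff_le_comap.2 fun x hx => Grp.mem_conj_normalizer (h.normQ (h.DT hd)) hx)
            (Subgroup.map_le_iff_le_comap.2 fun x hx => Grp.mem_conj_normalizer (h.normQ (h.DT hd)) hx)
        exact mem_sup_left (mem_sup_right (hle ⟨a, ha, rfl⟩)))
      (fun a ha => mem_sup_right (Grp.mem_conj_normalizer (Grp.left_le_normalizer_commutator D D hd) ha))
    rw [show u * d * m * (u * d)⁻¹ = u * (d * m * d⁻¹) * u⁻¹ by group]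
    exact hu' _ (hd' _ hm)
  have hder : ⁅Cfsg.sigmaCore T, Cfsg.sigmaCore T⁆ ≤ M := by
    rw [commutator_le]
    intro x hx y hy
    obtain ⟨u, hu, d, hd, rfl⟩ := h.compl.2.2.2 x hx
    obtain ⟨v, hv, e, he, rfl⟩ := h.compl.2.2.2 y hy
    have hkey' : ∀ a ∈ Q, ∀ b ∈ D, ⁅b, a⁆ ∈ M := fun a ha b hb => by
      rw [← commutatorElement_inv a b]
      exact inv_mem (mem_sup_left (mem_sup_left (commutator_mem_commutator ha hb)))
    have h1 : ⁅u, v * e⁆ ∈ M := by
      rw [show ⁅u, v * e⁆ = ⁅u, v⁆ * (v * ⁅u, e⁆ * v⁻¹) by simp only [commutatorElement_def]; group]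
      exact mul_mem (mem_sup_left (mem_sup_right (commutator_mem_commutator hu hv)))
        (key v (h.Q_le_core hv) _ (mem_sup_left (mem_sup_left (commutator_mem_commutator hu he))))
    have h2 : ⁅d, v * e⁆ ∈ M := by
      rw [show ⁅d, v * e⁆ = ⁅d, v⁆ * (v * ⁅d, e⁆ * v⁻¹) by simp only [commutatorElement_def]; group]
      exact mul_mem (hkey' v hv d hd) (key v (h.Q_le_core hv) _ (mem_sup_right (commutator_mem_commutator hd he)))
    rw [show ⁅u * d, v * e⁆ = u * ⁅d, v * e⁆ * u⁻¹ * ⁅u, v * e⁆ by simp only [commutatorElement_def]; group]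
    exact mul_mem (key u (h.Q_le_core hu) _ h2) h1
  intro a ha
  have h1 : a ∈ M := hder ((h.derived_eq heq).symm ▸ mem_sup_left ha)
  rw [hM, ← SetLike.mem_coe, Subgroup.coe_mul_of_right_le_normalizer_left _ ⁅D, D⁆ (fun c hc => ?_)] at h1
  · obtain ⟨m, hm, c, hc, e⟩ := h1
    have h2 : c ∈ Q ⊓ D := ⟨by
      rw [show c = m⁻¹ * a by rw [← e]; group]
      exact Q.mul_mem (Q.inv_mem (hMQ hm)) ha, D.commutator_le_self hc⟩
    rw [h.compl.2.2.1, mem_bot] at h2
    subst h2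
    simp only [mul_one] at e
    exact e ▸ hm
  · have hcD : c ∈ D := D.commutator_le_self hc
    have key' : ∀ c ∈ D, ∀ x ∈ ⁅Q, D⁆ ⊔ ⁅Q, Q⁆, c * x * c⁻¹ ∈ ⁅Q, D⁆ ⊔ ⁅Q, Q⁆ := by
      intro c hc x hx
      have hle : (⁅Q, D⁆ ⊔ ⁅Q, Q⁆).map (MulAut.conj c).toMonoidHom ≤ ⁅Q, D⁆ ⊔ ⁅Q, Q⁆ := by
        rw [Subgroup.map_sup]
        refine sup_le_sup (Subgroup.map_le_iff_le_comap.2 fun x hx =>
          Grp.mem_conj_normalizer (Grp.right_le_normalizer_commutator D Q hc) hx) ?_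
        rw [Subgroup.map_commutator]
        exact Subgroup.commutator_mono
          (Subgroup.map_le_iff_le_comap.2 fun x hx => Grp.mem_conj_normalizer (h.normQ (h.DT hc)) hx)
          (Subgroup.map_le_iff_le_comap.2 fun x hx => Grp.mem_conj_normalizer (h.normQ (h.DT hc)) hx)
      exact hle ⟨x, hx, rfl⟩
    refine Subgroup.mem_normalizer_iff.2 fun x => ⟨key' c hcD x, fun hx => ?_⟩
    have h3 := key' c⁻¹ (D.inv_mem hcD) _ hx
    convert h3 using 1
    group

theorem commute₀ {a b : G} (ha : a ∈ Q) (hb : b ∈ Q₀) : a * b = b * a := by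
  have h1 : ⁅⁅Q, D⁆, Q₀⁆ = ⊥ := by
    have hQ₀D : Q₀ ≤ centralizer (D : Set G) := h.eq₀.le.trans inf_le_right
    have hQ₀Q : ⁅Q₀, Q⁆ ≤ Q₀ := Grp.commutator_le_left_of_le_normalizer (h.QT.trans h.norm₀)
    refine Subgroup.commutator_commutator_eq_bot_of_rotate ?_ ?_
    · rw [Subgroup.commutator_eq_bot_iff_le_centralizer.2 (le_centralizer_iff.1 hQ₀D), Subgroup.commutator_bot_left]
    · exact Subgroup.commutator_eq_bot_iff_le_centralizer.2 (hQ₀Q.trans hQ₀D)
  rw [h.commutator_eq heq, Subgroup.commutator_eq_bot_iff_le_centralizer] at h1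
  exact (mem_centralizer_iff.1 (h1 ha) b hb).symm

theorem comm_Q {a b : G} (ha : a ∈ Q) (hb : b ∈ Q) : a * b = b * a := by
  classical
  haveI := Fact.mk h.nt.prime₁
  set N := Q₀.subgroupOf Q with hN
  haveI : N.Normal := (normal_subgroupOf_iff_le_normalizer h.le₀).2 (h.QT.trans h.norm₀)
  letI : CommGroup (↥Q ⧸ N) :=
    { (inferInstance : Group (↥Q ⧸ N)) with
      mul_comm := fun a b => by
        induction a using QuotientGroup.induction_on with
        | H x =>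
          induction b using QuotientGroup.induction_on with
          | H y =>
            rw [← QuotientGroup.mk_mul, ← QuotientGroup.mk_mul, QuotientGroup.eq, mem_subgroupOf]
            have := h.commQ (y : G)⁻¹ (inv_mem y.2) (x : G)⁻¹ (inv_mem x.2)
            convert this using 1
            simp [mul_assoc] }
  have hmk : ∀ {x y : ↥Q}, ((x : G)⁻¹ * y ∈ Q₀) → (x : ↥Q ⧸ N) = y := fun hxy =>
    QuotientGroup.eq.2 (mem_subgroupOf.2 hxy)
  -- the action of `T`
  let c : ↥T → (↥Q ≃* ↥Q) := fun t =>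
    { toFun := fun x => ⟨(t : G) * x * (t : G)⁻¹, Grp.mem_conj_normalizer (h.normQ t.2) x.2⟩
      invFun := fun x => ⟨(t : G)⁻¹ * x * (t : G), by
        simpa using Grp.mem_conj_normalizer (h.normQ (T.inv_mem t.2)) x.2⟩
      left_inv := fun x => Subtype.ext (by group)
      right_inv := fun x => Subtype.ext (by group)
      map_mul' := fun x y => Subtype.ext (by simp [mul_assoc]) }
  have hcN : ∀ t : ↥T, N.map (c t).toMonoidHom = N := by
    intro t
    ext x
    simp only [Subgroup.mem_map, hN, mem_subgroupOf]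
    constructor
    · rintro ⟨y, hy, rfl⟩
      exact Grp.mem_conj_normalizer (h.norm₀ t.2) hy
    · intro hx
      exact ⟨(c t).symm x, by
          show (t : G)⁻¹ * x * (t : G) ∈ Q₀
          simpa using Grp.mem_conj_normalizer (h.norm₀ (T.inv_mem t.2)) hx,
        (c t).apply_symm_apply x⟩
  let act : ↥T →* MulAut (↥Q ⧸ N) :=
    { toFun := fun t => QuotientGroup.congr N N (c t) (hcN t)
      map_one' := by
        ext x
        induction x using QuotientGroup.induction_on with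
        | H x => exact congrArg QuotientGroup.mk (Subtype.ext (by simp [c]))
      map_mul' := fun s t => by
        ext x
        induction x using QuotientGroup.induction_on with
        | H x => exact congrArg QuotientGroup.mk (Subtype.ext (by simp [c, mul_assoc])) }
  -- the commutator pairing
  letI : CommGroup ↥(center ↥Q) :=
    { (inferInstance : Group ↥(center ↥Q)) with
      mul_comm := fun a b => Subtype.ext (Subgroup.mem_center_iff.1 b.2 a) }
  let com : ↥Q → ↥Q → ↥(center ↥Q) := fun x y => ⟨⁅x, y⁆, Subgroup.mem_center_iff.2 fun z => Subtype.ext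
    (h.commute₀ heq z.2 (by simpa [commutatorElement_def] using h.commQ _ x.2 _ y.2))⟩
  have hcz : ∀ (z x y : ↥Q), z * ⁅x, y⁆ * z⁻¹ = ⁅x, y⁆ := fun z x y => by
    rw [Subgroup.mem_center_iff.1 (com x y).2 z, mul_inv_cancel_right]
  have hc2 : ∀ x y z, com x (y * z) = com x y * com x z := fun x y z => Subtype.ext (by
    show ⁅x, y * z⁆ = ⁅x, y⁆ * ⁅x, z⁆
    rw [show ⁅x, y * z⁆ = ⁅x, y⁆ * (y * ⁅x, z⁆ * y⁻¹) by simp only [commutatorElement_def]; group, hcz])
  have hc1 : ∀ x y z, com (x * y) z = com x z * com y z := fun x y z => Subtype.ext (by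
    show ⁅x * y, z⁆ = ⁅x, z⁆ * ⁅y, z⁆
    rw [show ⁅x * y, z⁆ = x * ⁅y, z⁆ * x⁻¹ * ⁅x, z⁆ by simp only [commutatorElement_def]; group, hcz]
    exact (congrArg Subtype.val (mul_comm (com y z) (com x z)) :))
  have hc0 : ∀ x : ↥Q, (x : G) ∈ Q₀ → ∀ y, com x y = 1 ∧ com y x = 1 := fun x hx y => by
    have e : y * x = x * y := Subtype.ext (h.commute₀ heq y.2 hx)
    exact ⟨Subtype.ext (commutatorElement_eq_one_iff_mul_comm.2 e.symm),
      Subtype.ext (commutatorElement_eq_one_iff_mul_comm.2 e)⟩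
  let F : ↥Q →* (↥Q ⧸ N →* ↥(center ↥Q)) :=
    { toFun := fun x => QuotientGroup.lift N (MonoidHom.mk' (com x) (hc2 x))
        fun y hy => MonoidHom.mem_ker.2 (hc0 y (mem_subgroupOf.1 hy) x).2
      map_one' := MonoidHom.ext fun y => by
        induction y using QuotientGroup.induction_on with
        | H y => exact (hc0 1 (one_mem _) y).1
      map_mul' := fun x x' => MonoidHom.ext fun y => by
        induction y using QuotientGroup.induction_on with
        | H y => exact hc1 x x' y }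
  let bil : ↥Q ⧸ N →* ↥Q ⧸ N →* ↥(center ↥Q) := QuotientGroup.lift N F fun x hx => MonoidHom.mem_ker.2 (by
    refine MonoidHom.ext fun y => ?_
    induction y using QuotientGroup.induction_on with
    | H y => exact (hc0 x (mem_subgroupOf.1 hx) y).1)
  have hbil : ∀ x y : ↥Q, bil x y = com x y := fun x y => rfl
  obtain ⟨x₀, hx₀, hx₀1⟩ := (bot_or_exists_ne_one W₂).resolve_left h.nt.ne
  set ω := act ⟨x₀, h.nt.le₂ hx₀⟩ with hω
  have hcard : Nat.card (↥Q ⧸ N) = Nat.card W₁ ^ Nat.card W₂ := by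
    rw [← Subgroup.index_eq_card]
    have h1 := Subgroup.card_mul_index N
    rw [hN, Nat.card_congr (subgroupOfEquivOfLe h.le₀).toEquiv, h.card_Q] at h1
    exact Nat.eq_of_mul_eq_mul_left Nat.card_pos h1
  have hw2 : Nat.card W₂ ≠ 2 := h.nt.ne_two W₂ dvd_rfl
  have hmain := pairing_trivial h.nt.prime₁ h.prime₂ hw2 hcard ?_ ((D.subgroupOf T).map act) ?_ ?_ ω ?_ ?_ ?_ bil ?_ ?_
  · have h1 := hmain ((⟨a, ha⟩ : ↥Q) : ↥Q ⧸ N) ((⟨b, hb⟩ : ↥Q) : ↥Q ⧸ N)
    rw [hbil] at h1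
    have h2 : ⁅(⟨a, ha⟩ : ↥Q), (⟨b, hb⟩ : ↥Q)⁆ = (1 : ↥Q) := congrArg Subtype.val h1
    exact congrArg Subtype.val (commutatorElement_eq_one_iff_mul_comm.1 h2)
  · intro v
    induction v using QuotientGroup.induction_on with
    | H x => exact (QuotientGroup.eq_one_iff _).2 (mem_subgroupOf.2 (by simpa using h.powQ x x.2))
  · rintro _ ⟨d, hd, rfl⟩
    exact Odd.of_dvd_nat ((h.nt.odd T).of_dvd_nat (orderOf_dvd_natCard d)) (orderOf_map_dvd act d)
  · intro e
    refine h.kern_lt.not_ge fun d hd => h.mem_kern.2 ⟨hd, fun x hx => ?_⟩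
    have h1 : act ⟨d, h.DT hd⟩ = 1 := mem_bot.1 (e ▸ ⟨⟨d, h.DT hd⟩, mem_subgroupOf.2 hd, rfl⟩)
    have h2 : (c ⟨d, h.DT hd⟩ ⟨x, hx⟩ : ↥Q ⧸ N) = (⟨x, hx⟩ : ↥Q) :=
      DFunLike.congr_fun h1 ((⟨x, hx⟩ : ↥Q) : ↥Q ⧸ N)
    have h3 : (d * x * d⁻¹)⁻¹ * x ∈ Q₀ := mem_subgroupOf.1 (QuotientGroup.eq.1 h2)
    have h4 := inv_mem (Grp.mem_conj_normalizer (h.norm₀ (h.QT hx)) h3)
    convert h4 using 1
    group
  · rw [hω, ← map_pow, show (⟨x₀, h.nt.le₂ hx₀⟩ : ↥T) ^ Nat.card W₂ = 1 from Subtype.ext (by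
      rw [SubgroupClass.coe_pow]
      exact orderOf_dvd_iff_pow_eq_one.1 (Subgroup.orderOf_dvd_natCard _ hx₀)), map_one]
  · rintro _ ⟨d, hd, rfl⟩
    refine ⟨(⟨x₀, h.nt.le₂ hx₀⟩ : ↥T)⁻¹ * d * ⟨x₀, h.nt.le₂ hx₀⟩, mem_subgroupOf.2 ?_, by simp [hω]⟩
    have h1 := Grp.mem_conj_normalizer (inv_mem (h.normD hx₀)) (mem_subgroupOf.1 hd)
    rw [inv_inv] at h1
    exact h1
  · intro S hS hΔ hS₂
    let P : Subgroup G := (S.comap (QuotientGroup.mk' N)).map Q.subtype
    have hmemP : ∀ {g : G} (hg : g ∈ Q), g ∈ P ↔ ((⟨g, hg⟩ : ↥Q) : ↥Q ⧸ N) ∈ S := fun {g} hg =>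
      ⟨by rintro ⟨y, hy, rfl⟩; exact hy, fun hy => ⟨⟨g, hg⟩, hy, rfl⟩⟩
    have hPQ : P ≤ Q := map_subtype_le _
    have hgood : ∀ t : ↥T, (∀ s ∈ S, act t s ∈ S) → ∀ g ∈ P, (t : G) * g * (t : G)⁻¹ ∈ P := fun t ht g hg =>
      (hmemP (Grp.mem_conj_normalizer (h.normQ t.2) (hPQ hg))).2 (ht _ ((hmemP (hPQ hg)).1 hg))
    have hPT : T ≤ normalizer (P : Set G) := by
      have key : ∀ t : ↥T, ∀ s ∈ S, act t s ∈ S := by
        intro t
        obtain ⟨k, hk, x, hx, e⟩ := h.nt.compl.2.2.2 t t.2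
        obtain ⟨u, hu, d, hd, e'⟩ := h.compl.2.2.2 k hk
        have hxz : (x : G) ∈ zpowers x₀ := by
          refine (Subgroup.eq_of_le_of_card_ge (zpowers_le.2 hx₀) (le_of_eq ?_)).symm ▸ hx
          rw [Nat.card_zpowers]
          exact (((Nat.dvd_prime h.prime₂).1 (Subgroup.orderOf_dvd_natCard _ hx₀)).resolve_left
            (fun e => hx₀1 (orderOf_eq_one_iff.1 e))).symm
        obtain ⟨n, hn⟩ := (Submonoid.mem_powers_iff _ _).1 (mem_powers_iff_mem_zpowers.2 hxz)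
        intro s hs
        have ht : t = (⟨u, h.QT hu⟩ : ↥T) * ⟨d, h.DT hd⟩ * (⟨x₀, h.nt.le₂ hx₀⟩ : ↥T) ^ n :=
          Subtype.ext (by simp [e, e', hn])
        rw [ht, map_mul, map_mul, MulAut.mul_apply, MulAut.mul_apply]
        have h1 : ∀ m : ℕ, ∀ s ∈ S, (act ((⟨x₀, h.nt.le₂ hx₀⟩ : ↥T) ^ m)) s ∈ S := by
          intro m
          induction m with
          | zero => intro s hs; simpa using hs
          | succ m ih => intro s hs; rw [pow_succ', map_mul, MulAut.mul_apply]; exact hS₂ _ (ih s hs)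
        have hu1 : ∀ s, act ⟨u, h.QT hu⟩ s = s := fun s => by
          induction s using QuotientGroup.induction_on with
          | H y =>
            have : (c ⟨u, h.QT hu⟩ y : ↥Q ⧸ N) = y := by
              refine hmk ?_
              have := h.commQ u hu (y : G)⁻¹ (inv_mem y.2)
              convert this using 1
              simp [c, mul_assoc]
            exact this
        rw [hu1]
        exact hΔ _ ⟨⟨d, h.DT hd⟩, mem_subgroupOf.2 hd, rfl⟩ _ (h1 n s hs)
      refine fun t ht => Subgroup.mem_normalizer_iff.2 fun g => ⟨hgood ⟨t, ht⟩ (key _) g, fun hg => ?_⟩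
      have h1 := hgood ⟨t, ht⟩⁻¹ (key _) _ hg
      simpa [mul_assoc] using h1
    have h0P : Q₀ ≤ P := fun g hg => (hmemP (h.le₀ hg)).2 (by
      rw [(QuotientGroup.eq_one_iff (N := N) ⟨g, h.le₀ hg⟩).2 (mem_subgroupOf.2 hg)]
      exact one_mem _)
    by_contra hne
    refine h.minQ P (lt_of_le_not_ge h0P fun hle => hS ?_) (lt_of_le_not_ge hPQ fun hle => hne ?_) hPT
    · refine le_bot_iff.1 fun s hs => ?_
      induction s using QuotientGroup.induction_on with
      | H y => exact mem_bot.2 ((QuotientGroup.eq_one_iff y).2 (mem_subgroupOf.2 (hle ((hmemP y.2).2 hs))))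
    · refine top_unique fun s _ => ?_
      induction s using QuotientGroup.induction_on with
      | H y => exact (hmemP y.2).1 (hle y.2)
  · intro v
    induction v using QuotientGroup.induction_on with
    | H x => rw [hbil]; exact Subtype.ext (commutatorElement_self x)
  · rintro _ ⟨d, hd, rfl⟩ u v
    induction u using QuotientGroup.induction_on with
    | H x =>
      induction v using QuotientGroup.induction_on with
      | H y =>
        show com (c d x) (c d y) = com x y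
        refine Subtype.ext (Subtype.ext ?_)
        have h0 : (x : G) * y * (x : G)⁻¹ * (y : G)⁻¹ ∈ centralizer (D : Set G) :=
          (h.eq₀.le (h.commQ x x.2 y y.2)).2
        have h1 := mem_centralizer_iff.1 h0 d (mem_subgroupOf.1 hd)
        show ((⁅c d x, c d y⁆ : ↥Q) : G) = ((⁅x, y⁆ : ↥Q) : G)
        simp only [commutatorElement_def, Subgroup.coe_mul, Subgroup.coe_inv]
        show ((d : G) * x * (d : G)⁻¹) * ((d : G) * y * (d : G)⁻¹) * ((d : G) * x * (d : G)⁻¹)⁻¹ *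
          ((d : G) * y * (d : G)⁻¹)⁻¹ = _
        rw [show ((d : G) * x * (d : G)⁻¹) * ((d : G) * y * (d : G)⁻¹) * ((d : G) * x * (d : G)⁻¹)⁻¹ *
          ((d : G) * y * (d : G)⁻¹)⁻¹ = (d : G) * ((x : G) * y * (x : G)⁻¹ * (y : G)⁻¹) * (d : G)⁻¹ by group,
          h1, mul_inv_cancel_right]

theorem eq_bot₀ : Q₀ = ⊥ := by
  haveI : IsMulCommutative Q := ⟨⟨fun a b => Subtype.ext (h.comm_Q heq a.2 b.2)⟩⟩
  haveI := Fact.mk h.nt.prime₁
  have hcop : (Nat.card D).Coprime (Nat.card Q) := by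
    obtain ⟨i, hi⟩ := IsPGroup.iff_card.1 h.pGroup
    rw [hi]
    exact h.coprime.symm.pow_right i
  rw [← Grp.abelian_commutator_inf_fixed D Q (h.DT.trans h.normQ) hcop, h.commutator_eq heq, h.eq₀]
  exact (inf_eq_left.2 inf_le_left).symm

theorem side (hne : Cfsg.fittingHallOf T ≠ Cfsg.sigmaCore T) :
    Side T Q D ⁅D, D⁆ W₂ W₁ (Nat.card W₁) (Nat.card W₂) := by
  haveI := Fact.mk h.nt.prime₁
  haveI := solvable_of_ne_top h.nt.hG h.nt.hT.1
  have hbot := h.eq_bot₀ heq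
  have hCQ : D ⊓ centralizer (Q : Set G) = kern Q D Q₀ := by
    refine le_antisymm (fun d hd => h.mem_kern.2 ⟨hd.1, fun a ha => ?_⟩) fun d hd => ⟨hd.1.1, mem_centralizer_iff.2 fun a ha => ?_⟩
    · rw [← mem_centralizer_iff.1 hd.2 a ha, mul_inv_cancel_right, mul_inv_cancel]
      exact one_mem _
    · have h1 := hd.2 a ha
      rw [hbot, mem_bot, mul_inv_eq_one, mul_inv_eq_iff_eq_mul] at h1
      exact h1.symm
  have hcopQD : (Nat.card Q).Coprime (Nat.card D) := by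
    obtain ⟨i, hi⟩ := IsPGroup.iff_card.1 h.pGroup
    rw [hi]
    exact h.coprime.pow_left i
  refine
    { hG := h.nt.hG
      hM := h.nt.hT
      hp := h.nt.prime₁
      hq := h.prime₂
      hpq := fun e => h.nt.prime₁.ne_one (Nat.dvd_one.1 (by
        have hcop := h.nt.coprime.coprime_dvd_left (card_dvd_of_le h.nt.le₁)
        rw [← e] at hcop
        exact hcop.gcd_eq_one ▸ Nat.dvd_gcd dvd_rfl dvd_rfl))
      card₁ := rfl
      card₂ := rfl
      self := h.nt.self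
      elem := ⟨⟨⟨fun a b => Subtype.ext (h.comm_Q heq a.2 b.2)⟩⟩, fun a ha => mem_bot.1 (hbot ▸ h.powQ a ha)⟩
      card_P := by rw [h.card_Q, hbot, Subgroup.card_bot, one_mul]
      W₂_le := h.le₁Q
      norm_P := h.normQ
      compl := h.nt.derived.symm ▸ h.compl
      compl₁ := h.nt.derived.symm ▸ h.nt.compl
      fix := fun x hx hx1 => by rw [h.nt.derived]; exact h.nt.fix hx hx1
      nilp_U := h.nilD
      comm_quot := le_rfl
      norm_U := h.normD
      free₁ := fun x hx hx1 => le_bot_iff.1 fun d hd =>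
        mem_bot.2 (h.free hx hx1 hd.1 (mem_centralizer_singleton_iff.1 hd.2))
      coprime := h.coprime.symm
      coprime₁ := h.nt.coprime.coprime_dvd_left (card_dvd_of_le h.D_le_core)
      C_eq := hCQ.trans (h.kern_eq heq)
      C_lt := h.kern_eq heq ▸ h.kern_lt
      irred := fun X hX hX1 hN => ?_
      fit := ?_
      ti := (Cfsg.Agent.S1357.result h.nt.hG T h.nt.hT W₂ ⊥ h.nt.dec hne).2.1 }
  · by_contra hXQ
    refine h.minQ X (hbot ▸ bot_lt_iff_ne_bot.2 hX1) (lt_of_le_of_ne hX hXQ) fun t ht => ?_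
    obtain ⟨k, hk, x, hx, rfl⟩ := h.nt.compl.2.2.2 t ht
    obtain ⟨u, hu, d, hd, rfl⟩ := h.compl.2.2.2 k hk
    refine mul_mem (mul_mem ?_ (hN (mem_sup_left hd))) (hN (mem_sup_right hx))
    refine Subgroup.mem_normalizer_iff.2 fun g => ⟨fun hg => ?_, fun hg => ?_⟩
    · rwa [h.comm_Q heq hu (hX hg), mul_inv_cancel_right]
    · have hgQ : g ∈ Q := by
        have := Q.mul_mem (Q.mul_mem (Q.inv_mem hu) (hX hg)) hu
        convert this using 1
        group
      rwa [h.comm_Q heq hu hgQ, mul_inv_cancel_right] at hg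
  · have hQF : Q ≤ Cfsg.fittingOf T := h.Q_le.trans (fittingHallOf_le_fitting T)
    refine le_antisymm (fun g hg => ?_) (sup_le hQF ?_)
    · obtain ⟨u, hu, d, hd, rfl⟩ := h.compl.2.2.2 g (h.nt.fitting_le hg)
      have hdF : d ∈ Cfsg.fittingOf T := ((Cfsg.fittingOf T).mul_mem_cancel_left (hQF hu)).1 hg
      refine mul_mem_sup hu ?_
      rw [← h.kern_eq heq, ← hCQ]
      exact ⟨hd, mem_centralizer_iff.2 fun a ha => TypeP.commute_of_coprime_orderOf (fittingOf_isNilpotent T) (hQF ha) hdF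
        ((hcopQD.coprime_dvd_left (Subgroup.orderOf_dvd_natCard _ ha)).coprime_dvd_right (Subgroup.orderOf_dvd_natCard _ hd))⟩
    ·
      have hDT : ⁅D, D⁆ ≤ T := D.commutator_le_self.trans h.DT
      have hnorm : T ≤ normalizer ((⁅D, D⁆ : Subgroup G) : Set G) := fun t ht => by
        obtain ⟨k, hk, x, hx, rfl⟩ := h.nt.compl.2.2.2 t ht
        obtain ⟨u, hu, d, hd, rfl⟩ := h.compl.2.2.2 k hk
        refine mul_mem (mul_mem ?_ (Grp.left_le_normalizer_commutator D D hd)) ?_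
        · refine centralizer_le_normalizer _ (mem_centralizer_iff.2 fun c hc => ?_)
          have h1 : c ∈ D ⊓ centralizer (Q : Set G) := hCQ.symm ▸ (h.kern_eq heq).symm ▸ hc
          exact (mem_centralizer_iff.1 h1.2 u hu).symm
        · have := h.kern_norm₂ hx
          rwa [h.kern_eq heq] at this
      haveI := h.nilD
      rw [← Subgroup.map_subgroupOf_eq_of_le hDT]
      refine map_mono (Grp.le_fittingSubgroup ((normal_subgroupOf_iff_le_normalizer hDT).2 hnorm) ?_)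
      haveI := Grp.isNilpotent_of_le D.commutator_le_self h.nilD
      exact Group.nilpotent_of_mulEquiv (subgroupOfEquivOfLe hDT).symm

end

end Split

/-- Types III and IV: the degree of the fixed characters and the structure in the extreme case. -/
theorem NonTwo.four {T W₁ W₂ : Subgroup G} (h : NonTwo T W₁ W₂)
    (hne : Cfsg.fittingHallOf T ≠ Cfsg.sigmaCore T) :
    (Nat.card W₂).Prime ∧ ∃ v : ℕ, 1 < v ∧ v ≡ 1 [MOD 2 * Nat.card W₂] ∧
      v ∣ ⁅Cfsg.sigmaCore T, Cfsg.sigmaCore T⁆.relIndex (Cfsg.sigmaCore T) ∧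
      (∀ θ, IsFixedChar T W₂ θ → θ 1 = (v : ℂ)) ∧
      (⁅Cfsg.sigmaCore T, Cfsg.sigmaCore T⁆.relIndex (Cfsg.sigmaCore T) = v →
        ∃ Q D : Subgroup G, Side T Q D ⁅D, D⁆ W₂ W₁ (Nat.card W₁) (Nat.card W₂) ∧
          ⁅D, D⁆.relIndex D = v) := by
  obtain ⟨Q, D, Q₀, hs⟩ := h.exists_split hne
  exact ⟨hs.prime₂, _, hs.one_lt_kern_index, hs.kern_index_modEq, hs.index_dvd, fun θ hθ => hs.degree hθ,
    fun heq => ⟨Q, D, hs.side heq hne, by rw [← hs.kern_eq heq]⟩⟩

end Cfsg.Agent.Grp.FT
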