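import Cfsg.Agent.Lib.Grp.FT.NonTwoTypeV
import Cfsg.Agent.Lib.Grp.FT.NonTwoSide
import Cfsg.Agent.Lib.Grp.FT.NonTwoMeasure

/-!
`T` not of type II: only type III or IV with `[T' : T''] = v`, `q < p` and the basic function with the
coordinates `(1, 0)` on the two lines of the grid survives.
-/

set_option autoImplicit false
set_option linter.unusedSectionVars false
set_option linter.style.haveILetI false
set_option maxHeartbeats 1000000

namespace Cfsg.Agent.Grp.FT

open Subgroup Cfsg.Agent.Char Cfsg.Agent.Transfer Cfsg.Agent.Transfer.Loc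
open scoped ComplexConjugate commutatorElement

attribute [local instance] _root_.Classical.propDecidable

universe u

variable {G : Type u} [Group G] [Fintype G]

noncomputable local instance (priority := high) subFintypeC (H : Subgroup G) : Fintype H := Fintype.ofFinite _

noncomputable local instance (priority := high) subSubFintypeC (H : Subgroup G) (K : Subgroup H) : Fintype K :=
  Fintype.ofFinite _

variable {T W₁ W₂ : Subgroup G}

theorem lin_conj {U : Subgroup G} (f : ↥U →* ℂˣ) (x : U) : conj (f x : ℂ) = ((f⁻¹ : ↥U →* ℂˣ) x : ℂ) := by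
  show conj (f x : ℂ) = (((f x)⁻¹ : ℂˣ) : ℂ)
  rw [Units.val_inv_eq_inv_val, Complex.inv_eq_conj]
  have h1 : (f x : ℂ) ^ Nat.card U = 1 := by
    rw [← Units.val_pow_eq_pow_val, ← map_pow, pow_card_eq_one', map_one, Units.val_one]
  exact Complex.norm_eq_one_of_pow_eq_one h1 Nat.card_pos.ne'

theorem lin_inv_ne {U : Subgroup G} {f : ↥U →* ℂˣ} (hf : f ≠ 1) : f⁻¹ ≠ 1 := fun e =>
  hf (MonoidHom.ext fun x => by simpa using DFunLike.congr_fun e x)

/-- A linear character equal to its inverse is trivial. -/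
theorem lin_eq_one_of_inv {U : Subgroup G} (hodd : Odd (Nat.card U)) {f : ↥U →* ℂˣ} (h : f⁻¹ = f) : f = 1 := by
  refine MonoidHom.ext fun x => ?_
  have h2 : (f x) ^ 2 = 1 := by
    have := DFunLike.congr_fun h x
    rw [MonoidHom.inv_apply] at this
    rw [pow_two]
    calc f x * f x = (f x)⁻¹ * f x := by rw [this]
      _ = 1 := inv_mul_cancel _
  obtain ⟨j, hj⟩ := hodd
  have h3 : (f x) ^ Nat.card U = 1 := by rw [← map_pow, pow_card_eq_one', map_one]
  rw [hj, pow_succ, pow_mul, h2, one_pow, one_mul] at h3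
  exact h3

section

variable [Fintype T] [Fintype (core T)]

/-- Complex conjugation of an exceptional character. -/
theorem Exc.conj_mu (X : Exc T W₁ W₂) (h : NonTwo T W₁ W₂) (f : ↥W₁ →* ℂˣ) :
    Cfsg.conjFun (X.mu f 1) = X.mu f⁻¹ 1 ∧ X.sgn f⁻¹ = X.sgn f ∧ X.kap f⁻¹ = X.kap f := by
  obtain ⟨h1, h2⟩ := X.eq_of_val h (χ := Cfsg.conjFun (X.mu f 1)) (IsIrr.conj (X.irr f 1)) (X.sgn_pm f)
    (f := f⁻¹) (g := 1) fun x a b hb hx => by
      show conj (X.mu f 1 x) = _
      rw [X.val f 1 x a b hb hx, map_mul, map_mul, map_intCast, lin_conj, MonoidHom.one_apply, Units.val_one, map_one]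
  refine ⟨h1, h2, ?_⟩
  obtain ⟨m, -, hm⟩ := IsIrr.one_eq_pos (X.irr f 1)
  have e1 := Img.kap_spec X f
  have e2 := Img.kap_spec X f⁻¹
  have e3 : X.theta f⁻¹ 1 = X.theta f 1 := by
    show X.mu f⁻¹ 1 1 = X.mu f 1 1
    rw [← h1]
    show conj (X.mu f 1 1) = X.mu f 1 1
    rw [hm, map_natCast]
  rw [e3, e1, h2] at e2
  have e4 : ((X.kap f : ℤ) : ℂ) = (X.kap f⁻¹ : ℂ) :=
    mul_right_cancel₀ (Nat.cast_ne_zero.2 Nat.card_pos.ne') (add_left_cancel e2)
  exact (Int.cast_injective e4).symm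

variable {E : Grid W₁ W₂} {ι : Type u} [Fintype ι] [DecidableEq ι] {xi : ι → T → ℂ}
  {Z : ι → G → ℂ} {i₀ : ι}

/-- The coordinates of an image on the column through the corner are symmetric. -/
theorem Img.image_sym (hi : Img T W₁ W₂ E xi Z i₀) (X : Exc T W₁ W₂) {f : ↥W₁ →* ℂˣ} (hf : f ≠ 1)
    {g : ↥W₂ →* ℂˣ} (hg : g ≠ 1) :
    E.coef (X.image (xi i₀) f 1) 1 g⁻¹ = E.coef (X.image (xi i₀) f 1) 1 g := by
  obtain ⟨hc, hs, hk⟩ := X.conj_mu hi.nt f
  have hf' : f⁻¹ ≠ 1 := lin_inv_ne hf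
  have hne : f⁻¹ ≠ f := fun e => hf (lin_eq_one_of_inv (hi.nt.odd W₁) e)
  obtain ⟨j, -, hjx, hjZ⟩ := hi.fam.bar i₀
  have halpha : Cfsg.conjFun (X.alpha (xi i₀) f 1) = X.alpha (xi i₀) f⁻¹ 1 + (X.kap f : ℂ) • (xi i₀ - xi j) := by
    funext x
    have e1 := congrFun hc x
    have e2 := congrFun hjx x
    simp only [Cfsg.conjFun] at e1 e2
    simp only [Exc.alpha, Cfsg.conjFun, Pi.sub_apply, Pi.add_apply, Pi.smul_apply, smul_eq_mul, map_sub, map_mul,
      map_intCast, hs, hk, e1, ← e2, congrFun (X.one hi.nt).1 x, map_one]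
    ring
  have hd := hi.supp_diff j
  have hconj : Cfsg.conjFun (X.image (xi i₀) f 1) = X.image (xi i₀) f⁻¹ 1 + (X.kap f : ℂ) • (Z i₀ - Z j) := by
    rw [Exc.image, dade_conj, halpha, dade_add, dade_smul, Exc.image]
    congr 2
    rw [show xi i₀ - xi j = (-1 : ℂ) • (xi j - xi i₀) by rw [neg_one_smul, neg_sub], dade_smul, hi.dade_eq hd,
      hi.fam.Z_diff j, neg_one_smul, neg_sub]
  have hgen := hi.image_gen X f 1
  refine zInner_eq ?_
  have h1 : E.eta 1 g⁻¹ = Cfsg.conjFun (E.eta 1 g) := by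
    rw [E.conj_eta hi.nt.hG.1]; congr 1
  have h2 : Cfsg.classInner (X.image (xi i₀) f 1) (Cfsg.conjFun (E.eta 1 g)) =
      conj (Cfsg.classInner (Cfsg.conjFun (X.image (xi i₀) f 1)) (E.eta 1 g)) := by
    rw [← inner_conjFun]
    congr 1
    funext x; simp [Cfsg.conjFun]
  have h3 := hi.image_diff X hf' hf hne hs hk
  have h4 : Cfsg.classInner (X.image (xi i₀) f⁻¹ 1) (E.eta 1 g) =
      (E.coef (X.image (xi i₀) f 1) 1 g : ℂ) := by
    rw [← E.coef_spec hgen, ← sub_eq_zero, ← classInner_sub_left, h3, classInner_smul_left, classInner_sub_left,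
      E.orth _ _ _ _ (fun e => hf' e.1), E.orth _ _ _ _ (fun e => hf e.1)]
    ring
  rw [h1, h2, hconj, classInner_add_left, classInner_smul_left, classInner_sub_left, hi.perp, hi.perp, h4]
  simp

end

namespace Pair

variable {S : Subgroup G} (h : Pair S T W₁ W₂) (hT2 : Cfsg.IsSigmaDecomposition T W₂ ⊥)
include h hT2

omit hT2 in
/-- A sum over the nonprincipal characters of `W₂` of symmetric values is even. -/
theorem even_sum [Fintype (↥W₂ →* ℂˣ)] (c : (↥W₂ →* ℂˣ) → ℤ) (hs : ∀ g, g ≠ 1 → c g⁻¹ = c g) :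
    Even (∑ g ∈ Finset.univ.erase (1 : ↥W₂ →* ℂˣ), c g) := by
  rw [← ZMod.intCast_eq_zero_iff_even, Int.cast_sum]
  refine Finset.sum_involution (fun g _ => g⁻¹) (fun g hg => ?_) (fun g hg _ e => ?_) (fun g hg => ?_)
    fun g _ => inv_inv g
  · rw [hs g (Finset.ne_of_mem_erase hg)]
    exact CharTwo.add_self_eq_zero _
  · exact Finset.ne_of_mem_erase hg (lin_eq_one_of_inv (h.hG.1.of_dvd_nat (card_subgroup_dvd_card W₂)) e)
  · exact Finset.mem_erase.2
      ⟨lin_inv_ne (Finset.ne_of_mem_erase hg), Finset.mem_univ _⟩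

variable {𝓛 : Finset (Subgroup G)} (hc : Cover S T W₁ W₂ 𝓛) (E : Grid W₁ W₂)
include hc E

/-- No shifts and no `g₀`: impossible with coordinate `0`. -/
theorem impossible_zero (X : Exc T W₁ W₂) {Z : (h.memberT hT2).ι → G → ℂ} (hZ : (h.memberT hT2).ZOK Z)
    (hg₀ : Cfsg.classInner (h.memberT hT2).beta (Z (h.memberT hT2).i₀) + 1 = 0)
    (hg : ∀ f : ↥W₁ →* ℂˣ, f ≠ 1 →
      Cfsg.classInner (X.image ((h.memberT hT2).xi (h.memberT hT2).i₀) f 1) (Z (h.memberT hT2).i₀) = -(X.kap f : ℂ))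
    (hL0 : ∀ L (hL : L ∈ 𝓛), ((h.memberT hT2).withZ Z hZ).g (memberI h.hG (hc.coatom L hL) (hc.typeI L hL)) = 0) :
    False := by
  refine h.impossible hT2 hc E X hZ hg₀ (fun f hf => ?_) hL0
  rw [(h.img hT2 hc E hZ).defect_theta X, ← h.beta_eq hT2, hg f hf, hg₀]
  ring

/-- Shift zero: the coordinate is tied to `g₀`. -/
theorem coord_relation (X : Exc T W₁ W₂) {Z : (h.memberT hT2).ι → G → ℂ} (hZ : (h.memberT hT2).ZOK Z) {a g₀ : ℤ}
    {f : ↥W₁ →* ℂˣ} (hf : f ≠ 1) (ha : E.coef (h.memberT hT2).beta f 1 = a)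
    (hg₀ : Cfsg.classInner (h.memberT hT2).beta (Z (h.memberT hT2).i₀) + 1 = (g₀ : ℂ))
    (hg : Cfsg.classInner (X.image ((h.memberT hT2).xi (h.memberT hT2).i₀) f 1) (Z (h.memberT hT2).i₀) =
      -(X.kap f : ℂ)) : X.sgn f * a = X.kap f * g₀ := by
  classical
  have hi := h.img hT2 hc E hZ
  have e := hi.image_beta X hf
  rw [← h.beta_eq hT2, hi.image_exact X hf hg, classInner_sub_left, classInner_smul_left, classInner_smul_left,
    classInner_sub_left] at e
  have h1 : Cfsg.classInner (E.eta f 1) (h.memberT hT2).beta = (a : ℂ) := by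
    rw [← classInner_conj_symm, E.coef_spec (h.memberT hT2).beta_gen, ha, map_intCast]
  have h2 : Cfsg.classInner (E.eta 1 1) (h.memberT hT2).beta = 1 := by
    rw [← classInner_conj_symm, E.one, (h.memberT hT2).beta_one, map_one]
  have h3 : Cfsg.classInner (Z (h.memberT hT2).i₀) (h.memberT hT2).beta = (g₀ : ℂ) - 1 := by
    rw [← classInner_conj_symm, show Cfsg.classInner (h.memberT hT2).beta (Z (h.memberT hT2).i₀) = (g₀ : ℂ) - 1 by
      linear_combination hg₀, map_sub, map_intCast, map_one]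
  rw [h1, h2, h3] at e
  apply Int.cast_injective (α := ℂ)
  push_cast at e ⊢
  linear_combination e

/-- Type V is impossible. -/
theorem not_five (heq : Cfsg.fittingHallOf T = Cfsg.sigmaCore T) : False := by
  classical
  obtain ⟨X⟩ := (h.nonTwo hT2).exists_exc
  have hnt := h.nonTwo hT2
  obtain ⟨Z, hZ, hD⟩ : ∃ Z, (h.memberT hT2).ZOK Z ∧ ∀ f : ↥W₁ →* ℂˣ, f ≠ 1 →
      defect (core T) ((Cfsg.sigmaCore T : Set G) \ {1}) ((h.memberT hT2).xi (h.memberT hT2).i₀)
        (Z (h.memberT hT2).i₀) (X.theta f) = 0 := by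
    have hv := h.five hT2 (h.memberT hT2).zok heq
    rcases hv.defects X with hD | ⟨hn, hD⟩
    · exact ⟨_, (h.memberT hT2).zok, hD⟩
    obtain ⟨j, hj, hall⟩ := hv.exists_pair_of_two hn
    refine ⟨_, h.flip_ok hT2 hn (h.memberT hT2).zok, fun f hf => ?_⟩
    haveI := Exc.finite_dual₂ hnt
    letI := Fintype.ofFinite (↥W₂ →* ℂˣ)
    obtain ⟨m, hm, hm3, -⟩ := X.theta_deg hnt hf
    rw [hv.fam.defect_flip hj hall (hv.ind_orth (X.theta_spec hnt f).1 fun e => by
      rw [hm] at e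
      exact absurd (Nat.cast_injective (R := ℂ) (e.trans Nat.cast_one.symm)) (by omega)), hD f hf, sub_self]
  obtain ⟨a, g₀, ha, hg₀, hlo, hhi, hdis, hzero⟩ := h.coords hT2 hc E hZ
  have hi := h.img hT2 hc E hZ
  have key : ∀ f : ↥W₁ →* ℂˣ, f ≠ 1 → g₀ = 0 ∧
      Cfsg.classInner (X.image ((h.memberT hT2).xi (h.memberT hT2).i₀) f 1) (Z (h.memberT hT2).i₀) =
        -(X.kap f : ℂ) := by
    intro f hf
    obtain ⟨g, hg, -, -⟩ := hi.image_bound X hf
    have e := hi.defect_theta X (f := f)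
    rw [hD f hf, ← h.beta_eq hT2, hg, hg₀] at e
    have e' : (0 : ℤ) = (Nat.card W₂ : ℤ) * g + X.sgn f * g₀ := by
      apply Int.cast_injective (α := ℂ)
      push_cast at e ⊢
      linear_combination e
    have hg0 : g = 0 := by
      by_contra hne
      rcases X.sgn_pm f with es | es <;> rw [es] at e' <;> rcases lt_or_gt_of_ne hne with hl | hl <;> nlinarith
    subst hg0
    refine ⟨?_, by rw [hg]; push_cast; ring⟩
    rcases X.sgn_pm f with es | es <;> rw [es] at e' <;> omega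
  haveI := E.finite_left
  letI := Fintype.ofFinite (↥W₁ →* ℂˣ)
  obtain ⟨f₀, hf₀⟩ : ∃ f : ↥W₁ →* ℂˣ, f ≠ 1 :=
    Fintype.exists_ne_of_one_lt_card (lt_of_lt_of_le (by norm_num) (E.three_le h.hG.1)) 1
  obtain ⟨hg0, hgf⟩ := key f₀ hf₀
  have hrel := h.coord_relation hT2 hc E X hZ hf₀ (ha f₀ hf₀) hg₀ hgf
  subst hg0
  rw [mul_zero] at hrel
  have ha0 : a = 0 := by
    rcases X.sgn_pm f₀ with es | es <;> rw [es] at hrel <;> linarith
  refine h.impossible_zero hT2 hc E X hZ (by rw [hg₀, Int.cast_zero]) (fun f hf => (key f hf).2) (hzero ha0).2.2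

/-- The case in which `T` is not of type II. -/
theorem nonTwo_cases :
    Cfsg.fittingHallOf T ≠ Cfsg.sigmaCore T ∧ (Nat.card W₂).Prime ∧ Nat.card W₁ < Nat.card W₂ ∧
      ∃ Q D : Subgroup G, Side T Q D ⁅D, D⁆ W₂ W₁ (Nat.card W₁) (Nat.card W₂) ∧
        ⁅D, D⁆.relIndex D = ⁅Cfsg.sigmaCore T, Cfsg.sigmaCore T⁆.relIndex (Cfsg.sigmaCore T) ∧
        ⁅Cfsg.sigmaCore T, Cfsg.sigmaCore T⁆.relIndex (Cfsg.sigmaCore T) ≡ 1 [MOD 2 * Nat.card W₂] ∧
        (∀ f : ↥W₁ →* ℂˣ, f ≠ 1 → E.coef (h.memberT hT2).beta f 1 = 1) ∧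
        ∀ g : ↥W₂ →* ℂˣ, g ≠ 1 → E.coef (h.memberT hT2).beta 1 g = 0 := by
  classical
  have hne : Cfsg.fittingHallOf T ≠ Cfsg.sigmaCore T := fun e => h.not_five hT2 hc E e
  obtain ⟨X⟩ := (h.nonTwo hT2).exists_exc
  have hnt := h.nonTwo hT2
  obtain ⟨hwp, v, hv1, hvmod, hvdvd, hdeg, hside⟩ := hnt.four hne
  set w := Nat.card W₂ with hw
  set kn := ⁅Cfsg.sigmaCore T, Cfsg.sigmaCore T⁆.relIndex (Cfsg.sigmaCore T) with hkn
  set n := Fintype.card (h.memberT hT2).ι with hn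
  have hkn' : kn = n * w + 1 := by
    rw [hn, hw, h.card_linear hT2, hkn, ← hnt.map_core', ← hnt.map_core]
    exact Subgroup.relIndex_map_map_of_injective _ _ T.subtype_injective
  have hw3 : 3 ≤ w := hnt.card₂_three
  obtain ⟨j, hj⟩ : ∃ j, v = 2 * w * j + 1 := by
    obtain ⟨j, hj⟩ := (Nat.modEq_iff_dvd' hv1.le).1 hvmod.symm
    exact ⟨j, by omega⟩
  have hj0 : 0 < j := Nat.pos_of_ne_zero fun e => by rw [e, mul_zero, zero_add] at hj; omega
  -- the sign and the shift of every row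
  have hrow : ∀ f : ↥W₁ →* ℂˣ, f ≠ 1 → X.sgn f = 1 ∧ X.kap f = 2 * (j : ℤ) := by
    intro f hf
    have e := Img.kap_spec X f
    rw [hdeg _ (X.theta_fixed hnt hf)] at e
    have e' : (v : ℤ) = X.sgn f + X.kap f * w := by
      apply Int.cast_injective (α := ℂ); push_cast; rw [hw]; exact e
    rw [hj] at e'
    push_cast at e'
    have hs : X.sgn f = 1 := by
      rcases X.sgn_pm f with es | es
      · exact es
      exfalso
      rw [es] at e'
      have hd : (w : ℤ) ∣ 2 := ⟨X.kap f - 2 * j, by linear_combination e'⟩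
      have := Int.le_of_dvd two_pos hd
      omega
    refine ⟨hs, mul_right_cancel₀ (show (w : ℤ) ≠ 0 by omega) ?_⟩
    rw [hs] at e'
    linear_combination -e'
  obtain ⟨c, hc'⟩ := hvdvd
  have hM := (h.memberT hT2).zok
  haveI := E.finite_left; haveI := E.swap.finite_left
  letI := Fintype.ofFinite (↥W₁ →* ℂˣ); letI := Fintype.ofFinite (↥W₂ →* ℂˣ)
  obtain ⟨f₀, hf₀⟩ : ∃ f : ↥W₁ →* ℂˣ, f ≠ 1 :=
    Fintype.exists_ne_of_one_lt_card (lt_of_lt_of_le (by norm_num) (E.three_le h.hG.1)) 1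
  obtain ⟨a, g₀, ha, hg₀, -, -, hdis, hzero⟩ := h.coords hT2 hc E hM
  have hnpos : 0 < n := Fintype.card_pos_iff.2 ⟨(h.memberT hT2).i₀⟩
  have hcodd : Odd c := by
    have h1 : Odd kn := by
      refine (hnt.odd (Cfsg.sigmaCore T)).of_dvd_nat ?_
      rw [hkn]; exact Subgroup.index_dvd_card _
    rw [hc'] at h1
    exact (Nat.odd_mul.1 h1).2
  have hneven : Even n := by
    have h1 : Odd kn := by rw [hc']; exact Odd.mul ⟨w * j, by rw [hj]; ring⟩ hcodd
    rw [hkn'] at h1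
    rcases Nat.even_or_odd n with he | ho
    · exact he
    · exact absurd h1 (Nat.not_odd_iff_even.2 ((ho.mul (hnt.odd W₂)).add_odd odd_one))
  -- the shift `g` of a row satisfies `n g² ≤ 2 k g`
  have hbound : ∀ {Z}, (hZ : (h.memberT hT2).ZOK Z) → ∀ f : ↥W₁ →* ℂˣ, f ≠ 1 → ∃ g : ℤ,
      Cfsg.classInner (X.image ((h.memberT hT2).xi (h.memberT hT2).i₀) f 1) (Z (h.memberT hT2).i₀) =
        ((g - X.kap f : ℤ) : ℂ) ∧ (n : ℤ) * g ^ 2 - 4 * j * g ≤ 0 := by
    intro Z hZ f hf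
    obtain ⟨g, hg, hle, -⟩ := (h.img hT2 hc E hZ).image_bound X hf
    refine ⟨g, hg, ?_⟩
    rw [(hrow f hf).2, ← hn] at hle
    obtain ⟨e, he⟩ := hneven
    have he' : (n : ℤ) = 2 * e := by rw [he]; push_cast; ring
    rw [he'] at hle ⊢
    have h2 : 2 * ((e : ℤ) * g ^ 2 - 2 * j * g) ≤ 1 := by linarith
    have : (e : ℤ) * g ^ 2 - 2 * j * g ≤ 0 := by omega
    linarith
  by_cases hc3 : 3 ≤ c
  · -- `[T' : T'']` larger than `v`: no shift, hence the coordinate is even
    exfalso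
    have hbig : (4 * j : ℤ) < n := by
      have h1 : 3 * v ≤ kn := by rw [hc', mul_comm 3 v]; exact Nat.mul_le_mul_left v hc3
      rw [hkn', hj] at h1
      by_contra hle
      push Not at hle
      have h2 : n ≤ 4 * j := by exact_mod_cast hle
      have h3 := Nat.mul_le_mul_right w h2
      nlinarith
    have hg : ∀ f : ↥W₁ →* ℂˣ, f ≠ 1 →
        Cfsg.classInner (X.image ((h.memberT hT2).xi (h.memberT hT2).i₀) f 1)
          ((h.memberT hT2).Z (h.memberT hT2).i₀) = -(X.kap f : ℂ) := by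
      intro f hf
      obtain ⟨g, hg, hle⟩ := hbound hM f hf
      have hg0 : g = 0 := by
        by_contra hne
        have hn0 : (0 : ℤ) ≤ n := by positivity
        rcases lt_or_gt_of_ne hne with hl | hl
        · nlinarith
        · nlinarith [mul_le_mul_of_nonneg_left (show (1 : ℤ) ≤ g by omega) hn0]
      rw [hg, hg0]; push_cast; ring
    have hrel := h.coord_relation hT2 hc E X hM hf₀ (ha f₀ hf₀) hg₀ (hg f₀ hf₀)
    rw [(hrow f₀ hf₀).1, (hrow f₀ hf₀).2, one_mul] at hrel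
    have ha0 : a = 0 := by
      rcases hdis with e | ⟨e, -⟩
      · exact e
      · exfalso; rw [e] at hrel
        have h2 : (2 : ℤ) ∣ 1 := ⟨(j : ℤ) * g₀, by rw [hrel]; ring⟩
        norm_num at h2
    have hg00 : g₀ = 0 := by
      rw [ha0] at hrel
      rcases mul_eq_zero.1 hrel.symm with e | e
      · omega
      · exact e
    exact h.impossible_zero hT2 hc E X hM (by rw [hg₀, hg00, Int.cast_zero]) hg (hzero ha0).2.2
  -- `[T' : T''] = v`
  have hc1 : c = 1 := by obtain ⟨i, hi⟩ := hcodd; omega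
  subst hc1
  rw [mul_one] at hc'
  have hnk : (n : ℤ) = 2 * j := by
    have h1 : n * w = 2 * j * w := by rw [hc', hj] at hkn'; linarith
    have h2 := Nat.eq_of_mul_eq_mul_right (by omega) h1
    exact_mod_cast h2
  rcases hdis with ha0 | ⟨ha1, hbud⟩
  swap
  · obtain ⟨Q, D, hS, hD⟩ := hside hc'
    have hb : (Nat.card W₁ : ℤ) - 1 + Nat.card W₁ *
        ∑ g ∈ Finset.univ.erase (1 : ↥W₂ →* ℂˣ), E.coef (h.memberT hT2).beta 1 g ^ 2 ≤ (w : ℤ) - 1 := by
      rw [hw]
      convert hbud using 6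
    have hq3 : (3 : ℤ) ≤ Nat.card W₁ := by rw [← E.card_left]; exact_mod_cast E.three_le h.hG.1
    have hcard : ((Finset.univ.erase (1 : ↥W₂ →* ℂˣ)).card : ℤ) = (w : ℤ) - 1 := by
      rw [Finset.card_erase_of_mem (Finset.mem_univ _), Finset.card_univ, E.swap.card_left, Nat.cast_sub Nat.card_pos,
        Nat.cast_one]
    have hb0 : ∀ g : ↥W₂ →* ℂˣ, g ≠ 1 → E.coef (h.memberT hT2).beta 1 g = 0 := by
      intro g hg
      by_contra hne'
      have hc1 : ∀ g' ∈ Finset.univ.erase (1 : ↥W₂ →* ℂˣ), (1 : ℤ) ≤ E.coef (h.memberT hT2).beta 1 g' ^ 2 :=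
        fun g' hg' => by
          rw [(h.memberT hT2).coef_right_const E h.hG.1 (h.disj_mixed hT2 hc) hwp (Finset.ne_of_mem_erase hg') hg,
            ← sq_abs]
          exact one_le_pow₀ (Int.one_le_abs hne')
      have h2 := Finset.card_nsmul_le_sum _ _ (1 : ℤ) hc1
      rw [nsmul_eq_mul, mul_one, hcard] at h2
      have hw' : (3 : ℤ) ≤ w := by exact_mod_cast hw3
      nlinarith [mul_le_mul_of_nonneg_left h2 (show (0 : ℤ) ≤ Nat.card W₁ by linarith)]
    have hqp : Nat.card W₁ < Nat.card W₂ := by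
      have h1 : (Nat.card W₁ : ℤ) ≤ w := by
        have h0 : (0 : ℤ) ≤ ∑ g ∈ Finset.univ.erase (1 : ↥W₂ →* ℂˣ), E.coef (h.memberT hT2).beta 1 g ^ 2 :=
          Finset.sum_nonneg fun g _ => sq_nonneg _
        nlinarith [mul_nonneg (show (0 : ℤ) ≤ Nat.card W₁ by linarith) h0]
      refine lt_of_le_of_ne (by exact_mod_cast h1) hS.hpq
    exact ⟨hne, hwp, hqp, Q, D, hS, hD.trans hc'.symm, hc' ▸ hvmod, fun f hf => (ha f hf).trans ha1, hb0⟩
  -- coordinate `0`: flip if necessary, then every shift is even, hence zero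
  exfalso
  obtain ⟨hng, -, -⟩ := hzero ha0
  obtain ⟨Z, hZ, hg₀'⟩ : ∃ Z, (h.memberT hT2).ZOK Z ∧
      Cfsg.classInner (h.memberT hT2).beta (Z (h.memberT hT2).i₀) + 1 = 0 := by
    by_cases h0 : g₀ = 0
    · exact ⟨_, hM, by rw [hg₀, h0, Int.cast_zero]⟩
    have hng' : (n : ℤ) * g₀ = 2 := mul_right_cancel₀ h0 (by linear_combination hng)
    have hn2 : (2 : ℤ) ≤ n := by obtain ⟨e, he⟩ := hneven; omega
    have hg1 : g₀ = 1 := by
      rcases lt_trichotomy g₀ 1 with hl | hl | hl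
      · exfalso; nlinarith
      · exact hl
      · exfalso; nlinarith
    rw [hg1, mul_one] at hng'
    have hn2' : n = 2 := by exact_mod_cast hng'
    refine ⟨_, h.flip_ok hT2 hn2' hM, ?_⟩
    have hcj : Cfsg.conjFun ((h.memberT hT2).Z (h.memberT hT2).i₀) =
        (h.memberT hT2).Z ((h.memberT hT2).bar (h.memberT hT2).i₀) := (h.memberT hT2).Z_conj _
    rw [hg1, Int.cast_one] at hg₀
    rw [classInner_neg_right, hcj, (h.memberT hT2).beta_coord, h.memberT_deg hT2, Nat.cast_one, one_mul, hg₀,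
      if_neg ((h.memberT hT2).bar_ne _)]
    norm_num
  obtain ⟨a', g', ha', hg', -, -, -, hzero'⟩ := h.coords hT2 hc E hZ
  have ha'0 : a' = 0 := (ha' f₀ hf₀).symm.trans ((ha f₀ hf₀).trans ha0)
  obtain ⟨-, hb1, hL0⟩ := hzero' ha'0
  have hi := h.img hT2 hc E hZ
  -- the basic function is exact
  set S₀ : G → ℂ := ∑ g : ↥W₂ →* ℂˣ, E.eta 1 g with hS₀
  have hcoef : ∀ g : ↥W₂ →* ℂˣ, Cfsg.classInner (h.memberT hT2).beta (E.eta 1 g) = 1 := fun g => by
    by_cases hg : g = 1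
    · rw [hg, E.one, (h.memberT hT2).beta_one]
    · rw [E.coef_spec (h.memberT hT2).beta_gen, hb1 g hg, Int.cast_one]
  have hβ : (h.memberT hT2).beta = S₀ - Z (h.memberT hT2).i₀ := by
    refine sub_eq_zero.1 ((classInner_self_eq_zero _).1 ?_)
    have hn1 : Cfsg.classInner (h.memberT hT2).beta (h.memberT hT2).beta = (w : ℂ) + 1 := by
      rw [(h.memberT hT2).beta_norm, show (h.memberT hT2).e = w from (h.memberT_card hT2).1]; push_cast; rfl
    have hz : Cfsg.classInner (h.memberT hT2).beta (Z (h.memberT hT2).i₀) = -1 := by linear_combination hg₀'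
    have hz' : Cfsg.classInner (Z (h.memberT hT2).i₀) (h.memberT hT2).beta = -1 := by rw [← classInner_conj_symm, hz]; simp
    have hs : Cfsg.classInner (h.memberT hT2).beta S₀ = (w : ℂ) := by
      rw [hS₀, classInner_sum_right, Finset.sum_congr rfl fun g _ => hcoef g, Finset.sum_const, Finset.card_univ,
        E.swap.card_left, nsmul_one]
    have hs' : Cfsg.classInner S₀ (h.memberT hT2).beta = (w : ℂ) := by rw [← classInner_conj_symm, hs, map_natCast]
    have hss : Cfsg.classInner S₀ S₀ = (w : ℂ) := by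
      rw [hS₀, classInner_sum_left, Finset.sum_congr rfl (g := fun _ => (1 : ℂ)) fun g _ => ?_, Finset.sum_const,
        Finset.card_univ, E.swap.card_left, nsmul_one]
      rw [classInner_sum_right, Finset.sum_eq_single g (fun g' _ hne => E.orth _ _ _ _ fun e => hne e.2.symm)
        fun hh => absurd (Finset.mem_univ _) hh, E.norm_one]
    have hzs : Cfsg.classInner (Z (h.memberT hT2).i₀) S₀ = 0 := by
      rw [hS₀, classInner_sum_right]; exact Finset.sum_eq_zero fun g _ => hi.perp _ _ _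
    have hsz : Cfsg.classInner S₀ (Z (h.memberT hT2).i₀) = 0 := by rw [← classInner_conj_symm, hzs, map_zero]
    have hzz : Cfsg.classInner (Z (h.memberT hT2).i₀) (Z (h.memberT hT2).i₀) = 1 := hi.fam.Z_norm₀
    simp only [classInner_sub_left, classInner_sub_right, hn1, hz, hz', hs, hs', hss, hzs, hsz, hzz]
    ring
  refine h.impossible_zero hT2 hc E X hZ hg₀' (fun f hf => ?_) hL0
  obtain ⟨g, hg, hle, hz⟩ := hi.image_bound X hf
  obtain ⟨g'', hg'', hle'⟩ := hbound hZ f hf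
  have hgg : g'' = g := by
    have := Int.cast_injective (hg''.symm.trans hg)
    omega
  subst hgg
  obtain ⟨hs, hk⟩ := hrow f hf
  set F := X.image ((h.memberT hT2).xi (h.memberT hT2).i₀) f 1 with hF
  set cf : (↥W₂ →* ℂˣ) → ℤ := fun g => E.coef F 1 g
  have hFgen := hi.image_gen X f 1
  have hsum : ∑ g ∈ Finset.univ.erase (1 : ↥W₂ →* ℂˣ), cf g = g'' := by
    have e := hi.image_beta X hf
    rw [← h.beta_eq hT2, hβ, classInner_sub_right, hS₀, classInner_sum_right,
      ← Finset.add_sum_erase _ _ (Finset.mem_univ (1 : ↥W₂ →* ℂˣ)), E.one, hi.image_one X hf, hg,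
      Finset.sum_congr rfl (g := fun g => (cf g : ℂ)) fun g _ => E.coef_spec hFgen 1 g] at e
    apply Int.cast_injective (α := ℂ)
    push_cast at e ⊢
    linear_combination e
  have hev : Even g'' := by
    have := h.even_sum cf fun g hg => hi.image_sym X hf hg
    rw [← hsum]
    convert this using 3
  have h02 : g'' = 0 := by
    have hjpos : (0 : ℤ) < j := by exact_mod_cast hj0
    rw [hnk] at hle'
    have h1 : g'' * (g'' - 2) ≤ 0 := by
      by_contra hh
      push Not at hh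
      nlinarith
    have h2 : 0 ≤ g'' ∧ g'' ≤ 2 := by
      constructor <;> by_contra hh <;> push Not at hh <;> nlinarith
    obtain ⟨i, hi'⟩ := hev
    by_contra hne2
    have hg2 : g'' = 2 := by omega
    have hz' := hz (by rw [← hn, hnk, hk, hg2]; ring)
    have hall : ∀ g ∈ Finset.univ.erase (1 : ↥W₂ →* ℂˣ), cf g = 0 := fun g hg' => by
      refine zInner_eq ?_
      rw [hz', if_neg (Finset.ne_of_mem_erase hg'), Int.cast_zero]
    rw [Finset.sum_eq_zero hall] at hsum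
    omega
  rw [hg, h02]
  push_cast; ring

end Pair

end Cfsg.Agent.Grp.FT
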