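import Cfsg.Agent.Lib.Grp.FT.EndCases
import Cfsg.Agent.Lib.Grp.FT.NonTwoCases
import Cfsg.Agent.Lib.Grp.FT.Final

/-!
There is no minimal simple group of odd order, and hence every group of odd order is solvable.
-/

set_option autoImplicit false
set_option linter.unusedSectionVars false
set_option linter.style.haveILetI false

namespace Cfsg.Agent.Grp.FT

open Subgroup

attribute [local instance] _root_.Classical.propDecidable

universe u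

variable {G : Type u} [Group G] [Fintype G] {S T W₁ W₂ : Subgroup G}

theorem Pair.grid (h : Pair S T W₁ W₂) {P U C : Subgroup G} {p q : ℕ} (hs : Side S P U C W₁ W₂ p q) :
    Nonempty (Grid W₁ W₂) :=
  exists_grid hs.self (h.hG.1.of_dvd_nat (Subgroup.card_subgroup_dvd_card _))

theorem Pair.false_two (h : Pair S T W₁ W₂) (hT : Cfsg.IsOfTypeII T) (hlt : Nat.card W₁ < Nat.card W₂) :
    False := by
  obtain ⟨U, C, L, hs, hU, a₁, a₂, a₃, a₄, a₅, a₆, a₇, a₈, a₉, a₁₀⟩ := h.side_over_comm (h.prime₂_of_typeII hT)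
  have h' := h.symm_of_typeII hT
  obtain ⟨V, D, L', ht, hV, b₁, b₂, b₃, b₄, b₅, b₆, b₇, b₈, b₉, b₁₀⟩ := h'.side_over_comm h.prime₁
  obtain ⟨𝓛₀, hc₀⟩ := h.exists_cover
  obtain ⟨𝓛, hc, hLm⟩ := h.exists_cover_mem hc₀ a₁ a₂
  obtain ⟨E⟩ := h.grid hs
  exact h.endgame_two hs hU ⟨a₁, a₂, a₃, a₄, a₅, a₆, a₇, a₈, a₉, a₁₀⟩ hc hLm E hlt hT ht hV
    (L' := L') ⟨b₁, b₂, b₃, b₄, b₅, b₆, b₇, b₈, b₉, b₁₀⟩

theorem Pair.false_surv (h : Pair S T W₁ W₂) (hT2 : Cfsg.IsSigmaDecomposition T W₂ ⊥) : False := by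
  obtain ⟨𝓛₀, hc₀⟩ := h.exists_cover
  obtain ⟨E'⟩ := exists_grid (h.nonTwo hT2).self (h.hG.1.of_dvd_nat (Subgroup.card_subgroup_dvd_card _))
  set E := E'.swap
  obtain ⟨-, hp, hlt, Q, D, ht, hv, -, ha, hb⟩ := h.nonTwo_cases hT2 hc₀ E
  obtain ⟨U, C, L, hs, hU, a₁, a₂, a₃, a₄, a₅, a₆, a₇, a₈, a₉, a₁₀⟩ := h.side_over_comm hp
  obtain ⟨𝓛, hc, hLm⟩ := h.exists_cover_mem hc₀ a₁ a₂
  refine h.endgame_surv hs hU ⟨a₁, a₂, a₃, a₄, a₅, a₆, a₇, a₈, a₉, a₁₀⟩ hc hLm E hlt hT2 ht ?_ ha hb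
  rw [hv, (h.memberT_card hT2).2, h.sigmaCore_T hT2]

/-- There is no minimal simple group of odd order. -/
theorem noMinSimpleOdd (G : Type u) [Group G] [Finite G] (hG : Cfsg.IsMinSimpleOddOrder G) : False := by
  letI := Fintype.ofFinite G
  obtain ⟨S, T, W₁, W₂, h⟩ := exists_pair hG
  rcases h.cases_T with ⟨hT, -⟩ | ⟨hT2, -⟩
  · obtain ⟨U, C, L, hs, -⟩ := h.side_over_comm (h.prime₂_of_typeII hT)
    rcases Nat.lt_or_gt_of_ne hs.hpq with hlt | hlt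
    · exact (h.symm_of_typeII hT).false_two h.typeII hlt
    · exact h.false_two hT hlt
  · exact h.false_surv hT2

end Cfsg.Agent.Grp.FT
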