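import Mathlib

/-!
The numerical lemmas at the end of the odd order theorem.
-/

set_option autoImplicit false
set_option maxHeartbeats 1000000

namespace Cfsg.Agent.Grp.FT.Arith

open Finset

variable {p q u c v d h : ℕ}

theorem gsum_mul (p q : ℕ) (hp : 1 ≤ p) : (∑ i ∈ range q, p ^ i) * (p - 1) = p ^ q - 1 := by
  zify [hp, Nat.one_le_pow q p hp]
  exact geom_sum_mul (p : ℤ) q

theorem pow_le_gsum (p : ℕ) {q : ℕ} (hq : 1 ≤ q) : p ^ (q - 1) ≤ ∑ i ∈ range q, p ^ i :=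
  single_le_sum (f := fun i => p ^ i) (fun _ _ => Nat.zero_le _) (mem_range.2 (by omega))

/-- A congruence of a product gives one of a factor. -/
theorem cofactor {m a k : ℕ} (ha : 1 ≤ a) (hk : 1 ≤ k) (h1 : m ∣ a - 1) (h2 : m ∣ a * k - 1) : m ∣ k - 1 := by
  obtain ⟨a, rfl⟩ := Nat.exists_eq_add_of_le ha
  obtain ⟨k, rfl⟩ := Nat.exists_eq_add_of_le hk
  rw [Nat.add_sub_cancel_left] at h1 ⊢
  rw [show (1 + a) * (1 + k) - 1 = a * (1 + k) + k by rw [Nat.add_mul, one_mul]; omega] at h2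
  exact (Nat.dvd_add_right (h1.mul_right _)).1 h2

theorem modEq_of_dvd_sub {m a : ℕ} (ha : 1 ≤ a) (h : m ∣ a - 1) : (a : ZMod m) = 1 := by
  have h' := (ZMod.natCast_eq_zero_iff (a - 1) m).2 h
  rwa [Nat.cast_sub ha, Nat.cast_one, sub_eq_zero] at h'

theorem dvd_sub_of_modEq {m a : ℕ} (ha : 1 ≤ a) (h : (a : ZMod m) = 1) : m ∣ a - 1 := by
  rw [← ZMod.natCast_eq_zero_iff, Nat.cast_sub ha, Nat.cast_one, h, sub_self]

theorem two_dvd_sub (hp : p ≠ 2) (hpp : p.Prime) : 2 ∣ p - 1 := by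
  obtain ⟨k, hk⟩ := hpp.odd_of_ne_two hp
  exact ⟨k, by omega⟩

theorem gsum_one_mod (p : ℕ) {q : ℕ} (hq : 1 ≤ q) : ((∑ i ∈ range q, p ^ i : ℕ) : ZMod p) = 1 := by
  obtain ⟨n, rfl⟩ := Nat.exists_eq_add_of_le hq
  rw [add_comm 1 n, sum_range_succ']
  simp

theorem gsum_odd (hpp : p.Prime) (hp : p ≠ 2) (hqq : q.Prime) (hq : q ≠ 2) :
    2 ∣ (∑ i ∈ range q, p ^ i) - 1 := by
  refine dvd_sub_of_modEq ?_ ?_
  · exact le_trans (Nat.one_le_pow _ _ hpp.pos) (pow_le_gsum p hqq.one_le)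
  · have h1 := modEq_of_dvd_sub hpp.one_le (two_dvd_sub hp hpp)
    have h2 := modEq_of_dvd_sub hqq.one_le (two_dvd_sub hq hqq)
    push_cast
    simp [h1, h2]

/-- The standing hypotheses on the two primes. -/
structure Primes (p q : ℕ) : Prop where
  hp : p.Prime
  hq : q.Prime
  q_odd : q ≠ 2
  lt : q < p

namespace Primes

variable (hpq : Primes p q)
include hpq

theorem q3 : 3 ≤ q := by have := hpq.hq.two_le; have := hpq.q_odd; omega
theorem p5 : 5 ≤ p := by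
  have h1 := hpq.q3
  have h2 := hpq.lt
  by_contra hlt
  obtain rfl : p = 4 := by omega
  exact absurd hpq.hp (by norm_num)
theorem p_odd : p ≠ 2 := by have := hpq.p5; omega
theorem q5 (h : q ≠ 3) : 5 ≤ q := by
  by_contra hlt
  have := hpq.q3
  obtain rfl : q = 4 := by omega
  exact absurd hpq.hq (by norm_num)
theorem q_eq (h : p = 5) : q = 3 := by
  by_contra h3
  have := hpq.q5 h3; have := hpq.lt; omega
theorem p7 (h : q ≠ 3) : 7 ≤ p := by
  have := hpq.q5 h; have := hpq.lt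
  by_contra hlt
  obtain rfl : p = 6 := by omega
  exact absurd hpq.hp (by norm_num)

/-- `(q ^ p - 1) / (q - 1)` is `1` modulo `2 p`. -/
theorem dual_mod : 2 * p ∣ (∑ i ∈ range p, q ^ i) - 1 := by
  haveI := Fact.mk hpq.hp
  refine Nat.Coprime.mul_dvd_of_dvd_of_dvd ((Nat.coprime_primes Nat.prime_two hpq.hp).2 hpq.p_odd.symm)
    (gsum_odd hpq.hq hpq.q_odd hpq.hp hpq.p_odd) (dvd_sub_of_modEq ?_ ?_)
  · exact le_trans (Nat.one_le_pow _ _ hpq.hq.pos) (pow_le_gsum q hpq.hp.one_le)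
  · have h1 : (q : ZMod p) ≠ 1 := fun e => by
      have h2 := Nat.le_of_dvd (by have := hpq.hq.two_le; omega) (dvd_sub_of_modEq hpq.hq.one_le e)
      have := hpq.lt; omega
    have h3 := congrArg (Nat.cast : ℕ → ZMod p) (gsum_mul q p hpq.hq.one_le)
    rw [Nat.cast_mul, Nat.cast_sub hpq.hq.one_le, Nat.cast_sub (Nat.one_le_pow _ _ hpq.hq.pos), Nat.cast_pow,
      Nat.cast_one, ZMod.pow_card] at h3
    exact (mul_eq_right₀ (sub_ne_zero.2 h1)).1 h3

theorem dual_q_mod : q ∣ (∑ i ∈ range p, q ^ i) - 1 :=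
  dvd_sub_of_modEq (le_trans (Nat.one_le_pow _ _ hpq.hq.pos) (pow_le_gsum q hpq.hp.one_le))
    (gsum_one_mod q hpq.hp.one_le)

theorem dual_ge : 81 ≤ ∑ i ∈ range p, q ^ i :=
  le_trans ((Nat.pow_le_pow_left hpq.q3 4).trans (Nat.pow_le_pow_right hpq.hq.pos (by have := hpq.p5; omega)))
    (pow_le_gsum q hpq.hp.one_le)

theorem dual_ge_mul : 27 * q ≤ ∑ i ∈ range p, q ^ i := by
  refine le_trans ?_ (le_trans (Nat.pow_le_pow_right hpq.hq.pos (show 4 ≤ p - 1 by have := hpq.p5; omega))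
    (pow_le_gsum q hpq.hp.one_le))
  rw [show q ^ 4 = q ^ 3 * q by ring]
  exact Nat.mul_le_mul_right _ (Nat.pow_le_pow_left hpq.q3 3)

/-- The numbers of a side: `u` and the weight `WS`. -/
theorem u_ge (hu1 : 1 < u) (hu : 2 * q ∣ u - 1) : 2 * q + 1 ≤ u := by
  have := Nat.le_of_dvd (by omega) hu
  omega

theorem v_ge (hv1 : 1 < v) (hv : 2 * p ∣ v - 1) : 2 * p + 1 ≤ v := by
  have := Nat.le_of_dvd (by omega) hv
  omega

/-- The small values of `u`. -/
theorem u_small (hu1 : 1 < u) (hu : 2 * q ∣ u - 1)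
    (hS : u ∣ (∑ i ∈ range q, p ^ i) ∨ ∃ a, p = 2 * a + 1 ∧ u ∣ a ^ (q - 1)) :
    (p = 5 → 31 ≤ u) ∧ (p = 7 → 11 ≤ u) := by
  have h2 := hpq.u_ge hu1 hu
  refine ⟨?_, ?_⟩ <;> intro hp
  · obtain rfl := hpq.q_eq hp
    subst hp
    rcases hS with h | ⟨a, ha, h⟩
    · rcases (Nat.dvd_prime (by norm_num : Nat.Prime 31)).1 (by simpa [sum_range_succ] using h) with rfl | rfl <;> omega
    · obtain rfl : a = 2 := by omega
      have := Nat.le_of_dvd (by norm_num) h
      norm_num at this; omega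
  · by_cases hq3 : q = 3
    · subst hq3 hp
      by_contra hlt
      have h7 : u = 7 := by
        obtain ⟨k, hk⟩ := hu
        omega
      subst h7
      rcases hS with h | ⟨a, ha, h⟩
      · simp [sum_range_succ] at h
      · obtain rfl : a = 3 := by omega
        norm_num at h
    · have := hpq.q5 hq3; omega

end Primes

/-- `u / WS ≤ 1 / (p - 1)`. -/
theorem div_weight_le {WS : ℕ} (hp : 2 ≤ p) (hu : 0 < u) (hW : (p - 1) * u ≤ WS) :
    (u : ℝ) / WS ≤ 1 / ((p : ℝ) - 1) := by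
  have hp' : (2 : ℝ) ≤ p := by exact_mod_cast hp
  have hWpos : 0 < WS := lt_of_lt_of_le (Nat.mul_pos (by omega) hu) hW
  have h1 : (((p - 1) * u : ℕ) : ℝ) ≤ (WS : ℝ) := by exact_mod_cast hW
  rw [Nat.cast_mul, Nat.cast_sub (by omega), Nat.cast_one] at h1
  rw [div_le_div_iff₀ (by exact_mod_cast hWpos) (by linarith)]
  linarith

theorem nonGalois_bound (hp : 7 ≤ p) : 128 * p ^ 2 ≤ 49 * 2 ^ p := by
  induction p, hp using Nat.le_induction with
  | base => norm_num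
  | succ n hn ih =>
    rw [pow_succ 2 n]
    nlinarith

/-- The first inequality forces `T` to be Galois with `v` maximal and `d = 1`. -/
theorem ineqI {WS WT : ℕ} {GT : Prop} {eT : ℝ} (hpq : Primes p q) (hu1 : 1 < u) (hu : 2 * q ∣ u - 1)
    (hc : 1 ≤ c) (hv1 : 1 < v) (hv : 2 * p ∣ v - 1) (hd0 : 1 ≤ d) (hd : 2 * p ∣ d - 1)
    (hS : u ∣ (∑ i ∈ range q, p ^ i) ∨ ∃ a, p = 2 * a + 1 ∧ u ∣ a ^ (q - 1))
    (hWS : (p - 1) * u ≤ WS)
    (hT : (GT ∧ v ∣ (∑ i ∈ range p, q ^ i) ∧ WT = d * (q ^ p - 1)) ∨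
      (¬ GT ∧ (∃ b, q = 2 * b + 1 ∧ v ∣ b ^ (p - 1)) ∧ d * (q - 1) ^ p ≤ WT))
    (he : eT ≤ (q : ℝ) / v) (he0 : GT → d = 1 → eT ≤ 0)
    (hineq : (p : ℝ) * (1 - (u : ℝ) / WS) ≤
      (p : ℝ) / (u * c) + eT + (p : ℝ) ^ 2 * q * v / WT + (p : ℝ) / ((p : ℝ) ^ q * u * c)) :
    GT ∧ v = (∑ i ∈ range p, q ^ i) ∧ d = 1 := by
  have hp5 := hpq.p5
  have hq3 := hpq.q3
  have hlt := hpq.lt
  have hP5 : (5 : ℝ) ≤ p := by exact_mod_cast hp5
  have hQ3 : (3 : ℝ) ≤ q := by exact_mod_cast hq3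
  have hP1 : (0 : ℝ) < (p : ℝ) - 1 := by linarith
  have hQ1 : (0 : ℝ) < (q : ℝ) - 1 := by linarith
  have hU : (2 * q + 1 : ℝ) ≤ u := by exact_mod_cast hpq.u_ge hu1 hu
  have hV : (2 * p + 1 : ℝ) ≤ v := by exact_mod_cast hpq.v_ge hv1 hv
  have hC : (1 : ℝ) ≤ c := by exact_mod_cast hc
  have hl := div_weight_le (by omega) (by omega) hWS
  have huc : (u : ℝ) ≤ u * c := le_mul_of_one_le_right (by linarith) hC
  have h1 : (p : ℝ) / (u * c) ≤ p / u := div_le_div_of_nonneg_left (by linarith) (by linarith) huc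
  have hpw : (125 : ℝ) ≤ (p : ℝ) ^ q := le_trans (by norm_num : (125 : ℝ) ≤ 5 ^ 3)
    ((pow_le_pow_left₀ (by norm_num) hP5 3).trans (pow_le_pow_right₀ (by linarith) hq3))
  have h2 : (p : ℝ) / ((p : ℝ) ^ q * u * c) ≤ p / (125 * u) := by
    refine div_le_div_of_nonneg_left (by linarith) (by linarith) ?_
    rw [mul_assoc]
    exact mul_le_mul hpw huc (by linarith) (by linarith)
  have hlhs : (p : ℝ) - p / ((p : ℝ) - 1) ≤ (p : ℝ) * (1 - (u : ℝ) / WS) := by
    have := mul_le_mul_of_nonneg_left hl (show (0 : ℝ) ≤ p by linarith)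
    rw [mul_one_div] at this
    linarith
  by_contra hgoal
  rcases hT with ⟨hG, hvN, rfl⟩ | ⟨-, ⟨b, rfl, hvb⟩, hWT⟩
  · set N := ∑ i ∈ range p, q ^ i with hN
    obtain ⟨k, hk⟩ := hvN
    have hk0 : 1 ≤ k := by
      rcases Nat.eq_zero_or_pos k with rfl | h0
      · have := hpq.dual_ge; rw [← hN, hk] at this; omega
      · exact h0
    have hkd : 2 * p ∣ k - 1 := cofactor (by omega) hk0 hv (hk ▸ hpq.dual_mod)
    have hN27 : (27 * q : ℝ) ≤ (v : ℝ) * k := by
      rw [← Nat.cast_mul, ← hk]; exact_mod_cast hpq.dual_ge_mul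
    have hWTeq : ((d * (q ^ p - 1) : ℕ) : ℝ) = (d : ℝ) * ((q : ℝ) - 1) * (v * k) := by
      rw [← gsum_mul q p (by omega), ← hN, hk, Nat.cast_mul, Nat.cast_mul, Nat.cast_mul,
        Nat.cast_sub (by omega), Nat.cast_one]
      ring
    have hK : (1 : ℝ) ≤ k := by exact_mod_cast hk0
    have hD : (1 : ℝ) ≤ d := by exact_mod_cast hd0
    have hV0 : (v : ℝ) ≠ 0 := by linarith
    have hterm : (p : ℝ) ^ 2 * q * v / ((d * (q ^ p - 1) : ℕ) : ℝ) =
        (p : ℝ) ^ 2 * ((q : ℝ) / ((q : ℝ) - 1)) / (d * k) := by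
      rw [hWTeq]
      field_simp
    have hX : (p : ℝ) ^ 2 * ((q : ℝ) / ((q : ℝ) - 1)) ≤ 3 / 2 * (p : ℝ) ^ 2 := by
      rw [mul_comm (3 / 2 : ℝ)]
      refine mul_le_mul_of_nonneg_left ?_ (by positivity)
      rw [div_le_iff₀ hQ1]; linarith
    -- the sum of the two middle terms
    have hmid : eT + (p : ℝ) ^ 2 * q * v / ((d * (q ^ p - 1) : ℕ) : ℝ) ≤
        1 / 27 + 3 / 2 * (p : ℝ) ^ 2 / (2 * p + 1) := by
      have hP21 : (0 : ℝ) < 2 * p + 1 := by linarith
      rw [hterm]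
      have hstep : ∀ m : ℝ, 2 * p + 1 ≤ m → (p : ℝ) ^ 2 * ((q : ℝ) / ((q : ℝ) - 1)) / m ≤
          3 / 2 * (p : ℝ) ^ 2 / (2 * p + 1) := fun m hm =>
        (div_le_div_of_nonneg_left (by positivity) hP21 hm).trans (div_le_div_of_nonneg_right hX hP21.le)
      rcases Nat.lt_or_ge 1 d with hd1 | hd1
      · have hD' : (2 * p + 1 : ℝ) ≤ d := by exact_mod_cast hpq.v_ge hd1 hd
        rcases Nat.lt_or_ge 1 k with hk1 | hk1
        · have hK' : (2 * p + 1 : ℝ) ≤ k := by exact_mod_cast hpq.v_ge hk1 hkd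
          have he' : eT ≤ (q : ℝ) / (2 * p + 1) :=
            he.trans (div_le_div_of_nonneg_left (by linarith) hP21 hV)
          have hqp : (q : ℝ) ≤ p := by exact_mod_cast hlt.le
          have h3 : (p : ℝ) ^ 2 * ((q : ℝ) / ((q : ℝ) - 1)) / (d * k) ≤ 3 / 2 * (p : ℝ) ^ 2 / ((2 * p + 1) * (2 * p + 1)) :=
            (div_le_div_of_nonneg_left (by positivity) (by positivity) (mul_le_mul hD' hK' hP21.le (by linarith))).trans
              (div_le_div_of_nonneg_right hX (by positivity))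
          have h4 : (q : ℝ) / (2 * p + 1) + 3 / 2 * (p : ℝ) ^ 2 / ((2 * p + 1) * (2 * p + 1)) ≤
              3 / 2 * (p : ℝ) ^ 2 / (2 * p + 1) := by
            rw [div_add_div _ _ hP21.ne' (by positivity), div_le_div_iff₀ (by positivity) hP21]
            have h5 : (q : ℝ) * (2 * p + 1) + 3 / 2 * (p : ℝ) ^ 2 ≤ 3 / 2 * (p : ℝ) ^ 2 * (2 * p + 1) := by
              nlinarith [mul_le_mul_of_nonneg_right hqp hP21.le]
            nlinarith [mul_le_mul_of_nonneg_right h5 (mul_nonneg hP21.le hP21.le)]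
          linarith
        · obtain rfl : k = 1 := by omega
          rw [mul_one] at hk
          have he' : eT ≤ 1 / 27 := he.trans (by
            rw [div_le_div_iff₀ (by linarith) (by norm_num)]
            simpa [mul_comm] using hN27)
          rw [Nat.cast_one, mul_one]
          have := hstep _ hD'
          linarith
      · obtain rfl : d = 1 := by omega
        have he' := he0 hG rfl
        rcases Nat.lt_or_ge 1 k with hk1 | hk1
        · rw [Nat.cast_one, one_mul]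
          have := hstep (k : ℝ) (by exact_mod_cast hpq.v_ge hk1 hkd)
          linarith
        · obtain rfl : k = 1 := by omega
          exact absurd ⟨hG, by rw [hk, mul_one], rfl⟩ hgoal
    have key : (p : ℝ) / u + p / (125 * u) + (1 / 27 + 3 / 2 * (p : ℝ) ^ 2 / (2 * p + 1)) <
        p - p / ((p : ℝ) - 1) := by
      obtain ⟨hs5, hs7⟩ := hpq.u_small hu1 hu hS
      have hu' : (p : ℝ) / u + p / (125 * u) = 126 / 125 * p / u := by field_simp; norm_num
      rw [hu']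
      by_cases hp7 : 8 ≤ p
      · have hP8 : (8 : ℝ) ≤ p := by exact_mod_cast hp7
        have a1 : 126 / 125 * (p : ℝ) / u ≤ 126 / 125 * p / 7 :=
          div_le_div_of_nonneg_left (by positivity) (by norm_num) (by linarith)
        have a2 : 3 / 2 * (p : ℝ) ^ 2 / (2 * p + 1) ≤ 3 / 4 * p - 7 / 20 := by
          rw [div_le_iff₀ (by linarith)]; nlinarith
        have a3 : (p : ℝ) / ((p : ℝ) - 1) ≤ 8 / 7 := by rw [div_le_iff₀ hP1]; linarith
        linarith
      · rcases (show p = 5 ∨ p = 6 ∨ p = 7 by omega) with rfl | rfl | rfl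
        · have : (31 : ℝ) ≤ u := by exact_mod_cast hs5 rfl
          have a1 : 126 / 125 * ((5 : ℕ) : ℝ) / u ≤ 126 / 125 * ((5 : ℕ) : ℝ) / 31 :=
            div_le_div_of_nonneg_left (by positivity) (by norm_num) this
          norm_num at a1 ⊢
          linarith
        · exact absurd hpq.hp (by norm_num)
        · have : (11 : ℝ) ≤ u := by exact_mod_cast hs7 rfl
          have a1 : 126 / 125 * ((7 : ℕ) : ℝ) / u ≤ 126 / 125 * ((7 : ℕ) : ℝ) / 11 :=
            div_le_div_of_nonneg_left (by positivity) (by norm_num) this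
          norm_num at a1 ⊢
          linarith
    linarith
  · have hb2 : 2 ≤ b := by
      by_contra hb
      obtain rfl : b = 1 := by omega
      rw [one_pow, Nat.dvd_one] at hvb
      omega
    have hp7 : 7 ≤ p := hpq.p7 (by omega)
    have hB : (2 : ℝ) ≤ b := by exact_mod_cast hb2
    have hP7 : (7 : ℝ) ≤ p := by exact_mod_cast hp7
    have hQ : ((2 * b + 1 : ℕ) : ℝ) = 2 * b + 1 := by push_cast; rfl
    rw [show 2 * b + 1 - 1 = 2 * b by omega] at hWT
    have hbd : ((2 * b) ^ p : ℝ) ≤ WT := by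
      have h3 : (2 * b) ^ p ≤ WT := le_trans (Nat.le_mul_of_pos_left _ hd0) hWT
      exact_mod_cast h3
    have hvle : (v : ℝ) ≤ (b : ℝ) ^ (p - 1) := by
      exact_mod_cast Nat.le_of_dvd (pow_pos (by omega) _) hvb
    have hterm : (p : ℝ) ^ 2 * ((2 * b + 1 : ℕ) : ℝ) * v / WT ≤ 1 := by
      have hW0 : (0 : ℝ) < WT := lt_of_lt_of_le (by positivity) hbd
      rw [div_le_one hW0]
      refine le_trans ?_ hbd
      refine le_trans (mul_le_mul_of_nonneg_left hvle (by positivity)) ?_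
      rw [hQ, mul_pow, ← Nat.sub_add_cancel (show 1 ≤ p by omega), pow_succ (b : ℝ) (p - 1)]
      simp only [Nat.add_sub_cancel]
      rw [Nat.sub_add_cancel (show 1 ≤ p by omega)]
      have h4 : (128 : ℝ) * (p : ℝ) ^ 2 ≤ 49 * 2 ^ p := by exact_mod_cast nonGalois_bound hp7
      have h5 : (p : ℝ) ^ 2 * (2 * b + 1) ≤ 2 ^ p * b := by
        nlinarith [mul_le_mul_of_nonneg_right h4 (show (0 : ℝ) ≤ b by linarith)]
      nlinarith [mul_le_mul_of_nonneg_right h5 (show (0 : ℝ) ≤ (b : ℝ) ^ (p - 1) by positivity)]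
    have he' : eT ≤ 1 / 2 := he.trans (by
      rw [div_le_div_iff₀ (by linarith) (by norm_num)]
      have : ((2 * b + 1 : ℕ) : ℝ) ≤ p := by exact_mod_cast hlt.le
      linarith)
    have a1 : (p : ℝ) / u ≤ p / 11 := div_le_div_of_nonneg_left (by linarith) (by norm_num) (by
      rw [hQ] at hU; linarith)
    have a2 : (p : ℝ) / (125 * u) ≤ p / 11 := div_le_div_of_nonneg_left (by linarith) (by norm_num) (by
      rw [hQ] at hU; linarith)
    have a3 : (p : ℝ) / ((p : ℝ) - 1) ≤ 7 / 6 := by rw [div_le_iff₀ hP1]; linarith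
    linarith

/-- The values left by the second inequality. -/
def Residual (p q u c : ℕ) : Prop :=
  (c = 1 ∧ (u = ∑ i ∈ range q, p ^ i ∨ q * u = ∑ i ∈ range q, p ^ i)) ∨ (p = 5 ∧ q = 3 ∧ c = 7 ∧ u = 31) ∨
    (q = 3 ∧ c = 1 ∧ 4 * u = (p - 1) ^ 2)

/-- A factor of `(p ^ q - 1) / (p - 1)` that is `1` modulo `2 q`. -/
theorem Primes.cofactor_cases (hpq : Primes p q) {k : ℕ} (hu1 : 1 < u) (hu : 2 * q ∣ u - 1)
    (hk : (∑ i ∈ range q, p ^ i) = u * k) : k = 1 ∨ k = q ∨ 2 * q + 1 ≤ k := by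
  haveI := Fact.mk hpq.hq
  have hN1 : 1 ≤ ∑ i ∈ range q, p ^ i :=
    le_trans (Nat.one_le_pow _ _ hpq.hp.pos) (pow_le_gsum p hpq.hq.one_le)
  have hk0 : 1 ≤ k := by
    rcases Nat.eq_zero_or_pos k with rfl | h0
    · omega
    · exact h0
  have hkodd : 2 ∣ k - 1 := cofactor (by omega) hk0 ((dvd_mul_right 2 q).trans hu)
    (hk ▸ gsum_odd hpq.hp hpq.p_odd hpq.hq hpq.q_odd)
  have hu' := modEq_of_dvd_sub (by omega) ((dvd_mul_left q 2).trans hu)
  have h3 := congrArg (Nat.cast : ℕ → ZMod q) (gsum_mul p q hpq.hp.one_le)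
  rw [hk, Nat.cast_mul, Nat.cast_mul, hu', one_mul, Nat.cast_sub hpq.hp.one_le,
    Nat.cast_sub (Nat.one_le_pow _ _ hpq.hp.pos), Nat.cast_pow, Nat.cast_one, ZMod.pow_card] at h3
  by_cases hp1 : ((p : ℕ) : ZMod q) = 1
  · have h4 : (k : ZMod q) = 0 := by
      have h5 := congrArg (Nat.cast : ℕ → ZMod q) hk
      push_cast at h5
      rw [hu', one_mul, hp1] at h5
      simpa using h5.symm
    obtain ⟨j, rfl⟩ := (ZMod.natCast_eq_zero_iff k q).1 h4
    obtain ⟨i, hi⟩ := hkodd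
    have hj3 : j = 1 ∨ 3 ≤ j := by
      rcases Nat.even_or_odd j with ⟨m, rfl⟩ | ⟨m, rfl⟩
      · exfalso
        have : q * (m + m) = 2 * (q * m) := by ring
        omega
      · omega
    rcases hj3 with rfl | hj3
    · exact Or.inr (Or.inl (mul_one q))
    · have := Nat.mul_le_mul_left q hj3
      have := hpq.q3
      exact Or.inr (Or.inr (by omega))
  · have h4 : (k : ZMod q) = 1 := (mul_eq_right₀ (sub_ne_zero.2 hp1)).1 h3
    have h5 : 2 * q ∣ k - 1 := Nat.Coprime.mul_dvd_of_dvd_of_dvd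
      ((Nat.coprime_primes Nat.prime_two hpq.hq).2 hpq.q_odd.symm) hkodd (dvd_sub_of_modEq hk0 h4)
    rcases Nat.lt_or_ge 1 k with hk1 | hk1
    · exact Or.inr (Or.inr (by have := Nat.le_of_dvd (by omega) h5; omega))
    · exact Or.inl (by omega)

theorem qsq_le (hq : 5 ≤ q) : 32 * q ^ 2 ≤ 25 * 2 ^ q := by
  induction q, hq using Nat.le_induction with
  | base => norm_num
  | succ n hn ih =>
    rw [pow_succ 2 n]
    nlinarith

theorem small_cases : ∀ a ∈ range 17, ∀ u ∈ range (a ^ 2 + 1), (2 * a + 1) % 3 ≠ 0 → (2 * a + 1) % 5 ≠ 0 → u % 6 = 1 →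
    2 * a + 1 ≤ u → a ^ 2 % u = 0 → u ≠ a ^ 2 → a = 14 ∧ u = 49 := by
  decide +kernel

/-- The second inequality. -/
theorem ineqII {WS WT : ℕ} {GS : Prop} {eS : ℝ} (hpq : Primes p q) (hu1 : 1 < u) (hu : 2 * q ∣ u - 1)
    (hc0 : 1 ≤ c) (hc : 2 * q ∣ c - 1) (hvN : v = ∑ i ∈ range p, q ^ i) (hWT : WT = q ^ p - 1)
    (hS : (GS ∧ u ∣ (∑ i ∈ range q, p ^ i) ∧ WS = c * (p ^ q - 1)) ∨
      (¬ GS ∧ (∃ a, p = 2 * a + 1 ∧ u ∣ a ^ (q - 1)) ∧ c * (p - 1) ^ q ≤ WS))
    (he : eS ≤ (p : ℝ) / (u * c)) (he0 : GS ∨ u + 3 < p + q → eS ≤ 0)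
    (hineq : (q : ℝ) * (1 - (v : ℝ) / WT) ≤
      (q : ℝ) / v + eS + (q : ℝ) ^ 2 * p * u / WS + (p : ℝ) / ((p : ℝ) ^ q * u * c)) :
    (c = 1 ∧ (u = ∑ i ∈ range q, p ^ i ∨ q * u = ∑ i ∈ range q, p ^ i)) ∨ (p = 5 ∧ q = 3 ∧ c = 7 ∧ u = 31) ∨
      (q = 3 ∧ c = 1 ∧ 4 * u = (p - 1) ^ 2 ∧ ¬ GS) := by
  have hp5 := hpq.p5
  have hq3 := hpq.q3
  have hP5 : (5 : ℝ) ≤ p := by exact_mod_cast hp5
  have hQ3 : (3 : ℝ) ≤ q := by exact_mod_cast hq3
  have hP1 : (0 : ℝ) < (p : ℝ) - 1 := by linarith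
  have hQ1 : (0 : ℝ) < (q : ℝ) - 1 := by linarith
  have hU7 : 7 ≤ u := by have := hpq.u_ge hu1 hu; omega
  have hU : (7 : ℝ) ≤ u := by exact_mod_cast hU7
  have hC : (1 : ℝ) ≤ c := by exact_mod_cast hc0
  have huc : (u : ℝ) ≤ u * c := le_mul_of_one_le_right (by linarith) hC
  have hV27 : (27 * q : ℝ) ≤ v := by rw [hvN]; exact_mod_cast hpq.dual_ge_mul
  have hsmall : (q : ℝ) / v + (p : ℝ) / ((p : ℝ) ^ q * u * c) ≤ 43 / 1000 := by
    have a1 : (q : ℝ) / v ≤ 1 / 27 := by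
      rw [div_le_div_iff₀ (by linarith) (by norm_num)]; linarith
    have a2 : (p : ℝ) / ((p : ℝ) ^ q * u * c) ≤ 1 / 175 := by
      rw [div_le_div_iff₀ (by positivity) (by norm_num), one_mul]
      have h25 : (25 : ℝ) * p ≤ (p : ℝ) ^ q := le_trans (by nlinarith [mul_le_mul hP5 hP5 (by norm_num) (by linarith)] : (25 : ℝ) * p ≤ (p : ℝ) ^ 3)
        (pow_le_pow_right₀ (by linarith) hq3)
      rw [mul_assoc]
      exact le_trans (by linarith) (mul_le_mul h25 (hU.trans huc) (by norm_num) (by positivity))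
    linarith
  have hlhs : (q : ℝ) * (1 - (v : ℝ) / WT) = q - q / ((q : ℝ) - 1) := by
    rw [hWT, ← gsum_mul q p (by omega), ← hvN, Nat.cast_mul, Nat.cast_sub (by omega), Nat.cast_one]
    have : (v : ℝ) ≠ 0 := by linarith
    field_simp
  rw [hlhs] at hineq
  have hL : (q = 3 → (3 / 2 : ℝ) ≤ q - q / ((q : ℝ) - 1)) ∧ (5 ≤ q → (q : ℝ) - 5 / 4 ≤ q - q / ((q : ℝ) - 1)) := by
    refine ⟨fun h => by subst h; norm_num, fun h => ?_⟩
    have : (5 : ℝ) ≤ q := by exact_mod_cast h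
    have : (q : ℝ) / ((q : ℝ) - 1) ≤ 5 / 4 := by rw [div_le_iff₀ hQ1]; linarith
    linarith
  by_contra hgoal
  rcases hS with ⟨hG, ⟨k, hk⟩, hWS⟩ | ⟨hG, ⟨a, rfl, hua⟩, hWS⟩
  · have he' := he0 (Or.inl hG)
    have hk0 : 1 ≤ k := by
      rcases Nat.eq_zero_or_pos k with rfl | h0
      · have := pow_le_gsum p hpq.hq.one_le; rw [hk, mul_zero] at this
        have := Nat.one_le_pow (q - 1) p hpq.hp.pos; omega
      · exact h0
    have hK : (1 : ℝ) ≤ k := by exact_mod_cast hk0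
    have hterm : (q : ℝ) ^ 2 * p * u / WS = (q : ℝ) ^ 2 * (p / ((p : ℝ) - 1)) / ((c * k : ℕ) : ℝ) := by
      rw [hWS, ← gsum_mul p q (by omega), hk, Nat.cast_mul, Nat.cast_mul, Nat.cast_mul, Nat.cast_mul,
        Nat.cast_sub (by omega), Nat.cast_one]
      field_simp
    have hck : 2 * q + 1 ≤ c * k ∧ (q = 3 → p = 5 → 13 ≤ c * k) ∧ (q = 3 → p = 7 → 21 ≤ c * k) := by
      have hcases := hpq.cofactor_cases hu1 hu hk
      have hc' : c = 1 ∨ 2 * q + 1 ≤ c := by
        rcases Nat.lt_or_ge 1 c with h | h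
        · exact Or.inr (hpq.u_ge h hc)
        · exact Or.inl (by omega)
      refine ⟨?_, fun h3 h5 => ?_, fun h3 h7 => ?_⟩
      · rcases hc' with rfl | hc'
        · rcases hcases with rfl | rfl | h
          · exact absurd (Or.inl ⟨rfl, Or.inl (by rw [hk, mul_one])⟩) hgoal
          · exact absurd (Or.inl ⟨rfl, Or.inr (by rw [hk, mul_comm])⟩) hgoal
          · omega
        · exact hc'.trans (Nat.le_mul_of_pos_right _ hk0)
      · subst h3 h5
        have h31 : 31 = u * k := by rw [← hk]; norm_num [sum_range_succ]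
        obtain rfl : u = 31 := ((Nat.dvd_prime (by norm_num : Nat.Prime 31)).1 ⟨k, h31⟩).resolve_left (by omega)
        obtain rfl : k = 1 := by omega
        have h1 : c ≠ 1 := fun e => hgoal (Or.inl ⟨e, Or.inl (by rw [hk, mul_one])⟩)
        have h7 : c ≠ 7 := fun e => hgoal (Or.inr (Or.inl ⟨rfl, rfl, e, rfl⟩))
        obtain ⟨i, hi⟩ := hc
        omega
      · subst h3 h7
        have h57 : 57 = u * k := by rw [← hk]; norm_num [sum_range_succ]
        have hk19 : k ≤ 19 := by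
          by_contra hlt
          have : 7 * 20 ≤ u * k := Nat.mul_le_mul hU7 (by omega)
          omega
        obtain ⟨i, hi⟩ := hu
        obtain ⟨j, hj⟩ := hc
        rcases hc' with rfl | hc'
        · exfalso
          rcases hcases with rfl | rfl | h
          · omega
          · exact hgoal (Or.inl ⟨rfl, Or.inr (by rw [hk, mul_comm])⟩)
          · interval_cases k <;> omega
        · have : 7 * 3 ≤ c * k := Nat.mul_le_mul (by omega) (by
            rcases hcases with rfl | h | h <;> omega)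
          omega
    rw [hterm] at hineq
    by_cases h3 : q = 3
    · subst h3
      have hL3 := hL.1 rfl
      have key : ((3 : ℕ) : ℝ) ^ 2 * ((p : ℝ) / ((p : ℝ) - 1)) / ((c * k : ℕ) : ℝ) ≤ 142 / 100 := by
        by_cases hp11 : 11 ≤ p
        · have hP11 : (11 : ℝ) ≤ p := by exact_mod_cast hp11
          have a1 : (p : ℝ) / ((p : ℝ) - 1) ≤ 11 / 10 := by rw [div_le_iff₀ hP1]; linarith
          have a2 : (7 : ℝ) ≤ ((c * k : ℕ) : ℝ) := by exact_mod_cast hck.1
          refine (div_le_div_of_nonneg_left (by positivity) (by norm_num) a2).trans ?_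
          norm_num at a1 ⊢
          linarith
        · have h57 : p = 5 ∨ p = 7 := by
            rcases (show p = 5 ∨ p = 6 ∨ p = 7 ∨ p = 8 ∨ p = 9 ∨ p = 10 by omega) with h | h | h | h | h | h
            · exact Or.inl h
            · exact absurd (h ▸ hpq.hp) (by norm_num)
            · exact Or.inr h
            · exact absurd (h ▸ hpq.hp) (by norm_num)
            · exact absurd (h ▸ hpq.hp) (by norm_num)
            · exact absurd (h ▸ hpq.hp) (by norm_num)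
          rcases h57 with rfl | rfl
          · have a2 : (13 : ℝ) ≤ ((c * k : ℕ) : ℝ) := by exact_mod_cast hck.2.1 rfl rfl
            refine (div_le_div_of_nonneg_left (by norm_num) (by norm_num) a2).trans ?_
            norm_num
          · have a2 : (21 : ℝ) ≤ ((c * k : ℕ) : ℝ) := by exact_mod_cast hck.2.2 rfl rfl
            refine (div_le_div_of_nonneg_left (by norm_num) (by norm_num) a2).trans ?_
            norm_num
      linarith
    · have hq5 := hpq.q5 h3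
      have hL5 := hL.2 hq5
      have hQ5 : (5 : ℝ) ≤ q := by exact_mod_cast hq5
      have hP7 : (7 : ℝ) ≤ p := by exact_mod_cast hpq.p7 h3
      have a1 : (p : ℝ) / ((p : ℝ) - 1) ≤ 7 / 6 := by rw [div_le_iff₀ hP1]; linarith
      have a2 : (2 * q + 1 : ℝ) ≤ ((c * k : ℕ) : ℝ) := by exact_mod_cast hck.1
      have key : (q : ℝ) ^ 2 * ((p : ℝ) / ((p : ℝ) - 1)) / ((c * k : ℕ) : ℝ) ≤ 7 / 12 * q := by
        refine (div_le_div_of_nonneg_left (mul_nonneg (by positivity) (div_nonneg (by linarith) hP1.le))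
          (by linarith) a2).trans ?_
        rw [div_le_iff₀ (by linarith)]
        nlinarith [mul_le_mul_of_nonneg_left a1 (show (0 : ℝ) ≤ (q : ℝ) ^ 2 by positivity)]
      linarith
  · have ha2 : 2 ≤ a := by omega
    have hA : (2 : ℝ) ≤ a := by exact_mod_cast ha2
    have hPA : ((2 * a + 1 : ℕ) : ℝ) = 2 * a + 1 := by push_cast; rfl
    rw [show 2 * a + 1 - 1 = 2 * a by omega] at hWS
    have hbd : (c : ℝ) * (2 * a) ^ q ≤ WS := by exact_mod_cast hWS
    have hbd0 : (0 : ℝ) < (c : ℝ) * (2 * a) ^ q := by positivity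
    have hterm : (q : ℝ) ^ 2 * ((2 * a + 1 : ℕ) : ℝ) * u / WS ≤
        (q : ℝ) ^ 2 * ((2 * a + 1 : ℕ) : ℝ) * u / ((c : ℝ) * (2 * a) ^ q) :=
      div_le_div_of_nonneg_left (by positivity) hbd0 hbd
    have heS : eS ≤ 1 / c ∧ eS ≤ ((2 * a + 1 : ℕ) : ℝ) / (u * c) := by
      refine ⟨?_, he⟩
      by_cases hlt : u + 3 < 2 * a + 1 + q
      · exact (he0 (Or.inr hlt)).trans (by positivity)
      · refine he.trans ?_
        rw [div_le_div_iff₀ (by positivity) (by linarith)]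
        have : ((2 * a + 1 : ℕ) : ℝ) ≤ u := by exact_mod_cast (show 2 * a + 1 ≤ u by omega)
        nlinarith
    by_cases h3 : q = 3
    · subst h3
      have hL3 := hL.1 rfl
      have hua' : u ≤ a ^ 2 := Nat.le_of_dvd (pow_pos (by omega) _) hua
      have ha3 : 3 ≤ a := by
        by_contra h
        obtain rfl : a = 2 := by omega
        norm_num at hua'; omega
      have hA3 : (3 : ℝ) ≤ a := by exact_mod_cast ha3
      have hUA : (u : ℝ) ≤ (a : ℝ) ^ 2 := by exact_mod_cast hua'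
      by_cases hc1 : c = 1
      · subst hc1
        have hne : u ≠ a ^ 2 := fun e => hgoal (Or.inr (Or.inr ⟨rfl, rfl, by
          rw [show 2 * a + 1 - 1 = 2 * a by omega, e]; ring, hG⟩))
        obtain ⟨k, hk⟩ := hua
        have hk2 : 2 ≤ k := by
          by_contra hh
          interval_cases k <;> simp at hk <;> first | omega | exact hne hk.symm
        have h2u : 2 * u ≤ a ^ 2 := by
          rw [show (3 : ℕ) - 1 = 2 from rfl] at hk
          rw [hk, mul_comm]; exact Nat.mul_le_mul_left _ hk2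
        have hUA2 : 2 * (u : ℝ) ≤ (a : ℝ) ^ 2 := by exact_mod_cast h2u
        norm_num only [Nat.cast_one, one_mul, mul_one, Nat.cast_ofNat] at hterm heS hsmall hineq
        by_cases hlow : u + 3 < 2 * a + 1 + 3
        · have := he0 (Or.inr hlow)
          have key : (9 : ℝ) * ((2 * a + 1 : ℕ) : ℝ) * u / (2 * a) ^ 3 ≤ 21 / 16 := by
            rw [div_le_div_iff₀ (by positivity) (by norm_num), hPA]
            have a1 : (3 : ℝ) * (2 * a + 1) ≤ 7 * a := by linarith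
            nlinarith [mul_le_mul a1 hUA2 (by positivity) (by positivity)]
          norm_num only [hPA] at *
          linarith
        · have hup : 2 * a + 1 ≤ u := by omega
          have hUP : (2 * a + 1 : ℝ) ≤ u := by exact_mod_cast hup
          have key : ((2 * a + 1 : ℕ) : ℝ) / u + 9 * ((2 * a + 1 : ℕ) : ℝ) * u / (2 * a) ^ 3 ≤ 145 / 100 := by
            rw [hPA]
            by_cases ha17 : 17 ≤ a
            · have hA17 : (17 : ℝ) ≤ a := by exact_mod_cast ha17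
              rw [div_add_div _ _ (by positivity) (by positivity), div_le_iff₀ (by positivity)]
              have hconv : 0 ≤ ((u : ℝ) - (2 * a + 1)) * ((a : ℝ) ^ 2 - 2 * u) :=
                mul_nonneg (by linarith) (by linarith)
              have hneg : 9 * (2 * (a : ℝ) + 1) ^ 2 + 9 / 2 * (2 * a + 1) * (a : ℝ) ^ 2 - 58 / 5 * (a : ℝ) ^ 3 ≤ 0 := by
                nlinarith [mul_le_mul_of_nonneg_right hA17 (sq_nonneg (a : ℝ))]
              nlinarith [mul_le_mul_of_nonneg_left hUP (neg_nonneg.2 hneg), mul_nonneg (show (0:ℝ) ≤ 9 * (2 * a + 1) by positivity) hconv,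
                pow_le_pow_left₀ (by norm_num : (0:ℝ) ≤ 17) hA17 2]
            · have key2 : a = 14 ∧ u = 49 := by
                rw [show (3 : ℕ) - 1 = 2 from rfl] at hk
                have hu6 : u % 6 = 1 := by obtain ⟨i, hi⟩ := hu; omega
                have hnd : ∀ d : ℕ, d.Prime → d < 7 → (2 * a + 1) % d ≠ 0 := fun d hd hlt e => by
                  have := (Nat.prime_dvd_prime_iff_eq hd hpq.hp).1 (Nat.dvd_of_mod_eq_zero e)
                  omega
                exact small_cases a (mem_range.2 (by omega)) u (mem_range.2 (by omega)) (hnd 3 Nat.prime_three (by norm_num))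
                  (hnd 5 (by norm_num) (by norm_num)) hu6 hup
                  (Nat.mod_eq_zero_of_dvd ⟨k, hk⟩) hne
              obtain ⟨rfl, rfl⟩ := key2
              norm_num
          norm_num only [hPA] at *
          linarith
      · have hc7 : 7 ≤ c := by have := hpq.u_ge (show 1 < c by omega) hc; omega
        have hC7 : (7 : ℝ) ≤ c := by exact_mod_cast hc7
        have a1 : 1 / (c : ℝ) ≤ 1 / 7 := div_le_div_of_nonneg_left zero_le_one (by norm_num) hC7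
        have key : ((3 : ℕ) : ℝ) ^ 2 * ((2 * a + 1 : ℕ) : ℝ) * u / ((c : ℝ) * (2 * a) ^ 3) ≤ 3 / 8 := by
          rw [div_le_div_iff₀ hbd0 (by norm_num), hPA]
          have a2 : (3 : ℝ) * (2 * a + 1) ≤ 7 * a := by linarith
          have a3 := mul_le_mul a2 hUA (by positivity) (by positivity)
          have a4 := mul_le_mul_of_nonneg_right hC7 (pow_nonneg (show (0:ℝ) ≤ a by linarith) 3)
          push_cast
          nlinarith
        linarith [heS.1]
    · have hq5 := hpq.q5 h3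
      have hL5 := hL.2 hq5
      have hQ5 : (5 : ℝ) ≤ q := by exact_mod_cast hq5
      have hA3 : (3 : ℝ) ≤ a := by
        have := hpq.p7 h3
        exact_mod_cast (show 3 ≤ a by omega)
      have hua' : (u : ℝ) ≤ (a : ℝ) ^ (q - 1) := by
        exact_mod_cast Nat.le_of_dvd (pow_pos (by omega) _) hua
      have key : (q : ℝ) ^ 2 * ((2 * a + 1 : ℕ) : ℝ) * u / ((c : ℝ) * (2 * a) ^ q) ≤ 2 := by
        rw [div_le_iff₀ hbd0, hPA]
        have h4 : (32 : ℝ) * (q : ℝ) ^ 2 ≤ 25 * 2 ^ q := by exact_mod_cast qsq_le hq5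
        have h5 : (q : ℝ) ^ 2 * (2 * a + 1) ≤ 2 * (2 ^ q * a) := by
          have := mul_le_mul h4 (show (3 : ℝ) * (2 * a + 1) ≤ 7 * a by linarith) (by positivity) (by positivity)
          nlinarith [show (0 : ℝ) ≤ 2 ^ q * a by positivity]
        have h6 : (2 * (a : ℝ)) ^ q = 2 ^ q * a * (a : ℝ) ^ (q - 1) := by
          rw [mul_pow, mul_assoc, ← pow_succ', Nat.sub_add_cancel (by omega)]
        rw [h6]
        have h7 := mul_le_mul h5 hua' (by positivity) (by positivity)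
        nlinarith [mul_le_mul_of_nonneg_right hC (show (0 : ℝ) ≤ 2 ^ q * a * (a : ℝ) ^ (q - 1) by positivity)]
      have a1 : 1 / (c : ℝ) ≤ 1 := by rw [div_le_one (by linarith)]; exact hC
      linarith [heS.1]

/-- What `u c ∣ h` and `h ≡ 1 (mod 2 p q)` leave. -/
theorem gap (hpq : Primes p q) (hu1 : 1 < u) (hu : 2 * q ∣ u - 1) (hr : Residual p q u c) (h0 : 1 ≤ h)
    (huc : u * c ∣ h) (hh : 2 * (p * q) ∣ h - 1) :
    (c = 1 ∧ u = ∑ i ∈ range q, p ^ i) ∧ (h = u ∨ (2 * (p * q) + 1) * u ≤ h) ∨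
    (c = 1 ∧ q * u = ∑ i ∈ range q, p ^ i) ∧ (2 * p + q) * u ≤ h ∨
    (q = 3 ∧ c = 1 ∧ 4 * u = (p - 1) ^ 2 ∧ 25 ≤ u ∧ 11 ≤ p) ∧ (3 * p + 4) * u ≤ h ∨
    (p = 5 ∧ q = 3 ∧ c = 7 ∧ u = 31) ∧ 2821 ≤ h := by
  haveI := Fact.mk hpq.hp
  have hp5 := hpq.p5
  have hlt := hpq.lt
  obtain ⟨k, hk⟩ := huc
  have hk0 : 1 ≤ k := by
    rcases Nat.eq_zero_or_pos k with rfl | h0'
    · rw [mul_zero] at hk; omega
    · exact h0'
  have hp_h : p ∣ h - 1 := ((dvd_mul_right p q).trans (dvd_mul_left (p * q) 2)).trans hh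
  have hq2_h : 2 * q ∣ h - 1 := (mul_dvd_mul_left 2 (dvd_mul_left q p)).trans hh
  rcases hr with ⟨rfl, hN | hN⟩ | ⟨rfl, rfl, rfl, rfl⟩ | ⟨rfl, rfl, h4⟩
  · rw [mul_one] at hk
    have hNmod : 2 * (p * q) ∣ u - 1 := by
      have h1 : p ∣ u - 1 := dvd_sub_of_modEq (by omega) (hN ▸ gsum_one_mod p hpq.hq.one_le)
      have hcop : (2 * q).Coprime p := Nat.Coprime.mul_left
        ((Nat.coprime_primes Nat.prime_two hpq.hp).2 hpq.p_odd.symm) ((Nat.coprime_primes hpq.hq hpq.hp).2 hlt.ne)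
      have := hcop.mul_dvd_of_dvd_of_dvd hu h1
      rwa [mul_comm p q, ← mul_assoc]
    have hkd : 2 * (p * q) ∣ k - 1 := cofactor (by omega) hk0 hNmod (hk ▸ hh)
    refine Or.inl ⟨⟨rfl, hN⟩, ?_⟩
    rcases Nat.lt_or_ge 1 k with hk1 | hk1
    · refine Or.inr ?_
      rw [hk, mul_comm u]
      exact Nat.mul_le_mul_right _ (by have := Nat.le_of_dvd (by omega) hkd; omega)
    · exact Or.inl (by rw [hk, show k = 1 by omega, mul_one])
  · rw [mul_one] at hk
    refine Or.inr (Or.inl ⟨⟨rfl, hN⟩, ?_⟩)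
    have hkp : (k : ZMod p) = (q : ZMod p) := by
      have h1 : ((q * u : ℕ) : ZMod p) = 1 := hN ▸ gsum_one_mod p hpq.hq.one_le
      have h2 : ((u * k : ℕ) : ZMod p) = 1 := hk ▸ modEq_of_dvd_sub h0 hp_h
      rw [Nat.cast_mul] at h1 h2
      calc (k : ZMod p) = (q * u) * k := by rw [h1, one_mul]
        _ = q * (u * k) := mul_assoc _ _ _
        _ = q := by rw [h2, mul_one]
    rw [ZMod.natCast_eq_natCast_iff', Nat.mod_eq_of_lt hlt] at hkp
    obtain ⟨i, hi⟩ : 2 * q ∣ k - 1 := cofactor (by omega) hk0 hu (hk ▸ hq2_h)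
    have hi' : 2 * q * i = 2 * (q * i) := mul_assoc _ _ _
    have hdm := Nat.div_add_mod k p
    rw [hkp] at hdm
    have hj : 2 ≤ k / p := by
      generalize k / p = j at hdm ⊢
      by_contra hh2
      rcases (show j = 0 ∨ j = 1 by omega) with e | e <;> rw [e] at hdm
      · have : q ∣ 1 := (Nat.dvd_add_right (Dvd.intro_left (2 * i) rfl : q ∣ 2 * i * q)).1 (by
          rw [show 2 * i * q + 1 = q by rw [show 2 * i * q = 2 * (q * i) by ring]; omega])
        exact hpq.hq.not_dvd_one this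
      · obtain ⟨a, ha⟩ := hpq.hp.odd_of_ne_two hpq.p_odd
        obtain ⟨b, hb⟩ := hpq.hq.odd_of_ne_two hpq.q_odd
        omega
    rw [hk, mul_comm u]
    refine Nat.mul_le_mul_right _ ?_
    have := Nat.mul_le_mul_left p hj
    omega
  · refine Or.inr (Or.inr (Or.inr ⟨⟨rfl, rfl, rfl, rfl⟩, ?_⟩))
    obtain ⟨i, hi⟩ := hh
    omega
  · rw [mul_one] at hk
    obtain ⟨a, ha⟩ := hpq.hp.odd_of_ne_two hpq.p_odd
    have hua : u = a ^ 2 := by
      rw [ha, show 2 * a + 1 - 1 = 2 * a by omega, mul_pow] at h4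
      norm_num at h4
      exact h4
    obtain ⟨j, hj⟩ := hu
    have ha5 : 5 ≤ a := by
      by_contra hh5
      interval_cases a
      all_goals norm_num at hua
      all_goals first
        | omega
        | exact absurd (ha ▸ hpq.hp) (by norm_num)
    refine Or.inr (Or.inr (Or.inl ⟨⟨rfl, rfl, h4, ?_, by omega⟩, ?_⟩))
    · rw [hua]; exact Nat.pow_le_pow_left ha5 2
    have hkp : (k : ZMod p) = ((4 : ℕ) : ZMod p) := by
      have h1 : ((4 * u : ℕ) : ZMod p) = 1 := by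
        rw [h4, Nat.cast_pow, Nat.cast_sub hpq.hp.one_le, ZMod.natCast_self]
        ring
      have h2 : ((u * k : ℕ) : ZMod p) = 1 := hk ▸ modEq_of_dvd_sub h0 hp_h
      rw [Nat.cast_mul] at h1 h2
      calc (k : ZMod p) = (((4 : ℕ) : ZMod p) * u) * k := by rw [h1, one_mul]
        _ = ((4 : ℕ) : ZMod p) * (u * k) := mul_assoc _ _ _
        _ = ((4 : ℕ) : ZMod p) := by rw [h2, mul_one]
    rw [ZMod.natCast_eq_natCast_iff', Nat.mod_eq_of_lt (show 4 < p by omega)] at hkp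
    obtain ⟨i, hi⟩ : 2 * 3 ∣ k - 1 := cofactor (by omega) hk0 (Dvd.intro j hj.symm) (hk ▸ hq2_h)
    have hdm := Nat.div_add_mod k p
    rw [hkp] at hdm
    have hj3 : 3 ≤ k / p := by
      generalize k / p = m at hdm ⊢
      by_contra hh3
      have hp3 : p % 3 ≠ 0 := fun e => by
        have := (Nat.prime_dvd_prime_iff_eq Nat.prime_three hpq.hp).1 (Nat.dvd_of_mod_eq_zero e)
        omega
      rcases (show m = 0 ∨ m = 1 ∨ m = 2 by omega) with e | e | e <;> rw [e] at hdm <;> omega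
    rw [hk, mul_comm u]
    refine Nat.mul_le_mul_right _ ?_
    have := Nat.mul_le_mul_left p hj3
    omega

section endgame

variable (hpq : Primes p q) (hu1 : 1 < u) (hu : 2 * q ∣ u - 1) (hr : Residual p q u c) (h0 : 1 ≤ h)
  (huc : u * c ∣ h) (hh : 2 * (p * q) ∣ h - 1)
include hpq hu1 hu hr h0 huc hh

theorem endgame₁ (hE : h - 1 ≤ p * (u * c - 1) + p * (c - 1)) :
    c = 1 ∧ u = (∑ i ∈ range q, p ^ i) ∧ h = ∑ i ∈ range q, p ^ i := by
  have hp5 := hpq.p5
  have hlt : c = 1 → h ≤ p * u := fun e => by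
    subst e
    rw [mul_one, Nat.sub_self, mul_zero, add_zero, Nat.mul_sub, mul_one] at hE
    have : p ≤ p * u := Nat.le_mul_of_pos_right p (by omega)
    omega
  have hu0 : 0 < u := by omega
  rcases gap hpq hu1 hu hr h0 huc hh with ⟨⟨hc, hN⟩, e | hg⟩ | ⟨⟨hc, -⟩, hg⟩ | ⟨⟨-, hc, -⟩, hg⟩ |
      ⟨⟨rfl, rfl, rfl, rfl⟩, hg⟩
  · exact ⟨hc, hN, e.trans hN⟩
  · have := Nat.le_of_mul_le_mul_right (hg.trans (hlt hc)) hu0
    have := Nat.le_mul_of_pos_right p hpq.hq.pos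
    omega
  · have := Nat.le_of_mul_le_mul_right (hg.trans (hlt hc)) hu0; omega
  · have := Nat.le_of_mul_le_mul_right (hg.trans (hlt hc)) hu0; omega
  · omega

theorem endgame₂ (hE : ((p : ℝ) + q - 2 - p / (u * c) - q / ((∑ i ∈ range p, q ^ i : ℕ) : ℝ) - 1) * h ≤
      (p : ℝ) ^ 2 * (q : ℝ) ^ 2) :
    c = 1 ∧ u = (∑ i ∈ range q, p ^ i) ∧ h = ∑ i ∈ range q, p ^ i := by
  have hp5 := hpq.p5
  have hq3 := hpq.q3
  have hlt := hpq.lt
  have hu0 : 0 < u := by omega
  -- in all cases `u c ≥ p`, so the coefficient is at least `p - 2`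
  have hbound : p ≤ u * c → (p - 2) * h ≤ p ^ 2 * q ^ 2 := fun hpu => by
    have h1 : (p : ℝ) / (u * c) ≤ 1 := by
      rw [div_le_one (by
        have : 0 < u * c := by omega
        exact_mod_cast this)]
      exact_mod_cast hpu
    have h2 : (q : ℝ) / ((∑ i ∈ range p, q ^ i : ℕ) : ℝ) ≤ 1 := by
      rw [div_le_one (by exact_mod_cast (by have := hpq.dual_ge; omega : 0 < ∑ i ∈ range p, q ^ i))]
      exact_mod_cast (by have := hpq.dual_ge_mul; omega : q ≤ ∑ i ∈ range p, q ^ i)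
    have h3 : (3 : ℝ) ≤ q := by exact_mod_cast hq3
    have h4 : ((p - 2 : ℕ) : ℝ) = (p : ℝ) - 2 := by rw [Nat.cast_sub (by omega)]; norm_num
    have h5 : ((p : ℝ) - 2) * h ≤ (p : ℝ) ^ 2 * (q : ℝ) ^ 2 :=
      le_trans (mul_le_mul_of_nonneg_right (by linarith) (Nat.cast_nonneg h)) hE
    rw [← h4] at h5
    exact_mod_cast h5
  have hN := pow_le_gsum p hpq.hq.one_le
  have hp2 : p ^ 2 ≤ p ^ (q - 1) := Nat.pow_le_pow_right hpq.hp.pos (by omega)
  rcases gap hpq hu1 hu hr h0 huc hh with ⟨⟨hc, hNu⟩, e | hg⟩ | ⟨⟨hc, hNu⟩, hg⟩ | ⟨⟨hq, hc, hu4', hu25, hp11⟩, hg⟩ |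
      ⟨⟨rfl, rfl, rfl, rfl⟩, hg⟩
  · exact ⟨hc, hNu, e.trans hNu⟩
  · exfalso
    subst hc
    have hpu : p ^ 2 ≤ u := by omega
    have h1 := hbound (by rw [mul_one]; exact le_trans (Nat.le_self_pow (by norm_num) p) hpu)
    have h2 : 3 * ((2 * (p * q) + 1) * p ^ 2) ≤ (p - 2) * h :=
      Nat.mul_le_mul (by omega) (le_trans (Nat.mul_le_mul_left _ hpu) hg)
    have h3 : p * q < 3 * (2 * (p * q) + 1) := by omega
    have h4 : 3 * (2 * (p * q) + 1) * p ^ 2 ≤ q ^ 2 * p ^ 2 := by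
      rw [mul_assoc, mul_comm (q ^ 2)]; exact h2.trans h1
    have h5 := Nat.le_of_mul_le_mul_right h4 (pow_pos hpq.hp.pos 2)
    have h6 : q ^ 2 ≤ p * q := by rw [sq]; exact Nat.mul_le_mul_right q hlt.le
    omega
  · exfalso
    subst hc
    have hqu : p ^ 2 ≤ q * u := by omega
    have hpu : p ≤ u := by
      by_contra hcon
      have : q * u < p * p := lt_of_lt_of_le (Nat.mul_lt_mul_of_pos_left (show u < p by omega) (by omega))
        (Nat.mul_le_mul_right p hlt.le)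
      nlinarith
    have h1 := hbound (by rw [mul_one]; exact hpu)
    by_cases hq : q = 3
    · subst hq
      have h2 : 3 * ((p - 2) * ((2 * p + 3) * u)) ≤ 3 * (p ^ 2 * 3 ^ 2) :=
        Nat.mul_le_mul_left 3 ((Nat.mul_le_mul_left _ hg).trans h1)
      have h3 : (p - 2) * (2 * p + 3) * p ^ 2 ≤ 3 * (p ^ 2 * 3 ^ 2) := by
        refine le_trans ?_ h2
        rw [show 3 * ((p - 2) * ((2 * p + 3) * u)) = (p - 2) * (2 * p + 3) * (3 * u) by ring]
        exact Nat.mul_le_mul_left _ hqu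
      have h4 : 3 * 13 * p ^ 2 ≤ (p - 2) * (2 * p + 3) * p ^ 2 :=
        Nat.mul_le_mul_right _ (Nat.mul_le_mul (by omega) (by omega))
      nlinarith
    · have hq5 := hpq.q5 hq
      have hp4 : p ^ 4 ≤ q * u := le_trans (Nat.pow_le_pow_right hpq.hp.pos (by omega)) (by omega : p ^ (q - 1) ≤ q * u)
      have h2 : (2 * p + q) * p ^ 4 ≤ q * ((p - 2) * h) := by
        refine le_trans (Nat.mul_le_mul_left _ hp4) ?_
        rw [show (2 * p + q) * (q * u) = q * (1 * ((2 * p + q) * u)) by ring]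
        exact Nat.mul_le_mul_left _ (Nat.mul_le_mul (by omega) hg)
      have h3 : q * ((p - 2) * h) ≤ p * (p ^ 2 * p ^ 2) :=
        Nat.mul_le_mul hlt.le (h1.trans (Nat.mul_le_mul_left _ (Nat.pow_le_pow_left hlt.le 2)))
      have h4 : p * p ^ 4 + 1 ≤ (2 * p + q) * p ^ 4 := by
        have : 1 ≤ p ^ 4 := Nat.one_le_pow _ _ hpq.hp.pos
        nlinarith
      nlinarith
  · exfalso
    subst hq hc
    have hpu : p ≤ u := by
      rename 4 * u = (p - 1) ^ 2 => hu4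
      rw [sq] at hu4
      have := Nat.mul_le_mul_right (p - 1) (show 10 ≤ p - 1 by omega)
      omega
    have h1 := hbound (by rw [mul_one]; exact hpu)
    have h2 : (p - 2) * ((3 * p + 4) * 25) ≤ (p - 2) * h :=
      Nat.mul_le_mul_left _ (le_trans (Nat.mul_le_mul_left _ hu25) hg)
    obtain ⟨m, rfl⟩ := Nat.exists_eq_add_of_le hp11
    rw [show 11 + m - 2 = 9 + m by omega] at h1 h2
    nlinarith
  · exfalso
    have h1 := hbound (by norm_num)
    norm_num at h1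
    omega

theorem endgame₃ (hp : p = 5) (hE : h - 1 ≤ q * ((∑ i ∈ range p, q ^ i) - 1)) :
    c = 1 ∧ u = (∑ i ∈ range q, p ^ i) ∧ h = ∑ i ∈ range q, p ^ i := by
  obtain rfl := hpq.q_eq hp
  subst hp
  norm_num [sum_range_succ] at hE
  rcases gap hpq hu1 hu hr h0 huc hh with ⟨⟨hc, hN⟩, e | hg⟩ | ⟨⟨-, hN⟩, hg⟩ | ⟨⟨-, -, -, -, h11⟩, -⟩ |
      ⟨-, hg⟩
  · exact ⟨hc, hN, e.trans hN⟩
  · have : u = 31 := by rw [hN]; norm_num [sum_range_succ]
    subst this; omega
  · have : 3 * u = 31 := by rw [hN]; norm_num [sum_range_succ]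
    omega
  · omega
  · omega

theorem endgame₄ (hp7 : 7 ≤ p) (hE : h - 1 ≤ p * q * (p * q - q))
    (hE' : q = 3 → h - 1 ≤ p * q * (p * q - p)) :
    c = 1 ∧ u = (∑ i ∈ range q, p ^ i) ∧ h = ∑ i ∈ range q, p ^ i := by
  have hq3 := hpq.q3
  have hlt := hpq.lt
  have hN := pow_le_gsum p hpq.hq.one_le
  have hp2 : p ^ 2 ≤ p ^ (q - 1) := Nat.pow_le_pow_right hpq.hp.pos (by omega)
  have hB : h ≤ p ^ 2 * q ^ 2 + 1 := by
    have : p * q * (p * q - q) ≤ p * q * (p * q) := Nat.mul_le_mul_left _ (Nat.sub_le _ _)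
    have e : p * q * (p * q) = p ^ 2 * q ^ 2 := by ring
    omega
  rcases gap hpq hu1 hu hr h0 huc hh with ⟨⟨hc, hNu⟩, e | hg⟩ | ⟨⟨hc, hNu⟩, hg⟩ | ⟨⟨rfl, hc, hu4, -, hp11⟩, hg⟩ |
      ⟨⟨rfl, -⟩, -⟩
  · exact ⟨hc, hNu, e.trans hNu⟩
  · exfalso
    have h2 : (2 * (p * q) + 1) * p ^ 2 ≤ h := le_trans (Nat.mul_le_mul_left _ (by omega)) hg
    nlinarith [Nat.mul_le_mul_left (q * p * p) (show q + 1 ≤ p by omega)]
  · exfalso
    by_cases hq : q = 3
    · subst hq
      have hE3 := hE' rfl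
      have e2 : p * 3 * (p * 3 - p) = 6 * p ^ 2 := by
        rw [show p * 3 - p = 2 * p by omega]; ring
      have hu3 : 3 * u = p ^ 2 + p + 1 := by rw [hNu]; simp [sum_range_succ]; ring
      have h2 : (2 * p + 3) * (3 * u) ≤ 3 * h := by
        rw [show (2 * p + 3) * (3 * u) = 3 * ((2 * p + 3) * u) by ring]
        exact Nat.mul_le_mul_left 3 hg
      rw [hu3] at h2
      have hh' : h ≤ 6 * p ^ 2 + 1 := by omega
      nlinarith [Nat.mul_le_mul_right (p * p) (show 7 ≤ p by omega)]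
    · have hq5 := hpq.q5 hq
      have hp4 : p ^ 4 ≤ q * u := le_trans (Nat.pow_le_pow_right hpq.hp.pos (by omega)) (by omega : p ^ (q - 1) ≤ q * u)
      have h2 : (2 * p + q) * p ^ 4 ≤ q * h := by
        refine le_trans (Nat.mul_le_mul_left _ hp4) ?_
        rw [show (2 * p + q) * (q * u) = q * ((2 * p + q) * u) by ring]
        exact Nat.mul_le_mul_left _ hg
      have h3 : q * h ≤ p * (p ^ 2 * p ^ 2 + 1) :=
        Nat.mul_le_mul hlt.le (hB.trans (Nat.add_le_add_right (Nat.mul_le_mul_left _ (Nat.pow_le_pow_left hlt.le 2)) 1))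
      have h4 : p ≤ p ^ 4 := Nat.le_self_pow (by norm_num) p
      nlinarith
  · exfalso
    subst hc
    have hE3 := hE' rfl
    have e2 : p * 3 * (p * 3 - p) = 6 * p ^ 2 := by
      rw [show p * 3 - p = 2 * p by omega]; ring
    have hh' : h ≤ 6 * p ^ 2 + 1 := by omega
    obtain ⟨m, rfl⟩ := Nat.exists_eq_add_of_le hp11
    rw [show 11 + m - 1 = 10 + m by omega] at hu4
    have h2 : (3 * (11 + m) + 4) * (10 + m) ^ 2 ≤ 4 * h := by
      rw [← hu4, mul_left_comm]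
      exact Nat.mul_le_mul_left 4 hg
    nlinarith
  · omega

theorem endgame₅ (hE : h - 1 ≤ q * ((∑ i ∈ range p, q ^ i) - 1)) (hN' : (∑ i ∈ range p, q ^ i) ∣ h) :
    c = 1 ∧ u = (∑ i ∈ range q, p ^ i) ∧ h = ∑ i ∈ range p, q ^ i := by
  haveI := Fact.mk hpq.hp
  set N := ∑ i ∈ range p, q ^ i with hN
  have hN81 := hpq.dual_ge
  rw [← hN] at hN81
  have hNmod : 2 * (p * q) ∣ N - 1 := by
    have hcop : (2 * p).Coprime q := Nat.Coprime.mul_left
      ((Nat.coprime_primes Nat.prime_two hpq.hq).2 hpq.q_odd.symm) ((Nat.coprime_primes hpq.hp hpq.hq).2 hpq.lt.ne')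
    rw [← mul_assoc]
    exact hcop.mul_dvd_of_dvd_of_dvd hpq.dual_mod hpq.dual_q_mod
  obtain ⟨m, hm⟩ := hN'
  have hm0 : 1 ≤ m := by
    rcases Nat.eq_zero_or_pos m with rfl | h0'
    · rw [mul_zero] at hm; omega
    · exact h0'
  have hmd : 2 * (p * q) ∣ m - 1 := cofactor (by omega) hm0 hNmod (hm ▸ hh)
  have hm1 : m = 1 := by
    by_contra hm1
    have h1 := Nat.le_of_dvd (by omega) hmd
    have h2 : N * (q + 1) ≤ h := hm ▸ Nat.mul_le_mul_left N (by
      have := Nat.le_mul_of_pos_left q hpq.hp.pos; omega)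
    have h3 : q * (N - 1) ≤ q * N := Nat.mul_le_mul_left q (Nat.sub_le _ _)
    rw [Nat.mul_add, mul_one, mul_comm N q] at h2
    omega
  subst hm1
  rw [mul_one] at hm
  -- every divisor of `N` is `1` modulo `p`
  have hdiv : ∀ d, d ∣ N → (d : ZMod p) = 1 := fun d hd => by
    have hd0 : d ≠ 0 := fun e => by rw [e, zero_dvd_iff] at hd; omega
    rw [← Nat.prod_primeFactorsList hd0, Nat.cast_list_prod]
    refine List.prod_eq_one fun x hx => ?_
    obtain ⟨r, hr', rfl⟩ := List.mem_map.1 hx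
    have hrp := Nat.prime_of_mem_primeFactorsList hr'
    haveI := Fact.mk hrp
    have hrN : r ∣ N := (Nat.dvd_of_mem_primeFactorsList hr').trans hd
    have hq0 : (q : ZMod r) ≠ 0 := fun e => by
      have e2 := (Nat.prime_dvd_prime_iff_eq hrp hpq.hq).1 ((ZMod.natCast_eq_zero_iff _ _).1 e)
      have h1 := gsum_one_mod q hpq.hp.one_le
      rw [← hN, (ZMod.natCast_eq_zero_iff N q).2 (e2 ▸ hrN)] at h1
      haveI := Fact.mk hpq.hq
      exact zero_ne_one h1
    have hq1 : (q : ZMod r) ≠ 1 := fun e => by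
      have e2 : (N : ZMod r) = (p : ZMod r) := by rw [hN, Nat.cast_sum]; simp [e]
      rw [(ZMod.natCast_eq_zero_iff N r).2 hrN] at e2
      have e3 := (Nat.prime_dvd_prime_iff_eq hrp hpq.hp).1 ((ZMod.natCast_eq_zero_iff _ _).1 e2.symm)
      subst e3
      have h1 := modEq_of_dvd_sub (m := r) (show 1 ≤ N by omega) ((dvd_mul_left r 2).trans hpq.dual_mod)
      rw [(ZMod.natCast_eq_zero_iff N r).2 hrN] at h1
      exact zero_ne_one h1
    have hord : orderOf (q : ZMod r) = p := by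
      refine orderOf_eq_prime ?_ hq1
      have h1 := congrArg (Nat.cast : ℕ → ZMod r) (gsum_mul q p hpq.hq.one_le)
      rw [← hN, Nat.cast_mul, (ZMod.natCast_eq_zero_iff N r).2 hrN, zero_mul,
        Nat.cast_sub (Nat.one_le_pow _ _ hpq.hq.pos), Nat.cast_pow, Nat.cast_one] at h1
      exact (sub_eq_zero.1 h1.symm)
    exact modEq_of_dvd_sub hrp.one_le (hord ▸ ZMod.orderOf_dvd_card_sub_one hq0)
  have hu' : (u : ZMod p) = 1 := hdiv u (hm ▸ (dvd_mul_right u c).trans huc)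
  have hc' : (c : ZMod p) = 1 := hdiv c (hm ▸ (dvd_mul_left c u).trans huc)
  rcases hr with ⟨hc, hNu | hNu⟩ | ⟨rfl, -, rfl, -⟩ | ⟨rfl, hc, h4⟩
  · exact ⟨hc, hNu, hm⟩
  · exfalso
    have h1 : ((q * u : ℕ) : ZMod p) = 1 := hNu ▸ gsum_one_mod p hpq.hq.one_le
    rw [Nat.cast_mul, hu', mul_one] at h1
    have := Nat.le_of_dvd (by have := hpq.q3; omega) (dvd_sub_of_modEq hpq.hq.one_le h1)
    have := hpq.lt; omega
  · exfalso
    have h1 := Nat.le_of_dvd (by norm_num) (dvd_sub_of_modEq (by norm_num) hc')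
    have h2 := dvd_sub_of_modEq (show 1 ≤ 7 by norm_num) hc'
    omega
  · exfalso
    have h1 : ((4 * u : ℕ) : ZMod p) = 1 := by
      rw [h4, Nat.cast_pow, Nat.cast_sub hpq.hp.one_le, ZMod.natCast_self]
      ring
    rw [Nat.cast_mul, hu', mul_one] at h1
    have := Nat.le_of_dvd (by norm_num) (dvd_sub_of_modEq (by norm_num) h1)
    have := hpq.p5; omega

end endgame

/-- A bound forcing `h = u c`. -/
theorem endgame₆ (hq1 : 1 ≤ q) (h0 : 1 ≤ h) (hu : q + 1 ≤ u) (hc : 1 ≤ c)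
    (hE : h - 1 ≤ q * ((u * c - 1) / q + (c - 1) / q)) (huc : u * c ∣ h) (hh : 2 * q ∣ h - 1) : h = u * c := by
  obtain ⟨k, hk⟩ := huc
  have hle : h - 1 ≤ (u * c - 1) + (c - 1) := by
    have h1 := Nat.mul_div_le (u * c - 1) q
    have h2 := Nat.mul_div_le (c - 1) q
    rw [Nat.mul_add] at hE
    omega
  have hcuc : c ≤ u * c := Nat.le_mul_of_pos_left c (by omega)
  rcases (show k = 0 ∨ k = 1 ∨ 2 ≤ k by omega) with rfl | rfl | hk2
  · rw [mul_zero] at hk; omega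
  · rw [hk, mul_one]
  · exfalso
    have h1 : u * c * 2 ≤ h := hk ▸ Nat.mul_le_mul_left _ hk2
    omega

/-- In the residual cases with `c = 1`, `u` is at most `(p ^ q - 1) / (p - 1)`. -/
theorem Residual.u_le (hpq : Primes p q) (hr : Residual p q u c) (hc : c = 1) : u ≤ ∑ i ∈ range q, p ^ i := by
  rcases hr with ⟨-, rfl | h⟩ | ⟨-, -, h7, -⟩ | ⟨rfl, -, h4⟩
  · exact le_rfl
  · exact h ▸ Nat.le_mul_of_pos_left u hpq.hq.pos
  · omega
  · obtain ⟨m, rfl⟩ := Nat.exists_eq_add_of_le hpq.hp.two_le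
    rw [show 2 + m - 1 = 1 + m by omega] at h4
    simp [sum_range_succ]
    nlinarith

theorem pow_lt_gsum (p : ℕ) {q : ℕ} (hq : 2 ≤ q) : p ^ (q - 1) < ∑ i ∈ range q, p ^ i := by
  obtain ⟨m, rfl⟩ : ∃ m, q = m + 2 := ⟨q - 2, by omega⟩
  rw [sum_range_succ, show m + 2 - 1 = m + 1 by omega]
  have : p ^ 0 ≤ ∑ i ∈ range (m + 1), p ^ i :=
    single_le_sum (f := fun i => p ^ i) (fun _ _ => Nat.zero_le _) (mem_range.2 (by omega))
  rw [pow_zero] at this
  omega

theorem pow_le_pow_swap (hq : 3 ≤ q) (hp : q ≤ p) : p ^ q ≤ q ^ p := by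
  induction p, hp using Nat.le_induction with
  | base => exact le_rfl
  | succ n hn ih =>
    have hn0 : (0 : ℝ) < n := by exact_mod_cast (show 0 < n by omega)
    have h1 : (1 + 1 / (n : ℝ)) ^ q ≤ 3 := by
      refine le_trans (pow_le_pow_left₀ (by positivity) ((add_comm _ _).le.trans (Real.add_one_le_exp _)) q) ?_
      rw [← Real.exp_nat_mul]
      refine le_trans (Real.exp_le_exp.2 ?_) (le_of_lt (lt_trans Real.exp_one_lt_d9 (by norm_num)))
      rw [mul_one_div, div_le_one hn0]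
      exact_mod_cast hn
    have h2 : ((n + 1 : ℕ) : ℝ) ^ q ≤ ((n ^ q * q : ℕ) : ℝ) := by
      push_cast
      rw [show (n : ℝ) + 1 = (n : ℝ) * (1 + 1 / n) by field_simp, mul_pow]
      exact mul_le_mul_of_nonneg_left (h1.trans (by exact_mod_cast hq)) (by positivity)
    refine le_trans (by exact_mod_cast h2) ?_
    rw [pow_succ q n]
    exact Nat.mul_le_mul_right q ih

/-- `p (u - 1) < q (N' - 1)`. -/
theorem endgame₇ (hpq : Primes p q) (hu : u ≤ ∑ i ∈ range q, p ^ i) :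
    p * (u - 1) < q * ((∑ i ∈ range p, q ^ i) - 1) := by
  have hp5 := hpq.p5
  have hq3 := hpq.q3
  refine lt_of_le_of_lt (Nat.mul_le_mul_left p (Nat.sub_le_sub_right hu 1)) ?_
  refine Nat.lt_of_mul_lt_mul_left (a := p - 1) ?_
  have h1 : (p - 1) * (p * ((∑ i ∈ range q, p ^ i) - 1)) < p * p ^ q := by
    rw [mul_left_comm, Nat.mul_sub, mul_comm (p - 1) (∑ i ∈ range q, p ^ i), gsum_mul p q (by omega)]
    refine Nat.mul_lt_mul_of_pos_left ?_ (by omega)
    have := Nat.one_le_pow q p (by omega)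
    omega
  have h2 : q ^ p + q ^ (p - 1) ≤ q * ((∑ i ∈ range p, q ^ i) - 1) := by
    have h4 : q ^ (p - 1) + q ^ (p - 2) + 1 ≤ ∑ i ∈ range p, q ^ i := by
      obtain ⟨m, rfl⟩ : ∃ m, p = m + 3 := ⟨p - 3, by omega⟩
      rw [sum_range_succ, sum_range_succ, show m + 3 - 1 = m + 2 by omega, show m + 3 - 2 = m + 1 by omega]
      have : q ^ 0 ≤ ∑ i ∈ range (m + 1), q ^ i :=
        single_le_sum (f := fun i => q ^ i) (fun _ _ => Nat.zero_le _) (mem_range.2 (by omega))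
      rw [pow_zero] at this
      omega
    refine le_trans ?_ (Nat.mul_le_mul_left q (Nat.le_sub_one_of_lt (Nat.lt_of_succ_le h4)))
    rw [Nat.mul_add, ← pow_succ', ← pow_succ', show p - 1 + 1 = p by omega, show p - 2 + 1 = p - 1 by omega]
  have h3 : p * q ^ p ≤ (p - 1) * (q ^ p + q ^ (p - 1)) := by
    rw [Nat.mul_add]
    have h5 : q ^ p ≤ (p - 1) * q ^ (p - 1) := by
      rw [← Nat.sub_add_cancel (show 1 ≤ p by omega), pow_succ']
      simp only [Nat.add_sub_cancel]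
      exact Nat.mul_le_mul_right _ (by have := hpq.lt; omega)
    have h6 : p * q ^ p = (p - 1) * q ^ p + q ^ p := by
      rw [← Nat.succ_mul]; congr 1; omega
    omega
  have := Nat.mul_le_mul_left p (pow_le_pow_swap hq3 hpq.lt.le)
  have := Nat.mul_le_mul_left (p - 1) h2
  omega

theorem sq_lt_three_pow (hp : 7 ≤ p) : p ^ 2 < 3 ^ (p - 3) ∧ p ^ 3 + p ^ 2 < 3 ^ (p - 1) := by
  induction p, hp using Nat.le_induction with
  | base => norm_num
  | succ n hn ih =>
    rw [show n + 1 - 3 = n - 3 + 1 by omega, show n + 1 - 1 = n - 1 + 1 by omega, pow_succ 3 (n - 3), pow_succ 3 (n - 1)]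
    exact ⟨by nlinarith, by nlinarith [Nat.mul_le_mul_right (n * n) hn]⟩

theorem endgame₇' (hpq : Primes p q) (hp : 7 ≤ p) : p ^ 2 * q ^ 2 < (∑ i ∈ range p, q ^ i) - 1 := by
  have hq3 := hpq.q3
  have h1 : p ^ 2 * q ^ 2 < q ^ (p - 1) := by
    rw [show p - 1 = p - 3 + 2 by omega, pow_add q (p - 3) 2]
    exact Nat.mul_lt_mul_of_pos_right (lt_of_lt_of_le (sq_lt_three_pow hp).1 (Nat.pow_le_pow_left hq3 _))
      (pow_pos hpq.hq.pos 2)
  have h2 := pow_lt_gsum q hpq.hp.two_le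
  omega

theorem endgame₇'' (hpq : Primes p q) (hp : 7 ≤ p) (hq : q = 3) (hu : u ≤ ∑ i ∈ range q, p ^ i) :
    p * (u - 1) < (∑ i ∈ range p, q ^ i) - 1 := by
  subst hq
  have h1 : p * (u - 1) ≤ p * (p + p ^ 2) :=
    Nat.mul_le_mul_left p (le_trans (Nat.sub_le_sub_right hu 1) (by simp [sum_range_succ]; omega))
  have h2 : p * (p + p ^ 2) = p ^ 3 + p ^ 2 := by ring
  have h3 := (sq_lt_three_pow hp).2
  have h4 : 3 ^ (p - 1) < ∑ i ∈ range p, 3 ^ i := pow_lt_gsum 3 (by omega)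
  omega

end Cfsg.Agent.Grp.FT.Arith
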