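import Cfsg.Agent.Lib.Grp.FT.Fluct

/-!
The bounds coming from the fluctuation: for a grid member and for the character attached to the regular linear
characters of `P × C`.
-/

set_option autoImplicit false
set_option linter.unusedSectionVars false
set_option linter.style.haveILetI false
set_option maxHeartbeats 1000000

namespace Cfsg.Agent.Grp.FT

open Subgroup Cfsg.Agent.Char Cfsg.Agent.Transfer Cfsg.Agent.Transfer.Loc
open scoped ComplexConjugate Pointwise

attribute [local instance] _root_.Classical.propDecidable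

universe u

variable {G : Type u} [Group G] [Fintype G]

theorem Grid.inner_colSum {A B : Subgroup G} (E : Grid A B) [Fintype (↥A →* ℂˣ)] (χ : G → ℂ) (g : ↥B →* ℂˣ) :
    Cfsg.classInner χ (E.colSum g) = ∑ f, Cfsg.classInner χ (E.eta f g) := by
  rw [E.colSum_eq, classInner_sum_right]

theorem Grid.colSum_colSum {A B : Subgroup G} (E : Grid A B) {g g' : ↥B →* ℂˣ} (h : g ≠ g') :
    Cfsg.classInner (E.colSum g) (E.colSum g') = 0 := by
  haveI := E.finite_left
  letI := Fintype.ofFinite (↥A →* ℂˣ)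
  rw [E.inner_colSum]
  exact Finset.sum_eq_zero fun f _ => by rw [E.colSum_inner, if_neg h]

namespace Side

variable {M P U C A B : Subgroup G} {p q : ℕ} (hs : Side M P U C A B p q) [Fintype M]
  [Fintype (↥(P ⊔ C) →* ℂˣ)]
include hs

/-- The regular characters, as a finite set. -/
noncomputable def regFin (_hs : Side M P U C A B p q) : Finset (↥(P ⊔ C) →* ℂˣ) :=
  Finset.univ.filter fun l => l ∈ regChar M P C

theorem mem_regFin {l : ↥(P ⊔ C) →* ℂˣ} : l ∈ hs.regFin ↔ l ∈ regChar M P C := by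
  rw [regFin, Finset.mem_filter]
  exact and_iff_right (Finset.mem_univ _)

theorem card_regFin : hs.regFin.card = (regChar M P C).ncard := by
  rw [← Set.ncard_coe_finset]
  congr 1
  ext l
  rw [Finset.mem_coe, hs.mem_regFin]

theorem lam_orbit_disjoint {g g' : ↥B →* ℂˣ} (hg' : g' ≠ 1) (hne : g ≠ g') :
    Disjoint (hs.orbit (hs.lam g)) (hs.orbit (hs.lam g')) := by
  rw [Finset.disjoint_left]
  intro l h1 h2
  obtain ⟨x, hx, hxl⟩ := hs.mem_orbit.1 h1
  obtain ⟨y, hy, hyl⟩ := hs.mem_orbit.1 h2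
  refine hne (hs.conjEq_lam hg' (mul_mem (inv_mem hx) hy) ?_).1
  intro a b e
  have ha : y * (a : G) * y⁻¹ ∈ P ⊔ C := conj_mem_of_mem hs.PC_le hs.M_norm_PC hy a
  rw [← hyl a ⟨_, ha⟩ rfl, hxl b ⟨_, ha⟩ (by show x * (b : G) * x⁻¹ = y * (a : G) * y⁻¹; rw [← e]; group)]

theorem lam_orbit_regFin (g : ↥B →* ℂˣ) : Disjoint hs.regFin (hs.orbit (hs.lam g)) := by
  rw [Finset.disjoint_left]
  intro l h1 h2
  obtain ⟨x, hx, hxl⟩ := hs.mem_orbit.1 h2
  exact hs.reg_not_conj_lam (hs.mem_regFin.1 h1) g hx hxl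

/-- The characters under control. -/
noncomputable def ctrl (_hs : Side M P U C A B p q) (X : Finset (↥B →* ℂˣ)) : Finset (↥(P ⊔ C) →* ℂˣ) :=
  _hs.regFin ∪ X.biUnion fun g => _hs.orbit (_hs.lam g)

theorem mem_ctrl {X : Finset (↥B →* ℂˣ)} {l : ↥(P ⊔ C) →* ℂˣ} :
    l ∈ hs.ctrl X ↔ l ∈ regChar M P C ∨ ∃ g ∈ X, l ∈ hs.orbit (hs.lam g) := by
  rw [ctrl, Finset.mem_union, hs.mem_regFin, Finset.mem_biUnion]

theorem card_ctrl {X : Finset (↥B →* ℂˣ)} (hX : ∀ g ∈ X, g ≠ 1) :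
    (hs.ctrl X).card = (regChar M P C).ncard + X.card * C.relIndex U := by
  rw [ctrl, Finset.card_union_of_disjoint ((Finset.disjoint_biUnion_right _ _ _).2 fun g _ => hs.lam_orbit_regFin g),
    hs.card_regFin, Finset.card_biUnion fun g _ g' hg' hne => hs.lam_orbit_disjoint (hX g' hg') hne,
    Finset.sum_const_nat fun g hg => hs.card_orbit_lam (hX g hg)]

theorem ctrl_ne {X : Finset (↥B →* ℂˣ)} (hX : ∀ g ∈ X, g ≠ 1) {l : ↥(P ⊔ C) →* ℂˣ} (hl : l ∈ hs.ctrl X) :
    ∃ y : ↥(P ⊔ C), (y : G) ∈ P ∧ l y ≠ 1 := by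
  rcases hs.mem_ctrl.1 hl with h | ⟨g, hg, h⟩
  · exact h.1
  · exact hs.lam_orbit_ne (hX g hg) h

theorem orbit_symm {l l' : ↥(P ⊔ C) →* ℂˣ} {x : G} (hx : x ∈ M) (h : ConjEq x l l') : l' ∈ hs.orbit l :=
  hs.mem_orbit.2 ⟨x⁻¹, inv_mem hx, fun a b e => (h b a (by rw [← e]; group)).symm⟩

theorem card_dual₂ [Fintype (↥B →* ℂˣ)] (E : Grid A B) : Fintype.card (↥B →* ℂˣ) = p := by
  rw [E.swap.card_left, hs.card₂]

theorem three_le_p : 3 ≤ p := by
  have h2 := hs.hp.two_le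
  rcases eq_or_ne p 2 with e | e
  · exfalso
    have : 2 ∣ Nat.card G := by rw [← e, ← hs.card₂]; exact Subgroup.card_subgroup_dvd_card B
    exact Nat.not_odd_iff_even.2 (even_iff_two_dvd.2 this) hs.hG.1
  · omega

variable (E : Grid A B)

/-- The two forms of the image of a regular character. -/
def TypeX (_hs : Side M P U C A B p q) (l : ↥(P ⊔ C) →* ℂˣ) (flip : Bool) (X : G → ℂ) : Prop :=
  if flip then p = 3 ∧ ∀ g g', g ≠ 1 → g' ≠ 1 → g ≠ g' →
    _hs.tauS (indLin M l - indLin M (_hs.lam g)) = X + E.colSum g'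
  else ∀ g, g ≠ 1 → _hs.tauS (indLin M l - indLin M (_hs.lam g)) = X - E.colSum g

theorem exists_third (E : Grid A B) {g : ↥B →* ℂˣ} : ∃ g' : ↥B →* ℂˣ, g' ≠ 1 ∧ g' ≠ g := by
  haveI := E.swap.finite_left
  letI := Fintype.ofFinite (↥B →* ℂˣ)
  by_contra hno
  push Not at hno
  have : (Finset.univ : Finset (↥B →* ℂˣ)) ⊆ {1, g} := fun x _ => by
    by_cases hx : x = 1
    · simp [hx]
    · simp [hno x hx]
  have h1 := (Finset.card_le_card this).trans Finset.card_le_two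
  rw [Finset.card_univ, hs.card_dual₂ E] at h1
  have := hs.three_le_p
  omega

theorem exists_typeX {l : ↥(P ⊔ C) →* ℂˣ} (hl : l ∈ regChar M P C) :
    ∃ b X, Cfsg.IsGeneralizedCharacter G X ∧ Cfsg.classInner X X = 1 ∧
      (∀ f g, Cfsg.classInner X (E.eta f g) = 0) ∧ hs.TypeX E l b X := by
  obtain ⟨X, h1, h2, h3, h4 | h4⟩ := hs.exists_X E hl
  · exact ⟨false, X, h1, h2, h3, by simpa [TypeX] using h4⟩
  · exact ⟨true, X, h1, h2, h3, by simpa [TypeX] using h4⟩

/-- Regular characters that are not conjugate have the same form and orthogonal images. -/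
theorem typeX_cross {l₀ l : ↥(P ⊔ C) →* ℂˣ} (hne : l ∉ hs.orbit l₀) {b b' : Bool} {X Y : G → ℂ}
    (hl₀ : l₀ ∈ regChar M P C) (hl : l ∈ regChar M P C)
    (hX : Cfsg.IsGeneralizedCharacter G X) (hY : Cfsg.IsGeneralizedCharacter G Y)
    (hX1 : Cfsg.classInner X X = 1) (hY1 : Cfsg.classInner Y Y = 1)
    (hX0 : ∀ f g, Cfsg.classInner X (E.eta f g) = 0) (hY0 : ∀ f g, Cfsg.classInner Y (E.eta f g) = 0)
    (hb : hs.TypeX E l₀ b X) (hb' : hs.TypeX E l b' Y) : b = b' ∧ Cfsg.classInner X Y = 0 := by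
  haveI := E.finite_left
  letI := Fintype.ofFinite (↥A →* ℂˣ)
  obtain ⟨g, hg, -⟩ := hs.exists_third E (g := 1)
  obtain ⟨g', hg', hgg'⟩ := hs.exists_third E (g := g)
  have hcol : ∀ {Z : G → ℂ}, (∀ f g, Cfsg.classInner Z (E.eta f g) = 0) → ∀ k,
      Cfsg.classInner Z (E.colSum k) = 0 ∧ Cfsg.classInner (E.colSum k) Z = 0 := fun {Z} hZ k => by
    have h1 : Cfsg.classInner Z (E.colSum k) = 0 := by
      rw [E.inner_colSum]; exact Finset.sum_eq_zero fun f _ => hZ f k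
    exact ⟨h1, by rw [← classInner_conj_symm, h1, map_zero]⟩
  have hD : Cfsg.classInner (hs.tauS (indLin M l₀ - indLin M (hs.lam g))) (hs.tauS (indLin M l - indLin M (hs.lam g))) =
      (q : ℂ) := by
    have o1 := indLin_orth hs.PC_le hs.M_norm_PC l₀ l fun x hx h => hne (hs.orbit_symm hx h)
    have o2 := indLin_orth hs.PC_le hs.M_norm_PC l₀ (hs.lam g) fun x hx => hs.reg_not_conj_lam hl₀ g hx
    have o3 := indLin_orth hs.PC_le hs.M_norm_PC l (hs.lam g) fun x hx => hs.reg_not_conj_lam hl g hx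
    have o3' : Cfsg.classInner (indLin M (hs.lam g)) (indLin M l) = 0 := by rw [← classInner_conj_symm, o3, map_zero]
    simp only [hs.tauS_iso hs.supp_indLin hs.supp_indLin, classInner_sub_left, classInner_sub_right, o1, o2, o3',
      hs.norm_lam hg, sub_zero, zero_sub, neg_neg]
  have hq : (3 : ℤ) ≤ q := by
    have := hs.hG.1.of_dvd_nat (hs.card₁ ▸ Subgroup.card_subgroup_dvd_card A)
    have := hs.hq.two_le
    rcases this.lt_or_eq with h | h
    · omega
    · subst h; exact absurd ‹Odd 2› (by decide)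
  obtain ⟨n1, n2, -, -⟩ := unit_inner hX hY hX1 hY1
  have hn := zInner_spec hX hY
  have hqq : Cfsg.classInner (E.colSum g) (E.colSum g) = (q : ℂ) := by rw [E.colSum_norm, hs.card₁]
  have hqq' : Cfsg.classInner (E.colSum g') (E.colSum g') = (q : ℂ) := by rw [E.colSum_norm, hs.card₁]
  cases b <;> cases b' <;> simp only [TypeX, if_true, if_false, Bool.false_eq_true] at hb hb'
  · rw [hb g hg, hb' g hg] at hD
    simp only [classInner_sub_left, classInner_sub_right, hcol hX0, hcol hY0, hqq, hn] at hD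
    exact ⟨rfl, by rw [hn]; linear_combination hD⟩
  · rw [hb g hg, hb'.2 g g' hg hg' hgg'.symm] at hD
    simp only [classInner_sub_left, classInner_add_right, hcol hX0, hcol hY0, E.colSum_colSum hgg'.symm, hn] at hD
    have : zInner X Y = (q : ℤ) := by
      apply Int.cast_injective (α := ℂ); push_cast; linear_combination hD
    omega
  · rw [hb.2 g g' hg hg' hgg'.symm, hb' g hg] at hD
    simp only [classInner_add_left, classInner_sub_right, hcol hX0, hcol hY0, E.colSum_colSum hgg', hn] at hD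
    have : zInner X Y = (q : ℤ) := by
      apply Int.cast_injective (α := ℂ); push_cast; linear_combination hD
    omega
  · rw [hb.2 g g' hg hg' hgg'.symm, hb'.2 g g' hg hg' hgg'.symm] at hD
    simp only [classInner_add_left, classInner_add_right, hcol hX0, hcol hY0, hqq', hn] at hD
    exact ⟨rfl, by rw [hn]; linear_combination hD⟩

/-- A bound for the fluctuation of a class function on `P × C`. -/
def Block (_hs : Side M P U C A B p q) (χ : G → ℂ) (R₀ : ℝ) : Prop :=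
  ∀ O R : Finset (↥(P ⊔ C) →* ℂˣ), Disjoint O R →
    (∀ l, l ∈ O ∨ l ∈ R → ∃ y : ↥(P ⊔ C), (y : G) ∈ P ∧ l y ≠ 1) →
    ∀ s ε : ℂ, (∀ l ∈ R, linCoef χ l = s) → (∀ l ∈ O, linCoef χ l = s + ε) →
      Complex.normSq ε * ((Nat.card ↥(P ⊔ C) : ℝ) * ((O.card : ℝ) * R.card / ((O.card : ℝ) + R.card))) /
        Nat.card M ≤ R₀

theorem weight_facts : (C.relIndex U : ℝ) * q * Nat.card ↥(P ⊔ C) = Nat.card M ∧
    weight M P U C p = (p - 1) * C.relIndex U + (regChar M P C).ncard :=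
  ⟨by exact_mod_cast hs.card_M.symm, rfl⟩

/-- The fluctuation of a grid member. -/
theorem eta_block (f₀ : ↥A →* ℂˣ) {g₀ : ↥B →* ℂˣ} (hg₀ : g₀ ≠ 1) {R₀ : ℝ} (hb₀ : hs.Block (E.eta f₀ g₀) R₀) :
    (q : ℝ)⁻¹ * (1 - (C.relIndex U : ℝ) / weight M P U C p) ≤ R₀ := by
  letI : Fintype ↥(P ⊔ C) := Fintype.ofFinite _
  haveI := E.swap.finite_left
  letI := Fintype.ofFinite (↥B →* ℂˣ)
  set χ := E.eta f₀ g₀
  have hχ := E.classFun f₀ g₀
  have hcol : ∀ g, Cfsg.classInner χ (E.colSum g) = if g = g₀ then 1 else 0 := fun g => by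
    rw [← classInner_conj_symm, E.colSum_inner]; split_ifs <;> simp
  have hlam : ∀ g, g ≠ 1 → linCoef χ (hs.lam g) - linCoef χ (hs.lam g₀) = (if g = g₀ then 1 else 0) - 1 :=
    fun g hg => by rw [hs.coef_lam_sub E hχ hg hg₀, hcol, hcol, if_pos rfl]
  -- the exceptional orbit and the common value
  obtain ⟨g₁, hg₁, s, ε, hε, hsg₁, hs', hreg⟩ : ∃ g₁, g₁ ≠ 1 ∧ ∃ s ε : ℂ, Complex.normSq ε = 1 ∧
      linCoef χ (hs.lam g₁) = s + ε ∧ (∀ g, g ≠ 1 → g ≠ g₁ → linCoef χ (hs.lam g) = s) ∧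
      ∀ l ∈ regChar M P C, linCoef χ l = s := by
    obtain ⟨g₂, hg₂, hg₂₀⟩ := hs.exists_third E (g := g₀)
    rcases (regChar M P C).eq_empty_or_nonempty with he | ⟨l₀, hl₀⟩
    · refine ⟨g₀, hg₀, linCoef χ (hs.lam g₀) - 1, 1, by simp, by ring, fun g hg hne => ?_, fun l hl => ?_⟩
      · have := hlam g hg; rw [if_neg hne] at this; linear_combination this
      · rw [he] at hl; exact hl.elim
    obtain ⟨b, X, hXg, hX1, hX0, hb⟩ := hs.exists_typeX E hl₀
    have hall : ∀ l ∈ regChar M P C, linCoef χ l = linCoef χ (hs.lam g₀) - if b then 0 else 1 := by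
      intro l hl
      obtain ⟨b', Y, hYg, hY1, hY0, hb'⟩ := hs.exists_typeX E hl
      have hY : Cfsg.classInner χ Y = 0 := by rw [← classInner_conj_symm, hY0, map_zero]
      by_cases hor : l ∈ hs.orbit l₀
      · obtain ⟨x, hx, hxl⟩ := hs.mem_orbit.1 hor
        rw [hs.coef_conj hχ hx hxl]
        have hX : Cfsg.classInner χ X = 0 := by rw [← classInner_conj_symm, hX0, map_zero]
        have key := hs.inner_tau_indLin hχ l₀ (hs.lam g₀)
        cases b <;> simp only [TypeX, if_true, if_false, Bool.false_eq_true] at hb ⊢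
        · rw [hb g₀ hg₀, classInner_sub_right, hX, hcol, if_pos rfl] at key; linear_combination -key
        · rw [hb.2 g₀ g₂ hg₀ hg₂ hg₂₀.symm, classInner_add_right, hX, hcol, if_neg hg₂₀] at key
          linear_combination -key
      · obtain ⟨rfl, -⟩ := hs.typeX_cross E hor hl₀ hl hXg hYg hX1 hY1 hX0 hY0 hb hb'
        have key := hs.inner_tau_indLin hχ l (hs.lam g₀)
        cases b <;> simp only [TypeX, if_true, if_false, Bool.false_eq_true] at hb' ⊢
        · rw [hb' g₀ hg₀, classInner_sub_right, hY, hcol, if_pos rfl] at key; linear_combination -key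
        · rw [hb'.2 g₀ g₂ hg₀ hg₂ hg₂₀.symm, classInner_add_right, hY, hcol, if_neg hg₂₀] at key
          linear_combination -key
    cases b
    · refine ⟨g₀, hg₀, linCoef χ (hs.lam g₀) - 1, 1, by simp, by ring, fun g hg hne => ?_, fun l hl => ?_⟩
      · have := hlam g hg; rw [if_neg hne] at this; linear_combination this
      · rw [hall l hl]; simp
    · have hp3 : p = 3 := by
        simp only [TypeX, if_true] at hb; exact hb.1
      refine ⟨g₂, hg₂, linCoef χ (hs.lam g₀), -1, by simp, ?_, fun g hg hne => ?_, fun l hl => ?_⟩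
      · have := hlam g₂ hg₂; rw [if_neg hg₂₀] at this; linear_combination this
      · have hg0 : g = g₀ := by
          by_contra hne0
          have h1 : ({1, g₀, g₂, g} : Finset (↥B →* ℂˣ)).card ≤ 3 := by
            rw [← hp3, ← hs.card_dual₂ E]; exact Finset.card_le_univ _
          rw [Finset.card_insert_of_notMem (by simp [hg₀.symm, hg₂.symm, hg.symm]),
            Finset.card_insert_of_notMem (by simp [hg₂₀.symm, Ne.symm hne0]),
            Finset.card_insert_of_notMem (by simp [Ne.symm hne]), Finset.card_singleton] at h1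
          omega
        rw [hg0]
      · rw [hall l hl]; simp
  have hne : ∀ g ∈ ((Finset.univ : Finset (↥B →* ℂˣ)).erase 1).erase g₁, g ≠ 1 := fun g hg =>
    Finset.ne_of_mem_erase (Finset.mem_of_mem_erase hg)
  have hdis : Disjoint (hs.orbit (hs.lam g₁)) (hs.ctrl (((Finset.univ : Finset (↥B →* ℂˣ)).erase 1).erase g₁)) := by
    rw [Finset.disjoint_left]
    intro l h1 h2
    rcases hs.mem_ctrl.1 h2 with h2 | ⟨g, hg, h2⟩
    · exact Finset.disjoint_left.1 (hs.lam_orbit_regFin g₁) (hs.mem_regFin.2 h2) h1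
    · exact Finset.disjoint_left.1 (hs.lam_orbit_disjoint hg₁ (Finset.ne_of_mem_erase hg)) h2 h1
  refine le_trans ?_ (hb₀ (hs.orbit (hs.lam g₁))
    (hs.ctrl (((Finset.univ : Finset (↥B →* ℂˣ)).erase 1).erase g₁)) hdis
    (fun l hl => hl.elim (hs.lam_orbit_ne hg₁) (hs.ctrl_ne hne)) s ε
    (fun l hl => by
      rcases hs.mem_ctrl.1 hl with hl | ⟨g, hg, hl⟩
      · exact hreg l hl
      · obtain ⟨x, hx, hxl⟩ := hs.mem_orbit.1 hl
        rw [hs.coef_conj hχ hx hxl]
        exact hs' g (hne g hg) (Finset.ne_of_mem_erase hg))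
    (fun l hl => by
      obtain ⟨x, hx, hxl⟩ := hs.mem_orbit.1 hl
      rw [hs.coef_conj hχ hx hxl, hsg₁]))
  obtain ⟨hS, hW⟩ := hs.weight_facts
  rw [hs.card_orbit_lam hg₁, hs.card_ctrl hne, Finset.card_erase_of_mem (Finset.mem_erase.2 ⟨hg₁, Finset.mem_univ _⟩),
    Finset.card_erase_of_mem (Finset.mem_univ _), Finset.card_univ, hs.card_dual₂ E, hε, ← hS, hW]
  have hp := hs.three_le_p
  have hu : 0 < C.relIndex U := Nat.pos_of_ne_zero Subgroup.index_ne_zero_of_finite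
  push_cast [Nat.cast_sub (show 1 ≤ p by omega), Nat.cast_sub (show 1 ≤ p - 1 by omega)]
  have hq0 : (q : ℝ) ≠ 0 := Nat.cast_ne_zero.2 hs.hq.ne_zero
  have hu0 : (0 : ℝ) < C.relIndex U := Nat.cast_pos.2 hu
  have hPC : (Nat.card ↥(P ⊔ C) : ℝ) ≠ 0 := Nat.cast_ne_zero.2 Nat.card_pos.ne'
  have hpR : (3 : ℝ) ≤ p := by exact_mod_cast hp
  set r : ℝ := ((regChar M P C).ncard : ℝ)
  have hr : 0 ≤ r := Nat.cast_nonneg _
  have hW0 : (0 : ℝ) < ((p : ℝ) - 1) * C.relIndex U + r := by nlinarith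
  rw [show (C.relIndex U : ℝ) + (r + (((p : ℝ) - 1) - 1) * C.relIndex U) = ((p : ℝ) - 1) * C.relIndex U + r by ring,
    show r + (((p : ℝ) - 1) - 1) * C.relIndex U = ((p : ℝ) - 1) * C.relIndex U + r - C.relIndex U by ring]
  generalize ((p : ℝ) - 1) * C.relIndex U + r = Wd at hW0 ⊢
  refine le_of_eq ?_
  field_simp

/-- The character attached to a regular linear character. -/
theorem exists_block [Fintype (↥A →* ℂˣ)] (hne : (regChar M P C).Nonempty) {g : ↥B →* ℂˣ} (hg : g ≠ 1) :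
    ∃ X : G → ℂ, Cfsg.IsGeneralizedCharacter G X ∧ Cfsg.classInner X X = 1 ∧
      (∀ f k, Cfsg.classInner X (E.eta f k) = 0) ∧
      (∀ R₀, hs.Block X R₀ → 1 - (q : ℝ) * C.relIndex U / weight M P U C p ≤ R₀) ∧
      ∀ N : Member G, Disjoint N.reg (mixed A B) →
        (∀ α : N.L → ℂ, (α = N.base - N.xi N.i₀ ∨ ∃ i, α = N.xi i - (N.d i : ℂ) • N.xi N.i₀) →
          ∀ l l' : ↥(P ⊔ C) →* ℂˣ, (∃ y : ↥(P ⊔ C), (y : G) ∈ P ∧ l y ≠ 1) →
            (∃ y : ↥(P ⊔ C), (y : G) ∈ P ∧ l' y ≠ 1) →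
            Cfsg.classInner (N.tau α) (hs.tauS (indLin M l - indLin M l')) = 0) →
        (∀ k, k ≠ 1 → ∑ f, E.coef N.beta f k = ∑ f, E.coef N.beta f g) →
        (∀ i, Cfsg.classInner X (N.Z i) = (N.d i : ℂ) * Cfsg.classInner X (N.Z N.i₀)) ∧
          Complex.normSq (Cfsg.classInner X N.beta) = ((∑ f, E.coef N.beta f g : ℤ) : ℝ) ^ 2 := by
  letI : Fintype ↥(P ⊔ C) := Fintype.ofFinite _
  haveI := E.swap.finite_left
  letI := Fintype.ofFinite (↥B →* ℂˣ)
  obtain ⟨l₀, hl₀⟩ := hne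
  obtain ⟨b, X, hXg, hX1, hX0, hb⟩ := hs.exists_typeX E hl₀
  have hX := IsGenChar.classFun hXg
  have hcol : ∀ k, Cfsg.classInner X (E.colSum k) = 0 := fun k => by
    rw [E.inner_colSum]; exact Finset.sum_eq_zero fun f _ => hX0 f k
  -- the column used
  obtain ⟨g₁, g₂, hg₁, hg₂, σ, hσ, hDX⟩ : ∃ g₁ g₂, g₁ ≠ 1 ∧ g₂ ≠ 1 ∧ ∃ σ : ℂ, Complex.normSq σ = 1 ∧
      hs.tauS (indLin M l₀ - indLin M (hs.lam g₁)) = X - σ • E.colSum g₂ := by
    cases b <;> simp only [TypeX, if_true, if_false, Bool.false_eq_true] at hb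
    · exact ⟨g, g, hg, hg, 1, by simp, by rw [one_smul, hb g hg]⟩
    · obtain ⟨g', hg', hgg'⟩ := hs.exists_third E (g := g)
      exact ⟨g', g, hg', hg, -1, by simp, by rw [hb.2 g' g hg' hg hgg', neg_one_smul, sub_neg_eq_add]⟩
  have hlam : ∀ k, k ≠ 1 → linCoef X (hs.lam k) = linCoef X (hs.lam g) := fun k hk => by
    have := hs.coef_lam_sub E hX hk hg
    rw [hcol, hcol, sub_self] at this
    exact sub_eq_zero.1 this
  have hl₀s : linCoef X l₀ = linCoef X (hs.lam g) + 1 := by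
    have := hs.inner_tau_indLin hX l₀ (hs.lam g₁)
    rw [hDX, classInner_sub_right, classInner_smul_right, hcol, mul_zero, sub_zero, hX1, hlam g₁ hg₁] at this
    linear_combination -this
  have hother : ∀ l ∈ regChar M P C, l ∉ hs.orbit l₀ → linCoef X l = linCoef X (hs.lam g) := by
    intro l hl hor
    obtain ⟨b', Y, hYg, hY1, hY0, hb'⟩ := hs.exists_typeX E hl
    obtain ⟨-, hXY⟩ := hs.typeX_cross E hor hl₀ hl hXg hYg hX1 hY1 hX0 hY0 hb hb'
    have key := hs.inner_tau_indLin hX l (hs.lam g)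
    cases b' <;> simp only [TypeX, if_true, if_false, Bool.false_eq_true] at hb'
    · rw [hb' g hg, classInner_sub_right, hXY, hcol, sub_zero] at key; linear_combination -key
    · obtain ⟨g', hg', hgg'⟩ := hs.exists_third E (g := g)
      rw [hb'.2 g g' hg hg' hgg'.symm, classInner_add_right, hXY, hcol, add_zero] at key; linear_combination -key
  refine ⟨X, hXg, hX1, hX0, fun R₀ hR₀ => ?_, fun N hNV hperp hconst => ⟨fun i => ?_, ?_⟩⟩
  rotate_left
  · have h1 := hperp _ (Or.inr ⟨i, rfl⟩) l₀ (hs.lam g₁) hl₀.1 (hs.lam_ne hg₁)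
    rw [hDX] at h1
    have h2 : ∀ j, Cfsg.classInner (N.Z j) (E.colSum g₂) = 0 := fun j => by
      rw [E.inner_colSum]
      exact Finset.sum_eq_zero fun f _ => N.Z_grid E hs.hG.1 hNV j f g₂
    rw [show N.tau (N.xi i - (N.d i : ℂ) • N.xi N.i₀) = N.Z i - (N.d i : ℂ) • N.Z N.i₀ from N.Z_diff i,
      classInner_sub_right, classInner_smul_right, classInner_sub_left, classInner_smul_left, classInner_sub_left,
      classInner_smul_left, h2, h2, mul_zero, sub_zero, mul_zero, sub_zero] at h1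
    rw [← classInner_conj_symm, sub_eq_zero.1 h1, map_mul, map_natCast, classInner_conj_symm]
  · have h1 : Cfsg.classInner N.beta (hs.tauS (indLin M l₀ - indLin M (hs.lam g₁))) = 0 :=
      hperp _ (Or.inl rfl) l₀ (hs.lam g₁) hl₀.1 (hs.lam_ne hg₁)
    rw [hDX, classInner_sub_right, classInner_smul_right, sub_eq_zero, E.inner_colSum,
      Finset.sum_congr rfl fun f _ => E.coef_spec N.beta_gen f g₂, ← Int.cast_sum, hconst g₂ hg₂] at h1
    rw [← classInner_conj_symm, Complex.normSq_conj, h1, map_mul, Complex.normSq_conj, hσ, one_mul,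
      Complex.normSq_intCast]
    ring
  have hne' : ∀ k ∈ (Finset.univ : Finset (↥B →* ℂˣ)).erase 1, k ≠ 1 := fun k hk => Finset.ne_of_mem_erase hk
  set R := hs.ctrl ((Finset.univ : Finset (↥B →* ℂˣ)).erase 1) \ hs.orbit l₀ with hRdef
  have hOsub : hs.orbit l₀ ⊆ hs.ctrl ((Finset.univ : Finset (↥B →* ℂˣ)).erase 1) := fun l hl => by
    obtain ⟨x, hx, hxl⟩ := hs.mem_orbit.1 hl
    exact hs.mem_ctrl.2 (Or.inl (hs.reg_conj hl₀ hx hxl))
  have hcardR : (R.card : ℝ) = (weight M P U C p : ℝ) - C.relIndex U * q := by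
    rw [hRdef, Finset.card_sdiff_of_subset hOsub, Nat.cast_sub (Finset.card_le_card hOsub),
      hs.card_ctrl hne', hs.card_orbit_reg hl₀, Finset.card_erase_of_mem (Finset.mem_univ _), Finset.card_univ,
      hs.card_dual₂ E, weight]
    push_cast
    ring
  refine le_trans (le_of_eq ?_) (hR₀ (hs.orbit l₀) R Finset.disjoint_sdiff
    (fun l hl => hl.elim (fun hl => hs.ctrl_ne hne' (hOsub hl)) fun hl => hs.ctrl_ne hne' (Finset.mem_sdiff.1 hl).1)
    (linCoef X (hs.lam g)) 1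
    (fun l hl => by
      obtain ⟨hl, hno⟩ := Finset.mem_sdiff.1 hl
      rcases hs.mem_ctrl.1 hl with hl | ⟨k, hk, hl⟩
      · exact hother l hl hno
      · obtain ⟨x, hx, hxl⟩ := hs.mem_orbit.1 hl
        rw [hs.coef_conj hX hx hxl, hlam k (hne' k hk)])
    (fun l hl => by
      obtain ⟨x, hx, hxl⟩ := hs.mem_orbit.1 hl
      rw [hs.coef_conj hX hx hxl, hl₀s]))
  symm
  obtain ⟨hS, hW⟩ := hs.weight_facts
  rw [hcardR, hs.card_orbit_reg hl₀, map_one, ← hS]
  push_cast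
  have hq0 : (q : ℝ) ≠ 0 := Nat.cast_ne_zero.2 hs.hq.ne_zero
  have hu0 : (C.relIndex U : ℝ) ≠ 0 := Nat.cast_ne_zero.2 Subgroup.index_ne_zero_of_finite
  have hPC : (Nat.card ↥(P ⊔ C) : ℝ) ≠ 0 := Nat.cast_ne_zero.2 Nat.card_pos.ne'
  have hW0 : (weight M P U C p : ℝ) ≠ 0 := Nat.cast_ne_zero.2 (by
    rw [hW]
    have hu : 0 < C.relIndex U := Nat.pos_of_ne_zero Subgroup.index_ne_zero_of_finite
    have hp := hs.three_le_p
    have := Nat.mul_pos (show 0 < p - 1 by omega) hu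
    omega)
  rw [show (C.relIndex U : ℝ) * q + ((weight M P U C p : ℝ) - C.relIndex U * q) =
    (weight M P U C p : ℝ) by ring]
  field_simp

end Side

namespace Pair

variable {S T W₁ W₂ : Subgroup G} {𝓛 : Finset (Subgroup G)} (h : Pair S T W₁ W₂) (hc : Cover S T W₁ W₂ 𝓛)
  {U C : Subgroup G} {p q : ℕ} (hs : Side S (Cfsg.fittingHallOf S) U C W₁ W₂ p q) [Fintype S] (E : Grid W₁ W₂)
include h hc hs

theorem mem_disjoint_mixed (L : {L // L ∈ 𝓛}) : Disjoint (hc.mem h.hG L).reg (mixed W₁ W₂) := by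
  rw [hc.mem_reg]
  exact hc.disjoint_mixed L.1 (Or.inr (Or.inr L.2))

/-- The fluctuation on a side of type II. -/
theorem block {χ : G → ℂ} (hχ : Cfsg.IsClassFunction G χ)
    (horth : ∀ L i, Cfsg.classInner χ ((hc.mem h.hG L).Z i) =
      ((hc.mem h.hG L).d i : ℂ) * Cfsg.classInner χ ((hc.mem h.hG L).Z (hc.mem h.hG L).i₀)) :
    hs.Block χ (energy (reg S) χ + ∑ L ∈ 𝓛, energy (reg L) χ -
      ∑ L, Complex.normSq (Cfsg.classInner χ (hc.mem h.hG L).beta) * meas L.1) := by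
  letI : Fintype ↥(Cfsg.fittingHallOf S ⊔ C) := Fintype.ofFinite _
  intro O R hOR hP s ε hR hO
  rw [le_sub_iff_add_le]
  exact h.fluct hc hs hχ horth O R hOR hP s ε hR hO

/-- The bound for a grid member. -/
theorem eta_fluct (f₀ : ↥W₁ →* ℂˣ) {g₀ : ↥W₂ →* ℂˣ} (hg₀ : g₀ ≠ 1) :
    (q : ℝ)⁻¹ * (1 - (C.relIndex U : ℝ) / weight S (Cfsg.fittingHallOf S) U C p) +
      ∑ L, (E.coef (hc.mem h.hG L).beta f₀ g₀ : ℝ) ^ 2 * meas L.1 ≤
      energy (reg S) (E.eta f₀ g₀) + ∑ L ∈ 𝓛, energy (reg L) (E.eta f₀ g₀) := by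
  letI : Fintype (↥(Cfsg.fittingHallOf S ⊔ C) →* ℂˣ) := Fintype.ofFinite _
  have h0 : ∀ L i, Cfsg.classInner (E.eta f₀ g₀) ((hc.mem h.hG L).Z i) = 0 := fun L i => by
    rw [← classInner_conj_symm, (hc.mem h.hG L).Z_grid E hs.hG.1 (h.mem_disjoint_mixed hc hs L) i f₀ g₀, map_zero]
  have hmain := hs.eta_block E f₀ hg₀ (h.block hc hs (E.classFun f₀ g₀) fun L i => by rw [h0, h0, mul_zero])
  refine le_trans (le_of_eq ?_) (le_sub_iff_add_le.1 hmain)
  congr 1
  refine Finset.sum_congr rfl fun L _ => ?_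
  rw [← classInner_conj_symm, E.coef_spec (hc.mem h.hG L).beta_gen, map_intCast, Complex.normSq_intCast]
  ring

/-- The bound from the character attached to a regular linear character. -/
theorem X_bound [Fintype (↥W₁ →* ℂˣ)] (hne : (regChar S (Cfsg.fittingHallOf S) C).Nonempty) {g : ↥W₂ →* ℂˣ}
    (hg : g ≠ 1) (hconst : ∀ L g', g' ≠ 1 →
      ∑ f, E.coef (hc.mem h.hG L).beta f g' = ∑ f, E.coef (hc.mem h.hG L).beta f g) :
    ∑ L, ((∑ f, E.coef (hc.mem h.hG L).beta f g : ℤ) : ℝ) ^ 2 * meas L.1 ≤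
      (q : ℝ) * C.relIndex U / weight S (Cfsg.fittingHallOf S) U C p := by
  letI : Fintype (↥(Cfsg.fittingHallOf S ⊔ C) →* ℂˣ) := Fintype.ofFinite _
  obtain ⟨X, hXg, hX1, -, hblk, hN⟩ := hs.exists_block E hne hg
  have hL := fun L => hN (hc.mem h.hG L) (h.mem_disjoint_mixed hc hs L)
    (fun α hα l l' hl hl' => h.inner_tau_member hc hs L (by
      rcases hα with rfl | ⟨i, rfl⟩
      exacts [(hc.mem h.hG L).base_supp, (hc.mem h.hG L).xi_supp i]) hl hl') (hconst L)
  have hmain := hblk _ (h.block hc hs (IsGenChar.classFun hXg) fun L => (hL L).1)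
  simp only [fun L => (hL L).2] at hmain
  have htot := h.total hc X
  rw [hX1, Complex.one_re] at htot
  have := energy_nonneg (mixed W₁ W₂) X
  have := energy_nonneg (reg T) X
  linarith

end Pair

end Cfsg.Agent.Grp.FT
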