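import Cfsg.Agent.Lib.Grp.FT.SideCount
import Cfsg.Agent.Lib.Grp.FT.MuBound

/-!
The bridge: when the coordinate of the basic function of a member in a column of the grid is even, the size of
the family of the member is bounded by the norm of the difference of the characters induced from `P W₁`.
-/

set_option autoImplicit false
set_option linter.unusedSectionVars false
set_option linter.style.haveILetI false
set_option maxHeartbeats 1000000

namespace Cfsg.Agent.Grp.FT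

open Subgroup Cfsg.Agent.Char Cfsg.Agent.Transfer Cfsg.Agent.Transfer.Loc
open scoped ComplexConjugate Pointwise

attribute [local instance] _root_.Classical.propDecidable

universe u

variable {G : Type u} [Group G] [Fintype G]

/-- Complex conjugation inverts a linear character. -/
theorem star_comp_lin {H : Subgroup G} (f : ↥H →* ℂˣ) :
    (Units.map (starRingAut : ℂ ≃+* ℂ).toRingHom.toMonoidHom).comp f = f⁻¹ :=
  MonoidHom.ext fun x => Units.ext (by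
    show conj (f x : ℂ) = ((f x)⁻¹ : ℂˣ)
    rw [Units.val_inv_eq_inv_val, Complex.inv_eq_conj]
    have h1 : (f x : ℂ) ^ Nat.card H = 1 := by
      rw [← Units.val_pow_eq_pow_val, ← map_pow, pow_card_eq_one', map_one, Units.val_one]
    exact Complex.norm_eq_one_of_pow_eq_one h1 Nat.card_pos.ne')

theorem conjFun_indLin {M H : Subgroup G} {P U C A B : Subgroup G} {p q : ℕ} (hs : Side M P U C A B p q)
    [Fintype M] (l : ↥H →* ℂˣ) : conjFun (indLin M l) = indLin M l⁻¹ := by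
  rw [← star_comp_lin l, ← hs.map_indLin]
  rfl

theorem one_inv_hom (H : Subgroup G) : (1 : ↥H →* ℂˣ)⁻¹ = 1 :=
  MonoidHom.ext fun x => by simp

namespace Side

variable {M P U C A B : Subgroup G} {p q : ℕ} (hs : Side M P U C A B p q)
include hs

theorem P_le : P ≤ M := le_sup_left.trans hs.PC_le

theorem PA_le : P ⊔ A ≤ M := sup_le hs.P_le hs.A_le

theorem P_inf_A : P ⊓ A = ⊥ :=
  le_bot_iff.1 ((inf_le_inf_right A le_sup_left).trans hs.A_inf_PC.le)

theorem mem_PA {x : G} (hx : x ∈ P ⊔ A) : ∃ n ∈ P, ∃ a ∈ A, x = n * a := by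
  rw [← SetLike.mem_coe, Subgroup.coe_mul_of_right_le_normalizer_left P A hs.A_norm_P] at hx
  obtain ⟨n, hn, a, ha, e⟩ := hx
  exact ⟨n, hn, a, ha, e.symm⟩

theorem PA_inf_PC {x : G} (hx : x ∈ P ⊔ A) (hx' : x ∈ P ⊔ C) : x ∈ P := by
  obtain ⟨n, hn, a, ha, rfl⟩ := hs.mem_PA hx
  have h : a ∈ (P ⊔ C) ⊓ A := Subgroup.mem_inf.2 ⟨((P ⊔ C).mul_mem_cancel_left (mem_sup_left hn)).1 hx', ha⟩
  rw [hs.A_inf_PC, mem_bot] at h
  rwa [h, mul_one]

theorem card_PA : Nat.card ↥(P ⊔ A) = Nat.card P * q := by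
  have h := Grp.card_sup_mul_card_inf hs.A_norm_P
  rw [inf_comm, hs.P_inf_A, Subgroup.card_bot, mul_one, sup_comm, hs.card₁, mul_comm] at h
  exact h

/-- `M` normalises `C`. -/
theorem M_norm_C : M ≤ normalizer (C : Set G) := fun x hx => by
  obtain ⟨y, hy, u, hu, a, ha, rfl⟩ := hs.decomp hx
  refine mul_mem (mul_mem ?_ (hs.U_le_normalizer_C hu)) (hs.A_le_normalizer_C ha)
  refine (Grp.PiHall.le_normalizer_of_conj_mem fun e he c hc => ?_ : P ≤ normalizer (C : Set G)) hy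
  rwa [hs.comm_PC he hc, mul_inv_cancel_right]

/-- An element of `P a` is conjugate under `P` to an element of `a W₂`. -/
theorem conj_line {n a : G} (hn : n ∈ P) (ha : a ∈ A) (ha1 : a ≠ 1) :
    ∃ k ∈ P, ∃ b ∈ B, k * (n * a) * k⁻¹ = a * b := by
  have hcop : Nat.Coprime (orderOf a) (Nat.card P) := by
    refine Nat.Coprime.coprime_dvd_left (Subgroup.orderOf_dvd_natCard A ha) ?_
    rw [hs.card₁, hs.card_P]
    exact ((Nat.coprime_primes hs.hq hs.hp).2 hs.hpq.symm).pow_right _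
  obtain ⟨k, hk, c, hc, hca, e⟩ := exists_conj_centralizer_coset P a (hs.A_norm_P ha) hcop n hn
  exact ⟨k, hk, c, hs.fix a ha ha1 ▸ Subgroup.mem_inf.2 ⟨hs.P_le_derived hc, mem_centralizer_singleton_iff.2 hca⟩,
    e.trans hca⟩

/-- The same for `(P × C) a`. -/
theorem conj_line' {n a : G} (hn : n ∈ P ⊔ C) (ha : a ∈ A) (ha1 : a ≠ 1) :
    ∃ k ∈ P ⊔ C, ∃ b ∈ B, k * (n * a) * k⁻¹ = a * b := by
  have hcop : Nat.Coprime (orderOf a) (Nat.card ↥(P ⊔ C)) := by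
    refine Nat.Coprime.coprime_dvd_left (Subgroup.orderOf_dvd_natCard A ha) ?_
    rw [hs.card₁, hs.card_PC]
    exact Nat.Coprime.mul_right (((Nat.coprime_primes hs.hq hs.hp).2 hs.hpq.symm).pow_right _)
      (hs.coprime₁.coprime_dvd_left (card_dvd_of_le hs.C_lt.le)).symm
  obtain ⟨k, hk, c, hc, hca, e⟩ := exists_conj_centralizer_coset (P ⊔ C) a (hs.A_norm_PC ha) hcop n hn
  exact ⟨k, hk, c, hs.fix a ha ha1 ▸ Subgroup.mem_inf.2 ⟨hs.PC_le_derived hc, mem_centralizer_singleton_iff.2 hca⟩,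
    e.trans hca⟩

/-- An element of `M` conjugating `a b` into `P W₁` lies in `P W₁`. -/
theorem mem_PA_of_conj {a b x : G} (ha : a ∈ A) (ha1 : a ≠ 1) (hb : b ∈ B) (hx : x ∈ M)
    (h : x⁻¹ * (a * b) * x ∈ P ⊔ A) : x ∈ P ⊔ A := by
  obtain ⟨y, hy, u, hu, a', ha', e⟩ := hs.decomp (inv_mem hx)
  have hyH : y ∈ P ⊔ A := mem_sup_left hy
  have ha'H : a' ∈ P ⊔ A := mem_sup_right ha'
  have hcomm : a' * (a * b) * a'⁻¹ = a * b := by
    haveI := hs.self.2.2.2.2.1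
    letI : CommGroup ↥(A ⊔ B) := IsCyclic.commGroup
    rw [show a' * (a * b) = a * b * a' from congrArg Subtype.val (mul_comm
      (⟨a', mem_sup_left ha'⟩ : ↥(A ⊔ B)) ⟨_, mul_mem (mem_sup_left ha) (mem_sup_right hb)⟩), mul_inv_cancel_right]
  have h1 : u * (a * b) * u⁻¹ ∈ P ⊔ A := by
    have h2 := mul_mem (mul_mem (inv_mem hyH) h) hyH
    rwa [show x = (x⁻¹)⁻¹ from (inv_inv _).symm, inv_inv x⁻¹, e,
      show y⁻¹ * (y * u * a' * (a * b) * (y * u * a')⁻¹) * y = u * (a' * (a * b) * a'⁻¹) * u⁻¹ by group, hcomm] at h2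
  have hub : u * b * u⁻¹ ∈ P := Grp.mem_conj_normalizer (hs.norm_P (hs.U_le hu)) (hs.W₂_le hb)
  have hua : u * a * u⁻¹ * a⁻¹ ∈ P ⊔ A := by
    have h2 := mul_mem (mul_mem h1 (inv_mem (mem_sup_left hub : u * b * u⁻¹ ∈ P ⊔ A)))
      (inv_mem (mem_sup_right ha : a ∈ P ⊔ A))
    rwa [show u * (a * b) * u⁻¹ * (u * b * u⁻¹)⁻¹ * a⁻¹ = u * a * u⁻¹ * a⁻¹ by group] at h2
  have hwU : u * a * u⁻¹ * a⁻¹ ∈ U := by
    rw [show u * a * u⁻¹ * a⁻¹ = u * (a * u⁻¹ * a⁻¹) by group]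
    exact U.mul_mem hu (Grp.mem_conj_normalizer (hs.norm_U ha) (U.inv_mem hu))
  obtain ⟨n, hn, a₁, ha₁, e₁⟩ := hs.mem_PA hua
  have ha₁1 : a₁ = 1 := by
    have : a₁ ∈ ⁅M, M⁆ ⊓ A := Subgroup.mem_inf.2
      ⟨((⁅M, M⁆).mul_mem_cancel_left (hs.P_le_derived hn)).1 (e₁ ▸ hs.compl.2.1 hwU), ha₁⟩
    rwa [hs.compl₁.2.2.1, mem_bot] at this
  have hw1 : u * a * u⁻¹ * a⁻¹ = 1 := by
    rw [← Subgroup.mem_bot, ← hs.compl.2.2.1]
    exact Subgroup.mem_inf.2 ⟨by rw [e₁, ha₁1, mul_one]; exact hn, hwU⟩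
  have hu1 : u = 1 := by
    rw [← Subgroup.mem_bot, ← hs.free₁ a ha ha1]
    refine Subgroup.mem_inf.2 ⟨hu, mem_centralizer_singleton_iff.2 ?_⟩
    rwa [mul_inv_eq_one, mul_inv_eq_iff_eq_mul] at hw1
  have : x⁻¹ ∈ P ⊔ A := by
    rw [e, hu1, mul_one]
    exact mul_mem hyH ha'H
  simpa using inv_mem this

/-- A character of `P × C` whose restriction to `P` is that of `lam g`. -/
theorem exists_lamKappa (g : ↥B →* ℂˣ) (κ : ↥C →* ℂˣ) : ∃ l : ↥(P ⊔ C) →* ℂˣ,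
    ∀ (n : ↥P) (z : ↥C) (x : ↥(P ⊔ C)), (x : G) = (n : G) * z →
      l x = hs.lam g (Subgroup.inclusion le_sup_left n) * κ z :=
  exists_extend ((hs.C_lt.le.trans hs.U_le).trans hs.norm_P) hs.P_inf_C
    ((hs.lam g).comp (Subgroup.inclusion le_sup_left)) (fun c hc y z e => by
      rw [show z = y from Subtype.ext (by rw [← e, ← hs.comm_PC y.2 hc, mul_inv_cancel_right])]) κ

/-- The extension of `lam g` by `κ`. -/
noncomputable def lamKappa (g : ↥B →* ℂˣ) (κ : ↥C →* ℂˣ) : ↥(P ⊔ C) →* ℂˣ := (hs.exists_lamKappa g κ).choose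

theorem lamKappa_spec (g : ↥B →* ℂˣ) (κ : ↥C →* ℂˣ) (n : ↥P) (z : ↥C) (x : ↥(P ⊔ C))
    (e : (x : G) = (n : G) * z) : hs.lamKappa g κ x = hs.lam g (Subgroup.inclusion le_sup_left n) * κ z :=
  (hs.exists_lamKappa g κ).choose_spec n z x e

theorem lamKappa_nt {g : ↥B →* ℂˣ} (hg : g ≠ 1) (κ : ↥C →* ℂˣ) :
    ∃ y : ↥(P ⊔ C), (y : G) ∈ P ∧ hs.lamKappa g κ y ≠ 1 := by
  obtain ⟨y, hy, hy1⟩ := hs.lam_ne hg
  refine ⟨y, hy, ?_⟩
  rwa [hs.lamKappa_spec g κ ⟨y, hy⟩ 1 y (by simp), map_one, mul_one]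

/-- Fixing the restriction to `P` is fixing `lam g`. -/
theorem fixes_lam_iff (g : ↥B →* ℂˣ) {x : G} (hx : x ∈ M) :
    Fixes x ((hs.lam g).comp (Subgroup.inclusion (le_sup_left : P ≤ P ⊔ C))) ↔ Fixes x (hs.lam g) := by
  refine ⟨fun h y z e => ?_, fun h y z e => h _ _ e⟩
  obtain ⟨n, hn, c, hc, hy⟩ := hs.mem_PC y.2
  have hn' : x * n * x⁻¹ ∈ P := Grp.mem_conj_normalizer (hs.norm_P hx) hn
  have hc' : x * c * x⁻¹ ∈ C := Grp.mem_conj_normalizer (hs.M_norm_C hx) hc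
  rw [show y = ⟨n, mem_sup_left hn⟩ * ⟨c, mem_sup_right hc⟩ from Subtype.ext hy,
    show z = ⟨_, mem_sup_left hn'⟩ * ⟨_, mem_sup_right hc'⟩ from Subtype.ext (by
      rw [← e, hy]; show x * (n * c) * x⁻¹ = x * n * x⁻¹ * (x * c * x⁻¹); group),
    map_mul, map_mul, (hs.lam_spec g).triv ⟨c, _⟩ hc, (hs.lam_spec g).triv ⟨x * c * x⁻¹, _⟩ hc', mul_one, mul_one]
  exact h ⟨n, hn⟩ ⟨_, hn'⟩ rfl

/-- The characters `lam g · κ` with `κ ≠ 1` are regular. -/
theorem lamKappa_reg {g : ↥B →* ℂˣ} (hg : g ≠ 1) {κ : ↥C →* ℂˣ} (hκ : κ ≠ 1) :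
    hs.lamKappa g κ ∈ regChar M P C := by
  haveI : Fintype M := Fintype.ofFinite _
  refine ⟨hs.lamKappa_nt hg κ, fun x hx hf => ?_⟩
  have h1 : Fixes x ((hs.lam g).comp (Subgroup.inclusion (le_sup_left : P ≤ P ⊔ C))) := fun y z e => by
    have h := hf ⟨y, mem_sup_left y.2⟩ ⟨z, mem_sup_left z.2⟩ e
    rw [hs.lamKappa_spec g κ y 1 ⟨y, mem_sup_left y.2⟩ (by simp),
      hs.lamKappa_spec g κ z 1 ⟨z, mem_sup_left z.2⟩ (by simp), map_one, mul_one, mul_one] at h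
    exact h
  obtain ⟨n, hn, a, ha, rfl⟩ := hs.mem_H (hs.conjEq_lam hg hx ((hs.fixes_lam_iff g hx).1 h1)).2
  by_cases ha1 : a = 1
  · rwa [ha1, mul_one]
  exfalso
  have hfa : Fixes a (hs.lamKappa g κ) := by
    rw [show a = n⁻¹ * (n * a) by group]
    exact fixes_mul hs.PC_le hs.M_norm_PC hx _ (fixes_of_mem hs.PC_le hs.M_norm_PC (inv_mem hn) _) hf
  obtain ⟨g', -, e⟩ := hs.eq_lam (hs.lamKappa_nt hg κ) ha ha1 hfa
  refine hκ (MonoidHom.ext fun z => ?_)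
  have h := hs.lamKappa_spec g κ 1 z ⟨z, mem_sup_right z.2⟩ (by simp)
  rw [map_one, map_one, one_mul] at h
  rw [← h, e, (hs.lam_spec g').triv _ z.2]
  rfl

variable [Fintype M]

/-- The values of a character induced from `P W₁` on `a W₂`. -/
theorem indPA_val (l : ↥(P ⊔ A) →* ℂˣ) {a b : G} (ha : a ∈ A) (ha1 : a ≠ 1) (hb : b ∈ B)
    (hab : a * b ∈ M) (hH : a * b ∈ P ⊔ A) : indLin M l ⟨a * b, hab⟩ = (l ⟨a * b, hH⟩ : ℂ) := by
  rw [indLin_apply hs.PA_le]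
  have key : ∀ x : M, (if h : (x : G)⁻¹ * (a * b) * x ∈ P ⊔ A then (l ⟨_, h⟩ : ℂ) else 0) =
      if (x : G) ∈ P ⊔ A then (l ⟨a * b, hH⟩ : ℂ) else 0 := by
    intro x
    by_cases hx : (x : G) ∈ P ⊔ A
    · rw [if_pos hx, dif_pos (mul_mem (mul_mem (inv_mem hx) hH) hx)]
      congr 1
      rw [show (⟨(x : G)⁻¹ * (a * b) * x, _⟩ : ↥(P ⊔ A)) = ⟨x, hx⟩⁻¹ * ⟨_, hH⟩ * ⟨x, hx⟩ from rfl,
        map_mul, map_mul, map_inv, mul_right_comm, inv_mul_cancel, one_mul]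
    · rw [if_neg hx, dif_neg fun h => hx (hs.mem_PA_of_conj ha ha1 hb x.2 h)]
  rw [Finset.sum_congr rfl fun x _ => key x, ← Finset.sum_filter, Finset.sum_const, nsmul_eq_mul, ← mul_assoc,
    show (Finset.univ.filter fun x : M => (x : G) ∈ P ⊔ A).card = Nat.card ↥(P ⊔ A) from ?_,
    inv_mul_cancel₀ (Nat.cast_ne_zero.2 Nat.card_pos.ne'), one_mul]
  rw [← Nat.card_congr (Subgroup.subgroupOfEquivOfLe hs.PA_le).toEquiv, Nat.card_eq_fintype_card,
    Fintype.card_of_subtype (Finset.univ.filter fun x : M => (x : G) ∈ P ⊔ A)]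
  exact fun x => by simp [Subgroup.mem_subgroupOf]

/-- Off `P` the induced character restricts to the character. -/
theorem indPA_off (l : ↥(P ⊔ A) →* ℂˣ) (h : ↥(P ⊔ A)) (hP : (h : G) ∉ P) :
    indLin M l ⟨h, hs.PA_le h.2⟩ = (l h : ℂ) := by
  obtain ⟨n, hn, a, ha, e⟩ := hs.mem_PA h.2
  have ha1 : a ≠ 1 := fun e' => hP (by rwa [e, e', mul_one])
  obtain ⟨k, hk, b, hb, ek⟩ := hs.conj_line hn ha ha1
  rw [← e] at ek
  have hH : a * b ∈ P ⊔ A := mul_mem (mem_sup_right ha) (mem_sup_left (hs.W₂_le hb))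
  rw [← indLin_classFun l ⟨h, hs.PA_le h.2⟩ ⟨k, hs.P_le hk⟩,
    show (⟨k, hs.P_le hk⟩ : M) * ⟨h, hs.PA_le h.2⟩ * (⟨k, hs.P_le hk⟩ : M)⁻¹ = ⟨a * b, hs.PA_le hH⟩ from
      Subtype.ext ek, hs.indPA_val l ha ha1 hb _ hH]
  congr 1
  rw [show (⟨a * b, hH⟩ : ↥(P ⊔ A)) = ⟨k, mem_sup_left hk⟩ * h * ⟨k, mem_sup_left hk⟩⁻¹ from
      Subtype.ext ek.symm, map_mul, map_mul, map_inv, mul_right_comm, mul_inv_cancel, one_mul]

/-- On `P` it is a multiple of the character induced from `P`. -/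
theorem indPA_on (l : ↥(P ⊔ A) →* ℂˣ) {x : M} (hx : (x : G) ∈ P) :
    indLin M l x = (q : ℂ)⁻¹ * indLin M (l.comp (Subgroup.inclusion le_sup_left)) x := by
  rw [indLin_apply hs.PA_le, indLin_apply hs.P_le, hs.card_PA, ← mul_assoc, Nat.cast_mul, mul_inv_rev]
  congr 1
  refine Finset.sum_congr rfl fun t _ => ?_
  have h : (t : G)⁻¹ * x * t ∈ P := by simpa using Grp.mem_conj_normalizer (hs.norm_P (inv_mem t.2)) hx
  rw [dif_pos h, dif_pos (mem_sup_left h)]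
  rfl

/-- The inner products of the characters induced from `P W₁`. -/
theorem indPA_inner (l l' : ↥(P ⊔ A) →* ℂˣ) : Cfsg.classInner (indLin M l) (indLin M l') =
    (if l = l' then 1 else 0) + (q : ℂ)⁻¹ * ((q : ℂ)⁻¹ * Cfsg.classInner
        (indLin M (l.comp (Subgroup.inclusion le_sup_left))) (indLin M (l'.comp (Subgroup.inclusion le_sup_left))) -
      if l.comp (Subgroup.inclusion (le_sup_left : P ≤ P ⊔ A)) = l'.comp (Subgroup.inclusion le_sup_left) then 1 else 0) := by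
  haveI : Fintype ↥(P ⊔ A) := Fintype.ofFinite _
  haveI : Fintype ↥P := Fintype.ofFinite _
  set r := l.comp (Subgroup.inclusion (le_sup_left : P ≤ P ⊔ A)) with hr
  set r' := l'.comp (Subgroup.inclusion (le_sup_left : P ≤ P ⊔ A)) with hr'
  have hP : (Nat.card P : ℂ) ≠ 0 := Nat.cast_ne_zero.2 Nat.card_pos.ne'
  have hH : (Nat.card ↥(P ⊔ A) : ℂ) ≠ 0 := Nat.cast_ne_zero.2 Nat.card_pos.ne'
  have hq : (q : ℂ) ≠ 0 := Nat.cast_ne_zero.2 hs.hq.ne_zero
  have h1 : Cfsg.classInner (indLin M r) (indLin M r') =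
      (Nat.card P : ℂ)⁻¹ * ∑ y : P, indLin M r ⟨y, hs.P_le y.2⟩ * conj (r' y : ℂ) := by
    rw [inner_indLin hs.P_le r' (indLin_classFun r), Cfsg.classInner]
  have hsum : ∑ h : ↥(P ⊔ A), (indLin M l ⟨h, hs.PA_le h.2⟩ - (l h : ℂ)) * conj (l' h : ℂ) =
      ∑ y : P, ((q : ℂ)⁻¹ * indLin M r ⟨y, hs.P_le y.2⟩ - (r y : ℂ)) * conj (r' y : ℂ) := by
    rw [← Finset.sum_filter_of_ne (p := fun h : ↥(P ⊔ A) => (h : G) ∈ P) fun h _ hne => by
      by_contra hh
      exact hne (by rw [hs.indPA_off l h hh, sub_self, zero_mul])]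
    refine (Finset.sum_bij' (fun (y : P) _ => (Subgroup.inclusion le_sup_left y : ↥(P ⊔ A)))
      (fun h hh => ⟨(h : G), (Finset.mem_filter.1 hh).2⟩)
      (fun y _ => Finset.mem_filter.2 ⟨Finset.mem_univ _, y.2⟩) (fun _ _ => Finset.mem_univ _)
      (fun _ _ => rfl) (fun _ _ => rfl) fun y _ => ?_).symm
    rw [hs.indPA_on l (x := ⟨_, hs.PA_le (Subgroup.inclusion le_sup_left y : ↥(P ⊔ A)).2⟩) y.2]
    rfl
  rw [inner_indLin hs.PA_le l' (indLin_classFun l), Cfsg.classInner,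
    Finset.sum_congr rfl fun (h : ↥(P ⊔ A)) _ => show indLin M l ⟨h, hs.PA_le h.2⟩ * conj (l' h : ℂ) =
      (l h : ℂ) * conj (l' h : ℂ) + (indLin M l ⟨h, hs.PA_le h.2⟩ - (l h : ℂ)) * conj (l' h : ℂ) by ring,
    Finset.sum_add_distrib, mul_add, sum_lin_conj, hsum]
  simp only [sub_mul, mul_assoc, Finset.sum_sub_distrib, ← Finset.mul_sum, sum_lin_conj]
  rw [h1]
  congr 1
  · split_ifs
    · rw [inv_mul_cancel₀ hH]
    · rw [mul_zero]
  · rw [hs.card_PA, Nat.cast_mul]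
    split_ifs <;> field_simp <;> ring

/-- The stabiliser of the restriction of `lam g` to `P`. -/
theorem norm_lamP {g : ↥B →* ℂˣ} (hg : g ≠ 1) :
    Cfsg.classInner (indLin M ((hs.lam g).comp (Subgroup.inclusion (le_sup_left : P ≤ P ⊔ C))))
        (indLin M ((hs.lam g).comp (Subgroup.inclusion (le_sup_left : P ≤ P ⊔ C)))) =
      ((Nat.card C * q : ℕ) : ℂ) := by
  haveI : Fintype ↥P := Fintype.ofFinite _
  have e : (Finset.univ.filter fun x : M => ConjEq (x : G)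
      ((hs.lam g).comp (Subgroup.inclusion (le_sup_left : P ≤ P ⊔ C)))
      ((hs.lam g).comp (Subgroup.inclusion (le_sup_left : P ≤ P ⊔ C)))) =
      Finset.univ.filter fun x : M => ConjEq (x : G) (hs.lam g) (hs.lam g) :=
    Finset.filter_congr fun x _ => hs.fixes_lam_iff g x.2
  rw [inner_indLin_indLin hs.P_le hs.norm_P, e, hs.card_filter_lam hg, hs.card_H, hs.card_PC, ← hs.card_P]
  have hP : (Nat.card P : ℂ) ≠ 0 := Nat.cast_ne_zero.2 Nat.card_pos.ne'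
  push_cast
  field_simp

section diff

variable {g : ↥B →* ℂˣ} {L : ↥(P ⊔ A) →* ℂˣ}
  (hL : ∀ (n : ↥P) (a : ↥A) (x : ↥(P ⊔ A)), (x : G) = (n : G) * a →
    L x = hs.lam g (Subgroup.inclusion le_sup_left n))
include hL

theorem PA_res : L.comp (Subgroup.inclusion (le_sup_left : P ≤ P ⊔ A)) =
    (hs.lam g).comp (Subgroup.inclusion (le_sup_left : P ≤ P ⊔ C)) :=
  MonoidHom.ext fun y => hL y 1 (Subgroup.inclusion le_sup_left y) (by simp)

theorem PA_line {a b : G} (ha : a ∈ A) (hb : b ∈ B) (h : a * b ∈ P ⊔ A) : L ⟨a * b, h⟩ = g ⟨b, hb⟩ := by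
  rw [hL ⟨b, hs.W₂_le hb⟩ ⟨a, ha⟩ ⟨a * b, h⟩ (hs.commute_lines ha hb).eq]
  exact (hs.lam_spec g).res _ ⟨b, hb⟩ rfl

/-- The difference lives on `A₀`, off `C`. -/
theorem diff_zero (x : M) (hx : (x : G) ∉ P ∨ (x : G) = 1)
    (hx' : ¬ ∃ m ∈ M, ∃ z ∈ ((↑(A ⊔ B) : Set G) \ ((A : Set G) ∪ ↑B)), (x : G) = m * z * m⁻¹) :
    (indLin M (1 : ↥(P ⊔ A) →* ℂˣ) - indLin M L) x = 0 := by
  rcases hx with hx | hx
  · rw [Pi.sub_apply, sub_eq_zero, indLin_apply hs.PA_le, indLin_apply hs.PA_le]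
    congr 1
    refine Finset.sum_congr rfl fun t _ => ?_
    by_cases h : (t : G)⁻¹ * x * t ∈ P ⊔ A
    · rw [dif_pos h, dif_pos h]
      obtain ⟨n, hn, a, ha, e⟩ := hs.mem_PA h
      have ha1 : a ≠ 1 := fun e' => hx (by
        rw [e', mul_one] at e
        have h2 := Grp.mem_conj_normalizer (hs.norm_P t.2) (e.symm ▸ hn : (t : G)⁻¹ * x * t ∈ P)
        simpa [mul_assoc] using h2)
      obtain ⟨k, hk, b, hb, ek⟩ := hs.conj_line hn ha ha1
      rw [← e] at ek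
      have hH : a * b ∈ P ⊔ A := mul_mem (mem_sup_right ha) (mem_sup_left (hs.W₂_le hb))
      by_cases hb1 : b = 1
      · have hLv : L ⟨_, h⟩ = L ⟨a * b, hH⟩ := by
          rw [show (⟨a * b, hH⟩ : ↥(P ⊔ A)) = ⟨k, mem_sup_left hk⟩ * ⟨_, h⟩ * ⟨k, mem_sup_left hk⟩⁻¹ from
            Subtype.ext ek.symm, map_mul, map_mul, map_inv, mul_right_comm, mul_inv_cancel, one_mul]
        rw [hLv, hs.PA_line hL ha hb, show (⟨b, hb⟩ : ↥B) = 1 from Subtype.ext hb1, map_one]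
        rfl
      · refine absurd ⟨(t : G) * k⁻¹, mul_mem t.2 (inv_mem (hs.P_le hk)), a * b,
          ⟨mul_mem (mem_sup_left ha) (mem_sup_right hb), ?_⟩, ?_⟩ hx'
        · rintro (h' | h')
          · exact hb1 (Subgroup.mem_bot.1 (hs.self.2.2.1.le ⟨(A.mul_mem_cancel_left ha).1 h', hb⟩))
          · exact ha1 (Subgroup.mem_bot.1 (hs.self.2.2.1.le ⟨ha, (B.mul_mem_cancel_right hb).1 h'⟩))
        · rw [← ek]; group
    · rw [dif_neg h, dif_neg h]
  · rw [show x = 1 from Subtype.ext hx, Pi.sub_apply, indLin_one, indLin_one, sub_self]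

theorem supp_diff : Supp (sideA0 M P C A B) M (indLin M (1 : ↥(P ⊔ A) →* ℂˣ) - indLin M L) := by
  refine ⟨classFunction_sub (indLin_classFun _) (indLin_classFun _), fun x hx => hs.diff_zero hL x ?_
    fun h => hx (Or.inr h)⟩
  refine or_iff_not_imp_right.2 fun h1 h => hx (Or.inl ⟨mem_sup_left h, h1⟩)

/-- The norm of the difference. -/
theorem norm_diff (hg : g ≠ 1) {k₁ k₂ : ℕ} (h₁ : C.relIndex U * Nat.card C = q * k₁ + 1)
    (h₂ : Nat.card C = q * k₂ + 1) :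
    Cfsg.classInner (indLin M (1 : ↥(P ⊔ A) →* ℂˣ) - indLin M L) (indLin M (1 : ↥(P ⊔ A) →* ℂˣ) - indLin M L) =
      ((2 + k₁ + k₂ : ℕ) : ℂ) := by
  haveI : Fintype ↥P := Fintype.ofFinite _
  have hq : (q : ℂ) ≠ 0 := Nat.cast_ne_zero.2 hs.hq.ne_zero
  have hP : (Nat.card P : ℂ) ≠ 0 := Nat.cast_ne_zero.2 Nat.card_pos.ne'
  set r := (hs.lam g).comp (Subgroup.inclusion (le_sup_left : P ≤ P ⊔ C)) with hr
  have hr1 : r ≠ 1 := fun e => by
    obtain ⟨y, hy, hy1⟩ := hs.lam_ne hg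
    exact hy1 (DFunLike.congr_fun e ⟨y, hy⟩)
  have hL1 : L ≠ 1 := fun e => hr1 (by rw [hr, ← hs.PA_res hL, e, MonoidHom.one_comp])
  have h11 : Cfsg.classInner (indLin M (1 : ↥P →* ℂˣ)) (indLin M (1 : ↥P →* ℂˣ)) =
      (C.relIndex U * Nat.card C * q : ℂ) := by
    rw [inner_indLin_indLin hs.P_le hs.norm_P, Finset.filter_true_of_mem fun x _ y z _ => rfl,
      Finset.card_univ, ← Nat.card_eq_fintype_card, hs.card_M, hs.card_PC, ← hs.card_P]
    push_cast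
    field_simp
  have h1g : Cfsg.classInner (indLin M (1 : ↥P →* ℂˣ)) (indLin M r) = 0 := by
    refine indLin_orth hs.P_le hs.norm_P _ _ fun x hx h => hr1 (MonoidHom.ext fun y => ?_)
    exact (h y ⟨_, Grp.mem_conj_normalizer (hs.norm_P hx) y.2⟩ rfl).symm
  have hg1 : Cfsg.classInner (indLin M r) (indLin M (1 : ↥P →* ℂˣ)) = 0 := by
    rw [← classInner_conj_symm, h1g, map_zero]
  have hgg : Cfsg.classInner (indLin M r) (indLin M r) = ((Nat.card C * q : ℕ) : ℂ) := hs.norm_lamP hg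
  simp only [classInner_sub_left, classInner_sub_right, hs.indPA_inner, MonoidHom.one_comp, hs.PA_res hL, ← hr,
    hgg, h11, h1g, hg1, if_true, if_neg hr1, if_neg (Ne.symm hr1), if_neg hL1, if_neg (Ne.symm hL1)]
  have e1 : (C.relIndex U : ℂ) * Nat.card C = (q : ℂ) * k₁ + 1 := by exact_mod_cast h₁
  have e2 : (Nat.card C : ℂ) = (q : ℂ) * k₂ + 1 := by exact_mod_cast h₂
  push_cast
  field_simp
  linear_combination (q : ℂ) * e1 + (q : ℂ) * e2

/-- The average of the characters `lam g · κ`. -/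
theorem theta_sum (hcomm : ∀ x ∈ C, ∀ y ∈ C, x * y = y * x) [Fintype (↥C →* ℂˣ)] :
    (q : ℂ) • (indLin M L - hs.mu 1 g) =
      ∑ κ ∈ Finset.univ.erase (1 : ↥C →* ℂˣ), indLin M (hs.lamKappa g κ) := by
  funext x
  rw [Pi.smul_apply, smul_eq_mul, Pi.sub_apply, Finset.sum_apply]
  have hcC : Fintype.card (↥C →* ℂˣ) = Nat.card C := by
    rw [← Nat.card_eq_fintype_card, card_linHom_subgroup, Subgroup.commutator_eq_bot_iff_le_centralizer.2
      fun x hx => mem_centralizer_iff.2 fun y hy => hcomm y hy x hx, relIndex_bot_left]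
  by_cases hx : (x : G) ∈ P ⊔ C
  · have hy : ∀ t : M, (t : G)⁻¹ * x * t ∈ P ⊔ C := fun t => by
      simpa using Grp.mem_conj_normalizer (hs.M_norm_PC (inv_mem t.2)) hx
    simp only [mu, indLin_apply hs.PA_le, indLin_apply hs.H_le, indLin_apply hs.PC_le, ← Finset.mul_sum]
    rw [Finset.sum_comm, hs.card_H, hs.card_PA, hs.card_PC, ← hs.card_P]
    have key : ∀ t : M, (Nat.card C : ℂ) *
        (if h : (t : G)⁻¹ * x * t ∈ P ⊔ A then (L ⟨_, h⟩ : ℂ) else 0) -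
        (if h : (t : G)⁻¹ * x * t ∈ P ⊔ C ⊔ A then (hs.ext 1 g ⟨_, h⟩ : ℂ) else 0) =
        ∑ κ ∈ Finset.univ.erase (1 : ↥C →* ℂˣ),
          if h : (t : G)⁻¹ * x * t ∈ P ⊔ C then (hs.lamKappa g κ ⟨_, h⟩ : ℂ) else 0 := by
      intro t
      simp only [dif_pos (hy t)]
      obtain ⟨n, hn, z, hz, e⟩ := hs.mem_PC (hy t)
      have hκ : ∀ κ, (hs.lamKappa g κ ⟨_, hy t⟩ : ℂ) =
          (hs.lam g ⟨n, mem_sup_left hn⟩ : ℂ) * (κ ⟨z, hz⟩ : ℂ) := fun κ => by
        rw [hs.lamKappa_spec g κ ⟨n, hn⟩ ⟨z, hz⟩ _ e, Units.val_mul]; rfl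
      simp only [hκ, ← Finset.mul_sum, Finset.sum_erase_eq_sub (Finset.mem_univ (1 : ↥C →* ℂˣ))]
      rw [dif_pos (mem_sup_left (hy t) : _ ∈ P ⊔ C ⊔ A),
        hs.ext_spec 1 g ⟨_, hy t⟩ 1 ⟨_, mem_sup_left (hy t)⟩ (by simp), map_one, mul_one,
        show (⟨(t : G)⁻¹ * x * t, hy t⟩ : ↥(P ⊔ C)) = ⟨n, mem_sup_left hn⟩ * ⟨z, mem_sup_right hz⟩ from Subtype.ext e,
        map_mul, (hs.lam_spec g).triv ⟨z, _⟩ hz, mul_one]
      by_cases hz1 : z = 1
      · rw [dif_pos (show (t : G)⁻¹ * x * t ∈ P ⊔ A by rw [e, hz1, mul_one]; exact mem_sup_left hn),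
          hL ⟨n, hn⟩ 1 _ (by simp [e, hz1]), show (⟨z, hz⟩ : ↥C) = 1 from Subtype.ext hz1]
        simp only [map_one, Units.val_one, Finset.sum_const, Finset.card_univ, hcC, nsmul_one, MonoidHom.one_apply]
        show (Nat.card C : ℂ) * (hs.lam g ⟨n, mem_sup_left hn⟩ : ℂ) - _ = _
        ring
      · rw [dif_neg fun h => hz1 ?_, Cfsg.Agent.Char.TIFamily.dual_sum (fun a b => Subtype.ext (hcomm a a.2 b b.2))
          (fun e' => hz1 (congrArg Subtype.val e')), MonoidHom.one_apply, Units.val_one]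
        · ring
        · have h2 : z ∈ P ⊓ C := Subgroup.mem_inf.2
            ⟨(P.mul_mem_cancel_left hn).1 (e ▸ hs.PA_inf_PC h (hy t)), hz⟩
          rwa [hs.P_inf_C, mem_bot] at h2
    rw [Finset.sum_congr rfl fun t _ => (key t).symm, Finset.sum_sub_distrib, ← Finset.mul_sum]
    have hq : (q : ℂ) ≠ 0 := Nat.cast_ne_zero.2 hs.hq.ne_zero
    have hc : (Nat.card C : ℂ) ≠ 0 := Nat.cast_ne_zero.2 Nat.card_pos.ne'
    have hP : (Nat.card P : ℂ) ≠ 0 := Nat.cast_ne_zero.2 Nat.card_pos.ne'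
    push_cast
    field_simp
  · rw [Finset.sum_eq_zero fun κ _ => indLin_eq_zero hs.PC_le hs.M_norm_PC _ hx]
    suffices h : indLin M L x = hs.mu 1 g x by rw [h, sub_self, mul_zero]
    by_cases hex : ∃ t : M, (t : G)⁻¹ * x * t ∈ P ⊔ C ⊔ A
    · obtain ⟨t, ht⟩ := hex
      obtain ⟨n, hn, a, ha, e⟩ := hs.mem_H ht
      have ha1 : a ≠ 1 := fun e' => hx (by
        rw [e', mul_one] at e
        have h2 := Grp.mem_conj_normalizer (hs.M_norm_PC t.2) (e.symm ▸ hn : (t : G)⁻¹ * x * t ∈ P ⊔ C)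
        simpa [mul_assoc] using h2)
      obtain ⟨k, hk, b, hb, ek⟩ := hs.conj_line' hn ha ha1
      rw [← e] at ek
      have hab : a * b ∈ M := hs.W_le (mul_mem (mem_sup_left ha) (mem_sup_right hb))
      have hconj : (⟨k * (t : G)⁻¹, mul_mem (hs.PC_le hk) (inv_mem t.2)⟩ : M) * x *
          (⟨k * (t : G)⁻¹, mul_mem (hs.PC_le hk) (inv_mem t.2)⟩ : M)⁻¹ = ⟨a * b, hab⟩ := Subtype.ext
        (show k * (t : G)⁻¹ * x * (k * (t : G)⁻¹)⁻¹ = a * b by rw [← ek]; group)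
      rw [← indLin_classFun L x ⟨k * (t : G)⁻¹, mul_mem (hs.PC_le hk) (inv_mem t.2)⟩,
        ← hs.mu_classFun 1 g x ⟨k * (t : G)⁻¹, mul_mem (hs.PC_le hk) (inv_mem t.2)⟩, hconj,
        hs.indPA_val L ha ha1 hb hab (mul_mem (mem_sup_right ha) (mem_sup_left (hs.W₂_le hb))),
        hs.PA_line hL ha hb,
        hs.mu_val 1 g (a := ⟨a, ha⟩) (fun e' => ha1 (congrArg Subtype.val e')) ⟨b, hb⟩ hab]
      simp
    · push Not at hex
      rw [mu, indLin_apply hs.PA_le, indLin_apply hs.H_le,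
        Finset.sum_eq_zero fun t _ => dif_neg fun h => hex t (sup_le_sup_right le_sup_left A h),
        Finset.sum_eq_zero fun t _ => dif_neg (hex t), mul_zero, mul_zero]

end diff

/-- The conjugate of `μ (1, g)`. -/
theorem conj_mu_one (g : ↥B →* ℂˣ) : conjFun (hs.mu 1 g) = hs.mu 1 g⁻¹ := by
  rw [mu, mu, conjFun_indLin hs]
  congr 1
  refine MonoidHom.ext fun x => ?_
  obtain ⟨n, hn, a, ha, e⟩ := hs.mem_H x.2
  rw [hs.ext_spec 1 g⁻¹ ⟨n, hn⟩ ⟨a, ha⟩ x e, MonoidHom.inv_apply, hs.ext_spec 1 g ⟨n, hn⟩ ⟨a, ha⟩ x e, hs.lam_inv]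
  simp

variable (E : Grid A B)

/-- The image of the difference of two fixed characters. -/
theorem tau_lam {g g' : ↥B →* ℂˣ} (hg : g ≠ 1) (hg' : g' ≠ 1) :
    hs.tauS (indLin M (hs.lam g) - indLin M (hs.lam g')) = E.colSum g - E.colSum g' := by
  haveI := E.finite_left
  letI := Fintype.ofFinite (↥A →* ℂˣ)
  have e : indLin M (hs.lam g) - indLin M (hs.lam g') = ∑ f, (hs.mu f g - hs.mu f g') := by
    rw [Finset.sum_sub_distrib, hs.mu_sum, hs.mu_sum]
  rw [e, tauS, dade_sum, E.colSum_eq, E.colSum_eq, ← Finset.sum_sub_distrib]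
  exact Finset.sum_congr rfl fun f _ => hs.tau_mu E f hg hg'

variable (N : Member G) (hNP : ∀ y ∈ P, y ≠ 1 → y ∉ N.reg) (hNV : Disjoint N.reg (mixed A B))
  (hperp : ∀ α, Supp N.A N.L α → ∀ l l' : ↥(P ⊔ C) →* ℂˣ, (∃ y : ↥(P ⊔ C), (y : G) ∈ P ∧ l y ≠ 1) →
    (∃ y : ↥(P ⊔ C), (y : G) ∈ P ∧ l' y ≠ 1) →
    Cfsg.classInner (N.tau α) (hs.tauS (indLin M l - indLin M l')) = 0)

include E hNV hperp in
/-- The images of the differences towards `lam g` are orthogonal to the real part of a member. -/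
theorem kappa_delta {g : ↥B →* ℂˣ} (hg : g ≠ 1) {l : ↥(P ⊔ C) →* ℂˣ} (hl : l ∈ regChar M P C) :
    Cfsg.classInner (hs.tauS (indLin M l - indLin M (hs.lam g))) N.delta = 0 := by
  have hodd := hs.hG.1
  set T := hs.tauS (indLin M l - indLin M (hs.lam g)) with hT
  have hb : Cfsg.classInner T N.beta = 0 := by
    rw [← classInner_conj_symm, hT, Member.beta, hperp _ N.base_supp l (hs.lam g) hl.1 (hs.lam_ne hg), map_zero]
  have h1 : Cfsg.classInner T (fun _ => 1) = 0 := by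
    rw [hT, hs.tauS_inner hs.supp_indLin (IsGenChar.classFun gen_one), classInner_sub_left,
      hs.inner_one_indLin (hs.reg_ne_one hl),
      hs.inner_one_indLin (fun e => hg (hs.lam_injective (by rw [e, hs.lam_one]))), sub_self]
  have e : N.xi N.i₀ - N.xi (N.bar N.i₀) = (N.xi N.i₀ - (N.d N.i₀ : ℂ) • N.xi N.i₀) -
      (N.xi (N.bar N.i₀) - (N.d (N.bar N.i₀) : ℂ) • N.xi N.i₀) := by
    rw [N.d_bar]; abel
  have h2 : Cfsg.classInner (N.Z N.i₀ - N.Z (N.bar N.i₀)) T = 0 := by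
    have hX : N.Z N.i₀ - N.Z (N.bar N.i₀) = N.tau (N.xi N.i₀ - N.xi (N.bar N.i₀)) := by
      rw [Member.tau, e, dade_sub, N.Z_diff, N.Z_diff, N.d_bar]; abel
    rw [hX, hT]
    exact hperp _ (e ▸ (N.xi_supp _).sub (N.xi_supp _)) l (hs.lam g) hl.1 (hs.lam_ne hg)
  have hcol : ∀ g' i, Cfsg.classInner (N.Z i) (E.colSum g') = 0 := fun g' i => by
    haveI := E.finite_left
    letI := Fintype.ofFinite (↥A →* ℂˣ)
    rw [E.colSum_eq, classInner_sum_right]
    exact Finset.sum_eq_zero fun f _ => N.Z_grid E hodd hNV i f g'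
  obtain ⟨X, hXgen, hXn, -, hcase⟩ := hs.exists_X E hl
  have hTX : ∀ i, Cfsg.classInner (N.Z i) T = Cfsg.classInner (N.Z i) X := fun i => by
    rcases hcase with h | ⟨-, h⟩
    · rw [hT, h g hg, classInner_sub_right, hcol, sub_zero]
    · haveI := finite_linHom ↥(P ⊔ C)
      letI := Fintype.ofFinite (↥(P ⊔ C) →* ℂˣ)
      obtain ⟨g', hg', hne⟩ := hs.exists_third E (g := g)
      rw [hT, h g g' hg hg' hne.symm, classInner_add_right, hcol, add_zero]
  have hX0 : Cfsg.classInner (N.Z N.i₀) X = 0 := by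
    rw [classInner_sub_left, hTX, hTX, sub_eq_zero] at h2
    obtain ⟨a1, a2, a3, a4⟩ := unit_inner (N.Z_gen N.i₀) hXgen (N.Z_norm _) hXn
    by_contra hne
    have hz : zInner (N.Z N.i₀) X ≠ 0 := fun e => hne (by rw [zInner_spec (N.Z_gen _) hXgen, e, Int.cast_zero])
    rcases (by omega : zInner (N.Z N.i₀) X = 1 ∨ zInner (N.Z N.i₀) X = -1) with h | h
    · rw [← a3 h, N.Z_norm, N.Z_orth, if_neg (N.bar_ne _)] at h2
      exact one_ne_zero h2
    · rw [show X = -N.Z N.i₀ by rw [a4 h, neg_neg], classInner_neg_right, classInner_neg_right, N.Z_norm, N.Z_orth,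
        if_neg (N.bar_ne _)] at h2
      norm_num at h2
  have hZ : Cfsg.classInner T (N.Z N.i₀) = 0 := by
    rw [← classInner_conj_symm, hTX, hX0, map_zero]
  rw [Member.delta, classInner_add_right, classInner_sub_right, hb, h1, hZ]
  ring

include E hNV hperp in
/-- The coordinate of the difference on the member has the opposite parity to the coordinate of the member on the
grid. -/
theorem parity_diff (hcomm : ∀ x ∈ C, ∀ y ∈ C, x * y = y * x) {g : ↥B →* ℂˣ} (hg : g ≠ 1)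
    {L : ↥(P ⊔ A) →* ℂˣ}
    (hL : ∀ (n : ↥P) (a : ↥A) (x : ↥(P ⊔ A)), (x : G) = (n : G) * a →
      L x = hs.lam g (Subgroup.inclusion le_sup_left n)) :
    Even (zInner (hs.tauS (indLin M (1 : ↥(P ⊔ A) →* ℂˣ) - indLin M L) - (fun _ => 1) + E.eta 1 g) N.delta) := by
  have hodd := hs.hG.1
  haveI := finite_linHom ↥C
  letI := Fintype.ofFinite (↥C →* ℂˣ)
  have hq : (q : ℂ) ≠ 0 := Nat.cast_ne_zero.2 hs.hq.ne_zero
  obtain ⟨m₀, hm₀⟩ := hs.C_card_mod
  set m : ℤ := 2 * (m₀ : ℤ) with hm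
  have hcm : (Nat.card C : ℂ) - 1 = (q : ℂ) * (m : ℂ) := by
    rw [← Nat.cast_one, ← Nat.cast_sub Nat.card_pos, hm₀, hm]
    push_cast; ring
  set Br := indLin M (1 : ↥(P ⊔ A) →* ℂˣ) - indLin M L with hBr
  set D₀ := indLin M L - hs.mu 1 g - (m : ℂ) • indLin M (hs.lam g) with hD₀
  have hsum : (q : ℂ) • D₀ =
      ∑ κ ∈ Finset.univ.erase (1 : ↥C →* ℂˣ), (indLin M (hs.lamKappa g κ) - indLin M (hs.lam g)) := by
    rw [Finset.sum_sub_distrib, ← hs.theta_sum hL hcomm, Finset.sum_const, Finset.card_erase_of_mem (Finset.mem_univ _),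
      Finset.card_univ, ← Nat.card_eq_fintype_card, card_linHom_subgroup,
      Subgroup.commutator_eq_bot_iff_le_centralizer.2 fun x hx => mem_centralizer_iff.2 fun y hy => hcomm y hy x hx,
      relIndex_bot_left, hD₀, smul_sub, smul_smul, ← hcm, ← Nat.cast_smul_eq_nsmul ℂ, Nat.cast_sub Nat.card_pos,
      Nat.cast_one]
  have hD₀s : Supp (sideA0 M P C A B) M D₀ := by
    have h : D₀ = (q : ℂ)⁻¹ • ((q : ℂ) • D₀) := by rw [smul_smul, inv_mul_cancel₀ hq, one_smul]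
    rw [h, hsum]
    exact Supp.smul _ (Supp.sum fun κ _ => hs.supp_indLin)
  have hD₀g : Cfsg.IsGeneralizedCharacter M D₀ :=
    IsGenChar.sub (IsGenChar.sub (indLin_gen hs.PA_le _) (hs.mu_gen 1 g))
      (IsGenChar.zsmul (indLin_gen hs.PC_le _) m)
  have hDdelta : Cfsg.classInner (hs.tauS D₀) N.delta = 0 := by
    have h : (q : ℂ) • hs.tauS D₀ = ∑ κ ∈ Finset.univ.erase (1 : ↥C →* ℂˣ),
        hs.tauS (indLin M (hs.lamKappa g κ) - indLin M (hs.lam g)) := by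
      simp only [tauS, ← dade_smul, ← dade_sum, hsum]
    have h2 := congrArg (fun F => Cfsg.classInner F N.delta) h
    simp only [classInner_smul_left, classInner_sum_left] at h2
    rw [Finset.sum_eq_zero fun κ hκ =>
      hs.kappa_delta E N hNV hperp hg (hs.lamKappa_reg hg (Finset.ne_of_mem_erase hκ))] at h2
    exact (mul_eq_zero.1 h2).resolve_left hq
  have hBs := hs.supp_diff hL
  have hBg : Cfsg.IsGeneralizedCharacter M Br := IsGenChar.sub (indLin_gen hs.PA_le _) (indLin_gen hs.PA_le _)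
  set dB := hs.tauS Br - (fun _ => 1) + E.eta 1 g with hdB
  have hdBg : Cfsg.IsGeneralizedCharacter G dB :=
    IsGenChar.add (IsGenChar.sub (hs.tauS_gen hBs hBg) gen_one) (E.gen 1 g)
  set F := dB + hs.tauS D₀ + (m : ℂ) • E.colSum g with hF
  have hFg : Cfsg.IsGeneralizedCharacter G F :=
    IsGenChar.add (IsGenChar.add hdBg (hs.tauS_gen hD₀s hD₀g)) (IsGenChar.zsmul (E.colSum_gen g) m)
  have hg' : g⁻¹ ≠ 1 := fun e => hg (MonoidHom.ext fun x => by simpa using DFunLike.congr_fun e x)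
  have hFe : F = hs.tauS (indLin M (1 : ↥(P ⊔ A) →* ℂˣ) - hs.mu 1 g - (m : ℂ) • indLin M (hs.lam g)) -
      (fun _ => 1) + E.eta 1 g + (m : ℂ) • E.colSum g := by
    have h : indLin M (1 : ↥(P ⊔ A) →* ℂˣ) - hs.mu 1 g - (m : ℂ) • indLin M (hs.lam g) = Br + D₀ := by
      rw [hBr, hD₀]; abel
    rw [h, hF, hdB]
    simp only [tauS, dade_add]
    abel
  have hFr : conjFun F = F := by
    have hsm : ∀ {X : Type u} (v : X → ℂ), (fun x => conj (((m : ℂ) • v) x)) = (m : ℂ) • fun x => conj (v x) :=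
      fun v => funext fun x => by simp
    have hcolr : conjFun (E.colSum g) = E.colSum g⁻¹ := by
      haveI := E.finite_left
      letI := Fintype.ofFinite (↥A →* ℂˣ)
      rw [E.colSum_eq, E.colSum_eq, conjFun_sum, Finset.sum_congr rfl fun f _ => E.conj_eta hodd f g]
      exact Fintype.sum_equiv (Equiv.inv _) _ _ fun f => rfl
    have hΨ : conjFun (indLin M (1 : ↥(P ⊔ A) →* ℂˣ) - hs.mu 1 g - (m : ℂ) • indLin M (hs.lam g)) =
        (indLin M (1 : ↥(P ⊔ A) →* ℂˣ) - hs.mu 1 g - (m : ℂ) • indLin M (hs.lam g)) +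
          ((hs.mu 1 g - hs.mu 1 g⁻¹) + (m : ℂ) • (indLin M (hs.lam g) - indLin M (hs.lam g⁻¹))) := by
      rw [conjFun_sub, conjFun_sub, conjFun_indLin hs, one_inv_hom, hs.conj_mu_one,
        show conjFun ((m : ℂ) • indLin M (hs.lam g)) = (m : ℂ) • conjFun (indLin M (hs.lam g)) from hsm _,
        conjFun_indLin hs, ← hs.lam_inv, smul_sub]
      abel
    rw [hFe, conjFun_add, conjFun_add, conjFun_sub, conjFun_const_one, E.conj_eta hodd, one_inv_hom, tauS, dade_conj, hΨ,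
      dade_add, dade_add, dade_smul, show conjFun ((m : ℂ) • E.colSum g) = (m : ℂ) • conjFun (E.colSum g) from hsm _,
      hcolr]
    have e1 := hs.tau_mu E 1 hg hg'
    have e2 := hs.tau_lam E hg hg'
    rw [tauS] at e1 e2
    rw [e1, e2, smul_sub]
    abel
  obtain ⟨k, hk⟩ := inner_even hodd N.delta_gen hFg N.delta_real hFr N.delta_one
  rw [zInner_comm hFg N.delta_gen] at hk
  obtain ⟨j, hj⟩ := IsGenChar.classInner_int (E.colSum_gen g) N.delta_gen
  have h := zInner_spec hFg N.delta_gen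
  rw [hk, hF, classInner_add_left, classInner_add_left, hDdelta, classInner_smul_left, hj,
    zInner_spec hdBg N.delta_gen, add_zero] at h
  refine ⟨k - (m₀ : ℤ) * j, ?_⟩
  have h' : zInner dB N.delta + m * j = k + k := by exact_mod_cast h
  rw [hm] at h'
  linarith

include hNP hNV hperp in
/-- The bridge. -/
theorem bridge (hcomm : ∀ x ∈ C, ∀ y ∈ C, x * y = y * x) {g : ↥B →* ℂˣ} (hg : g ≠ 1)
    (hb : Even (E.coef N.beta 1 g)) :
    N.n ≤ (C.relIndex U * Nat.card C - 1) / q + (Nat.card C - 1) / q := by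
  have hodd := hs.hG.1
  obtain ⟨L, hL'⟩ := exists_extend hs.A_norm_P hs.P_inf_A
    ((hs.lam g).comp (Subgroup.inclusion (le_sup_left : P ≤ P ⊔ C)))
    (fun a ha y z e => (hs.lam_spec g).fixed a ha _ _ e) (1 : ↥A →* ℂˣ)
  have hL : ∀ (n : ↥P) (a : ↥A) (x : ↥(P ⊔ A)), (x : G) = (n : G) * a →
      L x = hs.lam g (Subgroup.inclusion le_sup_left n) := fun n a x e => by
    rw [hL' n a x e, MonoidHom.one_apply, mul_one]; rfl
  have hu := hs.u_mod
  obtain ⟨a₁, ha₁⟩ := (dvd_mul_left q 2).trans hu.1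
  obtain ⟨k₂, hk₂'⟩ := (dvd_mul_left q 2).trans hs.C_card_mod
  have hc0 : 0 < Nat.card C := Nat.card_pos
  have hk₂ : Nat.card C = q * k₂ + 1 := by omega
  set k₁ := a₁ * Nat.card C + k₂ with hk₁'
  have hk₁ : C.relIndex U * Nat.card C = q * k₁ + 1 := by
    rw [hk₁', show C.relIndex U = q * a₁ + 1 by omega, add_mul, one_mul, mul_add, mul_assoc]
    omega
  rw [show C.relIndex U * Nat.card C - 1 = q * k₁ by omega, show Nat.card C - 1 = q * k₂ by omega,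
    Nat.mul_div_cancel_left _ hs.hq.pos, Nat.mul_div_cancel_left _ hs.hq.pos]
  have hBs := hs.supp_diff hL
  set Br := indLin M (1 : ↥(P ⊔ A) →* ℂˣ) - indLin M L with hBr
  set F := hs.tauS Br with hF
  have hFg : Cfsg.IsGeneralizedCharacter G F :=
    hs.tauS_gen hBs (IsGenChar.sub (indLin_gen hs.PA_le _) (indLin_gen hs.PA_le _))
  -- the support
  have hzero : ∀ x ∈ N.reg, F x = 0 := by
    intro x hx
    by_cases hsupp : x ∈ Dade.supp (sideA0 M P C A B) (fun _ : G => (⊥ : Subgroup G))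
    · rw [ti_supp] at hsupp
      obtain ⟨a, ha, t, rfl⟩ := hsupp
      rw [hF, tauS, dade_cf hs.dade_A0 hBs a t]
      refine (ti_apply hs.dade_A0 hBs (a := ⟨a, hs.dade_A0.subset ha⟩) ha).trans ?_
      rcases ha with ⟨haPC, ha1⟩ | ⟨w, hw, z, hz, rfl⟩
      · refine hs.diff_zero hL _ (Or.inl fun h => hNP a h ha1 ?_) ?_
        · have := Dade.mem_supp_conj hx t⁻¹
          simpa [mul_assoc, Member.reg] using this
        · rintro ⟨w, hw, z, hz, e⟩
          exact hs.mixed_not_PC ⟨w, z, hz, e⟩ haPC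
      · exact absurd ⟨t * w, z, hz, by group⟩ (Set.disjoint_left.1 hNV hx)
    · exact Dade.dade_eq_zero hsupp
  have hFN : ∀ α, Cfsg.classInner F (N.tau α) = 0 := fun α => inner_zero_of_support fun x => by
    by_cases hx : x ∈ N.reg
    · exact Or.inl (hzero x hx)
    · exact Or.inr (N.tau_outside hx)
  set gB := zInner F (N.Z N.i₀) with hgB
  have hgBs : Cfsg.classInner F (N.Z N.i₀) = (gB : ℂ) := zInner_spec hFg (N.Z_gen _)
  have hFZ : ∀ i, Cfsg.classInner F (N.Z i) = (((N.d i : ℤ) * gB : ℤ) : ℂ) := fun i => by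
    have h := hFN (N.xi i - (N.d i : ℂ) • N.xi N.i₀)
    rw [Member.tau, N.Z_diff, classInner_sub_right, classInner_smul_right, map_natCast, hgBs, sub_eq_zero] at h
    rw [h]; push_cast; rfl
  -- the norm and the principal part
  have hnorm : Cfsg.classInner F F = (((2 + k₁ + k₂ : ℕ) : ℤ) : ℂ) := by
    rw [hF, hs.tauS_iso hBs hBs, hs.norm_diff hL hg hk₁ hk₂, Int.cast_natCast]
  have hF1 : Cfsg.classInner F (fun _ => 1) = 1 := by
    haveI : Fintype ↥(P ⊔ A) := Fintype.ofFinite _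
    have hone : IsClassFunction M fun _ : M => (1 : ℂ) := fun _ _ => rfl
    have hlin : ∀ l : ↥(P ⊔ A) →* ℂˣ, Cfsg.classInner (indLin M l) (fun _ : M => (1 : ℂ)) =
        conj (Cfsg.classInner (fun _ : ↥(P ⊔ A) => (1 : ℂ)) fun h => (l h : ℂ)) := fun l => by
      rw [← classInner_conj_symm, inner_indLin hs.PA_le l hone]
    have hL1 : L ≠ 1 := fun e => by
      obtain ⟨y, hy, hy1⟩ := hs.lam_ne hg
      have h := hL ⟨y, hy⟩ 1 ⟨y, mem_sup_left hy⟩ (by simp)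
      rw [e, MonoidHom.one_apply] at h
      exact hy1 h.symm
    rw [hF, hs.tauS_inner hBs (IsGenChar.classFun gen_one), hBr, classInner_sub_left, hlin, hlin,
      show (fun h : ↥(P ⊔ A) => ((1 : ↥(P ⊔ A) →* ℂˣ) h : ℂ)) = fun _ => 1 from funext fun _ => rfl,
      classInner_self_irr isIrr_one, classInner_irr_ne isIrr_one (isIrr_linear L) fun e => hL1
        (MonoidHom.ext fun x => Units.ext (congrFun e x).symm), map_one, map_zero, sub_zero]
  -- the additive part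
  set dB := F - (fun _ => 1) + E.eta 1 g with hdB
  have hdBg : Cfsg.IsGeneralizedCharacter G dB := IsGenChar.add (IsGenChar.sub hFg gen_one) (E.gen 1 g)
  have hV : ∀ (a : ↥A) (b : ↥B), a ≠ 1 → b ≠ 1 → dB ((a : G) * b) = 0 := by
    intro a b ha hb
    have hab : (a : G) * b ∈ M := hs.W_le (mul_mem (mem_sup_left a.2) (mem_sup_right b.2))
    have hH : (a : G) * b ∈ P ⊔ A := mul_mem (mem_sup_right a.2) (mem_sup_left (hs.W₂_le b.2))
    have hA0 : (a : G) * b ∈ sideA0 M P C A B := by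
      refine Or.inr ⟨1, M.one_mem, _, ⟨mul_mem (mem_sup_left a.2) (mem_sup_right b.2), ?_⟩, by group⟩
      rintro (h | h)
      · exact hb (Subtype.ext (Subgroup.mem_bot.1 (hs.self.2.2.1.le ⟨(A.mul_mem_cancel_left a.2).1 h, b.2⟩)))
      · exact ha (Subtype.ext (Subgroup.mem_bot.1 (hs.self.2.2.1.le ⟨a.2, (B.mul_mem_cancel_right b.2).1 h⟩)))
    have hv : F ((a : G) * b) = Br ⟨_, hab⟩ := ti_apply hs.dade_A0 hBs (a := ⟨_, hab⟩) hA0
    have ha1 : (a : G) ≠ 1 := fun e => ha (Subtype.ext e)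
    rw [hdB, Pi.add_apply, Pi.sub_apply, hv, hBr, Pi.sub_apply, hs.indPA_val _ a.2 ha1 b.2 hab hH,
      hs.indPA_val _ a.2 ha1 b.2 hab hH, hs.PA_line hL a.2 b.2, E.val 1 g a b ha hb]
    simp
  have hη1 : Cfsg.classInner (E.eta 1 g) (fun _ => 1) = 0 := by
    rw [← E.one]; exact E.orth _ _ _ _ fun e => hg e.2
  have hcoef : ∀ f h, E.coef dB f h = E.coef F f h - (if f = 1 ∧ h = 1 then 1 else 0) +
      if f = 1 ∧ h = g then 1 else 0 := fun f h => by
    apply zInner_eq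
    rw [hdB, classInner_add_left, classInner_sub_left, E.coef_spec hFg, ← E.one]
    have ho : ∀ f₀ g₀, Cfsg.classInner (E.eta f₀ g₀) (E.eta f h) = if f = f₀ ∧ h = g₀ then 1 else 0 := fun f₀ g₀ => by
      split_ifs with e
      · rw [e.1, e.2, E.norm_one]
      · exact E.orth _ _ _ _ fun e' => e ⟨e'.1.symm, e'.2.symm⟩
    rw [ho, ho]
    push_cast [apply_ite (Int.cast : ℤ → ℂ)]
    ring
  have hF11 : E.coef F 1 1 = 1 := zInner_eq (by rw [E.one, hF1, Int.cast_one])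
  have h00 : E.coef dB 1 1 = 0 := by
    rw [hcoef, hF11, if_pos ⟨rfl, rfl⟩, if_neg fun e => hg e.2.symm]; rfl
  haveI := E.finite_left; haveI := E.swap.finite_left
  letI := Fintype.ofFinite (↥A →* ℂˣ); letI := Fintype.ofFinite (↥B →* ℂˣ)
  obtain ⟨x₀, hx₀, hx₀F⟩ : ∃ x : (↥A →* ℂˣ) × (↥B →* ℂˣ), x ≠ (1, 1) ∧ E.coef F x.1 x.2 ≠ 0 := by
    by_contra hall
    push Not at hall
    obtain ⟨i, hi⟩ : ∃ i : ↥A →* ℂˣ, i ≠ 1 :=
      Fintype.exists_ne_of_one_lt_card (by have := E.three_le hodd; omega) 1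
    have h0 : ∀ f h, ¬(f = 1 ∧ h = 1) → E.coef F f h = 0 := fun f h hne =>
      hall (f, h) fun e => hne ⟨congrArg Prod.fst e, congrArg Prod.snd e⟩
    have h1 := E.coef_add hdBg hV i g
    rw [h00, hcoef, hcoef, hcoef, h0 i g fun e => hi e.1, h0 i 1 fun e => hi e.1, h0 1 g fun e => hg e.2] at h1
    simp [hi, hg, Ne.symm hg] at h1
  -- Bessel
  let v : (((↥A →* ℂˣ) × (↥B →* ℂˣ)) ⊕ N.ι) → G → ℂ := Sum.elim (fun x => E.eta x.1 x.2) N.Z
  let cc : (((↥A →* ℂˣ) × (↥B →* ℂˣ)) ⊕ N.ι) → ℤ :=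
    Sum.elim (fun x => E.coef F x.1 x.2) fun i => (N.d i : ℤ) * gB
  have hv : ∀ x y, Cfsg.classInner (v x) (v y) = if x = y then 1 else 0 := by
    rintro (x | i) (y | j) <;> simp only [v, Sum.elim_inl, Sum.elim_inr, reduceCtorEq, if_false]
    · rw [E.eta_inner]; exact if_congr (by simp) rfl rfl
    · rw [← classInner_conj_symm, N.Z_grid E hodd hNV, map_zero]
    · exact N.Z_grid E hodd hNV _ _ _
    · rw [N.Z_orth]; exact if_congr (by simp) rfl rfl
  have hcc : ∀ x, Cfsg.classInner F (v x) = cc x := by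
    rintro (x | i)
    · exact E.coef_spec hFg _ _
    · exact hFZ i
  have hbes := (bessel_int v hv F cc hcc hnorm).1
  rw [Fintype.sum_sum_type] at hbes
  simp only [cc, Sum.elim_inl, Sum.elim_inr] at hbes
  have hgrid : (2 : ℤ) ≤ ∑ x : (↥A →* ℂˣ) × (↥B →* ℂˣ), E.coef F x.1 x.2 ^ 2 := by
    refine le_trans ?_ (Finset.sum_le_sum_of_subset_of_nonneg
      (Finset.subset_univ {((1 : ↥A →* ℂˣ), (1 : ↥B →* ℂˣ)), x₀}) fun x _ _ => sq_nonneg _)
    rw [Finset.sum_pair hx₀.symm, hF11]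
    have := Int.one_le_abs hx₀F
    nlinarith [sq_abs (E.coef F x₀.1 x₀.2)]
  have hfam : ∑ i, ((N.d i : ℤ) * gB) ^ 2 = (N.n : ℤ) * gB ^ 2 := by
    simp only [mul_pow, ← Finset.sum_mul]
    congr 1
    exact_mod_cast N.sum_d
  rw [hfam] at hbes
  -- parity
  obtain ⟨k, hk⟩ := hs.parity_diff E N hNV hperp hcomm hg hL
  rw [← hBr, ← hF, ← hdB] at hk
  have hδ : Cfsg.classInner (E.eta 1 g) N.delta = (E.coef N.beta 1 g : ℂ) := by
    rw [← classInner_conj_symm, Member.delta, classInner_add_left, classInner_sub_left, E.coef_spec N.beta_gen,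
      N.Z_grid E hodd hNV, ← classInner_conj_symm (E.eta 1 g) (fun _ => 1), hη1, map_zero, sub_zero, add_zero,
      map_intCast]
  have h1δ : Cfsg.classInner (fun _ : G => (1 : ℂ)) N.delta = 0 := by
    rw [← classInner_conj_symm, N.delta_one, map_zero]
  have hpar : (0 : ℤ) = 1 + (k + k) - E.coef N.beta 1 g - gB := by
    apply Int.cast_injective (α := ℂ)
    have e1 : Cfsg.classInner F N.beta = 0 := hFN _
    have e2 : N.beta = (fun _ => (1 : ℂ)) + N.delta - N.Z N.i₀ := by rw [Member.delta]; abel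
    have e3 : Cfsg.classInner dB N.delta = ((k + k : ℤ) : ℂ) := by rw [zInner_spec hdBg N.delta_gen, hk]
    rw [hdB, classInner_add_left, classInner_sub_left, h1δ, hδ] at e3
    rw [e2, classInner_sub_right, classInner_add_right, hF1, hgBs] at e1
    push_cast at e3 ⊢
    linear_combination e3 - e1
  have hgB0 : gB ≠ 0 := by
    obtain ⟨j, hj⟩ := hb
    omega
  have hsq : (N.n : ℤ) ≤ (N.n : ℤ) * gB ^ 2 := by
    refine le_mul_of_one_le_right (Int.natCast_nonneg _) ?_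
    have := Int.one_le_abs hgB0
    nlinarith [sq_abs gB]
  push_cast at hbes
  have : (N.n : ℤ) ≤ (k₁ : ℤ) + k₂ := by linarith
  exact_mod_cast this

end Side

/-- The bridge for a member whose region misses that of `S`. -/
theorem Pair.bridge {S T W₁ W₂ U C : Subgroup G} {p q : ℕ} (h : Pair S T W₁ W₂)
    (hs : Side S (Cfsg.fittingHallOf S) U C W₁ W₂ p q) [Fintype S] (E : Grid W₁ W₂) (N : Member G)
    (hNS : Disjoint N.reg (reg S)) (hNV : Disjoint N.reg (mixed W₁ W₂))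
    (hperp : ∀ α, Supp N.A N.L α → ∀ l l' : ↥(Cfsg.fittingHallOf S ⊔ C) →* ℂˣ,
      (∃ y : ↥(Cfsg.fittingHallOf S ⊔ C), (y : G) ∈ Cfsg.fittingHallOf S ∧ l y ≠ 1) →
      (∃ y : ↥(Cfsg.fittingHallOf S ⊔ C), (y : G) ∈ Cfsg.fittingHallOf S ∧ l' y ≠ 1) →
      Cfsg.classInner (N.tau α) (hs.tauS (indLin S l - indLin S l')) = 0)
    (hcomm : ∀ x ∈ C, ∀ y ∈ C, x * y = y * x) {g : ↥W₂ →* ℂˣ} (hg : g ≠ 1) (hb : Even (E.coef N.beta 1 g)) :
    N.n ≤ (C.relIndex U * Nat.card C - 1) / q + (Nat.card C - 1) / q :=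
  hs.bridge E N (fun y hy hy1 hr => Set.disjoint_left.1 hNS hr
    ⟨y, ⟨h.sigmaCore_S ▸ hy, hy1⟩, 1, one_mem _, 1, by group⟩) hNV hperp hcomm hg hb

end Cfsg.Agent.Grp.FT
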