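import Cfsg.Agent.Lib.Grp.FT.Member
import Cfsg.Agent.Lib.Char.CohDescent
import Cfsg.Agent.Lib.Char.CohBasic

/-!
Members from a free family of irreducible characters of a normal subgroup.
-/

set_option autoImplicit false
set_option linter.unusedSectionVars false
set_option linter.style.haveILetI false
set_option maxHeartbeats 1000000

namespace Cfsg.Agent.Grp.FT

open Cfsg Cfsg.Agent.Char
open scoped ComplexConjugate Classical

universe u

variable {G : Type u} [Group G] [Fintype G]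

/-- Complex field automorphisms commute with induction. -/
theorem map_indFun {L : Type u} [Group L] [Fintype L] (K : Subgroup L) (σ : ℂ ≃+* ℂ) (θ : K → ℂ) :
    (fun g => σ (indFun K θ g)) = indFun K fun x => σ (θ x) := by
  funext g
  simp only [indFun, map_mul, map_inv₀, map_natCast, map_sum]
  congr 1
  refine Finset.sum_congr rfl fun x _ => ?_
  by_cases h : x⁻¹ * g * x ∈ K
  · rw [extendByZero_of_mem _ h, extendByZero_of_mem _ h]
  · rw [extendByZero_not_mem _ h, extendByZero_not_mem _ h, map_zero]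

/-- Conjugation commutes with field automorphisms. -/
theorem map_conjN {L : Type u} [Group L] (K : Subgroup L) [K.Normal] (σ : ℂ ≃+* ℂ) (g : L) (θ : K → ℂ) :
    (fun x => σ (Char.conjN K g θ x)) = Char.conjN K g fun x => σ (θ x) := funext fun x => by simp [conjN_apply]

/-- The data of a family. -/
structure Fam (G : Type u) [Group G] [Fintype G] where
  L : Subgroup G
  finL : Fintype L
  A : Set G
  R : G → Subgroup G
  hD : DadeHypothesis A L R
  hodd : Odd (Nat.card G)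
  K : Subgroup L
  hK : K.Normal
  hA : ∀ x : L, (x : G) ∈ A ↔ x ∈ K ∧ x ≠ 1
  Θ : Finset (IrrCharacter K)
  ne_one : ∀ θ ∈ Θ, (θ : K → ℂ) ≠ fun _ => 1
  free : ∀ θ ∈ Θ, inertia K (θ : K → ℂ) = K
  conj_mem : ∀ θ ∈ Θ, ∀ g : L, ∃ φ ∈ Θ, (φ : K → ℂ) = Char.conjN K g (θ : K → ℂ)
  map_mem : ∀ θ ∈ Θ, ∀ σ : ℂ ≃+* ℂ, ∃ φ ∈ Θ, (φ : K → ℂ) = fun x => σ ((θ : K → ℂ) x)
  θ₀ : IrrCharacter K
  θ₀_mem : θ₀ ∈ Θ
  θ₀_one : (θ₀ : K → ℂ) 1 = 1
  coh : IsCoherent {f : L → ℂ | ∃ θ ∈ Θ, indFun K (θ : K → ℂ) = f} {1}ᶜ (dadeIsometry A L R)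

attribute [instance] Fam.finL Fam.hK

noncomputable instance (F : Fam G) : Fintype F.K := Fintype.ofFinite _

namespace Fam

variable (F : Fam G)

/-- The members of the family. -/
abbrev Mem : Type u := {f : F.L → ℂ // ∃ θ ∈ F.Θ, indFun F.K (θ : F.K → ℂ) = f}

noncomputable instance : DecidableEq F.Mem := Classical.decEq _

noncomputable instance : Fintype F.Mem :=
  Fintype.ofSurjective (fun θ : F.Θ => (⟨_, θ.1, θ.2, rfl⟩ : F.Mem)) fun f => by
    obtain ⟨θ, hθ, e⟩ := f.2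
    exact ⟨⟨θ, hθ⟩, Subtype.ext e⟩

/-- A source of a member. -/
noncomputable def src (i : F.Mem) : IrrCharacter F.K := i.2.choose

theorem src_mem (i : F.Mem) : F.src i ∈ F.Θ := i.2.choose_spec.1

theorem src_eq (i : F.Mem) : indFun F.K (F.src i : F.K → ℂ) = i.1 := i.2.choose_spec.2

/-- The degree of a member relative to the index. -/
noncomputable def deg (i : F.Mem) : ℕ := KerSets.dg (F.src i : F.K → ℂ)

theorem deg_spec (i : F.Mem) : (F.src i : F.K → ℂ) 1 = (F.deg i : ℂ) := KerSets.dg_spec (F.src i).2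

theorem mem_irr (i : F.Mem) : IsIrrCharacter F.L i.1 :=
  F.src_eq i ▸ indFun_irr_of_inertia_eq F.K (F.src i).2 (F.free _ (F.src_mem i))

theorem mem_one (i : F.Mem) : i.1 1 = (F.K.index : ℂ) * (F.deg i : ℂ) := by
  rw [← F.src_eq i, indFun_one_eq, F.deg_spec]

theorem vanish_off (i : F.Mem) {x : F.L} (hx : x ∉ F.K) : i.1 x = 0 := by
  rw [← F.src_eq i]
  exact indFun_eq_zero_of_not_conj _ _ fun g hg => (hx (by simpa [mul_assoc] using F.hK.conj_mem _ hg g)).elim

/-- Complex conjugation of members. -/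
noncomputable def conjMem (i : F.Mem) : F.Mem :=
  ⟨conjFun i.1, by
    obtain ⟨φ, hφ, e⟩ := F.map_mem _ (F.src_mem i) (starRingAut : ℂ ≃+* ℂ)
    refine ⟨φ, hφ, ?_⟩
    rw [e, ← map_indFun, F.src_eq]
    rfl⟩

/-- The distinguished member. -/
noncomputable def one₀ : F.Mem := ⟨indFun F.K (F.θ₀ : F.K → ℂ), F.θ₀, F.θ₀_mem, rfl⟩

theorem res_inner (ψ : F.L → ℂ) (hψ : IsClassFunction F.L ψ) {θ : IrrCharacter F.K} :
    classInner ψ (indFun F.K (θ : F.K → ℂ)) = classInner (fun x : F.K => ψ x) (θ : F.K → ℂ) :=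
  classInner_indFun_right F.K _ hψ

theorem deg_of_eq {θ : IrrCharacter F.K} (hθ : θ ∈ F.Θ) (i : F.Mem) (h : indFun F.K (θ : F.K → ℂ) = i.1) :
    (θ : F.K → ℂ) 1 = (F.deg i : ℂ) := by
  have h1 := congrFun h 1
  rw [indFun_one_eq, F.mem_one] at h1
  exact mul_left_cancel₀ (Nat.cast_ne_zero.2 Subgroup.index_ne_zero_of_finite) h1

theorem fibre_card (i : F.Mem) :
    (F.Θ.filter fun θ : IrrCharacter F.K => ∀ x, indFun F.K (θ : F.K → ℂ) x = i.1 x).card = F.K.index := by
  classical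
  conv_rhs => rw [← F.free _ (F.src_mem i), ← card_conjOrbit F.K (F.src i : F.K → ℂ)]
  refine Finset.card_bij (fun θ _ => (θ : F.K → ℂ)) (fun θ hθ => ?_) (fun (a : IrrCharacter F.K) _ b _ h => Subtype.ext h) fun ψ hψ => ?_
  · obtain ⟨hθ, he⟩ := Finset.mem_filter.1 hθ
    refine (mem_conjOrbit F.K).2 ?_
    by_contra hne
    push Not at hne
    have h := classInner_indFun_indFun_irr F.K (F.src i).2 θ.2
    rw [F.src_eq, funext he, classInner_self_irr (F.mem_irr i)] at h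
    haveI : IsEmpty {x : F.L // Char.conjN F.K x (F.src i : F.K → ℂ) = (θ : F.K → ℂ)} := ⟨fun x => hne x.1 x.2⟩
    rw [Nat.card_of_isEmpty (α := {x : F.L // Char.conjN F.K x (F.src i : F.K → ℂ) = (θ : F.K → ℂ)}), Nat.cast_zero, mul_zero] at h
    exact one_ne_zero h
  · obtain ⟨g, rfl⟩ := (mem_conjOrbit F.K).1 hψ
    obtain ⟨φ, hφ, e⟩ := F.conj_mem _ (F.src_mem i) g
    refine ⟨φ, Finset.mem_filter.2 ⟨hφ, fun x => ?_⟩, e⟩
    rw [e, indFun_conjN, F.src_eq]

theorem sum_deg : F.K.index * ∑ i : F.Mem, F.deg i ^ 2 = ∑ θ ∈ F.Θ, KerSets.dg (θ : F.K → ℂ) ^ 2 := by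
  classical
  rw [Finset.mul_sum]
  rw [← Finset.sum_fiberwise_of_maps_to (t := (Finset.univ : Finset F.Mem))
    (g := fun θ => if h : θ ∈ F.Θ then (⟨_, θ, h, rfl⟩ : F.Mem) else F.one₀) (fun θ _ => Finset.mem_univ _)]
  refine Finset.sum_congr rfl fun i _ => ?_
  have e : F.Θ.filter (fun θ => (if h : θ ∈ F.Θ then (⟨_, θ, h, rfl⟩ : F.Mem) else F.one₀) = i) =
      F.Θ.filter fun θ : IrrCharacter F.K => ∀ x, indFun F.K (θ : F.K → ℂ) x = i.1 x := by
    refine Finset.filter_congr fun θ hθ => ?_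
    rw [dif_pos hθ]
    exact ⟨fun e x => congrFun (congrArg Subtype.val e) x, fun e => Subtype.ext (funext e)⟩
  rw [e, Finset.sum_congr rfl (g := fun _ => F.deg i ^ 2) fun θ hθ => ?_, Finset.sum_const, F.fibre_card, smul_eq_mul]
  obtain ⟨hθ, he⟩ := Finset.mem_filter.1 hθ
  have h := F.deg_of_eq hθ i (funext he)
  rw [KerSets.dg_spec θ.2] at h
  rw [Nat.cast_injective h]

/-- The extension of the Dade map to the family. -/
noncomputable def ext : (F.L → ℂ) → (G → ℂ) := F.coh.2.choose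

theorem ext_iso : IsLinearIsometryOn (zspan {f : F.L → ℂ | ∃ θ ∈ F.Θ, indFun F.K (θ : F.K → ℂ) = f}) F.ext :=
  F.coh.2.choose_spec.1

theorem diff_supp (i : F.Mem) : Supp F.A F.L (i.1 - (F.deg i : ℂ) • F.one₀.1) := by
  refine ⟨classFunction_sub (IsIrr.classFun (F.mem_irr i)) (classFunction_smul _ (IsIrr.classFun (F.mem_irr _))), fun x hx => ?_⟩
  by_cases hK : x ∈ F.K
  · have hx1 : x = 1 := by_contra fun h => hx ((F.hA x).2 ⟨hK, h⟩)
    subst hx1
    rw [Pi.sub_apply, Pi.smul_apply, F.mem_one, smul_eq_mul, show F.one₀.1 1 = (F.K.index : ℂ) from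
      (indFun_one_eq F.K _).trans (by rw [F.θ₀_one, mul_one])]
    ring
  · simp [F.vanish_off i hK, F.vanish_off F.one₀ hK]

theorem ext_diff (i : F.Mem) :
    dadeIsometry F.A F.L F.R (i.1 - (F.deg i : ℂ) • F.one₀.1) = F.ext i.1 - (F.deg i : ℂ) • F.ext F.one₀.1 := by
  have hm : ∀ j : F.Mem, j.1 ∈ zspan {f : F.L → ℂ | ∃ θ ∈ F.Θ, indFun F.K (θ : F.K → ℂ) = f} := fun j =>
    Submodule.subset_span j.2
  have e : i.1 - (F.deg i : ℂ) • F.one₀.1 = i.1 + (-(F.deg i : ℤ)) • F.one₀.1 := by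
    rw [← Int.cast_smul_eq_zsmul ℂ, Int.cast_neg, Int.cast_natCast, neg_smul, sub_eq_add_neg]
  have h0 : i.1 - (F.deg i : ℂ) • F.one₀.1 ∈ zspanOn {f : F.L → ℂ | ∃ θ ∈ F.Θ, indFun F.K (θ : F.K → ℂ) = f} {1}ᶜ := by
    refine ⟨e ▸ Submodule.add_mem _ (hm i) (Submodule.smul_mem _ _ (hm _)), fun x hx => ?_⟩
    rw [Set.notMem_compl_iff, Set.mem_singleton_iff] at hx
    subst hx
    exact (F.diff_supp i).2 1 (fun h => F.hD.one_not_mem (by simpa using h))
  rw [← F.coh.2.choose_spec.2 _ h0]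
  show F.ext _ = _
  rw [e, F.ext_iso.1 _ (hm i) _ (Submodule.smul_mem _ _ (hm _)), F.ext_iso.2.1 _ (hm _)]
  rw [← Int.cast_smul_eq_zsmul ℂ, Int.cast_neg, Int.cast_natCast, neg_smul, sub_eq_add_neg]

theorem value_le (ψ : F.L → ℂ) (hψ : Supp F.A F.L ψ)
    (h : ∀ i : F.Mem, classInner ψ i.1 = (F.deg i : ℂ) * classInner ψ F.one₀.1) :
    Complex.normSq (classInner ψ (indFun F.K (fun _ => 1) - F.one₀.1)) *
      (((∑ i : F.Mem, F.deg i ^ 2 : ℕ) : ℝ) / ((F.K.index : ℝ) * ((∑ i : F.Mem, F.deg i ^ 2 : ℕ) : ℝ) + 1)) ≤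
      (classInner ψ ψ).re := by
  classical
  set f : F.K → ℂ := fun x => ψ x with hf
  have hfc : IsClassFunction F.K f := fun a b => by simp [f, hψ.1 (a : F.L) (b : F.L)]
  set s := classInner f (F.θ₀ : F.K → ℂ) with hs
  set one : IrrCharacter F.K := ⟨fun _ => 1, isIrr_one⟩ with hone
  have hR : ∀ φ ∈ F.Θ, classInner f (φ : F.K → ℂ) = s * (KerSets.dg (φ : F.K → ℂ) : ℂ) := fun φ hφ => by
    have h1 := h ⟨_, φ, hφ, rfl⟩
    rw [F.res_inner ψ hψ.1, one₀, F.res_inner ψ hψ.1] at h1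
    have h2 := F.deg_of_eq hφ ⟨_, φ, hφ, rfl⟩ rfl
    rw [KerSets.dg_spec φ.2] at h2
    rw [h2, hs, mul_comm]
    exact h1
  have hd1 : KerSets.dg (one : F.K → ℂ) = 1 := by
    exact Nat.cast_injective (R := ℂ) ((KerSets.dg_spec one.2).symm.trans Nat.cast_one.symm)
  have hval : classInner ψ (indFun F.K (fun _ => 1) - F.one₀.1) = classInner f (one : F.K → ℂ) - s := by
    rw [classInner_sub_right, one₀, F.res_inner ψ hψ.1, classInner_indFun_right F.K _ hψ.1]
  have hdis : Disjoint ({one} : Finset (IrrCharacter F.K)) F.Θ :=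
    Finset.disjoint_singleton_left.2 fun h => F.ne_one _ h rfl
  have hv := two_block hfc (fun φ => KerSets.dg (φ : F.K → ℂ)) (fun φ => KerSets.dg_spec φ.2) {one} F.Θ hdis s
    (classInner f (one : F.K → ℂ) - s) hR fun φ hφ => by
      rw [Finset.mem_singleton.1 hφ, hd1, Nat.cast_one, mul_one, add_sub_cancel]
  rw [Finset.sum_singleton, hd1, Nat.cast_one, one_pow, one_mul] at hv
  have hW : (∑ φ ∈ F.Θ, (KerSets.dg (φ : F.K → ℂ) : ℝ) ^ 2) = (F.K.index : ℝ) * ((∑ i : F.Mem, F.deg i ^ 2 : ℕ) : ℝ) := by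
    exact_mod_cast F.sum_deg.symm
  rw [hW] at hv
  have hf1 : f 1 = 0 := hψ.2 1 fun h => F.hD.one_not_mem (by simpa using h)
  rw [hf1, map_zero, sub_zero] at hv
  have hsum : (classInner ψ ψ).re = (Nat.card F.L : ℝ)⁻¹ * ∑ x : F.K, Complex.normSq (f x) := by
    rw [← energy_univ, energy]
    simp only [Set.indicator_univ]
    congr 1
    rw [← Finset.sum_subset (Finset.subset_univ (Finset.univ.filter fun x : F.L => x ∈ F.K)) fun x _ hx => by
      rw [hψ.2 x fun h => hx (Finset.mem_filter.2 ⟨Finset.mem_univ _, ((F.hA x).1 h).1⟩), map_zero]]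
    exact Finset.sum_subtype _ (fun x => by simp) (fun x => Complex.normSq (ψ x))
  rw [hval, hsum]
  refine le_trans (le_of_eq ?_) (mul_le_mul_of_nonneg_left hv (inv_nonneg.2 (Nat.cast_nonneg _)))
  have hcard : (Nat.card F.L : ℝ) = (F.K.index : ℝ) * Nat.card F.K := by exact_mod_cast F.K.index_mul_card.symm
  have hK0 : (Nat.card F.K : ℝ) ≠ 0 := Nat.cast_ne_zero.2 Nat.card_pos.ne'
  have hi0 : (F.K.index : ℝ) ≠ 0 := Nat.cast_ne_zero.2 Subgroup.index_ne_zero_of_finite
  rw [hcard]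
  field_simp
  ring

/-- The member of a family. -/
noncomputable def member : Member G where
  L := F.L
  finL := F.finL
  A := F.A
  R := F.R
  hD := F.hD
  e := F.K.index
  n := ∑ i : F.Mem, F.deg i ^ 2
  ι := F.Mem
  fin := inferInstance
  deq := inferInstance
  d := F.deg
  i₀ := F.one₀
  bar := F.conjMem
  xi := fun i => i.1
  base := indFun F.K (fun _ => 1)
  Z := fun i => F.ext i.1
  d₀ := by
    have h := F.deg_of_eq F.θ₀_mem F.one₀ rfl
    rw [F.θ₀_one] at h
    exact_mod_cast h.symm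
  d_pos := fun i => KerSets.dg_pos (F.src i).2
  d_bar := fun i => by
    have h1 := F.mem_one (F.conjMem i)
    rw [show (F.conjMem i).1 = conjFun i.1 from rfl, conjFun, F.mem_one] at h1
    rw [map_mul, map_natCast, map_natCast] at h1
    exact_mod_cast (mul_left_cancel₀ (Nat.cast_ne_zero.2 Subgroup.index_ne_zero_of_finite) h1).symm
  bar_ne := fun i e => by
    have h := Cfsg.Agent.Block.FS.eq_one_of_real_of_odd (F.hodd.of_dvd_nat (Subgroup.card_subgroup_dvd_card F.L))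
      ⟨i.1, F.mem_irr i⟩ fun x => congrFun (congrArg Subtype.val e) x
    have h1 : classInner i.1 (fun _ => 1) = 0 := by
      rw [← F.src_eq i, classInner_indFun F.K _ (IsIrr.classFun isIrr_one),
        classInner_irr_ne (F.src i).2 isIrr_one (F.ne_one _ (F.src_mem i))]
    rw [show i.1 = fun _ => (1 : ℂ) from h, classInner_self_irr isIrr_one] at h1
    exact one_ne_zero h1
  sum_d := rfl
  xi_gen := fun i => gen_irr (F.mem_irr i)
  base_gen := IsGenChar.of_isCharacter (isCharacter_indFun _ IsChar.one)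
  xi_orth := fun i j => by
    rw [classInner_irr_eq_ite (F.mem_irr i) (F.mem_irr j)]
    exact if_congr Subtype.coe_inj rfl rfl
  xi_base := fun i => by
    rw [← F.src_eq i, classInner_indFun_indFun_irr F.K (F.src i).2 isIrr_one]
    haveI : IsEmpty {x : F.L // Char.conjN F.K x (F.src i : F.K → ℂ) = fun _ => (1 : ℂ)} := ⟨fun x =>
      F.ne_one _ (F.src_mem i) (by
        funext k
        have := congrFun x.2 ⟨(x : F.L)⁻¹ * k * (x : F.L), by simpa using F.hK.conj_mem _ k.2 (x : F.L)⁻¹⟩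
        simp only [conjN_apply] at this ⊢
        refine (congrArg (F.src i : F.K → ℂ) (Subtype.ext ?_)).trans this
        simp [mul_assoc])⟩
    rw [Nat.card_of_isEmpty (α := {x : F.L // Char.conjN F.K x (F.src i : F.K → ℂ) = fun _ => (1 : ℂ)}), Nat.cast_zero,
      mul_zero]
  base_norm := by
    have h := norm_indFun F.K (isIrr_one (G := F.K))
    have hI : inertia F.K (fun _ : F.K => (1 : ℂ)) = ⊤ := eq_top_iff.2 fun x _ => (mem_inertia F.K).2 rfl
    rw [hI, Subgroup.card_top] at h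
    refine mul_left_cancel₀ (Nat.cast_ne_zero.2 (Nat.card_pos (α := F.K)).ne') (h.trans ?_)
    exact_mod_cast F.K.index_mul_card.symm.trans (mul_comm _ _)
  xi_one := fun i => by
    rw [← F.src_eq i, classInner_indFun F.K _ (IsIrr.classFun isIrr_one),
      classInner_irr_ne (F.src i).2 isIrr_one (F.ne_one _ (F.src_mem i))]
  base_one := by
    rw [classInner_indFun F.K _ (IsIrr.classFun isIrr_one), classInner_self_irr isIrr_one]
  xi_conj := fun i => rfl
  base_map := fun σ => by rw [map_indFun]; simp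
  xi_map := fun σ => by
    obtain ⟨φ, hφ, e⟩ := F.map_mem _ F.θ₀_mem σ
    refine ⟨⟨_, φ, hφ, rfl⟩, ?_, ?_⟩
    · have h := F.deg_of_eq hφ ⟨_, φ, hφ, rfl⟩ rfl
      simp only [congrFun e 1, F.θ₀_one, map_one] at h
      exact_mod_cast h.symm
    · show (fun x => σ (indFun F.K (F.θ₀ : F.K → ℂ) x)) = indFun F.K (φ : F.K → ℂ)
      rw [e, map_indFun]
  xi_supp := F.diff_supp
  base_supp := by
    refine ⟨classFunction_sub (indFun_classFun _ _) (IsIrr.classFun (F.mem_irr _)), fun x hx => ?_⟩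
    by_cases hK : x ∈ F.K
    · have hx1 : x = 1 := by_contra fun h => hx ((F.hA x).2 ⟨hK, h⟩)
      subst hx1
      simp [one₀, indFun_one_eq, F.θ₀_one]
    · rw [Pi.sub_apply, F.vanish_off _ hK, indFun_eq_zero_of_not_conj _ _ fun g hg => (hK (by
        simpa [mul_assoc] using F.hK.conj_mem _ hg g)).elim, sub_zero]
  Z_gen := fun i => F.ext_iso.2.2.2 _ (Submodule.subset_span i.2)
  Z_orth := fun i j => by
    rw [F.ext_iso.2.2.1 _ (Submodule.subset_span i.2) _ (Submodule.subset_span j.2),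
      classInner_irr_eq_ite (F.mem_irr i) (F.mem_irr j)]
    exact if_congr Subtype.coe_inj rfl rfl
  Z_diff := F.ext_diff
  value := F.value_le

end Fam

end Cfsg.Agent.Grp.FT
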