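import Cfsg.Agent.Lib.Grp.FT.MuBound

/-!
A member `T` with `T_σ = T'` carrying a side `(Q, D, D')`: the functions of its family are constant on the cosets
of `Q` and vanish on `Q × D'`, so its energy splits into the averaged value and the fluctuation on `Q × D'`.
-/

set_option autoImplicit false
set_option linter.unusedSectionVars false
set_option linter.style.haveILetI false
set_option maxHeartbeats 1000000

namespace Cfsg.Agent.Grp.FT

open Subgroup Cfsg.Agent.Char Cfsg.Agent.Transfer Cfsg.Agent.Transfer.Loc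
open scoped ComplexConjugate Pointwise

attribute [local instance] _root_.Classical.propDecidable

universe u

variable {G : Type u} [Group G] [Fintype G]

/-- Induction from a normal subgroup of a linear character is invariant under translation by the kernel. -/
theorem indFun_mul_kernel {L : Type u} [Group L] [Fintype L] (K : Subgroup L) [K.Normal] {θ : ↥K → ℂ}
    (hθ : ∃ l : ↥K →* ℂˣ, θ = fun k => (l k : ℂ)) (x : L) {y : L}
    (hy : y ∈ (commutator K).map K.subtype) : Cfsg.indFun K θ (x * y) = Cfsg.indFun K θ x := by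
  obtain ⟨l, rfl⟩ := hθ
  have hyK : y ∈ K := by obtain ⟨k, -, rfl⟩ := hy; exact k.2
  have hN : ((commutator K).map K.subtype).Normal := ConjAct.normal_of_characteristic_of_normal
  simp only [Cfsg.indFun]
  congr 1
  refine Finset.sum_congr rfl fun t _ => ?_
  have hyt : t⁻¹ * y * t ∈ (commutator K).map K.subtype := by simpa using hN.conj_mem y hy t⁻¹
  have hytK : t⁻¹ * y * t ∈ K := by simpa using (inferInstance : K.Normal).conj_mem y hyK t⁻¹
  have hl : l ⟨_, hytK⟩ = 1 := by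
    obtain ⟨k, hk, hke⟩ := hyt
    rw [show (⟨_, hytK⟩ : K) = k from Subtype.ext hke.symm]
    exact MonoidHom.mem_ker.1 (Abelianization.commutator_subset_ker l hk)
  rw [show t⁻¹ * (x * y) * t = (t⁻¹ * x * t) * (t⁻¹ * y * t) by group]
  by_cases h : t⁻¹ * x * t ∈ K
  · rw [extendByZero_of_mem _ h, extendByZero_of_mem _ (K.mul_mem h hytK)]
    show (l ⟨_, _⟩ : ℂ) = (l ⟨_, _⟩ : ℂ)
    rw [show (⟨_, K.mul_mem h hytK⟩ : K) = ⟨_, h⟩ * ⟨_, hytK⟩ from rfl, map_mul, hl, mul_one]
  · rw [extendByZero_not_mem _ h, extendByZero_not_mem _ fun h' => h ((K.mul_mem_cancel_right hytK).1 h')]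

namespace Pair

variable {S T W₁ W₂ : Subgroup G} (h : Pair S T W₁ W₂) (hT2 : Cfsg.IsSigmaDecomposition T W₂ ⊥)
include h hT2

/-- The functions used on `T` are invariant under translations by `T''`. -/
theorem memberT_translate {α : (h.memberT hT2).L → ℂ}
    (hα : α = (h.memberT hT2).base - (h.memberT hT2).xi (h.memberT hT2).i₀ ∨
      ∃ i, α = (h.memberT hT2).xi i - ((h.memberT hT2).d i : ℂ) • (h.memberT hT2).xi (h.memberT hT2).i₀)
    (x y : (h.memberT hT2).L) (hy : (y : G) ∈ ⁅⁅T, T⁆, ⁅T, T⁆⁆) : α (x * y) = α x := by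
  letI : Fintype T := Fintype.ofFinite _
  have hy' : y ∈ (commutator (commutator T)).map (commutator T).subtype := by
    have h1 : (y : G) ∈ ((commutator (commutator T)).map (commutator T).subtype).map T.subtype := by
      rw [show (commutator (commutator T)).map (commutator T).subtype = ⁅commutator T, commutator T⁆ from
        (commutator T).map_subtype_commutator, Subgroup.map_commutator, h.map_commutator_T hT2]
      exact hy
    obtain ⟨z, hz, hze⟩ := h1
    rwa [show y = z from Subtype.ext hze.symm]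
  have hxi : ∀ i, (h.memberT hT2).xi i (x * y) = (h.memberT hT2).xi i x := fun i => by
    have h1 : ((h.famT hT2).src i).1 1 = 1 := ((h.mem_famT hT2).1 ((h.famT hT2).src_mem i)).1
    have e : Cfsg.indFun (commutator T) (((h.famT hT2).src i).1 : commutator T → ℂ) = i.1 := (h.famT hT2).src_eq i
    show i.1 (x * y) = i.1 x
    rw [← e]
    exact indFun_mul_kernel (commutator T) (linearHom_of_isCharacter (IsIrr.isCharacter ((h.famT hT2).src i).2) h1)
      x hy'
  have hbase : (h.memberT hT2).base (x * y) = (h.memberT hT2).base x := by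
    show Cfsg.indFun (commutator T) (fun _ => (1 : ℂ)) (x * y) = Cfsg.indFun (commutator T) (fun _ => (1 : ℂ)) x
    exact indFun_mul_kernel (commutator T) ⟨1, funext fun _ => by simp⟩ x hy'
  rcases hα with rfl | ⟨i, rfl⟩
  · simp only [Pi.sub_apply, hbase, hxi]
  · simp only [Pi.sub_apply, Pi.smul_apply, hxi]

omit hT2 in
/-- `Q × D'` lies in `T''`. -/
theorem side_le_derived₂ (hT2 : Cfsg.IsSigmaDecomposition T W₂ ⊥) {Q D : Subgroup G} {p q : ℕ}
    (ht : Side T Q D ⁅D, D⁆ W₂ W₁ q p) : Q ⊔ ⁅D, D⁆ ≤ ⁅⁅T, T⁆, ⁅T, T⁆⁆ := by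
  refine sup_le ?_ (Subgroup.commutator_mono ht.compl.2.1 ht.compl.2.1)
  have hN : T ≤ normalizer (⁅⁅T, T⁆, ⁅T, T⁆⁆ : Subgroup G) := Grp.PiHall.le_normalizer_of_conj_mem fun t ht' z hz => by
    have hD1 : MulAut.conj t • ⁅T, T⁆ = ⁅T, T⁆ := by
      show (⁅T, T⁆).map (MulAut.conj t).toMonoidHom = ⁅T, T⁆
      rw [Subgroup.map_commutator]
      rw [show T.map (MulAut.conj t).toMonoidHom = T from Grp.conj_smul_eq_self_of_mem ht']
    have hmem : MulAut.conj t • ⁅⁅T, T⁆, ⁅T, T⁆⁆ = ⁅⁅T, T⁆, ⁅T, T⁆⁆ := by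
      show (⁅⁅T, T⁆, ⁅T, T⁆⁆).map (MulAut.conj t).toMonoidHom = _
      rw [Subgroup.map_commutator]
      exact congrArg₂ (fun A B : Subgroup G => ⁅A, B⁆) hD1 hD1
    rw [← hmem]
    exact ⟨z, hz, rfl⟩
  have hX := ht.irred (Q ⊓ ⁅⁅T, T⁆, ⁅T, T⁆⁆) inf_le_left (fun e => h.W₁_ne (le_bot_iff.1
    (e ▸ le_inf ht.W₂_le (h.W₁_le_derived₂ hT2))))
    (Grp.PiHall.le_normalizer_of_conj_mem fun x hx z hz => by
      have hxT : x ∈ T := (sup_le ht.U_le ht.A_le) hx
      exact ⟨Grp.mem_conj_normalizer (ht.norm_P hxT) hz.1, Grp.mem_conj_normalizer (hN hxT) hz.2⟩)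
  exact hX ▸ inf_le_right

variable {Q D C : Subgroup G} {p q : ℕ} (ht : Side T Q D C W₂ W₁ q p)
  (hQC : Q ⊔ C ≤ ⁅⁅T, T⁆, ⁅T, T⁆⁆)
include ht hQC

theorem PC_le_sigma : Q ⊔ C ≤ Cfsg.sigmaCore T := by
  rw [h.sigmaCore_T hT2]
  exact ht.PC_le_derived

theorem memberT_vanish {α : (h.memberT hT2).L → ℂ}
    (hα : α = (h.memberT hT2).base - (h.memberT hT2).xi (h.memberT hT2).i₀ ∨
      ∃ i, α = (h.memberT hT2).xi i - ((h.memberT hT2).d i : ℂ) • (h.memberT hT2).xi (h.memberT hT2).i₀)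
    (x : (h.memberT hT2).L) (hx : (x : G) ∈ Q ⊔ C) : α x = 0 := by
  rw [← one_mul x, h.memberT_translate hT2 hα 1 x (hQC hx)]
  have hs : Supp (h.memberT hT2).A (h.memberT hT2).L α := by
    rcases hα with rfl | ⟨i, rfl⟩
    exacts [(h.memberT hT2).base_supp, (h.memberT hT2).xi_supp i]
  exact hs.2 1 fun h1 => (h.memberT hT2).hD.one_not_mem (by simpa using h1)

/-- The images on `T` vanish on `Q × D'`. -/
theorem memberT_constP {α : (h.memberT hT2).L → ℂ}
    (hα : α = (h.memberT hT2).base - (h.memberT hT2).xi (h.memberT hT2).i₀ ∨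
      ∃ i, α = (h.memberT hT2).xi i - ((h.memberT hT2).d i : ℂ) • (h.memberT hT2).xi (h.memberT hT2).i₀) :
    ConstP Q C ((h.memberT hT2).tau α) := by
  have hs : Supp (h.memberT hT2).A (h.memberT hT2).L α := by
    rcases hα with rfl | ⟨i, rfl⟩
    exacts [(h.memberT hT2).base_supp, (h.memberT hT2).xi_supp i]
  have h0 : ∀ g ∈ Q ⊔ C, (h.memberT hT2).tau α g = 0 := fun g hg => by
    by_cases hg1 : g = 1
    · subst hg1
      exact dade_at_one (h.memberT hT2).hD α
    have hgT : g ∈ (h.memberT hT2).L := ht.PC_le hg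
    have hA : g ∈ (h.memberT hT2).A := ⟨h.PC_le_sigma hT2 ht hQC hg, hg1⟩
    exact (ti_apply (h.dade_T hT2) (L := (h.memberT hT2).L) hs (a := ⟨g, hgT⟩) hA).trans
      (h.memberT_vanish hT2 ht hQC hα ⟨g, hgT⟩ hg)
  intro x y _
  rw [h0 _ (x * y).2, h0 _ x.2]

/-- The differences of the side are orthogonal to the images on `T`. -/
theorem inner_tau_memberT [Fintype T] {α : (h.memberT hT2).L → ℂ}
    (hα : α = (h.memberT hT2).base - (h.memberT hT2).xi (h.memberT hT2).i₀ ∨
      ∃ i, α = (h.memberT hT2).xi i - ((h.memberT hT2).d i : ℂ) • (h.memberT hT2).xi (h.memberT hT2).i₀)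
    {l l' : ↥(Q ⊔ C) →* ℂˣ} (hl : ∃ y : ↥(Q ⊔ C), (y : G) ∈ Q ∧ l y ≠ 1)
    (hl' : ∃ y : ↥(Q ⊔ C), (y : G) ∈ Q ∧ l' y ≠ 1) :
    Cfsg.classInner ((h.memberT hT2).tau α) (ht.tauS (indLin T l - indLin T l')) = 0 := by
  have hs : Supp (h.memberT hT2).A (h.memberT hT2).L α := by
    rcases hα with rfl | ⟨i, rfl⟩
    exacts [(h.memberT hT2).base_supp, (h.memberT hT2).xi_supp i]
  exact ht.inner_tau_constP (dade_cf (h.memberT hT2).hD hs) (h.memberT_constP hT2 ht hQC hα) hl hl'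

/-- The energy on the region of `T`. -/
theorem blockT [hfin : Fintype T] [Fintype (↥(Q ⊔ C) →* ℂˣ)] {χ : G → ℂ} (hχ : Cfsg.IsClassFunction G χ)
    (horth : ∀ i, Cfsg.classInner χ ((h.memberT hT2).Z i) =
      ((h.memberT hT2).d i : ℂ) * Cfsg.classInner χ ((h.memberT hT2).Z (h.memberT hT2).i₀)) :
    ht.Block χ (energy (reg T) χ - Complex.normSq (Cfsg.classInner χ (h.memberT hT2).beta) *
      (((h.memberT hT2).n : ℝ) / ((h.memberT hT2).e * (h.memberT hT2).n + 1))) := by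
  letI : Fintype ↥(Q ⊔ C) := Fintype.ofFinite _
  intro O R hOR hP s ε hR hO
  rw [le_sub_iff_add_le]
  obtain rfl : hfin = (h.memberT hT2).finL := Subsingleton.elim _ _
  letI : Fintype T := (h.memberT hT2).finL
  have hD := h.dade_T hT2
  set A : Set G := (Cfsg.sigmaCore T : Set G) \ {1} with hAdef
  have hsig : Cfsg.sigmaCore T ≤ normalizer (Q : Set G) := by
    rw [h.sigmaCore_T hT2]; exact T.commutator_le_self.trans ht.norm_P
  have hQs : Q ≤ Cfsg.sigmaCore T := le_sup_left.trans (h.PC_le_sigma hT2 ht hQC)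
  -- the averages over the cosets of `Q`
  set cQ : Finset T := Finset.univ.filter fun y : T => (y : G) ∈ Q with hcQ
  let ψ : T → ℂ := fun x => if (x : G) ∈ Cfsg.sigmaCore T ∧ (x : G) ∉ Q then
    (cQ.card : ℂ)⁻¹ * ∑ y ∈ cQ, χ ((x * y : T) : G) else 0
  have hcard0 : (cQ.card : ℂ) ≠ 0 := Nat.cast_ne_zero.2 ((Finset.card_pos (s := cQ)).2 ⟨1, Finset.mem_filter.2
    ⟨Finset.mem_univ _, Q.one_mem⟩⟩).ne'
  have hcond : ∀ (x : T) {y : T}, y ∈ cQ → (((x * y : T) : G) ∈ Cfsg.sigmaCore T ∧ ((x * y : T) : G) ∉ Q ↔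
      (x : G) ∈ Cfsg.sigmaCore T ∧ (x : G) ∉ Q) := fun x y hy => by
    have hyQ := (Finset.mem_filter.1 hy).2
    rw [Subgroup.coe_mul, (Cfsg.sigmaCore T).mul_mem_cancel_right (hQs hyQ), Q.mul_mem_cancel_right hyQ]
  have hψinv : ∀ (x : T) {y : T}, y ∈ cQ → ψ (x * y) = ψ x := fun x y hy => by
    simp only [ψ, hcond x hy]
    refine if_congr Iff.rfl ?_ rfl
    congr 1
    refine Finset.sum_bij' (fun z _ => y * z) (fun z _ => y⁻¹ * z) ?_ ?_ (fun z _ => inv_mul_cancel_left _ z)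
      (fun z _ => mul_inv_cancel_left _ z) fun z _ => by rw [mul_assoc]
    · intro z hz
      exact Finset.mem_filter.2 ⟨Finset.mem_univ _, Q.mul_mem (Finset.mem_filter.1 hy).2 (Finset.mem_filter.1 hz).2⟩
    · intro z hz
      exact Finset.mem_filter.2 ⟨Finset.mem_univ _, Q.mul_mem (Q.inv_mem (Finset.mem_filter.1 hy).2)
        (Finset.mem_filter.1 hz).2⟩
  -- averaging sums
  have havg : ∀ F : T → ℂ, ∑ x, F x = ∑ x, (cQ.card : ℂ)⁻¹ * ∑ y ∈ cQ, F (x * y) := fun F => by
    rw [← Finset.mul_sum, Finset.sum_comm]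
    rw [Finset.sum_congr rfl fun y _ => Fintype.sum_equiv (Equiv.mulRight y) (fun x => F (x * y)) F fun x => rfl,
      Finset.sum_const, nsmul_eq_mul, ← mul_assoc, inv_mul_cancel₀ hcard0, one_mul]
  have hAiff : ∀ x : T, ((x : G) ∈ A ↔ (x : G) ∈ Cfsg.sigmaCore T ∧ x ≠ 1) := fun x => by
    rw [hAdef, Set.mem_sdiff, Set.mem_singleton_iff, SetLike.mem_coe]
    exact and_congr_right fun _ => not_congr ⟨fun e => Subtype.ext e, fun e => by rw [e]; rfl⟩
  have hψA : Supp A T ψ := by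
    refine ⟨fun a b => ?_, fun x hx => if_neg fun hc => hx ⟨hc.1, fun e => hc.2 (by
      rw [Set.mem_singleton_iff.1 e]; exact Q.one_mem)⟩⟩
    have hNs : T ≤ normalizer (Cfsg.sigmaCore T : Set G) := TransHyp.le_normalizer_piCoreOf T
    have hconj : ((b * a * b⁻¹ : T) : G) ∈ Cfsg.sigmaCore T ∧ ((b * a * b⁻¹ : T) : G) ∉ Q ↔
        (a : G) ∈ Cfsg.sigmaCore T ∧ (a : G) ∉ Q := by
      refine and_congr ⟨fun h' => ?_, fun h' => Grp.mem_conj_normalizer (hNs b.2) h'⟩
        (not_congr ⟨fun h' => ?_, fun h' => Grp.mem_conj_normalizer (ht.norm_P b.2) h'⟩)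
      · simpa [mul_assoc] using Grp.mem_conj_normalizer (hNs (inv_mem b.2)) h'
      · simpa [mul_assoc] using Grp.mem_conj_normalizer (ht.norm_P (inv_mem b.2)) h'
    simp only [ψ, hconj]
    refine if_congr Iff.rfl ?_ rfl
    congr 1
    refine Finset.sum_bij' (fun y _ => b⁻¹ * y * b) (fun y _ => b * y * b⁻¹) ?_ ?_ (fun y _ => by group)
      (fun y _ => by group) fun y _ => ?_
    · intro y hy
      exact Finset.mem_filter.2 ⟨Finset.mem_univ _, by
        simpa [mul_assoc] using Grp.mem_conj_normalizer (ht.norm_P (inv_mem b.2)) (Finset.mem_filter.1 hy).2⟩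
    · intro y hy
      exact Finset.mem_filter.2 ⟨Finset.mem_univ _, by
        simpa [mul_assoc] using Grp.mem_conj_normalizer (ht.norm_P b.2) (Finset.mem_filter.1 hy).2⟩
    · rw [← hχ ((a * (b⁻¹ * y * b) : T) : G) (b : G)]
      congr 1
      push_cast
      group
  -- `ψ` and `χ` have equal inner products with the family
  have hinner : ∀ α : (h.memberT hT2).L → ℂ, (α = (h.memberT hT2).base - (h.memberT hT2).xi (h.memberT hT2).i₀ ∨
      ∃ i, α = (h.memberT hT2).xi i - ((h.memberT hT2).d i : ℂ) • (h.memberT hT2).xi (h.memberT hT2).i₀) →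
      Cfsg.classInner ψ α = Cfsg.classInner χ ((h.memberT hT2).tau α) := by
    intro α hα
    have hs : Supp (h.memberT hT2).A (h.memberT hT2).L α := by
      rcases hα with rfl | ⟨i, rfl⟩
      exacts [(h.memberT hT2).base_supp, (h.memberT hT2).xi_supp i]
    have e1 : Cfsg.classInner ((h.memberT hT2).tau α) χ = Cfsg.classInner (G := T) α (fun x : T => χ x) :=
      ti_inner hD (L := T) hs hχ
    refine Eq.trans ?_ ((congrArg conj e1.symm).trans (classInner_conj_symm _ _))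
    refine Eq.trans ?_ (classInner_conj_symm (G := T) α (fun x : T => χ x)).symm
    simp only [Cfsg.classInner]
    congr 1
    conv_rhs => rw [havg]
    refine Finset.sum_congr rfl fun x _ => ?_
    have hαy : ∀ y ∈ cQ, α (x * y) = α x := fun y hy =>
      h.memberT_translate hT2 hα x y (hQC (mem_sup_left (Finset.mem_filter.1 hy).2))
    rw [Finset.sum_congr rfl fun y hy => by rw [hαy y hy], ← Finset.sum_mul, ← mul_assoc]
    by_cases hc : (x : G) ∈ Cfsg.sigmaCore T ∧ (x : G) ∉ Q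
    · simp only [ψ, if_pos hc]
    · have hx0 : α x = 0 := by
        by_cases hxK : (x : G) ∈ Cfsg.sigmaCore T
        · exact h.memberT_vanish hT2 ht hQC hα x (mem_sup_left (not_not.1 fun hn => hc ⟨hxK, hn⟩))
        · exact hs.2 x fun hA => hxK hA.1
      rw [hx0, map_zero, mul_zero, mul_zero]
  have hval : Complex.normSq (Cfsg.classInner χ (h.memberT hT2).beta) *
      (((h.memberT hT2).n : ℝ) / ((h.memberT hT2).e * (h.memberT hT2).n + 1)) ≤ (Cfsg.classInner ψ ψ).re := by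
    rw [Member.beta, ← hinner _ (Or.inl rfl)]
    refine (h.memberT hT2).value ψ hψA fun i => ?_
    have h1 := hinner _ (Or.inr ⟨i, rfl⟩)
    rw [show (h.memberT hT2).tau ((h.memberT hT2).xi i - ((h.memberT hT2).d i : ℂ) •
      (h.memberT hT2).xi (h.memberT hT2).i₀) = (h.memberT hT2).Z i - ((h.memberT hT2).d i : ℂ) •
      (h.memberT hT2).Z (h.memberT hT2).i₀ from (h.memberT hT2).Z_diff i] at h1
    have h2 : ∀ a b : (h.memberT hT2).L → ℂ, Cfsg.classInner (G := (h.memberT hT2).L) ψ (a - ((h.memberT hT2).d i : ℂ) • b) =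
        Cfsg.classInner (G := (h.memberT hT2).L) ψ a - ((h.memberT hT2).d i : ℂ) *
          Cfsg.classInner (G := (h.memberT hT2).L) ψ b := fun a b => by
      refine (classInner_sub_right _ _ _).trans (congrArg _ ((classInner_smul_right _ _ _).trans ?_))
      rw [map_natCast]
    rw [classInner_sub_right, classInner_smul_right, map_natCast, horth i, sub_self] at h1
    exact sub_eq_zero.1 ((h2 _ _).symm.trans h1)
  -- the decomposition
  set χ₀ : T → ℂ := ((fun x : T => (x : G)) ⁻¹' A).indicator fun x => χ x with hχ₀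
  have horth0 : ∑ x, ψ x * conj (χ₀ x - ψ x) = 0 := by
    rw [havg]
    refine Finset.sum_eq_zero fun x _ => ?_
    rw [Finset.sum_congr rfl fun y hy => by rw [hψinv x hy], ← Finset.mul_sum]
    by_cases hc : (x : G) ∈ Cfsg.sigmaCore T ∧ (x : G) ∉ Q
    · have h0 : ∀ y ∈ cQ, χ₀ (x * y) = χ ((x * y : T) : G) := fun y hy => by
        have hc' := (hcond x hy).2 hc
        rw [hχ₀, Set.indicator_of_mem (show (x * y) ∈ (fun x : T => (x : G)) ⁻¹' A from
          ⟨hc'.1, fun e => hc'.2 ((show ((x * y : T) : G) = 1 from e) ▸ Q.one_mem)⟩)]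
      rw [← map_sum, Finset.sum_sub_distrib, Finset.sum_congr rfl h0, Finset.sum_const, nsmul_eq_mul]
      have e : ψ x = (cQ.card : ℂ)⁻¹ * ∑ y ∈ cQ, χ ((x * y : T) : G) := if_pos hc
      rw [e, ← mul_assoc (cQ.card : ℂ), mul_inv_cancel₀ hcard0, one_mul, sub_self, map_zero, mul_zero, mul_zero]
    · rw [show ψ x = 0 from if_neg hc, zero_mul, mul_zero]
  have hsplit : ∀ x : T, Complex.normSq (χ₀ x) =
      Complex.normSq (ψ x) + Complex.normSq (χ₀ x - ψ x) + 2 * (ψ x * conj (χ₀ x - ψ x)).re := fun x => by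
    simp only [Complex.normSq_apply, Complex.mul_re, Complex.conj_re, Complex.conj_im, Complex.sub_re, Complex.sub_im]
    ring
  have hT : energy (reg T) χ = (Nat.card T : ℝ)⁻¹ * ∑ x : T, Complex.normSq (χ₀ x) := by
    rw [show reg T = {g | ∃ a ∈ A, ∃ x : G, g = x * a * x⁻¹} from
      (h.memberT_reg hT2).symm.trans (ti_supp A), ti_energy hD hχ]
    congr 1
    refine Finset.sum_congr rfl fun x _ => ?_
    by_cases hx : x ∈ (fun x : T => (x : G)) ⁻¹' A
    · rw [hχ₀, Set.indicator_of_mem hx, Set.indicator_of_mem hx]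
    · rw [hχ₀, Set.indicator_of_notMem hx, Set.indicator_of_notMem hx, map_zero]
  have hψsum : (Cfsg.classInner ψ ψ).re = (Nat.card T : ℝ)⁻¹ * ∑ x : T, Complex.normSq (ψ x) := by
    rw [← energy_univ, energy]; simp only [Set.indicator_univ]
  -- the fluctuation
  have hblock := ht.block_bound hχ (fun x : ↥(Q ⊔ C) => ψ ⟨x, ht.PC_le x.2⟩)
    (fun a b => hψA.1 ⟨a, ht.PC_le a.2⟩ ⟨b, ht.PC_le b.2⟩)
    (fun x y hy => hψinv ⟨x, ht.PC_le x.2⟩ (y := ⟨y, ht.PC_le y.2⟩) (Finset.mem_filter.2 ⟨Finset.mem_univ _, hy⟩))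
    O R hOR hP s ε hR hO
  rw [← Finset.sum_erase_eq_sub (Finset.mem_univ _)] at hblock
  have hsub : ∑ x ∈ (Finset.univ : Finset ↥(Q ⊔ C)).erase 1, Complex.normSq (χ x - ψ ⟨x, ht.PC_le x.2⟩) ≤
      ∑ x : T, Complex.normSq (χ₀ x - ψ x) := by
    refine le_trans (le_of_eq ?_) (Finset.sum_le_sum_of_subset_of_nonneg
      (Finset.subset_univ (((Finset.univ : Finset ↥(Q ⊔ C)).erase 1).image fun x : ↥(Q ⊔ C) => (⟨x, ht.PC_le x.2⟩ : T)))
      fun x _ _ => Complex.normSq_nonneg _)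
    have hinj : Function.Injective fun x : ↥(Q ⊔ C) => (⟨x, ht.PC_le x.2⟩ : T) := fun a b e =>
      Subtype.ext (congrArg (fun z : T => (z : G)) e)
    rw [Finset.sum_image hinj.injOn]
    refine Finset.sum_congr rfl fun x hx => ?_
    rw [hχ₀, Set.indicator_of_mem (show (⟨x, ht.PC_le x.2⟩ : T) ∈ (fun x : T => (x : G)) ⁻¹' A from
      ⟨h.PC_le_sigma hT2 ht hQC x.2, fun e => (Finset.mem_erase.1 hx).1 (Subtype.ext (Set.mem_singleton_iff.1 e))⟩)]
  rw [hT, Finset.sum_congr rfl fun x _ => hsplit x, Finset.sum_add_distrib, Finset.sum_add_distrib, ← Finset.mul_sum,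
    ← Complex.re_sum, horth0, Complex.zero_re, mul_zero, add_zero, mul_add, ← hψsum]
  refine le_trans (add_le_add ?_ hval) (le_of_eq (add_comm _ _))
  rw [div_eq_inv_mul]
  exact mul_le_mul_of_nonneg_left (hblock.trans hsub) (by positivity)

end Pair

end Cfsg.Agent.Grp.FT
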