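import Cfsg.Agent.Lib.Grp.FT.CaseTwo
import Cfsg.Agent.Lib.Grp.FT.SurvT

/-!
The two inequalities when `T` is not of type II but carries a side `(Q, D, D')` with the member of linear
characters of `T'` having first coordinates `1` and `0`.
-/

set_option autoImplicit false
set_option linter.unusedSectionVars false
set_option linter.style.haveILetI false
set_option maxHeartbeats 1000000

namespace Cfsg.Agent.Grp.FT

open Subgroup Cfsg.Agent.Char Cfsg.Agent.Transfer Cfsg.Agent.Transfer.Loc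
open scoped ComplexConjugate Pointwise

attribute [local instance] _root_.Classical.propDecidable

attribute [local irreducible] memberI

universe u

variable {G : Type u} [Group G] [Fintype G] {W₁ W₂ : Subgroup G}

/-- A perfect nilpotent subgroup is trivial. -/
theorem bot_of_perfect {D : Subgroup G} (hD : Group.IsNilpotent D) (h : (⁅D, D⁆).relIndex D = 1) : D = ⊥ := by
  by_contra hne
  haveI := hD
  haveI : Nontrivial D := (Subgroup.nontrivial_iff_ne_bot D).2 hne
  have h1 := Group.IsSolvable.commutator_lt_top_of_nontrivial D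
  refine h1.ne (Subgroup.map_injective D.subtype_injective ?_)
  rw [D.map_subtype_commutator, ← MonoidHom.range_eq_map, Subgroup.range_subtype]
  exact le_antisymm D.commutator_le_self (Subgroup.relIndex_eq_one.1 h)

namespace Pair

variable {S T : Subgroup G} (h : Pair S T W₁ W₂) (hT2 : Cfsg.IsSigmaDecomposition T W₂ ⊥) {U C : Subgroup G}
  {p q : ℕ} (hs : Side S (Cfsg.fittingHallOf S) U C W₁ W₂ p q) (hU : ∀ x ∈ U, ∀ y ∈ U, x * y = y * x)
  {Q D : Subgroup G} (ht : Side T Q D ⁅D, D⁆ W₂ W₁ q p)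
  (hv : (⁅D, D⁆).relIndex D = (h.memberT hT2).e * (h.memberT hT2).n + 1)
  {𝓛 : Finset (Subgroup G)} (hc : Cover S T W₁ W₂ 𝓛)
  (E : Grid W₁ W₂) (ha : ∀ f : ↥W₁ →* ℂˣ, f ≠ 1 → E.coef (h.memberT hT2).beta f 1 = 1)
  (hb : ∀ g : ↥W₂ →* ℂˣ, g ≠ 1 → E.coef (h.memberT hT2).beta 1 g = 0) (hlt : q < p)
include h hT2 hs hU ht hv hc E ha hb hlt

omit hU ha hb hlt hs hv ht E in
theorem mem_disjoint_T (L : {L // L ∈ 𝓛}) : Disjoint (hc.mem h.hG L).reg (h.memberT hT2).reg := by
  rw [hc.mem_reg, h.memberT_reg hT2]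
  exact hc.disjoint L.1 (Or.inr (Or.inr L.2)) T (Or.inr (Or.inl rfl)) fun e => h.T_not_mem hc (e ▸ L.2)

omit hU ha hb hlt hs hv ht E in
theorem memberT_mixed : Disjoint (h.memberT hT2).reg (mixed W₁ W₂) := by
  rw [h.memberT_reg hT2]
  exact hc.disjoint_mixed T (Or.inr (Or.inl rfl))

/-- The outcome of the two inequalities. -/
theorem facts_surv : Galois Q D ∧ ⁅D, D⁆ = ⊥ ∧
    (⁅D, D⁆).relIndex D = ∑ i ∈ Finset.range p, q ^ i ∧ Arith.Residual p q (C.relIndex U) (Nat.card C) := by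
  letI : Fintype S := Fintype.ofFinite _
  letI : Fintype T := Fintype.ofFinite _
  letI : Fintype (↥(Q ⊔ ⁅D, D⁆) →* ℂˣ) := Fintype.ofFinite _
  haveI := E.finite_left; haveI := E.swap.finite_left
  letI := Fintype.ofFinite (↥W₁ →* ℂˣ); letI := Fintype.ofFinite (↥W₂ →* ℂˣ)
  have hodd := h.hG.1
  have hQC := h.side_le_derived₂ hT2 ht
  have hmix := h.memberT_mixed hT2 hc
  have hp1 : (Nat.card W₁).Prime := h.prime₁
  have hp2 : (Nat.card W₂).Prime := hs.card₂ ▸ hs.hp
  have hq2 : q ≠ 2 := fun e => Nat.not_even_iff_odd.2 hodd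
    (even_iff_two_dvd.2 (e ▸ hs.card₁ ▸ Subgroup.card_subgroup_dvd_card W₁))
  have hpq : Arith.Primes p q := ⟨hs.hp, hs.hq, hq2, hlt⟩
  obtain ⟨f₀, hf₀⟩ : ∃ f : ↥W₁ →* ℂˣ, f ≠ 1 :=
    Fintype.exists_ne_of_one_lt_card (by rw [E.card_left, hs.card₁]; exact hs.hq.one_lt) 1
  obtain ⟨g₀, hg₀⟩ : ∃ g : ↥W₂ →* ℂˣ, g ≠ 1 :=
    Fintype.exists_ne_of_one_lt_card (by rw [E.swap.card_left, hs.card₂]; exact hs.hp.one_lt) 1
  have hcC := comm_relIndex fun x hx y hy => hU x (hs.C_lt.le hx) y (hs.C_lt.le hy)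
  obtain ⟨hu, hu1⟩ := hs.u_mod
  obtain ⟨hv', hv1⟩ := ht.u_mod
  obtain ⟨hd, hd0⟩ := ht.c_mod
  have hScases := hs.weight_cases
  rw [hcC] at hScases
  have hTcases := ht.weight_cases
  set u := C.relIndex U with hudef
  set v := (⁅D, D⁆).relIndex D with hvdef
  set c := Nat.card C with hcdef
  set d := (⁅⁅D, D⁆, ⁅D, D⁆⁆).relIndex ⁅D, D⁆ with hddef
  set WS := weight S (Cfsg.fittingHallOf S) U C p with hWSdef
  set WT := weight T Q D ⁅D, D⁆ q with hWTdef
  set tT : ℝ := ((h.memberT hT2).n : ℝ) / ((h.memberT hT2).e * (h.memberT hT2).n + 1) with htT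
  have he : (h.memberT hT2).e = p := by rw [(h.memberT_card hT2).1, hs.card₂]
  have hp0 : (0 : ℝ) < p := Nat.cast_pos.2 hs.hp.pos
  have hq0 : (0 : ℝ) < q := Nat.cast_pos.2 hs.hq.pos
  have hu0 : (0 : ℝ) < u := Nat.cast_pos.2 (by omega)
  have hv0 : (0 : ℝ) < v := Nat.cast_pos.2 (by omega)
  have hc0 : (0 : ℝ) < c := Nat.cast_pos.2 Nat.card_pos
  have hpq0 : (0 : ℝ) < p * q := mul_pos hp0 hq0
  have htT0 : 0 ≤ tT := by rw [htT]; positivity
  have hsigma : Nat.card (Cfsg.sigmaCore T) = q ^ p * (v * Nat.card ↥(⁅D, D⁆)) := by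
    rw [h.sigmaCore_T hT2, ← Grp.card_mul_relIndex ht.compl.1, (complIn_relIndex ht.compl).1, ht.card_P,
      (card_side ht).2]
  have hcardT : Nat.card T = q ^ p * (v * Nat.card ↥(⁅D, D⁆)) * p := (card_side ht).1
  -- the part of the measure of `T` outside the member
  have hrest : meas T = tT + ((q : ℝ) ^ p * Nat.card ↥(⁅D, D⁆) - 1) /
      ((q : ℝ) ^ p * (v * Nat.card ↥(⁅D, D⁆)) * p) := by
    rw [meas, hsigma, hcardT, htT, he]
    have hvR : (v : ℝ) = (p : ℝ) * (h.memberT hT2).n + 1 := by rw [hv, he]; push_cast; ring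
    have hD0 : (0 : ℝ) < Nat.card ↥(⁅D, D⁆) := Nat.cast_pos.2 Nat.card_pos
    have hQ0 : (0 : ℝ) < (q : ℝ) ^ p := pow_pos hq0 p
    push_cast
    rw [hvR]
    field_simp
    ring
  have hmS : (p : ℝ) * q * meas S ≤ (p : ℝ) / (u * c) := by
    refine le_trans (mul_le_mul_of_nonneg_left (h.meas_S_le hs) hpq0.le) (le_of_eq ?_)
    rw [← hudef, ← hcdef]
    field_simp
  have hrest_le : (p : ℝ) * q * (meas T - tT) ≤ (q : ℝ) / v := by
    rw [hrest, add_sub_cancel_left]
    have hD0 : (0 : ℝ) < Nat.card ↥(⁅D, D⁆) := Nat.cast_pos.2 Nat.card_pos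
    have hQ0 : (0 : ℝ) < (q : ℝ) ^ p := pow_pos hq0 p
    rw [← mul_div_assoc, div_le_div_iff₀ (by positivity) hv0]
    nlinarith [mul_pos (mul_pos hpq0 hv0) hQ0]
  have hG : (p : ℝ) * q * (Nat.card G : ℝ)⁻¹ ≤ (p : ℝ) / ((p : ℝ) ^ q * u * c) := by
    refine le_trans (mul_le_mul_of_nonneg_left (h.inv_card_le hs) hpq0.le) (le_of_eq ?_)
    rw [← hudef, ← hcdef]
    field_simp
  -- the bound from the character attached to a regular character of `Q × D'`
  have hY : (regChar T Q ⁅D, D⁆).Nonempty →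
      tT + (∑ L : {L // L ∈ 𝓛}, if E.coef (hc.mem h.hG L).beta 1 g₀ = 0 then meas L.1 else 0) ≤
        (p : ℝ) * v / WT := by
    intro hne
    obtain ⟨Y, hYg, hY1, -, hblk, hN⟩ := ht.exists_block E.swap hne (g := f₀) hf₀
    have hYc := IsGenChar.classFun hYg
    have hmix' : Disjoint (h.memberT hT2).reg (mixed W₂ W₁) := by rw [mixed_symm]; exact hmix
    obtain ⟨hT1, hT3⟩ := hN (h.memberT hT2) hmix' (fun α hα l l' hl hl' => h.inner_tau_memberT hT2 ht hQC hα hl hl')
      fun k hk => (h.memberT hT2).sum_col_const E.swap hodd hmix' hp2 hp1 hf₀ hk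
    have hmixL : ∀ L, Disjoint (hc.mem h.hG L).reg (mixed W₂ W₁) := fun L => by
      rw [mixed_symm]; exact h.mem_disjoint_mixed hc hs L
    have hperp : ∀ (L : {L // L ∈ 𝓛}) (α : (hc.mem h.hG L).L → ℂ) (l l' : ↥(Q ⊔ ⁅D, D⁆) →* ℂˣ),
        Cfsg.classInner ((hc.mem h.hG L).tau α) (ht.tauS (indLin T l - indLin T l')) = 0 := by
      intro L α l l'
      refine inner_zero_of_support fun g => ?_
      by_cases hg : g ∈ (hc.mem h.hG L).reg
      · refine Or.inr (Dade.dade_eq_zero fun hg' => ?_)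
        rw [ti_supp] at hg'
        obtain ⟨a, ha', x, rfl⟩ := hg'
        rcases ha' with ⟨haQ, ha1⟩ | ⟨m, -, z, hz, rfl⟩
        · refine Set.disjoint_left.1 (h.mem_disjoint_T hT2 hc L) hg ?_
          rw [h.memberT_reg hT2]
          exact ⟨a, ⟨h.PC_le_sigma hT2 ht hQC haQ, ha1⟩, 1, one_mem _, x, by group⟩
        · exact Set.disjoint_left.1 (hmixL L) hg ⟨x * m, z, hz, by group⟩
      · exact Or.inl ((hc.mem h.hG L).tau_outside hg)
    have hL := fun L => hN (hc.mem h.hG L) (hmixL L) (fun α _ l l' _ _ => hperp L α l l')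
      fun k hk => (hc.mem h.hG L).sum_col_const E.swap hodd (hmixL L) hp2 hp1 hf₀ hk
    have hmain := hblk _ (h.blockT hT2 ht hQC hYc hT1)
    rw [hT3] at hmain
    have hrowT : (1 : ℝ) ≤ ((∑ i, E.swap.coef (h.memberT hT2).beta i f₀ : ℤ) : ℝ) ^ 2 := by
      have h0 := Int.one_le_abs ((h.memberT hT2).sum_col_ne E.swap hodd hmix' hp2 hg₀ (hb g₀ hg₀) f₀)
      have h1 : (1 : ℤ) ≤ (∑ i, E.swap.coef (h.memberT hT2).beta i f₀) ^ 2 := by
        nlinarith [sq_abs (∑ i, E.swap.coef (h.memberT hT2).beta i f₀)]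
      exact_mod_cast h1
    have hterm : ∀ L : {L // L ∈ 𝓛}, (if E.coef (hc.mem h.hG L).beta 1 g₀ = 0 then meas L.1 else 0) ≤
        energy (reg L.1) Y := fun L => by
      split_ifs with hz
      · have h1 := (hc.mem h.hG L).value_le' hYc (hL L).1
        rw [(hL L).2, hc.mem_reg] at h1
        rw [memberI_meas h.hG (hc.coatom L L.2) (hc.typeI L L.2)]
        refine le_trans (le_mul_of_one_le_left (by positivity) ?_) h1
        have h0 := Int.one_le_abs ((hc.mem h.hG L).sum_col_ne E.swap hodd (hmixL L) hp2 hg₀ hz f₀)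
        have h2 : (1 : ℤ) ≤ (∑ i, E.swap.coef (hc.mem h.hG L).beta i f₀) ^ 2 := by
          nlinarith [sq_abs (∑ i, E.swap.coef (hc.mem h.hG L).beta i f₀)]
        exact_mod_cast h2
      · exact energy_nonneg _ _
    have hsum := Finset.sum_le_sum (s := Finset.univ) fun L _ => hterm L
    rw [Finset.sum_coe_sort 𝓛 fun L => energy (reg L) Y] at hsum
    have htot := h.total hc Y
    rw [hY1, Complex.one_re] at htot
    have := energy_nonneg (mixed W₁ W₂) Y
    have := energy_nonneg (reg S) Y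
    rw [← htT] at hmain
    have h4 : tT ≤ ((∑ i, E.swap.coef (h.memberT hT2).beta i f₀ : ℤ) : ℝ) ^ 2 * tT :=
      le_mul_of_one_le_left htT0 hrowT
    linarith
  -- the first inequality
  obtain ⟨hGT, hvN, hd1⟩ : Galois Q D ∧ v = ∑ i ∈ Finset.range p, q ^ i ∧ d = 1 := by
    set eT := max ((p : ℝ) * q * (meas T - tT - energy (reg T) (E.eta 1 g₀))) 0 with heT
    have hz : tT + (∑ L : {L // L ∈ 𝓛}, if E.coef (hc.mem h.hG L).beta 1 g₀ = 0 then meas L.1 else 0) ≤
        (p : ℝ) * v / WT := by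
      by_cases hne : (regChar T Q ⁅D, D⁆).Nonempty
      · exact hY hne
      · rw [Set.not_nonempty_iff_eq_empty] at hne
        have hle : (∑ L : {L // L ∈ 𝓛}, if E.coef (hc.mem h.hG L).beta 1 g₀ = 0 then meas L.1 else 0) ≤
            ∑ L : {L // L ∈ 𝓛}, meas L.1 := Finset.sum_le_sum fun L _ => by
          split_ifs
          exacts [le_rfl, meas_nonneg _]
        have h3 := h.measure_eq hc
        rw [← Finset.sum_coe_sort 𝓛, hs.card₁, hs.card₂] at h3
        have := meas_nonneg S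
        have : 0 ≤ (Nat.card G : ℝ)⁻¹ := by positivity
        have : 0 ≤ ((q : ℝ) * p)⁻¹ := by positivity
        have hTt : tT ≤ meas T := by
          rw [hrest, le_add_iff_nonneg_right]
          refine div_nonneg (sub_nonneg.2 ?_) (by positivity)
          exact one_le_mul_of_one_le_of_one_le (one_le_pow₀ (Nat.one_le_cast.2 hs.hq.one_le))
            (Nat.one_le_cast.2 Nat.card_pos)
        refine le_trans (show _ ≤ (q : ℝ)⁻¹ + (p : ℝ)⁻¹ by linarith) ?_
        rw [hWTdef, weight, hne, Set.ncard_empty, add_zero, ← hvdef]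
        have h2 : (q : ℝ) + 1 ≤ p := by exact_mod_cast hlt
        have h5 : (2 : ℝ) ≤ q := by exact_mod_cast hs.hq.two_le
        push_cast [Nat.cast_sub hs.hq.one_le]
        rw [show (p : ℝ) * v / (((q : ℝ) - 1) * v) = p / ((q : ℝ) - 1) by field_simp]
        have h4 : (q : ℝ)⁻¹ + (p : ℝ)⁻¹ ≤ 1 := by
          have e1 : (q : ℝ)⁻¹ ≤ 2⁻¹ := inv_anti₀ (by norm_num) h5
          have e2 : (p : ℝ)⁻¹ ≤ 2⁻¹ := inv_anti₀ (by norm_num) (by linarith)
          linarith
        refine h4.trans ?_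
        rw [le_div_iff₀ (by linarith), one_mul]
        linarith
    have h1 := mul_le_mul_of_nonneg_left (h.ineq_one hc hs E 1 hg₀) hpq0.le
    rw [← hudef, ← hWSdef, show (p : ℝ) * q * ((q : ℝ)⁻¹ * (1 - (u : ℝ) / WS)) = (p : ℝ) * (1 - (u : ℝ) / WS) by
      field_simp, mul_add, mul_add, mul_add] at h1
    have h2 : (p : ℝ) * q * ((p : ℝ) * v / WT) = (p : ℝ) ^ 2 * q * v / WT := by ring
    have h3 := mul_le_mul_of_nonneg_left hz hpq0.le
    rw [mul_add, h2] at h3
    have h5 : (p : ℝ) * q * (meas T - tT - energy (reg T) (E.eta 1 g₀)) ≤ eT := le_max_left _ _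
    have h6 : (p : ℝ) * q * (meas T - energy (reg T) (E.eta 1 g₀)) =
        (p : ℝ) * q * (meas T - tT - energy (reg T) (E.eta 1 g₀)) + (p : ℝ) * q * tT := by ring
    refine Arith.ineqI (eT := eT) (WS := WS) (WT := WT) hpq hu1 hu (Nat.card_pos (α := ↥C)) hv1 hv' hd0 hd
      ?_ hs.le_weight hTcases ?_ ?_ ?_
    · rcases hScases with ⟨-, h', -⟩ | ⟨-, h', -⟩
      exacts [Or.inl h', Or.inr h']
    · refine max_le (le_trans ?_ hrest_le) (by positivity)
      exact mul_le_mul_of_nonneg_left (sub_le_self _ (energy_nonneg _ _)) hpq0.le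
    · intro hg hd1
      refine max_le (mul_nonpos_of_nonneg_of_nonpos hpq0.le (sub_nonpos.2 ?_)) le_rfl
      have hbot : ⁅D, D⁆ = ⊥ := by
        haveI := ht.nilp_U
        exact bot_of_perfect (Group.nilpotent_of_mulEquiv
          (Subgroup.subgroupOfEquivOfLe D.commutator_le_self)) hd1
      have hcomm : ∀ x y : ↥(Q ⊔ ⁅D, D⁆), x * y = y * x := fun x y => Subtype.ext <| by
        have hx : (x : G) ∈ Q := (sup_le le_rfl (hbot.le.trans bot_le) : Q ⊔ ⁅D, D⁆ ≤ Q) x.2
        have hy : (y : G) ∈ Q := (sup_le le_rfl (hbot.le.trans bot_le) : Q ⊔ ⁅D, D⁆ ≤ Q) y.2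
        exact ht.comm_P hx hy
      obtain ⟨k, hk, hval⟩ := ht.eta_const E.swap hcomm (f := g₀) hg₀ fun l hl => Or.inl (ht.galois_ctrl hg l hl)
      -- the conjugates of `Q`
      have hsub : {g : G | ∃ a ∈ ((Q ⊔ ⁅D, D⁆ : Subgroup G) : Set G) \ {1}, ∃ x : G, g = x * a * x⁻¹} ⊆ reg T := by
        rintro _ ⟨a, ⟨ha', ha1⟩, x, rfl⟩
        exact ⟨a, ⟨h.PC_le_sigma hT2 ht hQC ha', ha1⟩, 1, one_mem _, x, by group⟩
      refine le_trans ?_ (energy_mono hsub _)
      rw [hrest, add_sub_cancel_left, ti_energy ht.PC_ti (E.classFun 1 g₀)]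
      have hterm : ∀ x : T, ((fun x : T => (x : G)) ⁻¹' (((Q ⊔ ⁅D, D⁆ : Subgroup G) : Set G) \ {1})).indicator
          (fun _ => (1 : ℝ)) x ≤ ((fun x : T => (x : G)) ⁻¹' (((Q ⊔ ⁅D, D⁆ : Subgroup G) : Set G) \ {1})).indicator
          (fun x => Complex.normSq (E.eta 1 g₀ x)) x := fun x => by
        by_cases hx : x ∈ (fun x : T => (x : G)) ⁻¹' (((Q ⊔ ⁅D, D⁆ : Subgroup G) : Set G) \ {1})
        · rw [Set.indicator_of_mem hx, Set.indicator_of_mem hx,
            show E.eta 1 g₀ (x : G) = (k : ℂ) from hval x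
              ((sup_le le_rfl (hbot.le.trans bot_le) : Q ⊔ ⁅D, D⁆ ≤ Q) hx.1) hx.2, Complex.normSq_intCast]
          have h1 := Int.one_le_abs hk
          have h2 : (1 : ℤ) ≤ k * k := by nlinarith [abs_mul_abs_self k]
          exact_mod_cast h2
        · rw [Set.indicator_of_notMem hx, Set.indicator_of_notMem hx]
      refine le_trans (le_of_eq ?_) (mul_le_mul_of_nonneg_left (Finset.sum_le_sum fun x _ => hterm x) (by positivity))
      have hcount : ∑ x : T, ((fun x : T => (x : G)) ⁻¹' (((Q ⊔ ⁅D, D⁆ : Subgroup G) : Set G) \ {1})).indicator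
          (fun _ => (1 : ℝ)) x = (q : ℝ) ^ p - 1 := by
        simp only [Set.indicator_apply]
        rw [← Finset.sum_filter, Finset.sum_const, nsmul_eq_mul, mul_one]
        have e : (Finset.univ.filter fun x : T => x ∈ (fun x : T => (x : G)) ⁻¹'
            (((Q ⊔ ⁅D, D⁆ : Subgroup G) : Set G) \ {1})).card = q ^ p - 1 := by
          rw [← ht.card_P, Nat.card_eq_fintype_card, ← Finset.card_univ, ← Finset.card_erase_of_mem
            (Finset.mem_univ (1 : ↥Q))]
          refine (Finset.card_bij' (fun y _ => ⟨y.1, ht.PC_le (mem_sup_left y.2)⟩)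
            (fun x hx => ⟨x.1, (sup_le le_rfl (hbot.le.trans bot_le) : Q ⊔ ⁅D, D⁆ ≤ Q) (Finset.mem_filter.1 hx).2.1⟩)
            (fun y hy => Finset.mem_filter.2 ⟨Finset.mem_univ _, mem_sup_left y.2,
              fun e => (Finset.mem_erase.1 hy).1 (Subtype.ext (Set.mem_singleton_iff.1 e))⟩)
            (fun x hx => Finset.mem_erase.2 ⟨fun e => (Finset.mem_filter.1 hx).2.2
              (congrArg (fun z : ↥Q => (z : G)) e), Finset.mem_univ _⟩)
            (fun _ _ => rfl) fun _ _ => rfl).symm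
        rw [e, Nat.cast_sub (Nat.one_le_pow _ _ hs.hq.pos)]
        push_cast
        ring
      rw [hcount, hcardT, hbot, Subgroup.card_bot]
      push_cast
      rw [div_eq_inv_mul]
      ring
    · linarith
  have hbot : ⁅D, D⁆ = ⊥ := by
    haveI := ht.nilp_U
    exact bot_of_perfect (Group.nilpotent_of_mulEquiv (Subgroup.subgroupOfEquivOfLe D.commutator_le_self)) hd1
  refine ⟨hGT, hbot, hvN, ?_⟩
  -- the second inequality
  have hWT : WT = q ^ p - 1 := by
    rcases hTcases with ⟨-, -, h1⟩ | ⟨h1, -⟩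
    · rwa [hd1, one_mul] at h1
    · exact absurd hGT h1
  set eS := max ((p : ℝ) * q * (meas S - energy (reg S) (E.eta f₀ 1))) 0 with heS
  have hineq : (q : ℝ) * (1 - (v : ℝ) / WT) ≤
      (q : ℝ) / v + eS + (q : ℝ) ^ 2 * p * u / WS + (p : ℝ) / ((p : ℝ) ^ q * u * c) := by
    by_cases hne : (regChar S (Cfsg.fittingHallOf S) C).Nonempty
    · -- fluctuation on `T` and the values of the members
      have hη := E.classFun f₀ 1
      have h0T : ∀ i, Cfsg.classInner (E.eta f₀ 1) ((h.memberT hT2).Z i) = 0 := fun i => by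
        rw [← classInner_conj_symm, (h.memberT hT2).Z_grid E hodd hmix i f₀ 1, map_zero]
      have h0L : ∀ L i, Cfsg.classInner (E.eta f₀ 1) ((hc.mem h.hG L).Z i) = 0 := fun L i => by
        rw [← classInner_conj_symm, (hc.mem h.hG L).Z_grid E hodd (h.mem_disjoint_mixed hc hs L) i f₀ 1, map_zero]
      have hfl : (p : ℝ)⁻¹ * (1 - ((⁅D, D⁆).relIndex D : ℝ) / weight T Q D ⁅D, D⁆ q) ≤
          energy (reg T) (E.eta f₀ 1) - Complex.normSq (Cfsg.classInner (E.eta f₀ 1) (h.memberT hT2).beta) *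
            (((h.memberT hT2).n : ℝ) / ((h.memberT hT2).e * (h.memberT hT2).n + 1)) :=
        ht.eta_block E.swap 1 (g₀ := f₀) hf₀ (h.blockT hT2 ht hQC (χ := E.eta f₀ 1) hη fun i => by rw [h0T, h0T, mul_zero])
      rw [← classInner_conj_symm, E.coef_spec (h.memberT hT2).beta_gen, ha f₀ hf₀, Int.cast_one, map_one, map_one,
        one_mul, ← htT, ← hvdef, ← hWTdef] at hfl
      have hterm : ∀ L : {L // L ∈ 𝓛}, meas L.1 ≤ energy (reg L.1) (E.eta f₀ 1) +
          if E.coef (hc.mem h.hG L).beta f₀ 1 = 0 then meas L.1 else 0 := fun L => by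
        split_ifs with hz
        · exact le_add_of_nonneg_left (energy_nonneg _ _)
        · rw [add_zero]
          have h1 := (hc.mem h.hG L).value_le' hη fun i => by rw [h0L, h0L, mul_zero]
          rw [← classInner_conj_symm, E.coef_spec (hc.mem h.hG L).beta_gen, map_intCast, Complex.normSq_intCast,
            hc.mem_reg] at h1
          rw [memberI_meas h.hG (hc.coatom L L.2) (hc.typeI L L.2)]
          refine le_trans (le_mul_of_one_le_left (by positivity) ?_) h1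
          have h5 := Int.one_le_abs hz
          have h6 : (1 : ℤ) ≤ E.coef (hc.mem h.hG L).beta f₀ 1 * E.coef (hc.mem h.hG L).beta f₀ 1 := by
            nlinarith [abs_mul_abs_self (E.coef (hc.mem h.hG L).beta f₀ 1)]
          exact_mod_cast h6
      have hsum := Finset.sum_le_sum (s := Finset.univ) fun L _ => hterm L
      rw [Finset.sum_add_distrib, Finset.sum_coe_sort 𝓛 fun L => energy (reg L) (E.eta f₀ 1)] at hsum
      have htot := h.total hc (E.eta f₀ 1)
      rw [E.norm_one, Complex.one_re, h.energy_mixed E f₀ 1] at htot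
      have h3 := h.measure_eq hc
      rw [← Finset.sum_coe_sort 𝓛] at h3
      have e : (1 - (Nat.card W₁ : ℝ)⁻¹) * (1 - (Nat.card W₂ : ℝ)⁻¹) =
          1 - ((Nat.card W₁ : ℝ)⁻¹ + (Nat.card W₂ : ℝ)⁻¹ - ((Nat.card W₁ : ℝ) * Nat.card W₂)⁻¹) := by
        rw [mul_inv]; ring
      rw [e] at htot
      have hz := h.zero_le hc hs E hne hf₀
      rw [← hudef, ← hWSdef] at hz
      have h1 : (p : ℝ)⁻¹ * (1 - (v : ℝ) / WT) ≤ (meas T - tT) + (meas S - energy (reg S) (E.eta f₀ 1)) +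
          (Nat.card G : ℝ)⁻¹ + (q : ℝ) * u / WS := by linarith
      have h4 := mul_le_mul_of_nonneg_left h1 hpq0.le
      rw [show (p : ℝ) * q * ((p : ℝ)⁻¹ * (1 - (v : ℝ) / WT)) = (q : ℝ) * (1 - (v : ℝ) / WT) by field_simp,
        mul_add, mul_add, mul_add,
        show (p : ℝ) * q * ((q : ℝ) * u / WS) = (q : ℝ) ^ 2 * p * u / WS by ring] at h4
      have h5 : (p : ℝ) * q * (meas S - energy (reg S) (E.eta f₀ 1)) ≤ eS := le_max_left _ _
      linarith
    · rw [Set.not_nonempty_iff_eq_empty] at hne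
      have hWS : WS = (p - 1) * u := by rw [hWSdef, weight, hne, Set.ncard_empty, add_zero]
      have hp3 : (2 : ℝ) ≤ p := by exact_mod_cast hs.hp.two_le
      have h3 : (q : ℝ) ≤ (q : ℝ) ^ 2 * p * u / WS := by
        rw [hWS]
        push_cast [Nat.cast_sub hs.hp.one_le]
        rw [show (q : ℝ) ^ 2 * p * u / (((p : ℝ) - 1) * u) = q * (q * p / ((p : ℝ) - 1)) by field_simp]
        refine le_mul_of_one_le_right hq0.le ?_
        rw [le_div_iff₀ (by linarith), one_mul]
        have : (1 : ℝ) ≤ q := Nat.one_le_cast.2 hs.hq.one_le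
        nlinarith
      have h4 : (q : ℝ) * (1 - (v : ℝ) / WT) ≤ q := mul_le_of_le_one_right hq0.le (sub_le_self _ (by positivity))
      have h5 : (0 : ℝ) ≤ (p : ℝ) / ((p : ℝ) ^ q * u * c) := by positivity
      have h6 : 0 ≤ eS := le_max_right _ _
      have h7 : (0 : ℝ) ≤ (q : ℝ) / v := by positivity
      linarith
  have hres := Arith.ineqII (GS := Galois (Cfsg.fittingHallOf S) U) hpq hu1 hu (Nat.card_pos (α := ↥C)) hs.C_card_mod
    hvN hWT hScases (eS := eS) ?_ ?_ hineq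
  · rcases hres with h1 | h1 | ⟨h1, h2, h3, -⟩
    · exact Or.inl h1
    · exact Or.inr (Or.inl h1)
    · exact Or.inr (Or.inr ⟨h1, h2, h3⟩)
  · refine max_le (le_trans ?_ hmS) (by positivity)
    exact mul_le_mul_of_nonneg_left (sub_le_self _ (energy_nonneg _ _)) hpq0.le
  · intro h0
    exact max_le (mul_nonpos_of_nonneg_of_nonpos hpq0.le (sub_nonpos.2 (h.energy_S_ge hs hU E hf₀ h0))) le_rfl

end Pair

end Cfsg.Agent.Grp.FT
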