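import Cfsg.Agent.Lib.Grp.FT.MuBound

/-!
When the linear characters of `P × C` are under control, the grid members `η(f, 1)` are constant on `P \ 1`, with
a nonzero integral value.
-/

set_option autoImplicit false
set_option linter.unusedSectionVars false
set_option linter.style.haveILetI false
set_option maxHeartbeats 1000000

namespace Cfsg.Agent.Grp.FT

open Subgroup Cfsg.Agent.Char Cfsg.Agent.Transfer Cfsg.Agent.Transfer.Loc
open scoped ComplexConjugate Pointwise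

attribute [local instance] _root_.Classical.propDecidable

universe u

variable {G : Type u} [Group G] [Fintype G]

/-- Galois transitivity fixing the roots of unity of a coprime order. -/
theorem exists_map_eq_fixing {U : Subgroup G} (hU : (Nat.card U).Prime) {m : ℕ} (hm : 0 < m)
    (hcop : (Nat.card U).Coprime m) {f f' : ↥U →* ℂˣ} (hf : f ≠ 1) (hf' : f' ≠ 1) :
    ∃ σ : ℂ ≃+* ℂ, (Units.map σ.toRingHom.toMonoidHom).comp f = f' ∧ ∀ ζ : ℂ, ζ ^ m = 1 → σ ζ = ζ := by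
  haveI := Fact.mk hU
  obtain ⟨x, hx⟩ := (isCyclic_of_prime_card (α := ↥U) rfl).exists_generator
  have key : ∀ f : ↥U →* ℂˣ, f ≠ 1 → IsPrimitiveRoot (f x : ℂ) (Nat.card U) := by
    intro f hf
    have h1 : f x ^ Nat.card U = 1 := by rw [← map_pow, pow_card_eq_one', map_one]
    have h2 : orderOf (f x) = Nat.card U := orderOf_eq_prime h1 fun e => hf (MonoidHom.ext fun y => by
      obtain ⟨k, rfl⟩ := Subgroup.mem_zpowers_iff.1 (hx y); simp [e])
    have h3 := IsPrimitiveRoot.orderOf (f x : ℂ)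
    rwa [orderOf_units, h2] at h3
  haveI : NeZero (Nat.card U) := ⟨hU.ne_zero⟩
  obtain ⟨k, hklt, hkf⟩ := (key f hf).eq_pow_of_pow_eq_one (key f' hf').pow_eq_one
  have hk : k.Coprime (Nat.card U) := by
    refine ((hU.coprime_iff_not_dvd).2 fun hd => ?_).symm
    rw [Nat.eq_zero_of_dvd_of_lt hd hklt, pow_zero] at hkf
    exact (key f' hf').ne_one hU.one_lt hkf.symm
  obtain ⟨k', hk1, hk2⟩ := Nat.chineseRemainder hcop k 1
  have hk' : k'.Coprime (Nat.card U * m) := by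
    refine Nat.Coprime.mul_right ?_ ?_
    · exact (Nat.ModEq.gcd_eq hk1).trans hk
    · exact (Nat.ModEq.gcd_eq hk2).trans (Nat.coprime_one_left m)
  obtain ⟨σ, hσ⟩ := exists_ringAut_pow (Nat.card U * m) k' (Nat.mul_pos hU.pos hm) hk'
  refine ⟨σ, MonoidHom.ext fun y => ?_, fun ζ hζ => ?_⟩
  · obtain ⟨n, rfl⟩ := Subgroup.mem_zpowers_iff.1 (hx y)
    rw [map_zpow, map_zpow]
    congr 1
    refine Units.ext ?_
    show σ (f x : ℂ) = (f' x : ℂ)
    rw [hσ _ (by rw [pow_mul, (key f hf).pow_eq_one, one_pow]), ← hkf]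
    exact pow_eq_pow_of_modEq hk1 (key f hf).pow_eq_one
  · rw [hσ _ (by rw [mul_comm, pow_mul, hζ, one_pow]), pow_eq_pow_of_modEq hk2 hζ, pow_one]

namespace Side

variable {M P U C A B : Subgroup G} {p q : ℕ} (hs : Side M P U C A B p q) [Fintype M]
include hs

theorem comp_lin_eq {H : Subgroup G} (l : ↥H →* ℂˣ) {σ : ℂ ≃+* ℂ} (hσ : ∀ ζ : ℂ, ζ ^ Nat.card H = 1 → σ ζ = ζ) :
    (Units.map σ.toRingHom.toMonoidHom).comp l = l :=
  MonoidHom.ext fun x => Units.ext (hσ _ (by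
    rw [← Units.val_pow_eq_pow_val, ← map_pow, pow_card_eq_one', map_one, Units.val_one]))

variable (E : Grid A B)

/-- A difference of small norm has no coordinate in the first column. -/
theorem coef_left_zero {l l' : ↥(P ⊔ C) →* ℂˣ} (hl : l ≠ 1) (hl' : l' ≠ 1) {N : ℤ}
    (hN : Cfsg.classInner (indLin M l - indLin M l') (indLin M l - indLin M l') = (N : ℂ))
    (hsmall : N + 2 < (p : ℤ) + q) {f : ↥A →* ℂˣ} (hf : f ≠ 1) :
    Cfsg.classInner (hs.tauS (indLin M l - indLin M l')) (E.eta f 1) = 0 := by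
  haveI := E.finite_left; haveI := E.swap.finite_left
  letI := Fintype.ofFinite (↥A →* ℂˣ); letI := Fintype.ofFinite (↥B →* ℂˣ)
  have hodd := hs.hG.1
  set θ := hs.tauS (indLin M l - indLin M l') with hθdef
  have hθ : Cfsg.IsGeneralizedCharacter G θ :=
    hs.tauS_gen hs.supp_indLin (IsGenChar.sub (indLin_gen hs.PC_le _) (indLin_gen hs.PC_le _))
  have h00 : E.coef θ 1 1 = 0 := zInner_eq (by
    rw [E.one, hθdef, hs.tauS_inner hs.supp_indLin (IsGenChar.classFun gen_one), classInner_sub_left,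
      hs.inner_one_indLin hl, hs.inner_one_indLin hl', sub_self, Int.cast_zero])
  have hadd : ∀ i j, E.coef θ i j = E.coef θ i 1 + E.coef θ 1 j := fun i j => by
    rw [E.coef_add hθ (fun a b ha hb => hs.tau_indLin_V a b ha hb) i j, h00, sub_zero]
  have hcop : (Nat.card A).Coprime (Nat.card ↥(P ⊔ C)) := by
    rw [hs.card₁, hs.card_PC]
    exact Nat.Coprime.mul_right (((Nat.coprime_primes hs.hq hs.hp).2 hs.hpq.symm).pow_right _)
      (hs.coprime₁.coprime_dvd_left (card_dvd_of_le hs.C_lt.le)).symm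
  have hconst : ∀ i, i ≠ 1 → E.coef θ i 1 = E.coef θ f 1 := fun i hi => by
    obtain ⟨σ, hσ, hfix⟩ := exists_map_eq_fixing (hs.card₁.symm ▸ hs.hq) Nat.card_pos hcop hf hi
    have h1 : (fun x => σ (θ x)) = θ := by
      rw [hθdef]
      simp only [tauS, dade_map]
      congr 1
      funext x
      rw [Pi.sub_apply, map_sub, congrFun (hs.map_indLin σ l) x, congrFun (hs.map_indLin σ l') x,
        hs.comp_lin_eq l hfix, hs.comp_lin_eq l' hfix]
    have h2 := inner_map₂ hθ (E.gen f 1) σ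
    rw [h1, E.map_eta hodd, hσ, MonoidHom.comp_one, E.coef_spec hθ, E.coef_spec hθ, map_intCast] at h2
    exact_mod_cast h2
  rw [E.coef_spec hθ]
  suffices hu : E.coef θ f 1 = 0 by rw [hu, Int.cast_zero]
  by_contra hu
  have hnorm : Cfsg.classInner θ θ = (N : ℂ) := by rw [hθdef, hs.tauS_iso hs.supp_indLin hs.supp_indLin, hN]
  have hsum := E.coef_sq_le hθ hnorm
  rw [← Finset.add_sum_erase _ _ (Finset.mem_univ (1 : ↥B →* ℂˣ))] at hsum
  have hq : (Fintype.card (↥A →* ℂˣ) : ℤ) = q := by rw [E.card_left, hs.card₁]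
  have hp : (Fintype.card (↥B →* ℂˣ) : ℤ) = p := by rw [E.swap.card_left, hs.card₂]
  have h1 : (q : ℤ) - 1 ≤ ∑ i, E.coef θ i 1 ^ 2 := by
    have : ∀ i ∈ (Finset.univ : Finset (↥A →* ℂˣ)).erase 1, (1 : ℤ) ≤ E.coef θ i 1 ^ 2 := fun i hi => by
      rw [hconst i (Finset.ne_of_mem_erase hi)]
      have := Int.one_le_abs hu
      nlinarith [sq_abs (E.coef θ f 1)]
    have h := Finset.sum_le_sum this
    rw [Finset.sum_const, nsmul_eq_mul, mul_one, Finset.card_erase_of_mem (Finset.mem_univ _), Finset.card_univ,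
      Nat.cast_sub (by rw [E.card_left, hs.card₁]; exact hs.hq.one_le), Nat.cast_one, hq] at h
    exact h.trans (Finset.sum_le_sum_of_subset_of_nonneg (Finset.erase_subset _ _) fun i _ _ => sq_nonneg _)
  have h2 : ∀ j ∈ (Finset.univ : Finset (↥B →* ℂˣ)).erase 1, (1 : ℤ) ≤ ∑ i, E.coef θ i j ^ 2 := fun j _ => by
    rw [Finset.sum_congr rfl fun i _ => by rw [hadd i j]]
    exact column_pos (fun i => E.coef θ i 1) h00 hu _
  have h3 := Finset.sum_le_sum h2
  rw [Finset.sum_const, nsmul_eq_mul, mul_one, Finset.card_erase_of_mem (Finset.mem_univ _), Finset.card_univ,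
    Nat.cast_sub (by rw [E.swap.card_left, hs.card₂]; exact hs.hp.one_le), Nat.cast_one, hp] at h3
  linarith

/-- The value of `η(f, 1)` on `P \ 1`. -/
theorem eta_const (hcomm : ∀ x y : ↥(P ⊔ C), x * y = y * x) [Fintype (↥(P ⊔ C) →* ℂˣ)]
    [Fintype (↥B →* ℂˣ)] {f : ↥A →* ℂˣ} (hf : f ≠ 1)
    (hcase : ∀ l : ↥(P ⊔ C) →* ℂˣ, (∃ y : ↥(P ⊔ C), (y : G) ∈ P ∧ l y ≠ 1) →
      l ∈ hs.ctrl ((Finset.univ : Finset (↥B →* ℂˣ)).erase 1) ∨
        ((regChar M P C).Nonempty ∧ C.relIndex U + 3 < p + q ∧ ∀ x ∈ M, Fixes x l → x ∈ ⁅M, M⁆)) :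
    ∃ k : ℤ, k ≠ 0 ∧ ∀ y ∈ P, y ≠ 1 → E.eta f 1 y = (k : ℂ) := by
  haveI : Fintype ↥(P ⊔ C) := Fintype.ofFinite _
  letI : CommGroup ↥(P ⊔ C) := { (inferInstance : Group ↥(P ⊔ C)) with mul_comm := hcomm }
  haveI := E.finite_left
  letI := Fintype.ofFinite (↥A →* ℂˣ)
  set χ := E.eta f 1 with hχdef
  have hχ := E.classFun f 1
  have hcol : ∀ g, g ≠ 1 → Cfsg.classInner χ (E.colSum g) = 0 := fun g hg => by
    rw [← classInner_conj_symm, E.colSum_inner, if_neg hg, map_zero]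
  obtain ⟨g₀, hg₀, -⟩ := hs.exists_third E (g := 1)
  -- all the coefficients are equal
  have hlam : ∀ g, g ≠ 1 → linCoef χ (hs.lam g) = linCoef χ (hs.lam g₀) := fun g hg => by
    have := hs.coef_lam_sub E hχ hg hg₀
    rw [hcol g hg, hcol g₀ hg₀, sub_self] at this
    exact sub_eq_zero.1 this
  have hreg : ∀ l ∈ regChar M P C, linCoef χ l = linCoef χ (hs.lam g₀) := fun l hl => by
    obtain ⟨b, X, -, -, hX0, hb⟩ := hs.exists_typeX E hl
    obtain ⟨g', hg', hgg'⟩ := hs.exists_third E (g := g₀)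
    have hX : Cfsg.classInner χ X = 0 := by rw [← classInner_conj_symm, hX0, map_zero]
    have key := hs.inner_tau_indLin hχ l (hs.lam g₀)
    cases b <;> simp only [TypeX, if_true, if_false, Bool.false_eq_true] at hb
    · rw [hb g₀ hg₀, classInner_sub_right, hX, hcol g₀ hg₀, sub_self] at key; exact sub_eq_zero.1 key.symm
    · rw [hb.2 g₀ g' hg₀ hg' hgg'.symm, classInner_add_right, hX, hcol g' hg', add_zero] at key
      exact sub_eq_zero.1 key.symm
  have hctrl : ∀ l ∈ hs.ctrl ((Finset.univ : Finset (↥B →* ℂˣ)).erase 1), linCoef χ l = linCoef χ (hs.lam g₀) := by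
    intro l hl
    rcases hs.mem_ctrl.1 hl with hl | ⟨g, hg, hl⟩
    · exact hreg l hl
    · obtain ⟨x, hx, hxl⟩ := hs.mem_orbit.1 hl
      rw [hs.coef_conj hχ hx hxl, hlam g (Finset.ne_of_mem_erase hg)]
  have hall : ∀ l : ↥(P ⊔ C) →* ℂˣ, (∃ y : ↥(P ⊔ C), (y : G) ∈ P ∧ l y ≠ 1) →
      linCoef χ l = linCoef χ (hs.lam g₀) := by
    intro l hl
    rcases hcase l hl with hl' | ⟨⟨l', hl'⟩, hsmall, hfix⟩
    · exact hctrl l hl'
    by_cases hlr : l ∈ regChar M P C
    · exact hreg l hlr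
    rw [← hreg l' hl', ← sub_eq_zero, ← hs.inner_tau_indLin hχ, ← classInner_conj_symm]
    set n := (Finset.univ.filter fun x : M => ConjEq (x : G) l l).card with hn
    have hne : ∀ x ∈ M, ¬ ConjEq x l' l := fun x hx h => by
      obtain ⟨x', hx', h'⟩ := hs.mem_orbit.1 (hs.orbit_symm hx h)
      exact hlr (hs.reg_conj hl' hx' h')
    have o := indLin_orth hs.PC_le hs.M_norm_PC l' l hne
    have o' : Cfsg.classInner (indLin M l) (indLin M l') = 0 := by rw [← classInner_conj_symm, o, map_zero]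
    obtain ⟨t, ht⟩ := IsChar.classInner_nat (indLin_char (M := M) hs.PC_le l) (indLin_char (M := M) hs.PC_le l)
    have htn : (t : ℂ) = (Nat.card ↥(P ⊔ C) : ℂ)⁻¹ * n := by rw [← ht, inner_indLin_indLin hs.PC_le hs.M_norm_PC]
    have htu : t ≤ C.relIndex U := by
      have h1 : n ≤ Nat.card ↥(⁅M, M⁆) := by
        rw [← Nat.card_congr (Subgroup.subgroupOfEquivOfLe (M.commutator_le_self)).toEquiv, hn,
          Nat.card_eq_fintype_card, Fintype.card_of_subtype (Finset.univ.filter fun x : M => (x : G) ∈ ⁅M, M⁆)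
            fun x => by rw [Finset.mem_filter, Subgroup.mem_subgroupOf]; exact and_iff_right (Finset.mem_univ _)]
        exact Finset.card_le_card fun x hx => Finset.mem_filter.2 ⟨Finset.mem_univ _,
          hfix x x.2 (Finset.mem_filter.1 hx).2⟩
      have h2 : Nat.card ↥(⁅M, M⁆) = Nat.card ↥(P ⊔ C) * C.relIndex U := by
        rw [hs.card_PC, ← Grp.card_mul_relIndex hs.compl.1, (complIn_relIndex hs.compl).1, hs.card_P,
          ← Grp.card_mul_relIndex hs.C_lt.le, mul_assoc]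
      have h3 : Nat.card ↥(P ⊔ C) * t = n := by
        have := htn
        rw [eq_inv_mul_iff_mul_eq₀ (Nat.cast_ne_zero.2 Nat.card_pos.ne')] at this
        exact_mod_cast this
      rw [← h3, h2] at h1
      exact Nat.le_of_mul_le_mul_left h1 Nat.card_pos
    have hlne : l ≠ 1 := fun e => by obtain ⟨y, -, hy⟩ := hl; exact hy (by simp [e])
    rw [hs.coef_left_zero E hlne (hs.reg_ne_one hl') (N := (t : ℤ) + 1) ?_ ?_ hf, map_zero]
    · simp only [classInner_sub_left, classInner_sub_right, o, o', ht,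
        indLin_irr hs.PC_le hs.M_norm_PC l' hl'.2]
      push_cast; ring
    · omega
  -- Fourier inversion on the abelian group `P × C`
  have hsum : ∀ z : ↥(P ⊔ C), ∑ l : ↥(P ⊔ C) →* ℂˣ, (l z : ℂ) = if z = 1 then (Nat.card ↥(P ⊔ C) : ℂ) else 0 := by
    intro z
    split_ifs with hz
    · simp only [hz, map_one, Units.val_one, Finset.sum_const, nsmul_eq_mul, mul_one, Finset.card_univ]
      rw [← Nat.card_eq_fintype_card, CommGroup.card_monoidHom_of_hasEnoughRootsOfUnity]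
    · obtain ⟨l₀, hl₀⟩ := CommGroup.exists_apply_ne_one_of_hasEnoughRootsOfUnity ↥(P ⊔ C) ℂ hz
      set s := ∑ l : ↥(P ⊔ C) →* ℂˣ, (l z : ℂ) with hs'
      have h1 : (l₀ z : ℂ) * s = s := by
        rw [hs', Finset.mul_sum]
        exact Fintype.sum_equiv (Equiv.mulLeft l₀) _ _ fun l => by simp
      have h2 : ((l₀ z : ℂ) - 1) * s = 0 := by rw [sub_mul, one_mul, h1, sub_self]
      exact (mul_eq_zero.1 h2).resolve_left (sub_ne_zero.2 fun e => hl₀ (Units.ext (by simpa using e)))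
  set K0 := (Finset.univ : Finset (↥(P ⊔ C) →* ℂˣ)).filter fun l => ¬ ∃ y : ↥(P ⊔ C), (y : G) ∈ P ∧ l y ≠ 1 with hK0
  set s := linCoef χ (hs.lam g₀) with hsdef
  set kC : ℂ := (∑ l ∈ K0, linCoef χ l) - s * K0.card with hkC
  have hval : ∀ y ∈ P, y ≠ 1 → χ y = kC := by
    intro y hy hy1
    set z : ↥(P ⊔ C) := ⟨y, mem_sup_left hy⟩ with hz
    have hinv : χ y = ∑ l : ↥(P ⊔ C) →* ℂˣ, linCoef χ l * (l z : ℂ) := by
      simp only [linCoef, finsum_eq_sum_of_fintype, mul_assoc, ← Finset.mul_sum, Finset.sum_mul]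
      rw [Finset.sum_comm]
      have : ∀ x : ↥(P ⊔ C), ∑ l : ↥(P ⊔ C) →* ℂˣ, χ x * (conj (l x : ℂ) * (l z : ℂ)) =
          χ x * if x⁻¹ * z = 1 then (Nat.card ↥(P ⊔ C) : ℂ) else 0 := fun x => by
        rw [← Finset.mul_sum, ← hsum]
        congr 1
        refine Finset.sum_congr rfl fun l _ => ?_
        rw [map_mul, map_inv, Units.val_mul, Units.val_inv_eq_inv_val, Complex.inv_def, normSq_lin]
        simp
      rw [Finset.sum_congr rfl fun x _ => this x]
      simp [inv_mul_eq_one, hz]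
      rw [mul_comm (χ y), ← mul_assoc, inv_mul_cancel₀ (Nat.cast_ne_zero.2 Fintype.card_ne_zero), one_mul]
    have h0 := hsum z
    rw [if_neg (fun e => hy1 (congrArg Subtype.val e)), ← Finset.sum_filter_add_sum_filter_not Finset.univ
      (fun l : ↥(P ⊔ C) →* ℂˣ => ¬ ∃ y : ↥(P ⊔ C), (y : G) ∈ P ∧ l y ≠ 1), ← hK0] at h0
    have hK : ∀ l ∈ K0, (l z : ℂ) = 1 := fun l hl => by
      by_contra hne
      exact (Finset.mem_filter.1 hl).2 ⟨z, hy, fun e => hne (by simp [e])⟩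
    rw [Finset.sum_congr rfl hK, Finset.sum_const, nsmul_eq_mul, mul_one] at h0
    rw [hinv, ← Finset.sum_filter_add_sum_filter_not Finset.univ
      (fun l : ↥(P ⊔ C) →* ℂˣ => ¬ ∃ y : ↥(P ⊔ C), (y : G) ∈ P ∧ l y ≠ 1), ← hK0,
      Finset.sum_congr rfl fun l hl => by rw [hK l hl, mul_one],
      Finset.sum_congr rfl fun l (hl : l ∈ Finset.univ.filter fun l : ↥(P ⊔ C) →* ℂˣ =>
        ¬¬∃ y : ↥(P ⊔ C), (y : G) ∈ P ∧ l y ≠ 1) => by rw [hall l (not_not.1 (Finset.mem_filter.1 hl).2)],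
      ← Finset.mul_sum, hkC]
    linear_combination s * h0
  -- integrality
  haveI : Fintype ↥P := Fintype.ofFinite _
  have hgenP := IsGenChar.comp P.subtype (E.gen f 1)
  obtain ⟨b, hb, hb1⟩ := (bot_or_exists_ne_one B).resolve_left fun e => hs.hp.ne_one (by
    rw [← hs.card₂, e, Subgroup.card_bot])
  obtain ⟨k, hk⟩ : ∃ k : ℤ, kC = k := by
    set l := (hs.lam g₀).comp (Subgroup.inclusion (le_sup_left : P ≤ P ⊔ C)) with hl
    obtain ⟨m₀, hm₀⟩ := IsGenChar.classInner_int hgenP gen_one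
    obtain ⟨m₁, hm₁⟩ := IsGenChar.classInner_int hgenP (gen_irr (isIrr_linear l))
    refine ⟨m₀ - m₁, ?_⟩
    have hsl : ∑ y : P, conj (l y : ℂ) = 0 := by
      have h1 := sum_lin_conj (1 : ↥P →* ℂˣ) l
      rw [if_neg fun e => ?_] at h1
      · simpa using h1
      · obtain ⟨w, hw, hw1⟩ := hs.lam_ne hg₀
        exact hw1 ((DFunLike.congr_fun e (⟨w, hw⟩ : P)).symm)
    push_cast
    rw [← hm₀, ← hm₁, Cfsg.classInner, Cfsg.classInner, ← mul_sub, ← Finset.sum_sub_distrib]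
    have hterm : ∀ y : P, χ y * conj (1 : ℂ) - χ y * conj (l y : ℂ) = kC * (1 - conj (l y : ℂ)) := fun y => by
      by_cases hy : (y : G) = 1
      · rw [show y = 1 from Subtype.ext hy]; simp
      · rw [hval y y.2 hy, map_one]; ring
    simp only [MonoidHom.comp_apply, Subgroup.coe_subtype]
    rw [Finset.sum_congr rfl fun y _ => hterm y, ← Finset.mul_sum, Finset.sum_sub_distrib, hsl, sub_zero,
      Finset.sum_const, nsmul_eq_mul, mul_one, Finset.card_univ, ← Nat.card_eq_fintype_card]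
    rw [← mul_assoc, mul_comm _ kC, mul_assoc, inv_mul_cancel₀ (Nat.cast_ne_zero.2 Nat.card_pos.ne'), mul_one]
  refine ⟨k, ?_, fun y hy hy1 => by rw [← hk]; exact hval y hy hy1⟩
  rintro rfl
  rw [Int.cast_zero] at hk
  -- on `A × B` the value zero contradicts integrality
  haveI : Fintype ↥A := Fintype.ofFinite _
  haveI : Fintype ↥B := Fintype.ofFinite _
  haveI : Fintype ↥(B ⊔ A) := Fintype.ofFinite _
  have hAB : A ≤ normalizer (B : Set G) := Grp.PiHall.le_normalizer_of_conj_mem fun x hx z hz => by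
    rwa [(hs.commute_lines hx hz).eq, mul_inv_cancel_right]
  have hdis : B ⊓ A = ⊥ := (inf_comm B A).trans hs.self.2.2.1
  obtain ⟨L, hL⟩ := exists_extend hAB hdis g₀ (fun x hx y z e => congrArg g₀ (Subtype.ext (by
    rw [← e, (hs.commute_lines hx y.2).eq, mul_inv_cancel_right]))) (1 : ↥A →* ℂˣ)
  let φ : ↥B × ↥A → ↥(B ⊔ A) := fun x => ⟨x.1 * x.2, mul_mem (mem_sup_left x.1.2) (mem_sup_right x.2.2)⟩
  have hφ : Function.Bijective φ := by
    refine ⟨fun x y e => ?_, fun w => ?_⟩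
    · have e' : (x.1 : G) * x.2 = y.1 * y.2 := congrArg Subtype.val e
      have h1 : ((y.1 : G))⁻¹ * x.1 = (y.2 : G) * (x.2 : G)⁻¹ := by
        rw [eq_mul_inv_iff_mul_eq, mul_assoc, e', inv_mul_cancel_left]
      have h2 : ((y.1 : G))⁻¹ * x.1 ∈ B ⊓ A :=
        Subgroup.mem_inf.2 ⟨B.mul_mem (B.inv_mem y.1.2) x.1.2, h1 ▸ A.mul_mem y.2.2 (A.inv_mem x.2.2)⟩
      rw [hdis, mem_bot, inv_mul_eq_one] at h2
      exact Prod.ext (Subtype.ext h2.symm) (Subtype.ext (mul_left_cancel (a := (x.1 : G)) (by rw [e', h2])))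
    · obtain ⟨n, hn, a, ha, e⟩ : (w : G) ∈ (B : Set G) * (A : Set G) := by
        rw [← Subgroup.coe_mul_of_right_le_normalizer_left B A hAB]; exact w.2
      exact ⟨(⟨n, hn⟩, ⟨a, ha⟩), Subtype.ext e⟩
  have hgenW := IsGenChar.comp (B ⊔ A).subtype (E.gen f 1)
  obtain ⟨m₀, hm₀⟩ := IsGenChar.classInner_int hgenW gen_one
  obtain ⟨m₁, hm₁⟩ := IsGenChar.classInner_int hgenW (gen_irr (isIrr_linear L))
  have hcardW : (Nat.card ↥(B ⊔ A) : ℂ) = (p : ℂ) * q := by
    rw [← Nat.card_eq_of_bijective φ hφ, Nat.card_prod, hs.card₁, hs.card₂, Nat.cast_mul]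
  have hsum1 : ∑ a : A, (if a = 1 then 0 else (f a : ℂ)) = -1 := by
    have h1 := sum_lin_conj f (1 : ↥A →* ℂˣ)
    rw [if_neg hf] at h1
    simp only [MonoidHom.one_apply, Units.val_one, map_one, mul_one] at h1
    rw [← Finset.add_sum_erase _ _ (Finset.mem_univ (1 : A)), map_one, Units.val_one] at h1
    rw [← Finset.add_sum_erase _ _ (Finset.mem_univ (1 : A)), if_pos rfl, zero_add,
      Finset.sum_congr rfl fun a ha => if_neg (Finset.ne_of_mem_erase ha)]
    linear_combination h1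
  have hsum2 : ∑ b : B, (1 - conj (g₀ b : ℂ)) = (p : ℂ) := by
    have h1 := sum_lin_conj (1 : ↥B →* ℂˣ) g₀
    rw [if_neg fun e => hg₀ e.symm] at h1
    simp only [MonoidHom.one_apply, Units.val_one, one_mul] at h1
    rw [Finset.sum_sub_distrib, h1, sub_zero, Finset.sum_const, nsmul_eq_mul, mul_one, Finset.card_univ,
      ← Nat.card_eq_fintype_card, hs.card₂]
  have hkey : ∀ x : ↥B × ↥A, χ ((φ x : ↥(B ⊔ A)) : G) * conj (1 : ℂ) - χ ((φ x : ↥(B ⊔ A)) : G) * conj (L (φ x) : ℂ) =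
      (if x.2 = 1 then 0 else (f x.2 : ℂ)) * (1 - conj (g₀ x.1 : ℂ)) := by
    rintro ⟨b', a⟩
    rw [hL b' a (φ (b', a)) rfl, MonoidHom.one_apply, mul_one, map_one, ← mul_sub]
    by_cases hb' : b' = 1
    · subst hb'; simp
    by_cases ha : a = 1
    · subst ha
      rw [if_pos rfl, zero_mul]
      show χ ((b' : G) * ((1 : A) : G)) * _ = 0
      rw [Subgroup.coe_one, mul_one, hval b' (hs.W₂_le b'.2) fun e => hb' (Subtype.ext e), hk, zero_mul]
    · rw [if_neg ha]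
      show χ ((b' : G) * (a : G)) * _ = _
      rw [← (hs.commute_lines a.2 b'.2).eq, hχdef, E.val f 1 a b' ha hb', MonoidHom.one_apply, Units.val_one, mul_one]
  have hm : ((m₀ - m₁ : ℤ) : ℂ) * ((p : ℂ) * q) = -(p : ℂ) := by
    push_cast
    rw [← hm₀, ← hm₁, Cfsg.classInner, Cfsg.classInner, ← mul_sub, ← Finset.sum_sub_distrib]
    simp only [MonoidHom.comp_apply, Subgroup.coe_subtype]
    rw [← (Equiv.ofBijective φ hφ).sum_comp]
    simp only [Equiv.ofBijective_apply]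
    rw [Finset.sum_congr rfl fun x _ => hkey x, Fintype.sum_prod_type, Finset.sum_comm]
    simp only [← Finset.mul_sum, ← Finset.sum_mul, hsum1, hsum2]
    rw [hcardW]
    have hp0 : (p : ℂ) ≠ 0 := Nat.cast_ne_zero.2 hs.hp.ne_zero
    have hq0 : (q : ℂ) ≠ 0 := Nat.cast_ne_zero.2 hs.hq.ne_zero
    field_simp
  have hq1 : (m₀ - m₁) * (q : ℤ) = -1 := by
    have h2 : ((m₀ - m₁) * (q : ℤ) : ℤ) * (p : ℤ) = -(p : ℤ) := by
      apply Int.cast_injective (α := ℂ); push_cast; push_cast at hm; linear_combination hm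
    have hp0 : (p : ℤ) ≠ 0 := Int.natCast_ne_zero.2 hs.hp.ne_zero
    exact mul_right_cancel₀ hp0 (by linarith)
  have h1 : ((q : ℕ) : ℤ) ∣ ((1 : ℕ) : ℤ) := ⟨-(m₀ - m₁), by push_cast; linarith⟩
  exact hs.hq.ne_one (Nat.dvd_one.1 (Int.natCast_dvd_natCast.1 h1))

end Side

end Cfsg.Agent.Grp.FT
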