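import Cfsg.Agent.Lib.Grp.FT.SideCount
import Cfsg.Agent.Lib.Grp.FT.MuBound

/-!
The irregular characters in terms of the controlled finsets.
-/

set_option autoImplicit false
set_option linter.unusedSectionVars false
set_option linter.style.haveILetI false
set_option maxHeartbeats 1000000

namespace Cfsg.Agent.Grp.FT

open Subgroup Cfsg.Agent.Char Cfsg.Agent.Transfer Cfsg.Agent.Transfer.Loc

attribute [local instance] _root_.Classical.propDecidable

universe u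

variable {G : Type u} [Group G] [Fintype G]

namespace Side

variable {M P U C A B : Subgroup G} {p q : ℕ} (hs : Side M P U C A B p q) [Fintype M]
variable [Fintype (↥(P ⊔ C) →* ℂˣ)] [Fintype (↥B →* ℂˣ)]
include hs

theorem lamConj_ctrl {l : ↥(P ⊔ C) →* ℂˣ} (hl : l ∈ hs.lamConj) :
    l ∈ hs.ctrl ((Finset.univ : Finset (↥B →* ℂˣ)).erase 1) := by
  obtain ⟨g, hg, x, hx, h⟩ := hl
  exact hs.mem_ctrl.2 (Or.inr ⟨g, Finset.mem_erase.2 ⟨hg, Finset.mem_univ g⟩, hs.mem_orbit.2 ⟨x, hx, h⟩⟩)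

theorem ctrl_or_derived (l : ↥(P ⊔ C) →* ℂˣ) (hl : ∃ y : ↥(P ⊔ C), (y : G) ∈ P ∧ l y ≠ 1) :
    l ∈ hs.ctrl ((Finset.univ : Finset (↥B →* ℂˣ)).erase 1) ∨ ∀ x ∈ M, Fixes x l → x ∈ ⁅M, M⁆ :=
  (hs.irregular_cases hl).imp_left hs.lamConj_ctrl

theorem galois_ctrl (hg : Galois P U) (l : ↥(P ⊔ C) →* ℂˣ) (hl : ∃ y : ↥(P ⊔ C), (y : G) ∈ P ∧ l y ≠ 1) :
    l ∈ hs.ctrl ((Finset.univ : Finset (↥B →* ℂˣ)).erase 1) := by
  by_cases hr : l ∈ regChar M P C
  · exact hs.mem_ctrl.2 (Or.inl hr)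
  · exact hs.lamConj_ctrl (hs.galois_irregular hg hl hr)

omit [Fintype M] [Fintype (↥(P ⊔ C) →* ℂˣ)] [Fintype (↥B →* ℂˣ)] in
/-- Outside the Galois case there are regular characters. -/
theorem regChar_nonempty (hg : ¬ Galois P U) : (regChar M P C).Nonempty := by
  by_contra h
  rw [Set.not_nonempty_iff_eq_empty] at h
  obtain ⟨k, hk, hdvd⟩ := hs.nonGalois_u hg
  have hw := hs.nonGalois_weight hg
  rw [weight, h, Set.ncard_empty, add_zero] at hw
  have hk1 : 1 ≤ k := by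
    by_contra hk0
    obtain rfl : k = 0 := by omega
    have := hs.hp.two_le; omega
  have hu := Nat.le_of_dvd (pow_pos (by omega) _) hdvd
  have hlt : (p - 1) * k ^ (q - 1) < (p - 1) ^ q := by
    obtain ⟨n, hn⟩ := Nat.exists_eq_add_of_le hs.hq.one_le
    rw [hn, show p - 1 = 2 * k by omega, show 1 + n - 1 = n by omega, pow_add, pow_one]
    refine Nat.mul_lt_mul_of_pos_left (Nat.pow_lt_pow_left (by omega) ?_) (by omega)
    have := hs.hq.two_le; omega
  have h1 := Nat.mul_le_mul_left (p - 1) hu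
  have h2 : (p - 1) ^ q ≤ (⁅C, C⁆).relIndex C * (p - 1) ^ q := Nat.le_mul_of_pos_left _ hs.c_mod.2
  omega

end Side

end Cfsg.Agent.Grp.FT
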