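import Cfsg.Agent.Lib.Grp.FT.Combine
import Cfsg.Agent.Lib.Grp.FT.EtaConst
import Cfsg.Agent.Lib.Grp.FT.SideCtrl
import Cfsg.Agent.Lib.Grp.FT.Arith

/-!
The two inequalities when both members of the pair are of type II.
-/

set_option autoImplicit false
set_option linter.unusedSectionVars false
set_option linter.style.haveILetI false
set_option maxHeartbeats 1000000

namespace Cfsg.Agent.Grp.FT

open Subgroup Cfsg.Agent.Char Cfsg.Agent.Transfer Cfsg.Agent.Transfer.Loc
open scoped ComplexConjugate Pointwise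

attribute [local instance] _root_.Classical.propDecidable

universe u

variable {G : Type u} [Group G] [Fintype G] {W₁ W₂ : Subgroup G}

attribute [local irreducible] memberI

namespace Pair

variable {S T : Subgroup G} (h : Pair S T W₁ W₂) {U C : Subgroup G} {p q : ℕ}
  (hs : Side S (Cfsg.fittingHallOf S) U C W₁ W₂ p q) (hU : ∀ x ∈ U, ∀ y ∈ U, x * y = y * x)
include h hs hU

omit h in
theorem comm_PC_S (x y : ↥(Cfsg.fittingHallOf S ⊔ C)) : x * y = y * x := by
  obtain ⟨a, ha, b, hb, hx⟩ := hs.mem_PC x.2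
  obtain ⟨c, hc, d, hd, hy⟩ := hs.mem_PC y.2
  refine Subtype.ext ?_
  rw [Subgroup.coe_mul, Subgroup.coe_mul, hx, hy,
    show a * b * (c * d) = a * (b * c) * d by group, ← hs.comm_PC hc hb,
    show a * (c * b) * d = a * c * (b * d) by group, hs.comm_P ha hc, hU b (hs.C_lt.le hb) d (hs.C_lt.le hd),
    show c * a * (d * b) = c * (a * d) * b by group, hs.comm_PC ha hd,
    show c * (d * a) * b = c * d * (a * b) by group]

/-- A grid member of the first column keeps the full measure on the region of `S`. -/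
theorem energy_S_ge [Fintype S] (E : Grid W₁ W₂) {f : ↥W₁ →* ℂˣ} (hf : f ≠ 1)
    (hcase : Galois (Cfsg.fittingHallOf S) U ∨ C.relIndex U + 3 < p + q) :
    meas S ≤ energy (reg S) (E.eta f 1) := by
  letI : Fintype (↥(Cfsg.fittingHallOf S ⊔ C) →* ℂˣ) := Fintype.ofFinite _
  haveI := E.swap.finite_left
  letI := Fintype.ofFinite (↥W₂ →* ℂˣ)
  obtain ⟨k, hk, hval⟩ := hs.eta_const E (comm_PC_S hs hU) hf fun l hl => by
    by_cases hg : Galois (Cfsg.fittingHallOf S) U
    · exact Or.inl (hs.galois_ctrl hg l hl)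
    · rcases hs.ctrl_or_derived l hl with h1 | h1
      · exact Or.inl h1
      · exact Or.inr ⟨hs.regChar_nonempty hg, hcase.resolve_left hg, h1⟩
  rw [← energy_reg_one h.hG h.hS]
  refine mul_le_mul_of_nonneg_left (Finset.sum_le_sum fun g _ => ?_) (by positivity)
  by_cases hg : g ∈ reg S
  · rw [Set.indicator_of_mem hg, Set.indicator_of_mem hg, map_one]
    obtain ⟨a, ha, r, hr, y, rfl⟩ := hg
    rw [h.supportR_S ha.1 ha.2, mem_bot] at hr
    subst hr
    rw [mul_one, E.classFun f 1 a y, hval a (h.sigmaCore_S ▸ ha.1) ha.2, Complex.normSq_intCast]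
    have h1 := Int.one_le_abs hk
    have h2 : (1 : ℤ) ≤ k * k := by nlinarith [abs_mul_abs_self k]
    exact_mod_cast h2
  · rw [Set.indicator_of_notMem hg, Set.indicator_of_notMem hg]

variable (hT : Cfsg.IsOfTypeII T) {V D : Subgroup G} (ht : Side T (Cfsg.fittingHallOf T) V D W₂ W₁ q p)
  (hV : ∀ x ∈ V, ∀ y ∈ V, x * y = y * x) {𝓛 : Finset (Subgroup G)} (hc : Cover S T W₁ W₂ 𝓛)
  (E : Grid W₁ W₂) (hlt : q < p)
include hT ht hV hc E hlt

/-- The outcome of the two inequalities when both members are of type II. -/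
theorem facts_two : Galois (Cfsg.fittingHallOf T) V ∧ D = ⊥ ∧
    D.relIndex V = ∑ i ∈ Finset.range p, q ^ i ∧ Arith.Residual p q (C.relIndex U) (Nat.card C) := by
  letI : Fintype S := Fintype.ofFinite _
  letI : Fintype T := Fintype.ofFinite _
  haveI := E.finite_left; haveI := E.swap.finite_left
  letI := Fintype.ofFinite (↥W₁ →* ℂˣ); letI := Fintype.ofFinite (↥W₂ →* ℂˣ)
  have h' := h.symm_of_typeII hT
  have hodd := h.hG.1
  have hq2 : q ≠ 2 := fun e => Nat.not_even_iff_odd.2 hodd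
    (even_iff_two_dvd.2 (e ▸ hs.card₁ ▸ Subgroup.card_subgroup_dvd_card W₁))
  have hpq : Arith.Primes p q := ⟨hs.hp, hs.hq, hq2, hlt⟩
  obtain ⟨f₀, hf₀⟩ : ∃ f : ↥W₁ →* ℂˣ, f ≠ 1 :=
    Fintype.exists_ne_of_one_lt_card (by rw [E.card_left, hs.card₁]; exact hs.hq.one_lt) 1
  obtain ⟨g₀, hg₀⟩ : ∃ g : ↥W₂ →* ℂˣ, g ≠ 1 :=
    Fintype.exists_ne_of_one_lt_card (by rw [E.swap.card_left, hs.card₂]; exact hs.hp.one_lt) 1
  have hcC := comm_relIndex fun x hx y hy => hU x (hs.C_lt.le hx) y (hs.C_lt.le hy)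
  have hdD := comm_relIndex fun x hx y hy => hV x (ht.C_lt.le hx) y (ht.C_lt.le hy)
  obtain ⟨hu, hu1⟩ := hs.u_mod
  obtain ⟨hv, hv1⟩ := ht.u_mod
  have hScases := hs.weight_cases
  rw [hcC] at hScases
  have hTcases := ht.weight_cases
  rw [hdD] at hTcases
  set u := C.relIndex U with hudef
  set v := D.relIndex V with hvdef
  set c := Nat.card C with hcdef
  set d := Nat.card D with hddef
  set WS := weight S (Cfsg.fittingHallOf S) U C p with hWSdef
  set WT := weight T (Cfsg.fittingHallOf T) V D q with hWTdef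
  have hp0 : (0 : ℝ) < p := Nat.cast_pos.2 hs.hp.pos
  have hq0 : (0 : ℝ) < q := Nat.cast_pos.2 hs.hq.pos
  have hu0 : (0 : ℝ) < u := Nat.cast_pos.2 (by omega)
  have hv0 : (0 : ℝ) < v := Nat.cast_pos.2 (by omega)
  have hc0 : (0 : ℝ) < c := Nat.cast_pos.2 Nat.card_pos
  have hd0 : (0 : ℝ) < d := Nat.cast_pos.2 Nat.card_pos
  have hd1 : (1 : ℝ) ≤ d := Nat.one_le_cast.2 Nat.card_pos
  have hpq0 : (0 : ℝ) < p * q := mul_pos hp0 hq0
  have hmS : (p : ℝ) * q * meas S ≤ (p : ℝ) / (u * c) := by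
    refine le_trans (mul_le_mul_of_nonneg_left (h.meas_S_le hs) hpq0.le) (le_of_eq ?_)
    rw [← hudef, ← hcdef]
    field_simp
  have hmT : (p : ℝ) * q * meas T ≤ (q : ℝ) / (v * d) := by
    refine le_trans (mul_le_mul_of_nonneg_left (h'.meas_S_le ht) hpq0.le) (le_of_eq ?_)
    rw [← hvdef, ← hddef]
    field_simp
  have hmT' : (q : ℝ) / (v * d) ≤ (q : ℝ) / v :=
    div_le_div_of_nonneg_left hq0.le hv0 (le_mul_of_one_le_right hv0.le hd1)
  have hG : (p : ℝ) * q * (Nat.card G : ℝ)⁻¹ ≤ (p : ℝ) / ((p : ℝ) ^ q * u * c) := by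
    refine le_trans (mul_le_mul_of_nonneg_left (h.inv_card_le hs) hpq0.le) (le_of_eq ?_)
    rw [← hudef, ← hcdef]
    field_simp
  have hEnn : ∀ (X : Set G) (χ : G → ℂ), 0 ≤ (p : ℝ) * q * energy X χ := fun X χ =>
    mul_nonneg hpq0.le (energy_nonneg _ _)
  -- the first inequality
  obtain ⟨hGT, hvN, hd⟩ : Galois (Cfsg.fittingHallOf T) V ∧ v = ∑ i ∈ Finset.range p, q ^ i ∧ d = 1 := by
    set eT := (p : ℝ) * q * (meas T - energy (reg T) (E.eta 1 g₀)) with heT
    have hz : (∑ L, if E.coef (hc.mem h.hG L).beta 1 g₀ = 0 then meas L.1 else 0) ≤ (p : ℝ) * v / WT := by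
      by_cases hne : (regChar T (Cfsg.fittingHallOf T) D).Nonempty
      · exact h'.zero_le hc.symm ht E.swap hne (f := g₀) hg₀
      · rw [Set.not_nonempty_iff_eq_empty] at hne
        have hle : (∑ L : {L // L ∈ 𝓛}, if E.coef (hc.mem h.hG L).beta 1 g₀ = 0 then meas L.1 else 0) ≤
            ∑ L : {L // L ∈ 𝓛}, meas L.1 := Finset.sum_le_sum fun L _ => ?_
        refine hle.trans ((h.sum_meas_le hc hs).trans ?_)
        swap
        · split_ifs
          exacts [le_rfl, meas_nonneg _]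
        · rw [hWTdef, weight, hne, Set.ncard_empty, add_zero, ← hvdef]
          have h2 : (q : ℝ) + 1 ≤ p := by exact_mod_cast hlt
          have h3 : (2 : ℝ) ≤ q := by exact_mod_cast hs.hq.two_le
          push_cast [Nat.cast_sub hs.hq.one_le]
          rw [show (p : ℝ) * v / (((q : ℝ) - 1) * v) = p / ((q : ℝ) - 1) by field_simp]
          have h4 : (q : ℝ)⁻¹ + (p : ℝ)⁻¹ ≤ 1 := by
            have e1 : (q : ℝ)⁻¹ ≤ 2⁻¹ := inv_anti₀ (by norm_num) h3
            have e2 : (p : ℝ)⁻¹ ≤ 2⁻¹ := inv_anti₀ (by norm_num) (by linarith)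
            linarith
          refine h4.trans ?_
          rw [le_div_iff₀ (by linarith), one_mul]
          linarith
    have h1 := mul_le_mul_of_nonneg_left (h.ineq_one hc hs E 1 hg₀) hpq0.le
    rw [← hudef, ← hWSdef, show (p : ℝ) * q * ((q : ℝ)⁻¹ * (1 - (u : ℝ) / WS)) = (p : ℝ) * (1 - (u : ℝ) / WS) by
      field_simp, mul_add, mul_add, mul_add, ← heT] at h1
    have h2 : (p : ℝ) * q * ((p : ℝ) * v / WT) = (p : ℝ) ^ 2 * q * v / WT := by ring
    have h3 := mul_le_mul_of_nonneg_left hz hpq0.le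
    refine Arith.ineqI (eT := eT) (WS := WS) (WT := WT) hpq hu1 hu (Nat.card_pos (α := ↥C)) hv1 hv (Nat.card_pos (α := ↥D)) ht.C_card_mod
      ?_ hs.le_weight hTcases ?_ ?_ ?_
    · rcases hScases with ⟨-, h', -⟩ | ⟨-, h', -⟩
      exacts [Or.inl h', Or.inr h']
    · refine le_trans ?_ (hmT.trans hmT')
      rw [heT, mul_sub]
      linarith [hEnn (reg T) (E.eta 1 g₀)]
    · intro hg _
      rw [heT]
      exact mul_nonpos_of_nonneg_of_nonpos hpq0.le
        (sub_nonpos.2 (h'.energy_S_ge ht hV E.swap (f := g₀) hg₀ (Or.inl hg)))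
    · linarith
  have hD : D = ⊥ := Subgroup.card_eq_one.1 hd
  refine ⟨hGT, hD, hvN, ?_⟩
  -- the second inequality
  have hWT : WT = q ^ p - 1 := by
    rcases hTcases with ⟨-, -, h1⟩ | ⟨h1, -⟩
    · rwa [hd, one_mul] at h1
    · exact absurd hGT h1
  set eS := max ((p : ℝ) * q * (meas S - energy (reg S) (E.eta f₀ 1))) 0 with heS
  have hineq : (q : ℝ) * (1 - (v : ℝ) / WT) ≤
      (q : ℝ) / v + eS + (q : ℝ) ^ 2 * p * u / WS + (p : ℝ) / ((p : ℝ) ^ q * u * c) := by
    have z : (p : ℝ)⁻¹ * (1 - (D.relIndex V : ℝ) / weight T (Cfsg.fittingHallOf T) V D q) ≤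
        meas T + (meas S - energy (reg S) (E.eta f₀ 1)) + (Nat.card G : ℝ)⁻¹ +
          ∑ L : {L // L ∈ 𝓛}, if E.coef (hc.mem h.hG L).beta f₀ 1 = 0 then meas L.1 else 0 :=
      h'.ineq_one hc.symm ht E.swap 1 hf₀
    have h1 := mul_le_mul_of_nonneg_left z hpq0.le
    rw [← hvdef, ← hWTdef, show (p : ℝ) * q * ((p : ℝ)⁻¹ * (1 - (v : ℝ) / WT)) = (q : ℝ) * (1 - (v : ℝ) / WT) by
      field_simp, mul_add, mul_add, mul_add] at h1
    have h2 : (p : ℝ) * q * ((q : ℝ) * u / WS) = (q : ℝ) ^ 2 * p * u / WS := by ring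
    by_cases hne : (regChar S (Cfsg.fittingHallOf S) C).Nonempty
    · have h3 := mul_le_mul_of_nonneg_left (h.zero_le hc hs E hne hf₀) hpq0.le
      have h5 : (p : ℝ) * q * (meas S - energy (reg S) (E.eta f₀ 1)) ≤ eS := le_max_left _ _
      rw [← hudef, ← hWSdef, h2] at h3
      linarith
    · rw [Set.not_nonempty_iff_eq_empty] at hne
      have hWS : WS = (p - 1) * u := by rw [hWSdef, weight, hne, Set.ncard_empty, add_zero]
      have hp2 : (2 : ℝ) ≤ p := by exact_mod_cast hs.hp.two_le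
      have h3 : (q : ℝ) ≤ (q : ℝ) ^ 2 * p * u / WS := by
        rw [hWS]
        push_cast [Nat.cast_sub hs.hp.one_le]
        rw [show (q : ℝ) ^ 2 * p * u / (((p : ℝ) - 1) * u) = q * (q * p / ((p : ℝ) - 1)) by field_simp]
        refine le_mul_of_one_le_right hq0.le ?_
        rw [le_div_iff₀ (by linarith), one_mul]
        have : (1 : ℝ) ≤ q := Nat.one_le_cast.2 hs.hq.one_le
        nlinarith
      have h4 : (q : ℝ) * (1 - (v : ℝ) / WT) ≤ q := mul_le_of_le_one_right hq0.le (sub_le_self _ (by positivity))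
      have h5 : (0 : ℝ) ≤ (p : ℝ) / ((p : ℝ) ^ q * u * c) := by positivity
      have h6 : 0 ≤ eS := le_max_right _ _
      have h7 : (0 : ℝ) ≤ (q : ℝ) / v := by positivity
      linarith
  have hres := Arith.ineqII (GS := Galois (Cfsg.fittingHallOf S) U) hpq hu1 hu (Nat.card_pos (α := ↥C)) hs.C_card_mod hvN hWT
    hScases (eS := eS) ?_ ?_ hineq
  · rcases hres with h1 | h1 | ⟨h1, h2, h3, -⟩
    · exact Or.inl h1
    · exact Or.inr (Or.inl h1)
    · exact Or.inr (Or.inr ⟨h1, h2, h3⟩)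
  · refine max_le (le_trans ?_ hmS) (by positivity)
    rw [mul_sub]
    linarith [hEnn (reg S) (E.eta f₀ 1)]
  · intro h0
    exact max_le (mul_nonpos_of_nonneg_of_nonpos hpq0.le (sub_nonpos.2 (h.energy_S_ge hs hU E hf₀ h0))) le_rfl

end Pair

end Cfsg.Agent.Grp.FT
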