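import Cfsg.Agent.Lib.Grp.FT.SetupSide
import Cfsg.Agent.Lib.Transfer.Local.TauOneBasics

/-!
The overgroup of `U`: a type I subgroup `L` with `W₁` normal in `L ⊓ T`, and the bound on a subgroup of
one side normalising the line of the other one.
-/

set_option autoImplicit false
set_option maxHeartbeats 1000000

namespace Cfsg.Agent.Grp.FT

open Subgroup Cfsg.Agent.Transfer Cfsg.Agent.Transfer.Loc Cfsg.Agent.Transfer.Loc.TypeI
open scoped Pointwise

universe u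

variable {G : Type u} [Group G] [Finite G]

/-- A type I subgroup has no `τ₂`-prime. -/
theorem not_tau2_of_kappa_empty (hG : Cfsg.IsMinSimpleOddOrder G) {L : Subgroup G} (hL : IsCoatom L)
    (hκ : Cfsg.kappa L = ∅) (r : ℕ) : r ∉ Cfsg.tau2 L := fun hr => by
  haveI := Fact.mk hr.1
  obtain ⟨H, E, N, A, T, P, v, hset⟩ := exists_setup hG hL hκ hr
  exact no_setup hset fun t _ ht => fixed_eq_bot hG t ht

/-- Outside the core a type I subgroup has rank one. -/
theorem prank_one_of_kappa_empty (hG : Cfsg.IsMinSimpleOddOrder G) {L : Subgroup G} (hL : IsCoatom L)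
    (hκ : Cfsg.kappa L = ∅) {r : ℕ} (hr : r.Prime) (hσ : r ∉ Cfsg.sigma L) : Cfsg.PRankLE r 1 L := by
  by_contra h1
  exact not_tau2_of_kappa_empty hG hL hκ r
    ⟨hr, hσ, by_contra fun h2 => hσ (alpha_subset_sigma hG hL ⟨hr, h2⟩), h1⟩

/-- In rank one a line of the Fitting subgroup is normal. -/
theorem le_normalizer_line (hG : Cfsg.IsMinSimpleOddOrder G) {E W : Subgroup G} {r : ℕ} [hr : Fact r.Prime]
    (hW : W ≤ Cfsg.fittingOf E) (hc : Nat.card W = r) (hrk : Cfsg.PRankLE r 1 E) :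
    E ≤ normalizer (W : Set G) := by
  have hO : W ≤ O r E := fun w hw => mem_O_of_mem_fittingOf (k := 1) (hW hw) (by
    rw [pow_one]
    exact orderOf_dvd_iff_pow_eq_one.1 (hc ▸ Subgroup.orderOf_dvd_natCard W hw))
  have hcyc := cyclic_of_rank_one hG (O_isPGroup r E) (O_le r E) hrk
  intro e he
  rw [Grp.mem_normalizer_iff_smul]
  refine eq_of_card_cyclic hcyc ?_ hO (Grp.card_conj_smul _ _)
  exact (Subgroup.pointwise_smul_le_pointwise_smul_iff.2 hO).trans_eq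
    (Grp.mem_normalizer_iff_smul.1 (TransHyp.le_normalizer_piCoreOf E he))

namespace Pair

variable {S T W₁ W₂ : Subgroup G} (h : Pair S T W₁ W₂)
include h

/-- The overgroup of `U`. -/
theorem exists_overgroup {U : Subgroup G} (hU : Cfsg.IsSigmaDecomposition S W₁ U) (hU1 : U ≠ ⊥) :
    ∃ L : Subgroup G, IsCoatom L ∧ Cfsg.IsOfTypeI L ∧ U ≤ Cfsg.sigmaCore L ∧ S ⊓ L = U ⊔ W₁ ∧
      Cfsg.IsComplIn (L ⊓ T) (Cfsg.sigmaCore L) L ∧ ¬ L ≤ S ∧ centralizer (U : Set G) ≤ L ∧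
      W₁ ≤ L ⊓ T ∧ L ⊓ T ≤ normalizer (W₁ : Set G) ∧ Cfsg.PRankLE (Nat.card W₁) 1 ↥(L ⊓ T) := by
  obtain ⟨L, hL, hκ, hUL, hSL, hnS, hCL, hWF, hcompl⟩ := exists_over h.kp hU hU1
  have hWE : W₁ ≤ L ⊓ T := hWF.trans (fittingOf_le _)
  haveI := Fact.mk h.prime₁
  have hσ : Nat.card W₁ ∉ Cfsg.sigma L := fun hq => by
    refine (isPiHallOf_piCore h.hG hL (alpha_subset_sigma h.hG hL) Set.Subset.rfl).2.2 _ h.prime₁ hq ?_
    change _ ∣ (Cfsg.sigmaCore L).relIndex L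
    rw [(complIn_relIndex hcompl).2]
    exact card_dvd_of_le hWE
  have hr : Cfsg.PRankLE (Nat.card W₁) 1 ↥(L ⊓ T) :=
    prankLE_mono inf_le_left (prank_one_of_kappa_empty h.hG hL hκ h.prime₁ hσ)
  exact ⟨L, hL, typeI_of_kappa_empty h.hG hL hκ, hUL, hSL, hcompl, fun e => hnS (inf_le_left.trans e), hCL,
    hWE, le_normalizer_line h.hG hWF rfl hr, hr⟩

/-- The side of `S` with the overgroup of its `U`. -/
theorem side_over (hp : (Nat.card W₂).Prime) :
    ∃ U C L : Subgroup G, Side S (Cfsg.fittingHallOf S) U C W₁ W₂ (Nat.card W₂) (Nat.card W₁) ∧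
      IsCoatom L ∧ Cfsg.IsOfTypeI L ∧ U ≤ Cfsg.sigmaCore L ∧ S ⊓ L = U ⊔ W₁ ∧
      Cfsg.IsComplIn (L ⊓ T) (Cfsg.sigmaCore L) L ∧ ¬ L ≤ S ∧ centralizer (U : Set G) ≤ L ∧
      W₁ ≤ L ⊓ T ∧ L ⊓ T ≤ normalizer (W₁ : Set G) ∧ Cfsg.PRankLE (Nat.card W₁) 1 ↥(L ⊓ T) := by
  obtain ⟨U, hU, hU1⟩ := h.decomp_S
  have h1 := side_of_decomp h.kp hU hU1 (h.star.symm ▸ hp)
  rw [h.star] at h1
  obtain ⟨L, hL⟩ := h.exists_overgroup hU hU1
  exact ⟨U, _, L, h1, hL⟩

end Pair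

namespace Side

variable {M P U C A B : Subgroup G} {p q : ℕ} (hs : Side M P U C A B p q)
include hs

omit [Finite G] in
/-- `A` centralises `B`. -/
theorem commute_lines {a b : G} (ha : a ∈ A) (hb : b ∈ B) : Commute a b :=
  hs.self.2.2.2.1 a ha b hb

omit [Finite G] in
/-- `P` is commutative. -/
theorem comm_P {x y : G} (hx : x ∈ P) (hy : y ∈ P) : x * y = y * x :=
  congrArg Subtype.val (hs.elem.1.is_comm.comm (⟨x, hx⟩ : P) ⟨y, hy⟩)

omit [Finite G] in
/-- `U` normalises `C`. -/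
theorem U_le_normalizer_C : U ≤ normalizer (C : Set G) := by
  refine Grp.PiHall.le_normalizer_of_conj_mem fun e he c hc => ?_
  have h3 := C.mul_mem (hs.comm_quot (commutator_mem_commutator he (hs.C_lt.le hc))) hc
  rwa [commutatorElement_def, inv_mul_cancel_right] at h3

omit [Finite G] in
/-- `A` normalises `C`. -/
theorem A_le_normalizer_C : A ≤ normalizer (C : Set G) := by
  have hAP : A ≤ normalizer (P : Set G) := hs.compl₁.2.1.trans hs.norm_P
  rw [← hs.C_eq]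
  exact Grp.PiHall.le_normalizer_of_conj_mem fun a ha c hc =>
    ⟨Grp.mem_conj_normalizer (hs.norm_U ha) hc.1, mem_centralizer_iff.2 fun x hx => by
      have h1 := mem_centralizer_iff.1 hc.2 _ (Grp.mem_conj_normalizer' (hAP ha) hx)
      calc x * (a * c * a⁻¹) = a * (a⁻¹ * x * a * c) * a⁻¹ := by group
        _ = a * (c * (a⁻¹ * x * a)) * a⁻¹ := by rw [h1]
        _ = a * c * a⁻¹ * x := by group⟩

/-- An element of `U` centralising `B` lies in `C`. -/
theorem inf_centralizer_B : U ⊓ centralizer (B : Set G) ≤ C := by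
  set X := U ⊓ centralizer (B : Set G)
  have hCX : C ≤ X := le_inf hs.C_lt.le ((hs.C_eq.ge.trans inf_le_right).trans (centralizer_le hs.W₂_le))
  have hUX : U ≤ normalizer (X : Set G) := Grp.PiHall.le_normalizer_of_conj_mem fun u hu x hx => by
    have h3 := X.mul_mem (hCX (hs.comm_quot (commutator_mem_commutator hu hx.1))) hx
    rwa [commutatorElement_def, inv_mul_cancel_right] at h3
  have hAX : A ≤ normalizer (X : Set G) := Grp.PiHall.le_normalizer_of_conj_mem fun a ha x hx =>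
    ⟨Grp.mem_conj_normalizer (hs.norm_U ha) hx.1, mem_centralizer_iff.2 fun b hb => by
      have h1 : b * x = x * b := mem_centralizer_iff.1 hx.2 b hb
      have h2 : a * b = b * a := (hs.commute_lines ha hb).eq
      have h3 : b = a * b * a⁻¹ := by rw [h2, mul_inv_cancel_right]
      rw [h3, show a * b * a⁻¹ * (a * x * a⁻¹) = a * (b * x) * a⁻¹ by group, h1]
      group⟩
  have hY : P ⊓ centralizer (X : Set G) = P := by
    refine hs.irred _ inf_le_left (fun e => ?_) ?_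
    · refine hs.hp.ne_one ?_
      rw [← hs.card₂, le_bot_iff.1 ((le_inf hs.W₂_le (le_centralizer_iff.1 inf_le_right)).trans e.le), Subgroup.card_bot]
    · refine Grp.PiHall.le_normalizer_of_conj_mem fun g hg y hy => ?_
      have hgX : g ∈ normalizer (X : Set G) := sup_le hUX hAX hg
      have hgP : g ∈ normalizer (P : Set G) :=
        sup_le (hs.compl.2.1.trans (M.commutator_le_self.trans hs.norm_P)) (hs.compl₁.2.1.trans hs.norm_P) hg
      refine ⟨Grp.mem_conj_normalizer hgP hy.1, mem_centralizer_iff.2 fun x hx => ?_⟩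
      have h1 := mem_centralizer_iff.1 hy.2 _ (Grp.mem_conj_normalizer' hgX hx)
      calc x * (g * y * g⁻¹) = g * (g⁻¹ * x * g * y) * g⁻¹ := by group
        _ = g * (y * (g⁻¹ * x * g)) * g⁻¹ := by rw [h1]
        _ = g * y * g⁻¹ * x := by group
  rw [← hs.C_eq]
  exact le_inf inf_le_left (le_centralizer_iff.1 (inf_eq_left.1 hY))

/-- The normaliser of `B` in `U` is `C`. -/
theorem mem_C_of_normalizes_B {u : G} (hu : u ∈ U) (hB : u ∈ normalizer (B : Set G)) : u ∈ C := by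
  obtain ⟨a, ha, ha1⟩ := (bot_or_exists_ne_one A).resolve_left
    fun e => hs.hq.ne_one (by rw [← hs.card₁, e, Subgroup.card_bot])
  have hφ : ∀ v ∈ U, ∀ v' ∈ U, v⁻¹ * (a * v * a⁻¹) = v'⁻¹ * (a * v' * a⁻¹) → v = v' := fun v hv v' hv' e => by
    have h1 : v * v'⁻¹ ∈ U ⊓ centralizer ({a} : Set G) := ⟨U.mul_mem hv (U.inv_mem hv'),
      mem_centralizer_singleton_iff.2 <| calc
        v * v'⁻¹ * a = v * (v'⁻¹ * (a * v' * a⁻¹)) * a * v'⁻¹ := by group
        _ = v * (v⁻¹ * (a * v * a⁻¹)) * a * v'⁻¹ := by rw [e]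
        _ = a * (v * v'⁻¹) := by group⟩
    rwa [hs.free₁ a ha ha1, mem_bot, mul_inv_eq_one] at h1
  have hcU : u⁻¹ * (a * u * a⁻¹) ∈ U ⊓ centralizer (B : Set G) := by
    refine ⟨U.mul_mem (U.inv_mem hu) (Grp.mem_conj_normalizer (hs.norm_U ha) hu), mem_centralizer_iff.2 fun b hb => ?_⟩
    have hab : ∀ x ∈ B, a⁻¹ * x * a = x := fun x hx => by
      rw [mul_assoc, ← (hs.commute_lines ha hx).eq, inv_mul_cancel_left]
    have hub : a * (u * b * u⁻¹) = u * b * u⁻¹ * a :=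
      (hs.commute_lines ha (Grp.mem_conj_normalizer hB hb)).eq
    calc b * (u⁻¹ * (a * u * a⁻¹)) = u⁻¹ * (u * b * u⁻¹ * a) * u * a⁻¹ := by group
      _ = u⁻¹ * (a * (u * b * u⁻¹)) * u * a⁻¹ := by rw [hub]
      _ = u⁻¹ * (a * u * a⁻¹) * (a * b * a⁻¹) := by group
      _ = u⁻¹ * (a * u * a⁻¹) * b := by rw [(hs.commute_lines ha hb).eq, mul_inv_cancel_right]
  let φ : C → C := fun c => ⟨(c : G)⁻¹ * (a * c * a⁻¹),
    C.mul_mem (C.inv_mem c.2) (Grp.mem_conj_normalizer (hs.A_le_normalizer_C ha) c.2)⟩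
  have hinj : Function.Injective φ := fun c c' e =>
    Subtype.ext (hφ c (hs.C_lt.le c.2) c' (hs.C_lt.le c'.2) (congrArg Subtype.val e))
  obtain ⟨d, hd⟩ := Finite.injective_iff_surjective.1 hinj ⟨_, hs.inf_centralizer_B hcU⟩
  rw [← hφ d (hs.C_lt.le d.2) u hu (congrArg Subtype.val hd)]
  exact d.2

/-- A subgroup of `M` normalising `B`, of rank one at `p`. -/
theorem line_bound {E : Subgroup G} (hE : E ≤ M) (hBE : B ≤ E) (hN : E ≤ normalizer (B : Set G))
    (hr : Cfsg.PRankLE p 1 E) :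
    E ≤ (C ⊔ A) ⊔ P ∧ E ⊓ P = B ∧ Nat.card E ∣ p * (Nat.card C * q) ∧
      (C = ⊥ → Nat.card E = p ∨ (Nat.card E = p * q ∧ ∃ y ∈ P, A.map (MulAut.conj y).toMonoidHom ≤ E)) := by
  haveI := Fact.mk hs.hq
  haveI := Fact.mk hs.hp
  have hPB : P ≤ normalizer (B : Set G) := Grp.PiHall.le_normalizer_of_conj_mem fun y hy b hb => by
    rwa [hs.comm_P hy (hs.W₂_le hb), mul_inv_cancel_right]
  have hAB : A ≤ normalizer (B : Set G) := Grp.PiHall.le_normalizer_of_conj_mem fun a ha b hb => by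
    rwa [(hs.commute_lines ha hb).eq, mul_inv_cancel_right]
  have hle : E ≤ (C ⊔ A) ⊔ P := fun e he => by
    obtain ⟨m, hm, a, ha, rfl⟩ := hs.compl₁.2.2.2 e (hE he)
    obtain ⟨y, hy, u, hu, rfl⟩ := hs.compl.2.2.2 m hm
    have huN : u ∈ normalizer (B : Set G) := by
      rw [show u = y⁻¹ * (y * u * a) * a⁻¹ by group]
      exact mul_mem (mul_mem (inv_mem (hPB hy)) (hN he)) (inv_mem (hAB ha))
    exact mul_mem (mul_mem (mem_sup_right hy) (mem_sup_left (mem_sup_left (hs.mem_C_of_normalizes_B hu huN))))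
      (mem_sup_left (mem_sup_right ha))
  have hBle : B ≤ E ⊓ P := le_inf hBE hs.W₂_le
  have hEP : E ⊓ P = B := by
    have hcard : Nat.card ↥(E ⊓ P) ≤ p ^ 1 := by
      rw [← Nat.card_congr (subgroupOfEquivOfLe (inf_le_left : E ⊓ P ≤ E)).toEquiv]
      exact hr _ ⟨⟨fun x y => Subtype.ext (Subtype.ext (hs.comm_P x.2.2 y.2.2))⟩⟩
        fun x hx => Subtype.ext (hs.elem.2 _ hx.2)
    rw [pow_one, ← hs.card₂] at hcard
    exact (Subgroup.eq_of_le_of_card_ge hBle hcard).symm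
  have hAC : Nat.card ↥(A ⊔ C) ∣ q * Nat.card C := hs.card₁ ▸ Grp.card_sup_dvd_mul hs.A_le_normalizer_C
  have hACP : C ⊔ A ≤ normalizer (P : Set G) :=
    sup_le ((hs.C_lt.le.trans hs.compl.2.1).trans (M.commutator_le_self.trans hs.norm_P))
      (hs.compl₁.2.1.trans hs.norm_P)
  have hd : Nat.card E ∣ p * (Nat.card C * q) := by
    refine Nat.dvd_of_mul_dvd_mul_right (Nat.card_pos (α := P)) ?_
    rw [← Grp.card_sup_mul_card_inf (hE.trans hs.norm_P), hEP, hs.card₂]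
    refine (mul_dvd_mul_right ((card_dvd_of_le (sup_le hle le_sup_right)).trans
      (Grp.card_sup_dvd_mul hACP)) p).trans ?_
    rw [sup_comm C A]
    refine (mul_dvd_mul_right (mul_dvd_mul_right hAC _) p).trans (dvd_of_eq ?_)
    ring
  refine ⟨hle, hEP, hd, fun hC => ?_⟩
  rw [hC, Subgroup.card_bot, one_mul] at hd
  obtain ⟨k, hk⟩ := hs.card₂ ▸ card_dvd_of_le hBE
  rw [hk] at hd
  rcases (Nat.dvd_prime hs.hq).1 (Nat.dvd_of_mul_dvd_mul_left hs.hp.pos hd) with rfl | rfl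
  · exact Or.inl (by rw [hk, mul_one])
  refine Or.inr ⟨hk, ?_⟩
  obtain ⟨e, he⟩ := exists_prime_orderOf_dvd_card' (G := E) k (hk ▸ dvd_mul_left k p)
  set W := zpowers (e : G)
  have hWc : Nat.card W = k := by rw [Nat.card_zpowers, Subgroup.orderOf_coe, he]
  rw [hC, bot_sup_eq] at hle
  have hcopAP : (Nat.card A).Coprime (Nat.card P) := by
    rw [hs.card₁, hs.card_P]
    exact ((Nat.coprime_primes hs.hq hs.hp).2 hs.hpq.symm).pow_right _
  have hR : Nat.card ↥(A ⊔ P) = Nat.card A * Nat.card P :=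
    Grp.card_sup_coprime (hs.compl₁.2.1.trans hs.norm_P) hcopAP
  have hsyl : ∀ X : Subgroup G, X ≤ A ⊔ P → Nat.card X = k → Grp.IsSylowIn k X (A ⊔ P) := fun X hX hXc => by
    refine ⟨hX, IsPGroup.of_card (n := 1) (hXc.trans (pow_one k).symm), fun hd' => ?_⟩
    have h1 := Grp.card_mul_relIndex hX
    rw [hR, hXc, hs.card₁] at h1
    rw [Nat.eq_of_mul_eq_mul_left hs.hq.pos h1, ← hs.card₁] at hd'
    exact hs.hq.ne_one (hs.card₁ ▸ Nat.eq_one_of_dvd_coprimes hcopAP dvd_rfl hd')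
  obtain ⟨g, hg, hgW⟩ := (hsyl A le_sup_left hs.card₁).conj
    (hsyl W (zpowers_le.2 (hle e.2)) hWc)
  rw [sup_comm, ← SetLike.mem_coe,
    Subgroup.coe_mul_of_right_le_normalizer_left P A (hs.compl₁.2.1.trans hs.norm_P)] at hg
  obtain ⟨y, hy, a, ha, rfl⟩ := hg
  refine ⟨y, hy, ?_⟩
  change MulAut.conj y • A ≤ E
  rw [map_mul, mul_smul, Grp.conj_smul_eq_self_of_mem ha] at hgW
  rw [hgW]
  exact zpowers_le.2 e.2

end Side

end Cfsg.Agent.Grp.FT
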