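import Cfsg.Agent.Lib.Grp.FT.MuBound
import Cfsg.Agent.Lib.Grp.FT.SetupOver
import Cfsg.Agent.S1363

/-!
The coordinates of a member as sums over the grid and the inequality coming from one grid member.
-/

set_option autoImplicit false
set_option linter.unusedSectionVars false
set_option linter.style.haveILetI false
set_option maxHeartbeats 1000000

namespace Cfsg.Agent.Grp.FT

open Subgroup Cfsg.Agent.Char Cfsg.Agent.Transfer Cfsg.Agent.Transfer.Loc
open scoped ComplexConjugate Pointwise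

attribute [local instance] _root_.Classical.propDecidable

universe u

variable {G : Type u} [Group G] [Fintype G] {W₁ W₂ : Subgroup G}

namespace Member

variable (N : Member G) (E : Grid W₁ W₂) (hodd : Odd (Nat.card G)) (hd : Disjoint N.reg (mixed W₁ W₂))
  [Fintype (↥W₁ →* ℂˣ)]
include hodd hd

/-- A column sum of `beta`. -/
theorem sum_col (h1 : (Nat.card W₁).Prime) {f : ↥W₁ →* ℂˣ} (hf : f ≠ 1) (g : ↥W₂ →* ℂˣ) :
    ∑ i, E.coef N.beta i g = E.coef N.beta 1 g +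
      ((Nat.card W₁ : ℤ) - 1) * (E.coef N.beta f 1 + E.coef N.beta 1 g - 1) := by
  rw [← Finset.add_sum_erase _ _ (Finset.mem_univ (1 : ↥W₁ →* ℂˣ)),
    Finset.sum_congr rfl (g := fun _ => E.coef N.beta f 1 + E.coef N.beta 1 g - 1) fun i hi => by
      rw [N.coef_add E hd i g, N.coef_left_const E hodd hd h1 (Finset.ne_of_mem_erase hi) hf],
    Finset.sum_const, Finset.card_erase_of_mem (Finset.mem_univ _), Finset.card_univ, nsmul_eq_mul, E.card_left,
    Nat.cast_sub h1.one_le, Nat.cast_one]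

theorem sum_col_const (h1 : (Nat.card W₁).Prime) (h2 : (Nat.card W₂).Prime) {g g' : ↥W₂ →* ℂˣ} (hg : g ≠ 1)
    (hg' : g' ≠ 1) : ∑ i, E.coef N.beta i g' = ∑ i, E.coef N.beta i g := by
  obtain ⟨f, hf⟩ : ∃ f : ↥W₁ →* ℂˣ, f ≠ 1 :=
    Fintype.exists_ne_of_one_lt_card (by rw [E.card_left]; exact h1.one_lt) 1
  rw [N.sum_col E hodd hd h1 hf g', N.sum_col E hodd hd h1 hf g, N.coef_right_const E hodd hd h2 hg' hg]

/-- A column sum is nonzero when the first coordinate vanishes. -/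
theorem sum_col_ne (h1 : (Nat.card W₁).Prime) {f : ↥W₁ →* ℂˣ} (hf : f ≠ 1) (h0 : E.coef N.beta f 1 = 0)
    (g : ↥W₂ →* ℂˣ) : ∑ i, E.coef N.beta i g ≠ 0 := by
  intro e
  rw [N.sum_col E hodd hd h1 hf g, h0] at e
  have hd' : ((Nat.card W₁ : ℕ) : ℤ) ∣ ((1 : ℕ) : ℤ) := ⟨1 - E.coef N.beta 1 g, by push_cast; linarith⟩
  exact h1.ne_one (Nat.dvd_one.1 (Int.natCast_dvd_natCast.1 hd'))

/-- The sum of the squares over the grid. -/
theorem grid_sum [Fintype (↥W₂ →* ℂˣ)] (h1 : (Nat.card W₁).Prime) (h2 : (Nat.card W₂).Prime) {f : ↥W₁ →* ℂˣ}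
    (hf : f ≠ 1) {g : ↥W₂ →* ℂˣ} (hg : g ≠ 1) :
    ∑ j, ∑ i, E.coef N.beta i j ^ 2 = 1 + ((Nat.card W₁ : ℤ) - 1) * E.coef N.beta f 1 ^ 2 +
      ((Nat.card W₂ : ℤ) - 1) * (E.coef N.beta 1 g ^ 2 +
        ((Nat.card W₁ : ℤ) - 1) * (E.coef N.beta f 1 + E.coef N.beta 1 g - 1) ^ 2) := by
  have hcol : ∀ j, ∑ i, E.coef N.beta i j ^ 2 = E.coef N.beta 1 j ^ 2 +
      ((Nat.card W₁ : ℤ) - 1) * (E.coef N.beta f 1 + E.coef N.beta 1 j - 1) ^ 2 := fun j => by
    rw [← Finset.add_sum_erase _ _ (Finset.mem_univ (1 : ↥W₁ →* ℂˣ)),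
      Finset.sum_congr rfl (g := fun _ => (E.coef N.beta f 1 + E.coef N.beta 1 j - 1) ^ 2) fun i hi => by
        rw [N.coef_add E hd i j, N.coef_left_const E hodd hd h1 (Finset.ne_of_mem_erase hi) hf],
      Finset.sum_const, Finset.card_erase_of_mem (Finset.mem_univ _), Finset.card_univ, nsmul_eq_mul, E.card_left,
      Nat.cast_sub h1.one_le, Nat.cast_one]
  rw [← Finset.add_sum_erase _ _ (Finset.mem_univ (1 : ↥W₂ →* ℂˣ)), hcol 1, N.coef_one E,
    Finset.sum_congr rfl (g := fun _ => E.coef N.beta 1 g ^ 2 +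
      ((Nat.card W₁ : ℤ) - 1) * (E.coef N.beta f 1 + E.coef N.beta 1 g - 1) ^ 2) fun j hj => by
      rw [hcol, N.coef_right_const E hodd hd h2 (Finset.ne_of_mem_erase hj) hg],
    Finset.sum_const, Finset.card_erase_of_mem (Finset.mem_univ _), Finset.card_univ, nsmul_eq_mul, E.swap.card_left,
    Nat.cast_sub h2.one_le, Nat.cast_one]
  ring

end Member

/-- An abelian group is its own abelianisation. -/
theorem comm_relIndex {C : Subgroup G} (h : ∀ x ∈ C, ∀ y ∈ C, x * y = y * x) : (⁅C, C⁆).relIndex C = Nat.card C := by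
  have e : ⁅C, C⁆ = ⊥ := by
    rw [eq_bot_iff, Subgroup.commutator_le]
    intro x hx y hy
    rw [mem_bot, commutatorElement_def, h x hx y hy]
    group
  rw [e, Subgroup.relIndex_bot_left]

namespace Pair

variable {S T : Subgroup G} (h : Pair S T W₁ W₂)
include h

/-- The side of `S` with abelian complement and the overgroup of it. -/
theorem side_over_comm (hp : (Nat.card W₂).Prime) :
    ∃ U C L : Subgroup G, Side S (Cfsg.fittingHallOf S) U C W₁ W₂ (Nat.card W₂) (Nat.card W₁) ∧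
      (∀ x ∈ U, ∀ y ∈ U, x * y = y * x) ∧
      IsCoatom L ∧ Cfsg.IsOfTypeI L ∧ U ≤ Cfsg.sigmaCore L ∧ S ⊓ L = U ⊔ W₁ ∧
      Cfsg.IsComplIn (L ⊓ T) (Cfsg.sigmaCore L) L ∧ ¬ L ≤ S ∧ centralizer (U : Set G) ≤ L ∧
      W₁ ≤ L ⊓ T ∧ L ⊓ T ≤ normalizer (W₁ : Set G) ∧ Cfsg.PRankLE (Nat.card W₁) 1 ↥(L ⊓ T) := by
  obtain ⟨U, hU, hU1⟩ := h.decomp_S
  have h1 := side_of_decomp h.kp hU hU1 (h.star.symm ▸ hp)
  rw [h.star] at h1
  obtain ⟨hab, -⟩ := Cfsg.Agent.S1363.result h.hG S h.hS W₁ U hU h.W₁_ne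
  obtain ⟨L, hL⟩ := h.exists_overgroup hU hU1
  exact ⟨U, _, L, h1, fun x hx y hy => congrArg Subtype.val (hab.is_comm.comm ⟨x, hx⟩ ⟨y, hy⟩), hL⟩

variable {𝓛 : Finset (Subgroup G)} (hc : Cover S T W₁ W₂ 𝓛) {U C : Subgroup G} {p q : ℕ}
  (hs : Side S (Cfsg.fittingHallOf S) U C W₁ W₂ p q)

omit h in
/-- The order of a side. -/
theorem card_side {M P : Subgroup G} (hs : Side M P U C W₁ W₂ p q) :
    Nat.card M = p ^ q * (C.relIndex U * Nat.card C) * q ∧ Nat.card U = C.relIndex U * Nat.card C := by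
  have hU : Nat.card U = C.relIndex U * Nat.card C := by
    rw [← Grp.card_mul_relIndex hs.C_lt.le, mul_comm]
  exact ⟨by rw [hs.card_M, hs.card_PC]; ring, hU⟩

include hs

/-- The measure of the region of `S`. -/
theorem meas_S_le : meas S ≤ 1 / ((q : ℝ) * C.relIndex U * Nat.card C) := by
  have h0 : Nat.card (Cfsg.sigmaCore S) = p ^ q := by rw [h.sigmaCore_S, hs.card_P]
  rw [meas, h0, (card_side hs).1]
  have hp : (0 : ℝ) < (p : ℝ) ^ q := pow_pos (Nat.cast_pos.2 hs.hp.pos) q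
  have hq : (0 : ℝ) < q := Nat.cast_pos.2 hs.hq.pos
  have hu : (0 : ℝ) < C.relIndex U := Nat.cast_pos.2 (Nat.pos_of_ne_zero Subgroup.index_ne_zero_of_finite)
  have hc : (0 : ℝ) < Nat.card C := Nat.cast_pos.2 Nat.card_pos
  push_cast
  rw [div_le_div_iff₀ (by positivity) (by positivity)]
  nlinarith [mul_pos (mul_pos hq hu) hc]

/-- The reciprocal of the order of `G`. -/
theorem inv_card_le : (Nat.card G : ℝ)⁻¹ ≤ 1 / ((p : ℝ) ^ q * C.relIndex U * Nat.card C * q) := by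
  rw [one_div]
  refine inv_anti₀ ?_ ?_
  · have := hs.hp.pos; have := hs.hq.pos
    have : 0 < C.relIndex U := Nat.pos_of_ne_zero Subgroup.index_ne_zero_of_finite
    have : (0 : ℕ) < Nat.card C := Nat.card_pos
    positivity
  · have := (card_side hs).1 ▸ Nat.le_of_dvd Nat.card_pos (Subgroup.card_subgroup_dvd_card S)
    calc (p : ℝ) ^ q * C.relIndex U * Nat.card C * q = ((p ^ q * (C.relIndex U * Nat.card C) * q : ℕ) : ℝ) := by
          push_cast; ring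
      _ ≤ (Nat.card G : ℝ) := by exact_mod_cast this

variable [Fintype S] (E : Grid W₁ W₂)
include hc

/-- The inequality from a grid member off the first column. -/
theorem ineq_one (f₀ : ↥W₁ →* ℂˣ) {g₀ : ↥W₂ →* ℂˣ} (hg₀ : g₀ ≠ 1) :
    (q : ℝ)⁻¹ * (1 - (C.relIndex U : ℝ) / weight S (Cfsg.fittingHallOf S) U C p) ≤
      meas S + (meas T - energy (reg T) (E.eta f₀ g₀)) + (Nat.card G : ℝ)⁻¹ +
        ∑ L, if E.coef (hc.mem h.hG L).beta f₀ g₀ = 0 then meas L.1 else 0 := by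
  have h1 := h.eta_fluct hc hs E f₀ hg₀
  have h2 := h.total hc (E.eta f₀ g₀)
  rw [E.norm_one, Complex.one_re, h.energy_mixed E f₀ g₀] at h2
  have h3 := h.measure_eq hc
  rw [← Finset.sum_coe_sort 𝓛] at h3
  have h4 : ∑ L : {L // L ∈ 𝓛}, meas L.1 ≤ (∑ L, (E.coef (hc.mem h.hG L).beta f₀ g₀ : ℝ) ^ 2 * meas L.1) +
      ∑ L, if E.coef (hc.mem h.hG L).beta f₀ g₀ = 0 then meas L.1 else 0 := by
    rw [← Finset.sum_add_distrib]
    refine Finset.sum_le_sum fun L _ => ?_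
    split_ifs with hz
    · rw [hz]; simp
    · rw [add_zero]
      refine le_mul_of_one_le_left (meas_nonneg _) ?_
      have h5 := Int.one_le_abs hz
      have h6 : (1 : ℤ) ≤ E.coef (hc.mem h.hG L).beta f₀ g₀ ^ 2 := by nlinarith [sq_abs (E.coef (hc.mem h.hG L).beta f₀ g₀)]
      exact_mod_cast h6
  have e : (1 - (Nat.card W₁ : ℝ)⁻¹) * (1 - (Nat.card W₂ : ℝ)⁻¹) =
      1 - ((Nat.card W₁ : ℝ)⁻¹ + (Nat.card W₂ : ℝ)⁻¹ - ((Nat.card W₁ : ℝ) * Nat.card W₂)⁻¹) := by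
    rw [mul_inv]; ring
  rw [e] at h2
  linarith

/-- The members whose first coordinate vanishes. -/
theorem zero_le [Fintype (↥W₁ →* ℂˣ)] (hne : (regChar S (Cfsg.fittingHallOf S) C).Nonempty) {f : ↥W₁ →* ℂˣ}
    (hf : f ≠ 1) :
    (∑ L, if E.coef (hc.mem h.hG L).beta f 1 = 0 then meas L.1 else 0) ≤
      (q : ℝ) * C.relIndex U / weight S (Cfsg.fittingHallOf S) U C p := by
  letI : Fintype (↥(Cfsg.fittingHallOf S ⊔ C) →* ℂˣ) := Fintype.ofFinite _
  obtain ⟨g, hg, -⟩ := hs.exists_third E (g := 1)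
  have h1 : (Nat.card W₁).Prime := h.prime₁
  have h2 : (Nat.card W₂).Prime := hs.card₂ ▸ hs.hp
  refine le_trans (Finset.sum_le_sum fun L _ => ?_)
    (h.X_bound hc hs E hne hg fun L g' hg' => (hc.mem h.hG L).sum_col_const E h.hG.1 (h.mem_disjoint_mixed hc hs L)
      h1 h2 hg hg')
  split_ifs with hz
  · refine le_mul_of_one_le_left (meas_nonneg _) ?_
    have h3 := Int.one_le_abs ((hc.mem h.hG L).sum_col_ne E h.hG.1 (h.mem_disjoint_mixed hc hs L) h1 hf hz g)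
    have h4 : (1 : ℤ) ≤ (∑ i, E.coef (hc.mem h.hG L).beta i g) ^ 2 := by
      nlinarith [sq_abs (∑ i, E.coef (hc.mem h.hG L).beta i g)]
    exact_mod_cast h4
  · exact mul_nonneg (sq_nonneg _) (meas_nonneg _)

/-- All members together weigh at most `1/q + 1/p`. -/
theorem sum_meas_le : ∑ L : {L // L ∈ 𝓛}, meas L.1 ≤ (q : ℝ)⁻¹ + (p : ℝ)⁻¹ := by
  have h3 := h.measure_eq hc
  rw [← Finset.sum_coe_sort 𝓛, hs.card₁, hs.card₂] at h3
  have := meas_nonneg S
  have := meas_nonneg T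
  have : 0 ≤ (Nat.card G : ℝ)⁻¹ := by positivity
  have : 0 ≤ ((q : ℝ) * p)⁻¹ := by positivity
  linarith

end Pair

end Cfsg.Agent.Grp.FT
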