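import Cfsg.Agent.Lib.Transfer.Local.KappaPair
import Cfsg.Agent.Lib.Transfer.Local.SigmaTilde
import Cfsg.Prelude.Def_OddOrderChar

/-!
Common data for the end of the odd order theorem: the pair `S`, `T` with `S` of type II, one "side" of the
pair, and the covering family of maximal subgroups of type I.
-/

set_option autoImplicit false

namespace Cfsg.Agent.Grp.FT

open Subgroup Cfsg.Agent.Transfer.Loc

universe u

variable {G : Type u} [Group G]

/-- The pair `(S, T)` with `S ⊓ T = W₁ × W₂`, `S` of type II and `W₁` of prime order. -/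
structure Pair [Finite G] (S T W₁ W₂ : Subgroup G) : Prop where
  kp : KappaPair S W₁ T
  star : kStar S W₁ = W₂
  typeII : Cfsg.IsOfTypeII S
  prime₁ : (Nat.card W₁).Prime

/-- One side: `M' = P ⋊ U` with `U/C` abelian, `P` elementary of order `p ^ q`, irreducible under `U W₁`, and
`F(M) = P × C` a TI subset. -/
structure Side (M P U C W₁ W₂ : Subgroup G) (p q : ℕ) : Prop where
  hG : Cfsg.IsMinSimpleOddOrder G
  hM : IsCoatom M
  hp : p.Prime
  hq : q.Prime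
  hpq : p ≠ q
  card₁ : Nat.card W₁ = q
  card₂ : Nat.card W₂ = p
  self : Cfsg.IsSelfNormalizingCyclic W₁ W₂
  elem : Cfsg.IsElementaryAbelian p P
  card_P : Nat.card P = p ^ q
  W₂_le : W₂ ≤ P
  norm_P : M ≤ normalizer (P : Set G)
  compl : Cfsg.IsComplIn P U ⁅M, M⁆
  compl₁ : Cfsg.IsComplIn ⁅M, M⁆ W₁ M
  fix : ∀ x ∈ W₁, x ≠ 1 → ⁅M, M⁆ ⊓ centralizer ({x} : Set G) = W₂
  nilp_U : Group.IsNilpotent U
  comm_quot : ⁅U, U⁆ ≤ C
  norm_U : W₁ ≤ normalizer (U : Set G)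
  free₁ : ∀ x ∈ W₁, x ≠ 1 → U ⊓ centralizer ({x} : Set G) = ⊥
  coprime : (Nat.card U).Coprime p
  coprime₁ : (Nat.card U).Coprime q
  C_eq : U ⊓ centralizer (P : Set G) = C
  C_lt : C < U
  irred : ∀ X : Subgroup G, X ≤ P → X ≠ ⊥ → U ⊔ W₁ ≤ normalizer (X : Set G) → X = P
  fit : Cfsg.fittingOf M = P ⊔ C
  ti : Cfsg.IsTISubset (Cfsg.fittingOf M : Set G)

/-- The tilde set of `M_σ \ 1`. -/
noncomputable def reg (M : Subgroup G) : Set G := Cfsg.tildeOf M ((Cfsg.sigmaCore M : Set G) \ {1})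

/-- The mixed elements of `W₁ × W₂` and their conjugates. -/
def mixed (W₁ W₂ : Subgroup G) : Set G :=
  {g | ∃ y : G, ∃ z ∈ ((↑(W₁ ⊔ W₂) : Set G) \ ((W₁ : Set G) ∪ ↑W₂)), g = y * z * y⁻¹}

/-- A family of representatives of the maximal subgroups not conjugate to `S` or `T`, all of type I. -/
structure Cover (S T W₁ W₂ : Subgroup G) (𝓛 : Finset (Subgroup G)) : Prop where
  coatom : ∀ L ∈ 𝓛, IsCoatom L
  typeI : ∀ L ∈ 𝓛, Cfsg.IsOfTypeI L
  complete : ∀ L : Subgroup G, IsCoatom L → Cfsg.IsOfTypeI L → ∃ c : G, L.map (MulAut.conj c).toMonoidHom ∈ 𝓛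
  cover : ∀ g : G, g ≠ 1 → g ∈ mixed W₁ W₂ ∨ g ∈ reg S ∨ g ∈ reg T ∨ ∃ L ∈ 𝓛, g ∈ reg L
  disjoint : ∀ A ∈ (insert S (insert T (↑𝓛 : Set (Subgroup G)))),
    ∀ B ∈ (insert S (insert T (↑𝓛 : Set (Subgroup G)))), A ≠ B → Disjoint (reg A) (reg B)
  disjoint_mixed : ∀ A ∈ (insert S (insert T (↑𝓛 : Set (Subgroup G)))), Disjoint (reg A) (mixed W₁ W₂)

end Cfsg.Agent.Grp.FT
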