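import Cfsg.Agent.Lib.Grp.FT.Combine

/-!
The budget of a member against one other member, and the energy of the distinguished image on its own region.
-/

set_option autoImplicit false
set_option linter.unusedSectionVars false
set_option linter.style.haveILetI false
set_option maxHeartbeats 1000000

namespace Cfsg.Agent.Grp.FT

open Cfsg Cfsg.Agent.Char
open scoped ComplexConjugate

attribute [local instance] _root_.Classical.propDecidable

universe u

variable {G : Type u} [Group G] [Fintype G] {W₁ W₂ : Subgroup G}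

namespace Member

variable (M : Member G) (E : Grid W₁ W₂) (hodd : Odd (Nat.card G)) (hd : Disjoint M.reg (mixed W₁ W₂))
  [Fintype (↥W₁ →* ℂˣ)] [Fintype (↥W₂ →* ℂˣ)]

theorem own_ge : (1 : ℤ) ≤ (M.n : ℤ) * M.g M ^ 2 - 2 * M.g M + 1 := by
  have hn : (2 : ℤ) ≤ M.n := by exact_mod_cast M.two_le_n
  rcases le_or_gt (M.g M) 0 with h | h
  · nlinarith [mul_nonneg (show (0 : ℤ) ≤ M.n by linarith) (sq_nonneg (M.g M))]
  · have h1 : 0 ≤ ((M.n : ℤ) - 2) * M.g M ^ 2 := mul_nonneg (by linarith) (sq_nonneg _)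
    have h2 : 0 ≤ M.g M * (M.g M - 1) := mul_nonneg h.le (by omega)
    nlinarith

/-- A vanishing own coordinate is forced by equality when `n ≥ 3`. -/
theorem own_eq (hn : 3 ≤ M.n) (h : (M.n : ℤ) * M.g M ^ 2 - 2 * M.g M + 1 ≤ 1) : M.g M = 0 := by
  have hn' : (3 : ℤ) ≤ M.n := by exact_mod_cast hn
  by_contra hne
  have h1 : 1 ≤ M.g M ^ 2 := by have := Int.one_le_abs hne; nlinarith [sq_abs (M.g M)]
  have h2 : 0 ≤ ((M.n : ℤ) - 3) * M.g M ^ 2 := mul_nonneg (by linarith) (sq_nonneg _)
  rcases lt_or_gt_of_ne hne with h3 | h3 <;> nlinarith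

include hodd hd

/-- The grid part and the own part. -/
theorem budget_self : ∑ g, ∑ f, E.coef M.beta f g ^ 2 + ((M.n : ℤ) * M.g M ^ 2 - 2 * M.g M + 1) ≤ (M.e : ℤ) + 1 := by
  have h := M.budget E hodd hd (κ := Empty) (fun k => k.elim) (fun k => k.elim) (fun k => k.elim) fun k => k.elim
  simpa using h

/-- The grid part, the own part and another member. -/
theorem budget_one (N : Member G) (hN : Disjoint M.reg N.reg) (hNV : Disjoint N.reg (mixed W₁ W₂)) :
    ∑ g, ∑ f, E.coef M.beta f g ^ 2 + ((M.n : ℤ) * M.g M ^ 2 - 2 * M.g M + 1) + (N.n : ℤ) * M.g N ^ 2 ≤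
      (M.e : ℤ) + 1 := by
  have h := M.budget E hodd hd (κ := Unit) (fun _ => N) (fun _ => hN) (fun k l hkl => absurd (Subsingleton.elim k l) hkl)
    fun _ => hNV
  simpa using h

theorem budget_one' (N : Member G) (hN : Disjoint M.reg N.reg) (hNV : Disjoint N.reg (mixed W₁ W₂))
    (hne : M.g N ≠ 0) : ∑ g, ∑ f, E.coef M.beta f g ^ 2 + (N.n : ℤ) ≤ (M.e : ℤ) := by
  have h := M.budget_one E hodd hd N hN hNV
  have h1 := M.own_ge
  have h2 : (1 : ℤ) ≤ M.g N ^ 2 := by have := Int.one_le_abs hne; nlinarith [sq_abs (M.g N)]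
  have h3 : (N.n : ℤ) ≤ (N.n : ℤ) * M.g N ^ 2 := le_mul_of_one_le_right (Int.natCast_nonneg _) h2
  linarith

omit hodd hd in
/-- The value of the distinguished image against the basic function of another member. -/
theorem inner_Z_beta (N : Member G) (hN : Disjoint M.reg N.reg) :
    classInner (M.Z M.i₀) N.beta = (N.g M : ℂ) := by
  rw [← classInner_conj_symm, N.beta_cross M hN.symm M.i₀, M.d₀, Nat.cast_one, one_mul, map_intCast]

omit hodd hd in
/-- The energy of the distinguished image on the region of another member. -/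
theorem cross_energy (N : Member G) (hN : Disjoint M.reg N.reg) (hg : N.g M ≠ 0) :
    (N.n : ℝ) / (N.e * N.n + 1) ≤ energy N.reg (M.Z M.i₀) := by
  have h := N.value_le' (IsGenChar.classFun (M.Z_gen M.i₀)) fun i => by
    rw [M.Z_cross N hN, M.Z_cross N hN, mul_zero]
  rw [M.inner_Z_beta N hN, Complex.normSq_intCast] at h
  refine le_trans (le_mul_of_one_le_left (by positivity) ?_) h
  have h1 := Int.one_le_abs hg
  have h2 : (1 : ℤ) ≤ N.g M * N.g M := by nlinarith [abs_mul_abs_self (N.g M)]
  exact_mod_cast h2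

omit hodd hd in
/-- The energy of the distinguished image on its own region. -/
theorem own_energy (hg : M.g M = 0) :
    1 - (M.e : ℝ) / (M.e * M.n + 1) ≤ energy M.reg (M.Z M.i₀) := by
  have hχ := IsGenChar.classFun (M.Z_gen M.i₀)
  set ψ := avgA M.A M.L M.R (M.Z M.i₀) with hψdef
  have hψE : (classInner ψ ψ).re ≤ energy M.reg (M.Z M.i₀) :=
    le_trans (le_add_of_nonneg_right (energy_nonneg _ _)) (energy_supp M.hD hχ (F := ∅) (Set.empty_subset _))
  have key : ∀ α, Supp M.A M.L α → classInner ψ α = classInner (M.Z M.i₀) (M.tau α) := fun α hα => by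
    rw [← classInner_conj_symm, ← dade_inner M.hD hα hχ, classInner_conj_symm]
    rfl
  have hb : classInner ψ (M.base - M.xi M.i₀) = -1 := by
    rw [key _ M.base_supp]
    show classInner (M.Z M.i₀) M.beta = -1
    have h1 : classInner M.delta (M.Z M.i₀) = (M.g M : ℂ) := zInner_spec M.delta_gen (M.Z_gen _)
    have h2 : classInner (fun _ : G => (1 : ℂ)) (M.Z M.i₀) = 0 := by rw [← classInner_conj_symm, M.Z_one, map_zero]
    rw [delta, classInner_add_left, classInner_sub_left, h2, M.Z_norm, hg, Int.cast_zero, sub_zero] at h1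
    rw [← classInner_conj_symm, show classInner M.beta (M.Z M.i₀) = -1 by linear_combination h1]
    simp
  have hx : ∀ i, classInner ψ (M.xi i - (M.d i : ℂ) • M.xi M.i₀) = (if i = M.i₀ then 1 else 0) - (M.d i : ℂ) := by
    intro i
    rw [key _ (M.xi_supp i), tau, M.Z_diff]
    simp only [classInner_sub_right, classInner_smul_right, map_natCast, M.Z_orth, if_true, mul_one]
    congr 1
    exact if_congr eq_comm rfl rfl
  set H : ℝ := (M.e : ℝ) * M.n + 1 with hH
  have hH0 : 0 < H := by positivity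
  have hHC : (H : ℂ) ≠ 0 := Complex.ofReal_ne_zero.2 hH0.ne'
  set v : M.L → ℂ := (-(1 / H : ℝ) : ℂ) • (M.base - M.xi M.i₀) +
    ∑ i, (-((M.e : ℝ) / H * M.d i : ℝ) : ℂ) • (M.xi i - (M.d i : ℂ) • M.xi M.i₀) with hv
  have hnC : ∑ i, (M.d i : ℂ) ^ 2 = (M.n : ℂ) := by exact_mod_cast M.sum_d
  have hHe : (H : ℂ) = (M.e : ℂ) * M.n + 1 := by rw [hH]; push_cast; rfl
  have hsum1 : ∑ i, (M.d i : ℂ) * ((if i = M.i₀ then 1 else 0) - (M.d i : ℂ)) = 1 - (M.n : ℂ) := by
    simp only [mul_sub, Finset.sum_sub_distrib, ← pow_two, hnC, mul_ite, mul_one, mul_zero, Finset.sum_ite_eq',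
      Finset.mem_univ, if_true, M.d₀, Nat.cast_one]
  have hψv : classInner ψ v = ((1 - (M.e : ℝ) / H : ℝ) : ℂ) := by
    simp only [hv, classInner_add_right, classInner_smul_right, classInner_sum_right, hb, hx, map_neg, Complex.conj_ofReal]
    push_cast
    rw [Finset.sum_congr rfl fun i _ => show -((M.e : ℂ) / H * M.d i) * ((if i = M.i₀ then 1 else 0) - (M.d i : ℂ)) =
      -((M.e : ℂ) / H) * ((M.d i : ℂ) * ((if i = M.i₀ then 1 else 0) - (M.d i : ℂ))) by ring, ← Finset.mul_sum, hsum1]
    field_simp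
    rw [hHe]
    ring
  have hxb : ∀ j, classInner M.base (M.xi j) = 0 := fun j => by rw [← classInner_conj_symm, M.xi_base, map_zero]
  have hvx : ∀ k, classInner v (M.xi k) = (if k = M.i₀ then 1 else 0) - (M.e : ℂ) / H * M.d k := by
    intro k
    simp only [hv, classInner_add_left, classInner_smul_left, classInner_sum_left, classInner_sub_left, hxb,
      M.xi_orth, zero_sub]
    have e1 : ∀ i, ((-((M.e : ℝ) / H * M.d i : ℝ) : ℂ)) * ((if i = k then 1 else 0) - (M.d i : ℂ) * if M.i₀ = k then 1 else 0) =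
        (if i = k then -((M.e : ℂ) / H * M.d k) else 0) + (M.d i : ℂ) ^ 2 * ((M.e : ℂ) / H * if M.i₀ = k then 1 else 0) :=
      fun i => by
        push_cast
        split_ifs with h1 h2 h2
        all_goals first
          | (subst h1; ring)
          | ring
    rw [Finset.sum_congr rfl fun i _ => e1 i, Finset.sum_add_distrib, Finset.sum_ite_eq', if_pos (Finset.mem_univ k),
      ← Finset.sum_mul, hnC]
    push_cast
    by_cases hk : k = M.i₀
    · subst hk
      simp only [if_true, M.d₀, Nat.cast_one]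
      field_simp
      rw [hHe]
      ring
    · rw [if_neg hk, if_neg (Ne.symm hk)]
      ring
  have hvbase : classInner v M.base = -((M.e : ℂ) / H) := by
    simp only [hv, classInner_add_left, classInner_smul_left, classInner_sum_left, classInner_sub_left,
      M.base_norm, M.xi_base, sub_zero, mul_zero, Finset.sum_const_zero, add_zero]
    push_cast
    field_simp
  have hvv : classInner v v = ((1 - (M.e : ℝ) / H : ℝ) : ℂ) := by
    have hvb : classInner v (M.base - M.xi M.i₀) = -1 := by
      rw [classInner_sub_right, hvbase, hvx, if_pos rfl, M.d₀, Nat.cast_one, mul_one]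
      ring
    have hvi : ∀ j, classInner v (M.xi j - (M.d j : ℂ) • M.xi M.i₀) = (if j = M.i₀ then 1 else 0) - (M.d j : ℂ) := by
      intro j
      rw [classInner_sub_right, classInner_smul_right, map_natCast, hvx, hvx, if_pos rfl, M.d₀, Nat.cast_one, mul_one]
      ring
    conv_lhs => arg 2; rw [hv]
    simp only [classInner_add_right, classInner_smul_right, classInner_sum_right, hvb, hvi, map_neg, Complex.conj_ofReal]
    push_cast
    rw [Finset.sum_congr rfl fun i _ => show -((M.e : ℂ) / H * M.d i) * ((if i = M.i₀ then 1 else 0) - (M.d i : ℂ)) =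
      -((M.e : ℂ) / H) * ((M.d i : ℂ) * ((if i = M.i₀ then 1 else 0) - (M.d i : ℂ))) by ring, ← Finset.mul_sum, hsum1]
    field_simp
    rw [hHe]
    ring
  have h0 := classInner_self_re_nonneg (ψ - v)
  have hvψ : classInner v ψ = ((1 - (M.e : ℝ) / H : ℝ) : ℂ) := by
    rw [← classInner_conj_symm, hψv, Complex.conj_ofReal]
  rw [classInner_sub_left, classInner_sub_right, classInner_sub_right, hψv, hvψ, hvv, sub_self, sub_zero,
    Complex.sub_re, Complex.ofReal_re] at h0
  linarith

end Member

end Cfsg.Agent.Grp.FT
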