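import Cfsg.Agent.Lib.Grp.FT.Endgame

/-!
The endgame in the two cases for the second member of the pair.
-/

set_option autoImplicit false
set_option linter.unusedSectionVars false
set_option linter.style.haveILetI false
set_option maxHeartbeats 1000000

namespace Cfsg.Agent.Grp.FT

open Subgroup Cfsg.Agent.Char Cfsg.Agent.Transfer Cfsg.Agent.Transfer.Loc
open scoped ComplexConjugate Pointwise

attribute [local instance] _root_.Classical.propDecidable

attribute [local irreducible] memberI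

universe u

variable {G : Type u} [Group G] [Fintype G] {W₁ W₂ : Subgroup G}

namespace Pair

variable {S T : Subgroup G} (h : Pair S T W₁ W₂) {U C : Subgroup G} {p q : ℕ}
  (hs : Side S (Cfsg.fittingHallOf S) U C W₁ W₂ p q) (hU : ∀ x ∈ U, ∀ y ∈ U, x * y = y * x)
  {L : Subgroup G} (hO : Over S T W₁ U L) {𝓛 : Finset (Subgroup G)} (hc : Cover S T W₁ W₂ 𝓛) (hLm : L ∈ 𝓛)
  (E : Grid W₁ W₂) (hlt : q < p)
include h hs hU hO hc hLm E hlt

omit h hU hc hLm E hlt in
/-- The two possibilities for the complement of the core. -/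
theorem over_cases {Q V D : Subgroup G} (ht : Side T Q V D W₂ W₁ q p) (hD : D = ⊥) :
    Nat.card ↥(L ⊓ T) = q ∨ (Nat.card ↥(L ⊓ T) = p * q ∧
      ∃ y ∈ Q, W₂.map (MulAut.conj y).toMonoidHom ≤ L ⊓ T) := by
  have hr : Cfsg.PRankLE q 1 ↥(L ⊓ T) := hs.card₁ ▸ hO.rank
  rcases (ht.line_bound inf_le_right hO.W_le hO.norm hr).2.2.2 hD with e | ⟨e, hy⟩
  · exact Or.inl e
  · exact Or.inr ⟨e.trans (mul_comm _ _), hy⟩

/-- The endgame when both members of the pair are of type II. -/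
theorem endgame_two (hT : Cfsg.IsOfTypeII T) {V D : Subgroup G}
    (ht : Side T (Cfsg.fittingHallOf T) V D W₂ W₁ q p) (hV : ∀ x ∈ V, ∀ y ∈ V, x * y = y * x)
    {L' : Subgroup G} (hO' : Over T S W₂ V L') : False := by
  letI : Fintype S := Fintype.ofFinite _
  letI : Fintype T := Fintype.ofFinite _
  obtain ⟨hGT, hD, hN', hr⟩ := h.facts_two hs hU hT ht hV hc E hlt
  rcases over_cases hs hO ht hD with he | ⟨he, hy⟩
  · exact h.endgame_one hs hU hO hc hLm E hlt he
  have h' := h.symm_of_typeII hT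
  have hVN : Nat.card V = ∑ i ∈ Finset.range p, q ^ i := by
    rw [(card_side ht).2, hN', hD, Subgroup.card_bot, mul_one]
  have hmT : meas T ≤ 0 + 1 / ((p : ℝ) * ((∑ i ∈ Finset.range p, q ^ i : ℕ) : ℝ)) := by
    have h1 := h'.meas_S_le ht
    rw [hN', hD, Subgroup.card_bot, Nat.cast_one, mul_one] at h1
    rwa [zero_add]
  refine h.endgame_core hs hU hO hc hLm E hlt ht hr he hy 0 hmT (fun _ => energy_nonneg _ _) ?_
  intro f hf g₀ hg₀ ha hb
  haveI := E.finite_left; haveI := E.swap.finite_left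
  letI := Fintype.ofFinite (↥W₁ →* ℂˣ); letI := Fintype.ofFinite (↥W₂ →* ℂˣ)
  have hodd := h.hG.1
  have hpq := h.primes_pq hs hc hlt
  obtain ⟨hM1, hM2⟩ := hO.e_eq h.hG
  obtain ⟨hdvd, hh⟩ := h.over_card hs hO
  rw [he] at hM1 hM2 hh
  obtain ⟨hu, hu1⟩ := hs.u_mod
  have hh0 : 1 ≤ Nat.card (Cfsg.sigmaCore L) := Nat.card_pos
  set M := hc.mem h.hG ⟨L, hLm⟩ with hMdef
  have hMe : M.e = p * q := hM1
  have hMn : p * q * M.n + 1 = Nat.card (Cfsg.sigmaCore L) := hM2
  have hMmix : Disjoint M.reg (mixed W₁ W₂) := h.mem_disjoint_mixed hc hs ⟨L, hLm⟩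
  have hMT : Disjoint M.reg (reg T) := by
    rw [hMdef, hc.mem_reg]
    exact hc.disjoint L (Or.inr (Or.inr hLm)) T (Or.inr (Or.inl rfl)) fun e => h.T_not_mem hc (e ▸ hLm)
  have hMmix' : Disjoint M.reg (mixed W₂ W₁) := by rw [mixed_symm]; exact hMmix
  have hn := h'.bridge ht E.swap M hMT hMmix'
    (fun α hα l l' hl hl' => h'.inner_tau_member hc.symm ht ⟨L, hLm⟩ hα hl hl')
    (fun x hx y hy => hV x (ht.C_lt.le hx) y (ht.C_lt.le hy)) hf ha
  rw [hN', hD, Subgroup.card_bot, mul_one, Nat.sub_self, Nat.zero_div, add_zero] at hn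
  set N' := ∑ i ∈ Finset.range p, q ^ i with hN'def
  have hE : Nat.card (Cfsg.sigmaCore L) - 1 ≤ q * (N' - 1) := by
    have h1 : p * q * M.n ≤ q * (N' - 1) := by
      rw [mul_comm p q, mul_assoc]
      exact Nat.mul_le_mul_left q ((Nat.mul_le_mul_left p hn).trans (Nat.mul_div_le _ _))
    omega
  have done : (Nat.card C = 1 ∧ C.relIndex U = (∑ i ∈ Finset.range q, p ^ i) ∧
      Nat.card (Cfsg.sigmaCore L) = ∑ i ∈ Finset.range q, p ^ i) → False := fun ⟨a, b, c⟩ =>
    h.endgame_done hs hlt ht a b hy (h.normalizes_of_card hs hO a b c)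
  by_cases hp : p = 5
  · exact done (Arith.endgame₃ hpq hu1 hu hr hh0 hdvd hh hp hE)
  have hp7 : 7 ≤ p := by
    have h5 := hpq.p5
    have h6 : p ≠ 6 := fun e => absurd (e ▸ hpq.hp) (by norm_num)
    omega
  have hC1 : Nat.card C = 1 := by
    rcases hr with ⟨e, -⟩ | ⟨e, -⟩ | ⟨-, e, -⟩
    · exact e
    · exact absurd e hp
    · exact e
  have hC : C = ⊥ := Subgroup.card_eq_one.1 hC1
  have hV' : N' ∣ Nat.card (Cfsg.sigmaCore L') := hVN ▸ Subgroup.card_dvd_of_le hO'.U_le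
  by_cases hconj : ∃ x : G, L' = MulAut.conj x • L
  · obtain ⟨x, hx⟩ := hconj
    have hσ : Cfsg.sigmaCore L' = MulAut.conj x • Cfsg.sigmaCore L := by
      rw [hx, smul_sigmaCore h.hG hO.coatom]
    rw [hσ, Grp.card_conj_smul] at hV'
    obtain ⟨a, b, c⟩ := Arith.endgame₅ hpq hu1 hu hr hh0 hdvd hh hE hV'
    have hVσ : V = MulAut.conj x • Cfsg.sigmaCore L :=
      Subgroup.eq_of_le_of_card_ge (hσ ▸ hO'.U_le) (by rw [Grp.card_conj_smul, hVN, c])
    have hcyc : IsCyclic ↥(Cfsg.sigmaCore L) := by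
      haveI : IsCyclic ↥(MulAut.conj x • Cfsg.sigmaCore L) := hVσ ▸ ht.cyclic_U hGT hD
      exact isCyclic_of_surjective (Subgroup.equivSMul (MulAut.conj x) (Cfsg.sigmaCore L)).symm
        (MulEquiv.surjective _)
    exact h.endgame_done hs hlt ht a b hy
      (le_normalizer_of_cyclic hcyc hO.U_le (TransHyp.le_normalizer_piCoreOf L))
  have hreg := reg_disjoint h.hG hO.coatom hO'.coatom fun x e => hconj ⟨x, e⟩
  obtain ⟨𝓜, hc', hL'm⟩ := h.exists_cover_mem hc hO'.coatom hO'.typeI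
  obtain ⟨hN1, hN2⟩ := hO'.e_eq h.hG
  set N := hc'.mem h.hG ⟨L', hL'm⟩ with hNdef
  have hNe : N.e = Nat.card ↥(L' ⊓ S) := hN1
  have hNn : N.e * N.n + 1 = Nat.card (Cfsg.sigmaCore L') := by rw [hNe]; exact hN2
  have hdMN : Disjoint M.reg N.reg := by rw [hMdef, hNdef, hc.mem_reg, hc'.mem_reg]; exact hreg
  have hNmix : Disjoint N.reg (mixed W₁ W₂) := h.mem_disjoint_mixed hc' hs ⟨L', hL'm⟩
  have hNS : Disjoint N.reg (reg S) := by
    rw [hNdef, hc'.mem_reg]
    exact hc'.disjoint L' (Or.inr (Or.inr hL'm)) S (Or.inl rfl) fun e => h.S_not_mem hc'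
      (Finset.mem_insert_of_mem (e ▸ hL'm))
  have hr' : Cfsg.PRankLE p 1 ↥(L' ⊓ S) := hs.card₂ ▸ hO'.rank
  have he' : N.e ≤ p * q := by
    rw [hNe]
    rcases (hs.line_bound inf_le_right hO'.W_le hO'.norm hr').2.2.2 hC with e | ⟨e, -⟩ <;> rw [e]
    exact Nat.le_mul_of_pos_right p hs.hq.pos
  have hN7 := Arith.endgame₇' hpq hp7
  rw [← hN'def] at hN7
  have hge : N' - 1 ≤ N.e * N.n := by
    have := Nat.le_of_dvd Nat.card_pos hV'
    omega
  have hbig : p * q < N.n := by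
    by_contra hle
    have h1 : N.e * N.n ≤ p * q * (p * q) := Nat.mul_le_mul he' (Nat.not_lt.1 hle)
    have h2 : p * q * (p * q) = p ^ 2 * q ^ 2 := by ring
    omega
  have hq2 : (2 : ℤ) ≤ q := by exact_mod_cast hs.hq.two_le
  have hgMN : M.g N = 0 := by
    by_contra hne
    have h1 := M.budget_one' E hodd hMmix N hdMN hNmix hne
    have h2 := (M.grid_ge E hodd hMmix hs.card₁ hs.card₂ hs.hq hs.hp hlt).1
    rw [hMe] at h1
    omega
  have hpar := M.parity N hodd hdMN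
  rw [hgMN, zero_add] at hpar
  have hbud := N.budget_one' E hodd hNmix M hdMN.symm hMmix fun e => by simp [e] at hpar
  obtain ⟨hgrid, hgrid'⟩ := N.grid_ge E hodd hNmix hs.card₁ hs.card₂ hs.hq hs.hp hlt
  have hle : M.n + q ≤ p * q := by omega
  have h4 : p * q * M.n ≤ p * q * (p * q - q) := Nat.mul_le_mul_left _ (by omega)
  refine done (Arith.endgame₄ hpq hu1 hu hr hh0 hdvd hh hp7 (by omega) fun hq3 => ?_)
  rcases Int.even_or_odd (E.coef N.beta 1 g₀) with hbN | hbN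
  · have hn' := h.bridge hs E N hNS hNmix
      (fun α hα l l' hl hl' => h.inner_tau_member hc' hs ⟨L', hL'm⟩ hα hl hl')
      (fun x hx y hy => hU x (hs.C_lt.le hx) y (hs.C_lt.le hy)) hg₀ hbN
    rw [hC1, mul_one, Nat.sub_self, Nat.zero_div, add_zero] at hn'
    have h7 := Arith.endgame₇'' hpq hp7 hq3 (hr.u_le hpq hC1)
    rw [← hN'def] at h7
    have h1 : N.e * N.n ≤ p * (C.relIndex U - 1) := by
      refine (Nat.mul_le_mul he' hn').trans ?_
      rw [mul_assoc]
      exact Nat.mul_le_mul_left p (Nat.mul_div_le _ _)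
    omega
  · have h1 := (hgrid' g₀ hg₀ hbN).1
    have h5 : p * q * M.n ≤ p * q * (p * q - p) := Nat.mul_le_mul_left _ (by omega)
    omega

/-- The endgame when the second member of the pair is not of type II. -/
theorem endgame_surv (hT2 : Cfsg.IsSigmaDecomposition T W₂ ⊥) {Q D : Subgroup G}
    (ht : Side T Q D ⁅D, D⁆ W₂ W₁ q p)
    (hv : (⁅D, D⁆).relIndex D = (h.memberT hT2).e * (h.memberT hT2).n + 1)
    (ha : ∀ f : ↥W₁ →* ℂˣ, f ≠ 1 → E.coef (h.memberT hT2).beta f 1 = 1)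
    (hb : ∀ g : ↥W₂ →* ℂˣ, g ≠ 1 → E.coef (h.memberT hT2).beta 1 g = 0) : False := by
  letI : Fintype S := Fintype.ofFinite _
  haveI := E.finite_left; haveI := E.swap.finite_left
  letI := Fintype.ofFinite (↥W₁ →* ℂˣ); letI := Fintype.ofFinite (↥W₂ →* ℂˣ)
  obtain ⟨-, hDD, hN', hr⟩ := h.facts_surv hT2 hs hU ht hv hc E ha hb hlt
  rcases over_cases hs hO ht hDD with he | ⟨he, hy⟩
  · exact h.endgame_one hs hU hO hc hLm E hlt he
  have hodd := h.hG.1
  have hpq := h.primes_pq hs hc hlt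
  set K := h.memberT hT2 with hKdef
  have hKe : K.e = p := by rw [hKdef, (h.memberT_card hT2).1, hs.card₂]
  have hKn : p * K.n + 1 = ∑ i ∈ Finset.range p, q ^ i := by rw [← hN', hv, hKe]
  have hKmix : Disjoint K.reg (mixed W₁ W₂) := h.memberT_mixed hT2 hc
  have hMK : Disjoint (hc.mem h.hG ⟨L, hLm⟩).reg K.reg := h.mem_disjoint_T hT2 hc ⟨L, hLm⟩
  have hp0 : (0 : ℝ) < p := Nat.cast_pos.2 hs.hp.pos
  have hmT : meas T ≤ (K.n : ℝ) / (K.e * K.n + 1) + 1 / ((p : ℝ) * ((∑ i ∈ Finset.range p, q ^ i : ℕ) : ℝ)) := by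
    have hsigma : Nat.card (Cfsg.sigmaCore T) = q ^ p * (∑ i ∈ Finset.range p, q ^ i) := by
      rw [h.sigmaCore_T hT2, ← Grp.card_mul_relIndex ht.compl.1, (complIn_relIndex ht.compl).1, ht.card_P,
        (card_side ht).2, hN', hDD, Subgroup.card_bot, mul_one]
    have hcardT : Nat.card T = q ^ p * (∑ i ∈ Finset.range p, q ^ i) * p := by
      rw [(card_side ht).1, hN', hDD, Subgroup.card_bot, mul_one]
    rw [meas, hsigma, hcardT, hKe, ← hKn]
    have hQ0 : (0 : ℝ) < (q : ℝ) ^ p := pow_pos (Nat.cast_pos.2 hs.hq.pos) p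
    have hK0 : (0 : ℝ) < (p : ℝ) * K.n + 1 := by positivity
    push_cast
    rw [div_add_div _ _ hK0.ne' (mul_pos hp0 hK0).ne', div_le_div_iff₀ (by positivity) (by positivity)]
    nlinarith [mul_pos (mul_pos hK0 hK0) hp0, mul_pos hQ0 hK0]
  refine h.endgame_core hs hU hO hc hLm E hlt ht hr he hy _ hmT (fun hgN => ?_) ?_
  · have hpar := (hc.mem h.hG ⟨L, hLm⟩).parity K hodd hMK
    rw [hgN K hMK hKmix, zero_add] at hpar
    have h1 := (hc.mem h.hG ⟨L, hLm⟩).cross_energy K hMK fun e => by simp [e] at hpar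
    rwa [hKdef, h.memberT_reg hT2, ← hKdef] at h1
  intro f hf g₀ hg₀ _ hbM
  obtain ⟨hM1, hM2⟩ := hO.e_eq h.hG
  obtain ⟨hdvd, hh⟩ := h.over_card hs hO
  rw [he] at hM1 hM2 hh
  obtain ⟨hu, hu1⟩ := hs.u_mod
  have hh0 : 1 ≤ Nat.card (Cfsg.sigmaCore L) := Nat.card_pos
  set M := hc.mem h.hG ⟨L, hLm⟩ with hMdef
  have hMe : M.e = p * q := hM1
  have hMn : p * q * M.n + 1 = Nat.card (Cfsg.sigmaCore L) := hM2
  have hMmix : Disjoint M.reg (mixed W₁ W₂) := h.mem_disjoint_mixed hc hs ⟨L, hLm⟩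
  have done : (Nat.card C = 1 ∧ C.relIndex U = (∑ i ∈ Finset.range q, p ^ i) ∧
      Nat.card (Cfsg.sigmaCore L) = ∑ i ∈ Finset.range q, p ^ i) → False := fun ⟨a, b, c⟩ =>
    h.endgame_done hs hlt ht a b hy (h.normalizes_of_card hs hO a b c)
  have hq2 : (2 : ℤ) ≤ q := by exact_mod_cast hs.hq.two_le
  by_cases hg : K.g M = 0
  · have hpar := M.parity K hodd hMK
    rw [hg, add_zero] at hpar
    have hbud := M.budget_one' E hodd hMmix K hMK hKmix fun e => by simp [e] at hpar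
    have hgrid := (M.grid_ge E hodd hMmix hs.card₁ hs.card₂ hs.hq hs.hp hlt).1
    rw [hMe] at hbud
    have hle : K.n + 2 ≤ p * q := by omega
    by_cases hp : p = 5
    · obtain rfl := hp
      obtain rfl := hpq.q_eq rfl
      simp only [Finset.sum_range_succ, Finset.sum_range_zero] at hKn
      omega
    · have hp7 : 7 ≤ p := by
        have h5 := hpq.p5
        have h6 : p ≠ 6 := fun e => absurd (e ▸ hpq.hp) (by norm_num)
        omega
      have h7 := Arith.endgame₇' hpq hp7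
      rw [← hKn, Nat.add_sub_cancel] at h7
      have h1 : p * K.n ≤ p * (p * q) := Nat.mul_le_mul_left p (by omega)
      have h2 : p * (p * q) * 1 ≤ p * (p * q) * q := Nat.mul_le_mul_left _ hs.hq.one_le
      have h3 : p * (p * q) * q = p ^ 2 * q ^ 2 := by ring
      omega
  · have hbud := K.budget_one' E hodd hKmix M hMK.symm hMmix hg
    rw [hKe, K.grid_sum E hodd hKmix h.prime₁ (hs.card₂ ▸ hs.hp) hf hg₀, ha f hf, hb g₀ hg₀, hs.card₁,
      hs.card₂] at hbud
    ring_nf at hbud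
    have hle : M.n + q ≤ p := by omega
    by_cases hp : p = 5
    · refine done (Arith.endgame₃ hpq hu1 hu hr hh0 hdvd hh hp ?_)
      obtain rfl := hp
      obtain rfl := hpq.q_eq rfl
      simp only [Finset.sum_range_succ, Finset.sum_range_zero]
      omega
    · have hp7 : 7 ≤ p := by
        have h5 := hpq.p5
        have h6 : p ≠ 6 := fun e => absurd (e ▸ hpq.hp) (by norm_num)
        omega
      have hq1 : p * 1 ≤ p * q := Nat.mul_le_mul_left p hs.hq.one_le
      have hn2 : 2 ≤ M.n := M.two_le_n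
      have h2q : p * 2 ≤ p * q := Nat.mul_le_mul_left p hs.hq.two_le
      refine done (Arith.endgame₄ hpq hu1 hu hr hh0 hdvd hh hp7 ?_ fun _ => ?_)
      · have := Nat.mul_le_mul_left (p * q) (show M.n ≤ p * q - q by omega)
        omega
      · have := Nat.mul_le_mul_left (p * q) (show M.n ≤ p * q - p by omega)
        omega

end Pair

end Cfsg.Agent.Grp.FT
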