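import Cfsg.Agent.Lib.Grp.FT.EndBudget
import Cfsg.Agent.Lib.Grp.FT.Bridge
import Cfsg.Agent.Lib.Grp.FT.CaseSurv

/-!
The last combinatorial step of the odd order theorem: the maximal subgroup of type I over the complement of a
side has that complement as its core, which is impossible by the final contradiction.
-/

set_option autoImplicit false
set_option linter.unusedSectionVars false
set_option linter.style.haveILetI false
set_option maxHeartbeats 1000000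

namespace Cfsg.Agent.Grp.FT

open Subgroup Cfsg.Agent.Char Cfsg.Agent.Transfer Cfsg.Agent.Transfer.Loc
open scoped ComplexConjugate Pointwise

attribute [local instance] _root_.Classical.propDecidable

attribute [local irreducible] memberI

universe u

variable {G : Type u} [Group G] [Fintype G] {W₁ W₂ : Subgroup G}

theorem sq_one_le {x : ℤ} (h : x ≠ 0) : 1 ≤ x ^ 2 := by
  have := Int.one_le_abs h
  nlinarith [sq_abs x]

/-- The lower bounds for the grid part in terms of its two coordinates. -/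
theorem grid_bounds {q p a b : ℤ} (hq : 1 ≤ q) (hp : q ≤ p) :
    q ≤ 1 + (q - 1) * a ^ 2 + (p - 1) * (b ^ 2 + (q - 1) * (a + b - 1) ^ 2) ∧
    (Odd b → p ≤ 1 + (q - 1) * a ^ 2 + (p - 1) * (b ^ 2 + (q - 1) * (a + b - 1) ^ 2)) ∧
    (Odd a → Odd b → p * q ≤ 1 + (q - 1) * a ^ 2 + (p - 1) * (b ^ 2 + (q - 1) * (a + b - 1) ^ 2)) := by
  have hq' : 0 ≤ q - 1 := by linarith
  have hp' : 0 ≤ p - 1 := by linarith
  have ha2 : 0 ≤ (q - 1) * a ^ 2 := mul_nonneg hq' (sq_nonneg _)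
  have hs2 : 0 ≤ (q - 1) * (a + b - 1) ^ 2 := mul_nonneg hq' (sq_nonneg _)
  have hb2 := sq_nonneg b
  refine ⟨?_, fun hb => ?_, fun ha hb => ?_⟩
  · by_cases ha : a = 0
    · subst ha
      by_cases hb : b = 0
      · subst hb
        nlinarith [mul_nonneg hp' hq']
      · have := sq_one_le hb
        nlinarith [mul_le_mul_of_nonneg_left this hp', mul_nonneg hp' hs2]
    · have := mul_le_mul_of_nonneg_left (sq_one_le ha) hq'
      nlinarith [mul_nonneg hp' (add_nonneg hb2 hs2)]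
  · have hb0 : b ≠ 0 := by rintro rfl; simp at hb
    nlinarith [mul_le_mul_of_nonneg_left (sq_one_le hb0) hp', mul_nonneg hp' hs2]
  · have ha0 : a ≠ 0 := by rintro rfl; simp at ha
    have hb0 : b ≠ 0 := by rintro rfl; simp at hb
    have hs0 : a + b - 1 ≠ 0 := by
      intro e
      obtain ⟨i, rfl⟩ := ha
      obtain ⟨j, rfl⟩ := hb
      omega
    have h1 := mul_le_mul_of_nonneg_left (sq_one_le ha0) hq'
    have h2 := mul_le_mul_of_nonneg_left (sq_one_le hs0) hq'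
    have h3 : (p - 1) * (1 + (q - 1) * 1) ≤ (p - 1) * (b ^ 2 + (q - 1) * (a + b - 1) ^ 2) :=
      mul_le_mul_of_nonneg_left (by linarith [sq_one_le hb0]) hp'
    nlinarith

theorem Member.grid_ge (M : Member G) (E : Grid W₁ W₂) (hodd : Odd (Nat.card G))
    (hd : Disjoint M.reg (mixed W₁ W₂)) [Fintype (↥W₁ →* ℂˣ)] [Fintype (↥W₂ →* ℂˣ)] {p q : ℕ}
    (h1 : Nat.card W₁ = q) (h2 : Nat.card W₂ = p) (hq : q.Prime) (hp : p.Prime) (hqp : q < p) :
    (q : ℤ) ≤ ∑ g, ∑ f, E.coef M.beta f g ^ 2 ∧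
      ∀ g : ↥W₂ →* ℂˣ, g ≠ 1 → Odd (E.coef M.beta 1 g) →
        (p : ℤ) ≤ ∑ g, ∑ f, E.coef M.beta f g ^ 2 ∧
          ∀ f : ↥W₁ →* ℂˣ, f ≠ 1 → Odd (E.coef M.beta f 1) →
            ((p : ℤ) * q) ≤ ∑ g, ∑ f, E.coef M.beta f g ^ 2 := by
  obtain ⟨f₀, hf₀⟩ : ∃ f : ↥W₁ →* ℂˣ, f ≠ 1 :=
    Fintype.exists_ne_of_one_lt_card (by rw [E.card_left, h1]; exact hq.one_lt) 1
  obtain ⟨g₀, hg₀⟩ : ∃ g : ↥W₂ →* ℂˣ, g ≠ 1 :=
    Fintype.exists_ne_of_one_lt_card (by rw [E.swap.card_left, h2]; exact hp.one_lt) 1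
  have key : ∀ (f : ↥W₁ →* ℂˣ) (g : ↥W₂ →* ℂˣ), f ≠ 1 → g ≠ 1 →
      ∑ g, ∑ f, E.coef M.beta f g ^ 2 = 1 + ((q : ℤ) - 1) * E.coef M.beta f 1 ^ 2 +
        ((p : ℤ) - 1) * (E.coef M.beta 1 g ^ 2 +
          ((q : ℤ) - 1) * (E.coef M.beta f 1 + E.coef M.beta 1 g - 1) ^ 2) := fun f g hf hg => by
    rw [M.grid_sum E hodd hd (h1 ▸ hq) (h2 ▸ hp) hf hg, h1, h2]
  have hb := fun (a b : ℤ) => grid_bounds (a := a) (b := b) (q := (q : ℤ)) (p := (p : ℤ))
    (by exact_mod_cast hq.one_le) (by exact_mod_cast hqp.le)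
  refine ⟨by rw [key f₀ g₀ hf₀ hg₀]; exact (hb _ _).1, fun g hg hbo => ⟨?_, fun f hf hao => ?_⟩⟩
  · rw [key f₀ g hf₀ hg]; exact (hb _ _).2.1 hbo
  · rw [key f g hf hg]; exact (hb _ _).2.2 hao hbo

/-- Subgroups of equal order of a cyclic subgroup are equal. -/
theorem eq_of_card_of_cyclic {K A B : Subgroup G} (hK : IsCyclic K) (hA : A ≤ K) (hB : B ≤ K)
    (h : Nat.card A = Nat.card B) : A = B := by
  have key : ∀ D : Subgroup G, D ≤ K → Nat.card D = Nat.card A →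
      (D.subgroupOf K : Set K) = ({z : K | z ^ Nat.card A = 1} : Set K) := by
    intro D hD hcard
    refine Set.eq_of_subset_of_ncard_le (fun z hz => ?_) ?_
    · have h1 : (⟨(z : G), hz⟩ : D) ^ Nat.card D = 1 := pow_card_eq_one'
      rw [hcard] at h1
      exact Subtype.ext (by simpa using congrArg Subtype.val h1)
    · rw [← Nat.card_coe_set_eq (D.subgroupOf K : Set K),
        show Nat.card ↥((D.subgroupOf K : Subgroup K) : Set K) = Nat.card A from
          (Nat.card_congr (Subgroup.subgroupOfEquivOfLe hD).toEquiv).trans hcard,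
        Set.ncard_eq_toFinset_card', Set.toFinset_setOf]
      haveI := hK
      exact IsCyclic.card_pow_eq_one_le Nat.card_pos
  have e : A.subgroupOf K = B.subgroupOf K := SetLike.coe_injective ((key A hA rfl).trans (key B hB h.symm).symm)
  rw [← Subgroup.map_subgroupOf_eq_of_le hA, e, Subgroup.map_subgroupOf_eq_of_le hB]

theorem le_normalizer_of_cyclic {K U L : Subgroup G} (hK : IsCyclic K) (hUK : U ≤ K)
    (hL : L ≤ normalizer (K : Set G)) : L ≤ normalizer (U : Set G) := fun x hx => by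
  rw [Grp.mem_normalizer_iff_smul]
  refine eq_of_card_of_cyclic hK ?_ hUK (Grp.card_conj_smul x U)
  rw [← Grp.mem_normalizer_iff_smul.1 (hL hx)]
  exact smul_mono_right _ hUK

/-- The data of the maximal subgroup of type I over the complement of a side. -/
structure Over (S T W₁ U L : Subgroup G) : Prop where
  coatom : IsCoatom L
  typeI : Cfsg.IsOfTypeI L
  U_le : U ≤ Cfsg.sigmaCore L
  inter : S ⊓ L = U ⊔ W₁
  compl : Cfsg.IsComplIn (L ⊓ T) (Cfsg.sigmaCore L) L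
  not_le : ¬ L ≤ S
  cent : centralizer (U : Set G) ≤ L
  W_le : W₁ ≤ L ⊓ T
  norm : L ⊓ T ≤ normalizer (W₁ : Set G)
  rank : Cfsg.PRankLE (Nat.card W₁) 1 ↥(L ⊓ T)

theorem Over.e_eq {S T U L : Subgroup G} (hO : Over S T W₁ U L) (hG : Cfsg.IsMinSimpleOddOrder G) :
    (memberI hG hO.coatom hO.typeI).e = Nat.card ↥(L ⊓ T) ∧
      Nat.card ↥(L ⊓ T) * (memberI hG hO.coatom hO.typeI).n + 1 = Nat.card (Cfsg.sigmaCore L) := by
  obtain ⟨h1, h2⟩ := memberI_card hG hO.coatom hO.typeI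
  rw [(complIn_relIndex hO.compl).2] at h2
  exact ⟨h2, h2 ▸ h1⟩

namespace Pair

variable {S T : Subgroup G} (h : Pair S T W₁ W₂) {U C : Subgroup G} {p q : ℕ}
  (hs : Side S (Cfsg.fittingHallOf S) U C W₁ W₂ p q) (hU : ∀ x ∈ U, ∀ y ∈ U, x * y = y * x)
  {L : Subgroup G} (hO : Over S T W₁ U L) {𝓛 : Finset (Subgroup G)} (hc : Cover S T W₁ W₂ 𝓛) (hLm : L ∈ 𝓛)
  (E : Grid W₁ W₂) (hlt : q < p)
include h hs hU hO hc hLm E hlt

omit hU hO hLm hlt E in
theorem primes_pq (hlt : q < p) : Arith.Primes p q :=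
  ⟨hs.hp, hs.hq, fun e => Nat.not_even_iff_odd.2 h.hG.1
    (even_iff_two_dvd.2 (e ▸ hs.card₁ ▸ Subgroup.card_subgroup_dvd_card W₁)), hlt⟩

omit hU hc hLm E hlt in
/-- The order of the complement divides the order of the core, which is congruent to one. -/
theorem over_card : C.relIndex U * Nat.card C ∣ Nat.card (Cfsg.sigmaCore L) ∧
    2 * Nat.card ↥(L ⊓ T) ∣ Nat.card (Cfsg.sigmaCore L) - 1 := by
  refine ⟨(card_side hs).2 ▸ Subgroup.card_dvd_of_le hO.U_le, ?_⟩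
  obtain ⟨-, h2⟩ := hO.e_eq h.hG
  have hodd := h.hG.1.of_dvd_nat (Subgroup.card_subgroup_dvd_card (L ⊓ T))
  have hh := h.hG.1.of_dvd_nat (Subgroup.card_subgroup_dvd_card (Cfsg.sigmaCore L))
  rw [← h2] at hh
  rw [← h2, Nat.add_sub_cancel, mul_comm 2]
  refine mul_dvd_mul_left _ (even_iff_two_dvd.1 ?_)
  rcases Nat.even_or_odd (memberI h.hG hO.coatom hO.typeI).n with hn | hn
  · exact hn
  · exact absurd hh (Nat.not_odd_iff_even.2 ((hodd.mul hn).add_odd odd_one))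

/-- The case where the complement of the core is `W₁`. -/
theorem endgame_one (he : Nat.card ↥(L ⊓ T) = q) : False := by
  letI : Fintype S := Fintype.ofFinite _
  haveI := E.finite_left; haveI := E.swap.finite_left
  letI := Fintype.ofFinite (↥W₁ →* ℂˣ); letI := Fintype.ofFinite (↥W₂ →* ℂˣ)
  have hodd := h.hG.1
  have hpq := h.primes_pq hs hc hlt
  obtain ⟨hM1, hM2⟩ := hO.e_eq h.hG
  obtain ⟨hdvd, hh⟩ := h.over_card hs hO
  rw [he] at hM1 hM2 hh
  set M := hc.mem h.hG ⟨L, hLm⟩ with hMdef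
  have hMe : M.e = q := hM1
  have hMn : q * M.n + 1 = Nat.card (Cfsg.sigmaCore L) := hM2
  have hMmix : Disjoint M.reg (mixed W₁ W₂) := h.mem_disjoint_mixed hc hs ⟨L, hLm⟩
  have hMS : Disjoint M.reg (reg S) := by
    rw [hMdef, hc.mem_reg]
    exact hc.disjoint L (Or.inr (Or.inr hLm)) S (Or.inl rfl) fun e => h.S_not_mem hc
      (Finset.mem_insert_of_mem (e ▸ hLm))
  obtain ⟨g₀, hg₀⟩ : ∃ g : ↥W₂ →* ℂˣ, g ≠ 1 :=
    Fintype.exists_ne_of_one_lt_card (by rw [E.swap.card_left, hs.card₂]; exact hs.hp.one_lt) 1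
  rcases Int.even_or_odd (E.coef M.beta 1 g₀) with hb | hb
  · have hn := h.bridge hs E M hMS hMmix (fun α hα l l' hl hl' => h.inner_tau_member hc hs ⟨L, hLm⟩ hα hl hl')
      (fun x hx y hy => hU x (hs.C_lt.le hx) y (hs.C_lt.le hy)) hg₀ hb
    obtain ⟨hu, hu1⟩ := hs.u_mod
    have hu2 := hpq.u_ge hu1 hu
    have hcard := Arith.endgame₆ (h := Nat.card (Cfsg.sigmaCore L)) (u := C.relIndex U) (c := Nat.card C) (q := q)
      hs.hq.one_le Nat.card_pos (by omega) Nat.card_pos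
      (by have := Nat.mul_le_mul_left q hn; omega) hdvd hh
    have hσ : U = Cfsg.sigmaCore L :=
      Subgroup.eq_of_le_of_card_ge hO.U_le (by rw [hcard, ← (card_side hs).2])
    have hW : W₁ = L ⊓ T := Subgroup.eq_of_le_of_card_ge hO.W_le (by rw [he, hs.card₁])
    have hle : U ⊔ W₁ ≤ S := hO.inter ▸ inf_le_left
    refine hO.not_le fun x hx => ?_
    obtain ⟨a, ha, b, hb', rfl⟩ := hO.compl.2.2.2 x hx
    exact hle (mul_mem (Subgroup.mem_sup_right (hW ▸ ha)) (Subgroup.mem_sup_left (hσ ▸ hb')))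
  · have h1 := M.budget_self E hodd hMmix
    have h2 := ((M.grid_ge E hodd hMmix hs.card₁ hs.card₂ hs.hq hs.hp hlt).2 g₀ hg₀ hb).1
    have h3 := M.own_ge
    rw [hMe] at h1
    have : (p : ℤ) ≤ q := by linarith
    omega

omit hU hO hc hLm E in
/-- The final contradiction once the core normalises into the complement. -/
theorem endgame_done {Q V D : Subgroup G} (ht : Side T Q V D W₂ W₁ q p) (hc1 : Nat.card C = 1)
    (hu : C.relIndex U = ∑ i ∈ Finset.range q, p ^ i)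
    (hy : ∃ y ∈ Q, W₂.map (MulAut.conj y).toMonoidHom ≤ L ⊓ T) (hLU : L ≤ normalizer (U : Set G)) : False := by
  have hC : C = ⊥ := Subgroup.card_eq_one.1 hc1
  subst hC
  refine finale hs ht hlt ?_ ?_
  · rw [(card_side hs).2, hu, hc1, mul_one, Arith.gsum_mul p q hs.hp.one_le]
  · obtain ⟨y, hy, hle⟩ := hy
    exact ⟨y, hy, hle.trans (inf_le_left.trans hLU)⟩

omit hU hc hLm E hlt in
theorem normalizes_of_card (hc1 : Nat.card C = 1) (hu : C.relIndex U = ∑ i ∈ Finset.range q, p ^ i)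
    (hh : Nat.card (Cfsg.sigmaCore L) = ∑ i ∈ Finset.range q, p ^ i) : L ≤ normalizer (U : Set G) := by
  rw [Subgroup.eq_of_le_of_card_ge hO.U_le (by rw [hh, (card_side hs).2, hu, hc1, mul_one])]
  exact TransHyp.le_normalizer_piCoreOf L

/-- The case where the complement of the core has order `p q`. -/
theorem endgame_core {Q V D : Subgroup G} (ht : Side T Q V D W₂ W₁ q p)
    (hr : Arith.Residual p q (C.relIndex U) (Nat.card C)) (he : Nat.card ↥(L ⊓ T) = p * q)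
    (hy : ∃ y ∈ Q, W₂.map (MulAut.conj y).toMonoidHom ≤ L ⊓ T) (tT : ℝ)
    (hmT : meas T ≤ tT + 1 / ((p : ℝ) * ((∑ i ∈ Finset.range p, q ^ i : ℕ) : ℝ)))
    (htT : (∀ N : Member G, Disjoint (hc.mem h.hG ⟨L, hLm⟩).reg N.reg → Disjoint N.reg (mixed W₁ W₂) →
        (hc.mem h.hG ⟨L, hLm⟩).g N = 0) →
      tT ≤ energy (reg T) ((hc.mem h.hG ⟨L, hLm⟩).Z (hc.mem h.hG ⟨L, hLm⟩).i₀))
    (hmixed : ∀ f : ↥W₁ →* ℂˣ, f ≠ 1 → ∀ g : ↥W₂ →* ℂˣ, g ≠ 1 →
      Even (E.coef (hc.mem h.hG ⟨L, hLm⟩).beta f 1) → Odd (E.coef (hc.mem h.hG ⟨L, hLm⟩).beta 1 g) → False) :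
    False := by
  letI : Fintype S := Fintype.ofFinite _
  haveI := E.finite_left; haveI := E.swap.finite_left
  letI := Fintype.ofFinite (↥W₁ →* ℂˣ); letI := Fintype.ofFinite (↥W₂ →* ℂˣ)
  have hodd := h.hG.1
  have hpq := h.primes_pq hs hc hlt
  obtain ⟨hM1, hM2⟩ := hO.e_eq h.hG
  obtain ⟨hdvd, hh⟩ := h.over_card hs hO
  rw [he] at hM1 hM2 hh
  obtain ⟨hu, hu1⟩ := hs.u_mod
  have hu2 := hpq.u_ge hu1 hu
  have hh0 : 1 ≤ Nat.card (Cfsg.sigmaCore L) := Nat.card_pos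
  have hcpos : 1 ≤ Nat.card C := Nat.card_pos
  have done : (Nat.card C = 1 ∧ C.relIndex U = (∑ i ∈ Finset.range q, p ^ i) ∧
      Nat.card (Cfsg.sigmaCore L) = ∑ i ∈ Finset.range q, p ^ i) → False := fun ⟨a, b, c⟩ =>
    h.endgame_done hs hlt ht a b hy (h.normalizes_of_card hs hO a b c)
  set M := hc.mem h.hG ⟨L, hLm⟩ with hMdef
  have hMe : M.e = p * q := hM1
  have hMn : p * q * M.n + 1 = Nat.card (Cfsg.sigmaCore L) := hM2
  have hMmix : Disjoint M.reg (mixed W₁ W₂) := h.mem_disjoint_mixed hc hs ⟨L, hLm⟩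
  have hMS : Disjoint M.reg (reg S) := by
    rw [hMdef, hc.mem_reg]
    exact hc.disjoint L (Or.inr (Or.inr hLm)) S (Or.inl rfl) fun e => h.S_not_mem hc
      (Finset.mem_insert_of_mem (e ▸ hLm))
  obtain ⟨f₀, hf₀⟩ : ∃ f : ↥W₁ →* ℂˣ, f ≠ 1 :=
    Fintype.exists_ne_of_one_lt_card (by rw [E.card_left, hs.card₁]; exact hs.hq.one_lt) 1
  obtain ⟨g₀, hg₀⟩ : ∃ g : ↥W₂ →* ℂˣ, g ≠ 1 :=
    Fintype.exists_ne_of_one_lt_card (by rw [E.swap.card_left, hs.card₂]; exact hs.hp.one_lt) 1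
  rcases Int.even_or_odd (E.coef M.beta 1 g₀) with hb | hb
  · have hn := h.bridge hs E M hMS hMmix (fun α hα l l' hl hl' => h.inner_tau_member hc hs ⟨L, hLm⟩ hα hl hl')
      (fun x hx y hy => hU x (hs.C_lt.le hx) y (hs.C_lt.le hy)) hg₀ hb
    refine done (Arith.endgame₁ hpq hu1 hu hr hh0 hdvd hh ?_)
    have h1 := Nat.mul_div_le (C.relIndex U * Nat.card C - 1) q
    have h2 := Nat.mul_div_le (Nat.card C - 1) q
    have h3 : p * q * M.n ≤ p * ((C.relIndex U * Nat.card C - 1) + (Nat.card C - 1)) := by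
      rw [mul_assoc]
      refine Nat.mul_le_mul_left p ((Nat.mul_le_mul_left q hn).trans ?_)
      rw [mul_add]
      omega
    rw [mul_add] at h3
    omega
  rcases Int.even_or_odd (E.coef M.beta f₀ 1) with ha | ha
  · exact hmixed f₀ hf₀ g₀ hg₀ ha hb
  -- both coordinates are odd
  have hgrid := ((M.grid_ge E hodd hMmix hs.card₁ hs.card₂ hs.hq hs.hp hlt).2 g₀ hg₀ hb).2 f₀ hf₀ ha
  have heM : (M.e : ℤ) = (p : ℤ) * q := by rw [hMe]; push_cast; rfl
  by_cases hn : M.n ≤ 2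
  · refine done (Arith.endgame₁ hpq hu1 hu hr hh0 hdvd hh ?_)
    have h1 : 2 * q ≤ C.relIndex U * Nat.card C - 1 := by
      have : C.relIndex U ≤ C.relIndex U * Nat.card C := Nat.le_mul_of_pos_right _ hcpos
      omega
    have h2 := Nat.mul_le_mul_left p h1
    have h3 : p * q * M.n ≤ p * (2 * q) := by
      rw [mul_assoc]
      exact Nat.mul_le_mul_left p (by rw [mul_comm 2 q]; exact Nat.mul_le_mul_left q hn)
    omega
  have hgN : ∀ N : Member G, Disjoint M.reg N.reg → Disjoint N.reg (mixed W₁ W₂) → M.g N = 0 := by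
    intro N hN hNV
    by_contra hne
    have h1 := M.budget_one' E hodd hMmix N hN hNV hne
    have h2 : (2 : ℤ) ≤ N.n := by exact_mod_cast N.two_le_n
    rw [heM] at h1
    linarith
  have hgM : M.g M = 0 := M.own_eq (by omega) (by
    have h1 := M.budget_self E hodd hMmix
    rw [heM] at h1
    linarith)
  have hown := M.own_energy hgM
  have hothers : ∀ x ∈ 𝓛.erase L, meas x ≤ energy (reg x) (M.Z M.i₀) := by
    intro x hx
    obtain ⟨hxL, hxm⟩ := Finset.mem_erase.1 hx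
    set N := hc.mem h.hG ⟨x, hxm⟩ with hNdef
    have hd : Disjoint M.reg N.reg := by
      rw [hMdef, hNdef, hc.mem_reg, hc.mem_reg]
      exact hc.disjoint L (Or.inr (Or.inr hLm)) x (Or.inr (Or.inr hxm)) (Ne.symm hxL)
    have hNmix : Disjoint N.reg (mixed W₁ W₂) := h.mem_disjoint_mixed hc hs ⟨x, hxm⟩
    have hpar := M.parity N hodd hd
    rw [hgN N hd hNmix, zero_add] at hpar
    have h1 := M.cross_energy N hd (fun e => by simp [e] at hpar)
    rw [hNdef, hc.mem_reg] at h1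
    rw [memberI_meas h.hG (hc.coatom x hxm) (hc.typeI x hxm)]
    exact h1
  have htot := h.total hc (M.Z M.i₀)
  rw [M.Z_norm, Complex.one_re, ← Finset.add_sum_erase 𝓛 _ hLm] at htot
  have hmea := h.measure_eq hc
  rw [← Finset.add_sum_erase 𝓛 _ hLm, hs.card₁, hs.card₂] at hmea
  have hMreg : M.reg = reg L := hc.mem_reg h.hG ⟨L, hLm⟩
  rw [hMreg] at hown
  have hT := htT hgN
  have hsum := Finset.sum_le_sum hothers
  have he1 := energy_nonneg (mixed W₁ W₂) (M.Z M.i₀)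
  have he2 := energy_nonneg (reg S) (M.Z M.i₀)
  have hS := h.meas_S_le hs
  have hGi := h.inv_card_le hs
  have hp0 : (0 : ℝ) < p := Nat.cast_pos.2 hs.hp.pos
  have hq0 : (0 : ℝ) < q := Nat.cast_pos.2 hs.hq.pos
  have hp1 : (1 : ℝ) ≤ p := Nat.one_le_cast.2 hs.hp.one_le
  have hq1 : (1 : ℝ) ≤ q := Nat.one_le_cast.2 hs.hq.one_le
  have hu0 : (1 : ℝ) ≤ C.relIndex U := Nat.one_le_cast.2 (by omega)
  have hc0 : (1 : ℝ) ≤ Nat.card C := Nat.one_le_cast.2 hcpos
  set N' : ℝ := ((∑ i ∈ Finset.range p, q ^ i : ℕ) : ℝ) with hN'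
  have hN0 : 0 < N' := by
    rw [hN']
    refine Nat.cast_pos.2 (Nat.lt_of_lt_of_le Nat.one_pos ?_)
    have := hpq.dual_ge
    omega
  set H : ℝ := (Nat.card (Cfsg.sigmaCore L) : ℝ) with hH
  have hH1 : 1 ≤ H := Nat.one_le_cast.2 hh0
  have hML : meas L ≤ 1 / ((p : ℝ) * q) := by
    rw [memberI_meas h.hG (hc.coatom L hLm) (hc.typeI L hLm)]
    change (M.n : ℝ) / (M.e * M.n + 1) ≤ _
    rw [hMe, Nat.cast_mul, div_le_div_iff₀ (by positivity) (by positivity)]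
    nlinarith
  have hown' : 1 - (p : ℝ) * q / H ≤ energy (reg L) (M.Z M.i₀) := by
    refine le_trans (le_of_eq ?_) hown
    rw [hMe, hH, ← hMn]
    push_cast
    rfl
  have hGi' : (Nat.card G : ℝ)⁻¹ ≤ 1 / ((p : ℝ) * q) := by
    refine hGi.trans (one_div_le_one_div_of_le (by positivity) ?_)
    have : (p : ℝ) ≤ (p : ℝ) ^ q := by
      calc (p : ℝ) = (p : ℝ) ^ 1 := (pow_one _).symm
        _ ≤ (p : ℝ) ^ q := pow_le_pow_right₀ hp1 hs.hq.one_le
    nlinarith [mul_le_mul (mul_le_mul this hu0 zero_le_one (by positivity)) hc0 zero_le_one (by positivity)]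
  have key : ((q : ℝ)⁻¹ + (p : ℝ)⁻¹ - ((q : ℝ) * p)⁻¹) ≤ 1 / ((p : ℝ) * q) + p * q / H +
      1 / ((q : ℝ) * C.relIndex U * Nat.card C) + 1 / ((p : ℝ) * N') + 1 / ((p : ℝ) * q) := by
    linarith
  refine done (Arith.endgame₂ hpq hu1 hu hr hh0 hdvd hh ?_)
  have hm := mul_le_mul_of_nonneg_left key (show (0 : ℝ) ≤ p * q * H by positivity)
  have e1 : (p : ℝ) * q * H * ((q : ℝ)⁻¹ + (p : ℝ)⁻¹ - ((q : ℝ) * p)⁻¹) = ((p : ℝ) + q - 1) * H := by
    field_simp
  have e2 : (p : ℝ) * q * H * (1 / ((p : ℝ) * q) + p * q / H + 1 / ((q : ℝ) * C.relIndex U * Nat.card C) +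
      1 / ((p : ℝ) * N') + 1 / ((p : ℝ) * q)) =
      (2 + p / ((C.relIndex U : ℝ) * Nat.card C) + q / N') * H + (p : ℝ) ^ 2 * (q : ℝ) ^ 2 := by
    field_simp
    ring
  rw [e1, e2] at hm
  rw [← hN', ← hH]
  linarith

end Pair

end Cfsg.Agent.Grp.FT
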