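import Cfsg.Agent.Lib.Grp.FT.Virt
import Cfsg.Agent.Lib.Grp.FT.Defs
import Cfsg.Agent.Lib.Char.TIFamily
import Cfsg.Agent.S1508

/-!
The grid of signed irreducible characters attached to `W₁ × W₂`, indexed by the linear characters of the two
factors, and the counting lemmas which determine virtual characters of small norm on it.
-/

set_option autoImplicit false
set_option linter.unusedSectionVars false
set_option linter.style.haveILetI false

namespace Cfsg.Agent.Grp.FT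

open Cfsg Cfsg.Agent.Char
open scoped ComplexConjugate

universe u

variable {G : Type u} [Group G] [Fintype G] {W₁ W₂ : Subgroup G}

/-- The grid of signed irreducible characters. -/
structure Grid (W₁ W₂ : Subgroup G) where
  eta : (↥W₁ →* ℂˣ) → (↥W₂ →* ℂˣ) → G → ℂ
  self : IsSelfNormalizingCyclic W₁ W₂
  irr : ∀ f g, IsIrrCharacter G (eta f g) ∨ IsIrrCharacter G (-eta f g)
  norm_one : ∀ f g, classInner (eta f g) (eta f g) = 1
  orth : ∀ f g f' g', ¬(f = f' ∧ g = g') → classInner (eta f g) (eta f' g') = 0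
  one : eta 1 1 = fun _ => 1
  val : ∀ f g (a : ↥W₁) (b : ↥W₂), a ≠ 1 → b ≠ 1 → eta f g ((a : G) * b) = (f a : ℂ) * (g b : ℂ)
  outside : ∀ f g (x : G), x ∉ mixed W₁ W₂ → 1 - eta f 1 x - eta 1 g x + eta f g x = 0
  additive : ∀ θ : G → ℂ, IsClassFunction G θ → (∀ (a : ↥W₁) (b : ↥W₂), a ≠ 1 → b ≠ 1 → θ ((a : G) * b) = 0) →
    ∀ f g, classInner θ (eta f g) = classInner θ (eta f 1) + classInner θ (eta 1 g) - classInner θ (eta 1 1)
  orth_vanish : ∀ θ : G → ℂ, IsClassFunction G θ → (∀ f g, classInner θ (eta f g) = 0) →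
    ∀ (a : ↥W₁) (b : ↥W₂), a ≠ 1 → b ≠ 1 → θ ((a : G) * b) = 0
  rational : ∀ f g (x : G), Nat.Coprime (orderOf x) (orderOf f) → Nat.Coprime (orderOf x) (orderOf g) →
    ∃ n : ℤ, eta f g x = n

theorem mixed_mul (hW : IsSelfNormalizingCyclic W₁ W₂) {a : ↥W₁} {b : ↥W₂} (ha : a ≠ 1) (hb : b ≠ 1) :
    ((a : G) * b) ∈ mixed W₁ W₂ := by
  refine ⟨1, _, ⟨mul_mem (Subgroup.mem_sup_left a.2) (Subgroup.mem_sup_right b.2), ?_⟩, by group⟩
  rintro (h | h)
  · refine hb (Subtype.ext (Subgroup.mem_bot.1 (hW.2.2.1.le ⟨?_, b.2⟩)))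
    exact (W₁.mul_mem_cancel_left a.2).1 h
  · refine ha (Subtype.ext (Subgroup.mem_bot.1 (hW.2.2.1.le ⟨a.2, ?_⟩)))
    exact (W₂.mul_mem_cancel_right b.2).1 h

theorem exists_of_mem_V (hW : IsSelfNormalizingCyclic W₁ W₂) {z : G}
    (hz : z ∈ (↑(W₁ ⊔ W₂) : Set G) \ ((W₁ : Set G) ∪ ↑W₂)) :
    ∃ (a : ↥W₁) (b : ↥W₂), a ≠ 1 ∧ b ≠ 1 ∧ (a : G) * b = z := by
  obtain ⟨a, ha, b, hb, rfl⟩ := CyclicW.exists_mul_eq W₁ W₂ hW.2.2.2.1 hz.1
  refine ⟨⟨a, ha⟩, ⟨b, hb⟩, fun e => hz.2 (Or.inr ?_), fun e => hz.2 (Or.inl ?_), rfl⟩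
  · have : a = 1 := congrArg Subtype.val e
    simpa [this] using hb
  · have : b = 1 := congrArg Subtype.val e
    simpa [this] using ha

/-- The linear characters of a cyclic subgroup. -/
theorem dual_facts (U : Subgroup G) (hc : IsCyclic U) :
    Finite (U →* ℂˣ) ∧ Nat.card (U →* ℂˣ) = Nat.card U ∧ (∀ a b : U, a * b = b * a) := by
  haveI := hc
  letI : CommGroup U := IsCyclic.commGroup
  have h := CommGroup.card_monoidHom_of_hasEnoughRootsOfUnity U ℂ
  exact ⟨Nat.finite_of_card_ne_zero (by rw [h]; exact Nat.card_pos.ne'), h, fun a b => mul_comm a b⟩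

/-- Existence of the grid. -/
theorem exists_grid (hW : IsSelfNormalizingCyclic W₁ W₂) (hodd : Odd (Nat.card ↥(W₁ ⊔ W₂))) :
    Nonempty (Grid W₁ W₂) := by
  classical
  obtain ⟨χ, hχ⟩ := TIFamily.exists_family W₁ W₂ hW hodd
  obtain ⟨-, -, hinf, hcomm, hcyc, -⟩ := id hW
  haveI : IsCyclic ↥(W₁ ⊔ W₂) := hcyc
  let φ : ↥W₁ × ↥W₂ →* ↥(W₁ ⊔ W₂) := MonoidHom.noncommCoprod (Subgroup.inclusion le_sup_left)
    (Subgroup.inclusion le_sup_right) fun a b => Subtype.ext (hcomm a a.2 b b.2)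
  have hval : ∀ p, (φ p : G) = (p.1 : G) * p.2 := fun p => rfl
  have hφ : Function.Bijective φ := by
    refine ⟨(MonoidHom.ker_eq_bot_iff φ).1 ?_, fun w => ?_⟩
    · rw [Subgroup.eq_bot_iff_forall]
      intro p hp
      have h : (p.1 : G) * p.2 = 1 := by
        rw [← hval]; exact congrArg Subtype.val (MonoidHom.mem_ker.1 hp)
      have h1 : (p.1 : G) = (p.2 : G)⁻¹ := eq_inv_of_mul_eq_one_left h
      have h2 : (p.1 : G) = 1 := Subgroup.mem_bot.1 (hinf.le ⟨p.1.2, h1.symm ▸ W₂.inv_mem p.2.2⟩)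
      exact Prod.ext (Subtype.ext h2) (Subtype.ext (by simpa [h2] using h))
    · obtain ⟨a, ha, b, hb, e⟩ := CyclicW.exists_mul_eq W₁ W₂ hcomm w.2
      exact ⟨(⟨a, ha⟩, ⟨b, hb⟩), Subtype.ext e⟩
  let e := MulEquiv.ofBijective φ hφ
  let E : (↥W₁ →* ℂˣ) → (↥W₂ →* ℂˣ) → (↥(W₁ ⊔ W₂) →* ℂˣ) := fun f g => (f.coprod g).comp e.symm.toMonoidHom
  have hE : ∀ f g a b, E f g (φ (a, b)) = f a * g b := fun f g a b => by
    show (f.coprod g) (e.symm (φ (a, b))) = _
    rw [show φ (a, b) = e (a, b) from rfl, MulEquiv.symm_apply_apply]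
    rfl
  have hEinj : ∀ f g f' g', E f g = E f' g' → f = f' ∧ g = g' := fun f g f' g' h =>
    ⟨MonoidHom.ext fun a => by simpa [hE] using DFunLike.congr_fun h (φ (a, 1)),
      MonoidHom.ext fun b => by simpa [hE] using DFunLike.congr_fun h (φ (1, b))⟩
  have hEsurj : ∀ ω, E (ω.comp (Subgroup.inclusion le_sup_left)) (ω.comp (Subgroup.inclusion le_sup_right)) = ω :=
    fun ω => MonoidHom.ext fun w => by
      obtain ⟨⟨a, b⟩, rfl⟩ := hφ.2 w
      rw [hE]
      simp only [MonoidHom.comp_apply, ← map_mul]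
      rfl
  have hE1 : E 1 1 = 1 := MonoidHom.ext fun w => by
    obtain ⟨⟨a, b⟩, rfl⟩ := hφ.2 w
    simp [hE]
  have hmul : ∀ f g, E f 1 * E 1 g = E f g := fun f g => MonoidHom.ext fun w => by
    obtain ⟨⟨a, b⟩, rfl⟩ := hφ.2 w
    simp [hE]
  have hk1 : ∀ g (w : ↥(W₁ ⊔ W₂)), (w : G) ∈ W₁ → E 1 g w = 1 := fun g w hw => by
    rw [show w = φ (⟨w, hw⟩, 1) from Subtype.ext (by rw [hval]; simp), hE]
    simp
  have hk2 : ∀ f (w : ↥(W₁ ⊔ W₂)), (w : G) ∈ W₂ → E f 1 w = 1 := fun f w hw => by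
    rw [show w = φ (1, ⟨w, hw⟩) from Subtype.ext (by rw [hval]; simp), hE]
    simp
  have hne : ∀ {a : ↥W₁} {b : ↥W₂}, a ≠ 1 → b ≠ 1 → (φ (a, b) : G) ∉ W₁ ∧ (φ (a, b) : G) ∉ W₂ := by
    intro a b ha hb
    rw [hval]
    refine ⟨fun h => hb (Subtype.ext (Subgroup.mem_bot.1 (hinf.le ⟨?_, b.2⟩))),
      fun h => ha (Subtype.ext (Subgroup.mem_bot.1 (hinf.le ⟨a.2, ?_⟩)))⟩
    · exact (W₁.mul_mem_cancel_left a.2).1 h
    · exact (W₂.mul_mem_cancel_right b.2).1 h
  have hgen : ∀ f g, IsClassFunction G (χ (E f g)) := fun f g => by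
    rcases hχ.irr_or_neg (E f g) with h | h
    · exact IsIrr.classFun h
    · simpa using classFunction_smul (-1) (IsIrr.classFun h)
  haveI : Fintype ↥(W₁ ⊔ W₂) := Fintype.ofFinite _
  -- the induced basic function
  let α : (↥W₁ →* ℂˣ) → (↥W₂ →* ℂˣ) → ↥(W₁ ⊔ W₂) → ℂ := fun f g w =>
    1 - (E f 1 w : ℂ) - (E 1 g w : ℂ) + (E f 1 w : ℂ) * (E 1 g w : ℂ)
  have hind : ∀ f g, indFun (W₁ ⊔ W₂) (α f g) = fun x => 1 - χ (E f 1) x - χ (E 1 g) x + χ (E f g) x := by
    intro f g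
    by_cases hf : f = 1
    · subst hf
      rw [show α 1 g = (0 : ↥(W₁ ⊔ W₂) → ℂ) from funext fun w => by simp [α, hE1], indFun_zero, hE1, hχ.map_one]
      funext x; simp
    by_cases hg : g = 1
    · subst hg
      rw [show α f 1 = (0 : ↥(W₁ ⊔ W₂) → ℂ) from funext fun w => by simp [α, hE1], indFun_zero, hE1, hχ.map_one]
      funext x; simp
    rw [← hmul f g]
    exact hχ.induced_eq (E f 1) (E 1 g) (fun h => hf (hEinj _ _ _ _ (h.trans hE1.symm)).1)
      (fun h => hg (hEinj _ _ _ _ (h.trans hE1.symm)).2) (hk2 f) (hk1 g)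
  have hα0 : ∀ f g (w : ↥(W₁ ⊔ W₂)), ((w : G) ∈ W₁ ∨ (w : G) ∈ W₂) → α f g w = 0 := fun f g w hw =>
    CyclicW.basic_vanish W₁ W₂ (hk2 f) (hk1 g) hw
  have hpair : ∀ (θ : G → ℂ), IsClassFunction G θ → ∀ f g,
      classInner (α f g) (fun w : ↥(W₁ ⊔ W₂) => θ w) = classInner (χ (E 1 1)) θ - classInner (χ (E f 1)) θ -
        classInner (χ (E 1 g)) θ + classInner (χ (E f g)) θ := by
    intro θ hθ f g
    rw [← classInner_indFun _ _ hθ, hind, hE1, hχ.map_one]
    rw [show (fun x => 1 - χ (E f 1) x - χ (E 1 g) x + χ (E f g) x) =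
      (fun _ => 1) - χ (E f 1) - χ (E 1 g) + χ (E f g) from rfl, classInner_add_left, classInner_sub_left,
      classInner_sub_left]
  refine ⟨⟨fun f g => χ (E f g), hW, fun f g => hχ.irr_or_neg _, fun f g => ?_, fun f g f' g' hne => ?_, ?_, fun f g a b ha hb => ?_,
    fun f g x hx => ?_, fun θ hθ h0 f g => ?_, fun θ hθ h0 a b ha hb => ?_, fun f g x hf hg => ?_⟩⟩
  · rw [hχ.orthonormal, if_pos rfl]
  · rw [hχ.orthonormal, if_neg fun h => hne (hEinj _ _ _ _ h)]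
  · rw [hE1, hχ.map_one]
  · have h := hχ.eq_on (E f g) (φ (a, b)) (hne ha hb).1 (hne ha hb).2
    rw [hval, hE, Units.val_mul] at h
    exact h
  · have h := congrFun (hind f g) x
    rw [← h]
    simp only [indFun]
    rw [Finset.sum_eq_zero fun y _ => ?_, mul_zero]
    by_cases hy : y⁻¹ * x * y ∈ W₁ ⊔ W₂
    · rw [extendByZero_of_mem _ hy]
      refine hα0 f g _ ?_
      by_contra hc
      exact hx ⟨y, _, ⟨hy, fun h => hc h⟩, by group⟩
    · exact extendByZero_not_mem _ hy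
  · have h1 : classInner (α f g) (fun w : ↥(W₁ ⊔ W₂) => θ w) = 0 := by
      simp only [classInner]
      rw [Finset.sum_eq_zero fun w _ => ?_, mul_zero]
      by_cases hw : (w : G) ∈ W₁ ∨ (w : G) ∈ W₂
      · rw [hα0 f g w hw, zero_mul]
      · obtain ⟨a, b, ha, hb, e⟩ := exists_of_mem_V hW ⟨w.2, hw⟩
        simp only [← e, h0 a b ha hb, map_zero, mul_zero]
    rw [hpair θ hθ f g] at h1
    rw [← classInner_conj_symm (χ (E f g)), ← classInner_conj_symm (χ (E f 1)), ← classInner_conj_symm (χ (E 1 g)),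
      ← classInner_conj_symm (χ (E 1 1)), ← map_add, ← map_sub]
    congr 1
    linear_combination h1
  · obtain ⟨hfin₁, -, hab₁⟩ := dual_facts W₁ (isCyclic_of_injective (Subgroup.inclusion (le_sup_left (b := W₂)))
      (Subgroup.inclusion_injective _))
    obtain ⟨hfin₂, -, hab₂⟩ := dual_facts W₂ (isCyclic_of_injective (Subgroup.inclusion (le_sup_right (a := W₁)))
      (Subgroup.inclusion_injective _))
    haveI := Fintype.ofFinite (↥W₁ →* ℂˣ)
    haveI := Fintype.ofFinite (↥W₂ →* ℂˣ)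
    have key : ∑ f : ↥W₁ →* ℂˣ, ∑ g : ↥W₂ →* ℂˣ, (((f a)⁻¹ : ℂˣ) : ℂ) * (((g b)⁻¹ : ℂˣ) : ℂ) *
        classInner (α f g) (fun w : ↥(W₁ ⊔ W₂) => θ w) = 0 := by
      refine Finset.sum_eq_zero fun f _ => Finset.sum_eq_zero fun g _ => ?_
      have h : ∀ f g, classInner (χ (E f g)) θ = 0 := fun f g => by
        rw [← classInner_conj_symm, h0 f g, map_zero]
      rw [hpair θ hθ f g, h, h, h, h]
      simp
    have key1 : ∑ w : ↥(W₁ ⊔ W₂), ((∑ f : ↥W₁ →* ℂˣ, (((f a)⁻¹ : ℂˣ) : ℂ) * (1 - (f (e.symm w).1 : ℂ))) *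
        (∑ g : ↥W₂ →* ℂˣ, (((g b)⁻¹ : ℂˣ) : ℂ) * (1 - (g (e.symm w).2 : ℂ)))) * conj (θ w) = 0 := by
      have hc : ((Nat.card ↥(W₁ ⊔ W₂) : ℂ))⁻¹ ≠ 0 := inv_ne_zero (Nat.cast_ne_zero.2 Nat.card_pos.ne')
      apply mul_left_cancel₀ hc
      rw [mul_zero, ← key]
      simp only [classInner, Finset.sum_mul, Finset.mul_sum]
      conv_lhs => arg 2; ext w; rw [Finset.sum_comm]
      rw [Finset.sum_comm]
      refine Finset.sum_congr rfl fun f _ => ?_
      rw [Finset.sum_comm]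
      refine Finset.sum_congr rfl fun g _ => Finset.sum_congr rfl fun w _ => ?_
      have e1 : ∀ f g, (E f g w : ℂ) = (f (e.symm w).1 : ℂ) * (g (e.symm w).2 : ℂ) := fun f g => by
        show ((f.coprod g (e.symm w) : ℂˣ) : ℂ) = _
        simp
      simp only [α, e1, MonoidHom.one_apply, Units.val_one, one_mul, mul_one]
      ring
    rw [Finset.sum_eq_single (φ (a, b))] at key1
    · have he : e.symm (φ (a, b)) = (a, b) := e.symm_apply_apply (a, b)
      rw [he, TIFamily.pick hab₁ ha, TIFamily.pick hab₂ hb, if_pos rfl, if_pos rfl] at key1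
      rcases mul_eq_zero.1 key1 with h | h
      · rcases mul_eq_zero.1 h with h' | h' <;>
          exact absurd (neg_eq_zero.1 h') (Nat.cast_ne_zero.2 Fintype.card_ne_zero)
      · have h2 := (map_eq_zero _).1 h
        rwa [hval] at h2
    · intro w _ hw
      rw [TIFamily.pick hab₁ ha, TIFamily.pick hab₂ hb]
      by_cases h1 : (e.symm w).1 = a
      · have h2 : (e.symm w).2 ≠ b := fun h => hw (by
          rw [← e.apply_symm_apply w, show e.symm w = (a, b) from Prod.ext h1 h]; rfl)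
        rw [if_neg h2, mul_zero, zero_mul]
      · rw [if_neg h1, zero_mul, zero_mul]
    · exact fun hh => absurd (Finset.mem_univ _) hh
  · refine Cfsg.Agent.S1508.result W₁ W₂ hW hodd χ hχ (E f g) x ?_
    refine Nat.Coprime.coprime_dvd_right ?_ (Nat.Coprime.mul_right hf hg)
    apply orderOf_dvd_of_pow_eq_one
    refine MonoidHom.ext fun w => ?_
    obtain ⟨⟨a, b⟩, rfl⟩ := hφ.2 w
    rw [show (E f g ^ (orderOf f * orderOf g)) (φ (a, b)) = E f g (φ (a, b)) ^ (orderOf f * orderOf g) from rfl, hE,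
      mul_pow]
    have h1 : f a ^ (orderOf f * orderOf g) = 1 := by
      rw [pow_mul, show f a ^ orderOf f = (f ^ orderOf f) a from rfl, pow_orderOf_eq_one]; simp
    have h2 : g b ^ (orderOf f * orderOf g) = 1 := by
      rw [mul_comm (orderOf f), pow_mul, show g b ^ orderOf g = (g ^ orderOf g) b from rfl, pow_orderOf_eq_one]; simp
    rw [h1, h2, one_mul]; rfl

/-- The grid with the two factors exchanged. -/
def Grid.swap (g : Grid W₁ W₂) : Grid W₂ W₁ where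
  eta := fun f' f => g.eta f f'
  self := by
    obtain ⟨h1, h2, h3, h4, h5, h6⟩ := g.self
    refine ⟨h2, h1, inf_comm W₁ W₂ ▸ h3, fun a ha b hb => (h4 b hb a ha).symm, sup_comm W₁ W₂ ▸ h5, fun X hX hne => ?_⟩
    rw [sup_comm W₂ W₁] at hX ⊢
    exact h6 X (by rwa [Set.union_comm] at hX) hne
  irr := fun f' f => g.irr f f'
  norm_one := fun f' f => g.norm_one f f'
  orth := fun f' f h' h hne => g.orth f f' h h' fun e => hne e.symm
  one := g.one
  val := fun f' f b a hb ha => by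
    rw [show (b : G) * a = (a : G) * b from (g.self.2.2.2.1 a a.2 b b.2).symm, g.val f f' a b ha hb, mul_comm]
  outside := fun f' f x hx => by
    have h := g.outside f f' x (by
      rintro ⟨y, z, ⟨hz, hz'⟩, e⟩
      exact hx ⟨y, z, ⟨sup_comm W₁ W₂ ▸ hz, fun h => hz' h.symm⟩, e⟩)
    linear_combination h
  additive := fun θ hθ h0 f' f => by
    have h := g.additive θ hθ (fun a b ha hb => by
      rw [g.self.2.2.2.1 a a.2 b b.2]; exact h0 b a hb ha) f f'
    linear_combination h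
  orth_vanish := fun θ hθ h0 b a hb ha => by
    rw [show (b : G) * a = (a : G) * b from (g.self.2.2.2.1 a a.2 b b.2).symm]
    exact g.orth_vanish θ hθ (fun f f' => h0 f' f) a b ha hb
  rational := fun f' f x h' h => g.rational f f' x h h'

end Cfsg.Agent.Grp.FT
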