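import Cfsg.Agent.Lib.Grp.FT.SetupSide
import Cfsg.Agent.Lib.Transfer.Local.SigmaCover

/-!
The kernel elements `z ∈ C` of a member of type II are supported by a type I member with `R(z)` all of `P`.
-/

set_option autoImplicit false
set_option maxHeartbeats 1000000

namespace Cfsg.Agent.Grp.FT

open Subgroup Cfsg.Agent.Transfer Cfsg.Agent.Transfer.Loc
open scoped Pointwise

universe u

variable {G : Type u} [Group G] [Finite G]

/-- The standard factorisation of a member of type II. -/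
theorem decomp_of_typeII (hG : Cfsg.IsMinSimpleOddOrder G) {M : Subgroup G} (hM : IsCoatom M)
    (hII : Cfsg.IsOfTypeII M) :
    ∃ K U : Subgroup G, Cfsg.IsSigmaDecomposition M K U ∧ K ≠ ⊥ ∧ U ≠ ⊥ ∧
      Cfsg.fittingHallOf M = Cfsg.sigmaCore M := by
  have hκ : (Cfsg.kappa M).Nonempty := by
    obtain ⟨W₁, V, W₂, hP, -⟩ := hII
    exact kappa_nonempty_of_typeP hG hM hP
  haveI := solvable_of_ne_top hG hM.1
  obtain ⟨K, hK⟩ := Grp.PiHall.exists_piHall (Cfsg.kappa M) M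
  obtain ⟨q, hq⟩ := hκ
  have hK1 : K ≠ ⊥ := fun e => hK.2.2 q hq.1 hq (by rw [e, Subgroup.relIndex_bot_left]; exact hq.2.1)
  obtain ⟨Ms, hp⟩ := exists_kappaPair hG hM hK hK1
  obtain ⟨U, hKU⟩ := exists_decomp hG hM hp.cycK hK
  have hU := ((typeII_iff hG hM hKU).1 hII).2
  exact ⟨K, U, hKU, hK1, hU, fittingHallOf_of_U hG hM hKU hU⟩

namespace Side

variable {M U C W₁ W₂ : Subgroup G} {p q : ℕ}
  (hs : Side M (Cfsg.fittingHallOf M) U C W₁ W₂ p q) (hII : Cfsg.IsOfTypeII M)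
include hs hII

/-- The elements of `C` are `τ₂`-elements fixing `P`. -/
theorem tau2_of_mem_C {z : G} (hz : z ∈ C) (hz1 : z ≠ 1) :
    z ∈ M ∧ ∀ r : ℕ, r.Prime → r ∣ orderOf z → r ∈ Cfsg.tau2 M := by
  have hG := hs.hG
  have hM := hs.hM
  obtain ⟨K, U', hKU, hK1, -, hF⟩ := decomp_of_typeII hG hM hII
  obtain ⟨-, h2, hcop, -⟩ := derived_compl hG hM hKU hK1
  have hzU : z ∈ U := hs.C_lt.le hz
  have hzM' : z ∈ ⁅M, M⁆ := hs.compl.2.1 hzU
  have hzM : z ∈ M := M.commutator_le_self hzM'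
  have hσ : ∀ r : ℕ, r.Prime → r ∣ orderOf z → r ∉ Cfsg.sigma M := fun r hr hd hrσ => by
    refine (isPiHallOf_piCore hG hM (alpha_subset_sigma hG hM) Set.Subset.rfl).2.2 r hr hrσ ?_
    change r ∣ (Cfsg.sigmaCore M).relIndex M
    rw [← hF, ← Subgroup.relIndex_mul_relIndex (Cfsg.fittingHallOf M) ⁅M, M⁆ M hs.compl.1 M.commutator_le_self,
      (complIn_relIndex hs.compl).1]
    exact (hd.trans (Subgroup.orderOf_dvd_natCard _ hzU)).mul_right _
  have hPz : z ∈ centralizer (Cfsg.fittingHallOf M : Set G) := by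
    have h := hs.C_eq.ge hz
    exact h.2
  refine ⟨hzM, (fixed_primes_cases hG hM hzM hz1 hσ ?_).resolve_left fun hκ => ?_⟩
  · refine fun e => sigmaCore_ne_bot hG hM (le_bot_iff.1 ((le_inf le_rfl fun y hy => ?_).trans e.le))
    exact mem_centralizer_singleton_iff.2 (mem_centralizer_iff.1 hPz y (hF.ge hy))
  · obtain ⟨r, hr, hd⟩ := Nat.exists_prime_and_dvd fun e => hz1 (orderOf_eq_one_iff.1 e)
    refine hr.ne_one (Nat.eq_one_of_dvd_coprimes hcop (hd.trans (Subgroup.orderOf_dvd_natCard _ hzM')) ?_)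
    have hrM : r ∣ Nat.card M := hd.trans (Subgroup.orderOf_dvd_natCard _ hzM)
    rw [← Grp.card_mul_relIndex hKU.hall.1] at hrM
    exact (hr.dvd_mul.1 hrM).resolve_right (hKU.hall.2.2 r hr (hκ r hr hd))

/-- An element of `C` is supported in a type I member and its `R` is all of `P`. -/
theorem fixing {𝓛 : Finset (Subgroup G)}
    (hcomp : ∀ L : Subgroup G, IsCoatom L → Cfsg.IsOfTypeI L → ∃ c : G, L.map (MulAut.conj c).toMonoidHom ∈ 𝓛)
    {z : G} (hz : z ∈ C) (hz1 : z ≠ 1) :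
    centralizer ({z} : Set G) ≤ M ∧ ∃ L ∈ 𝓛, ∃ c : G, c * z * c⁻¹ ∈ Cfsg.sigmaCore L ∧ c * z * c⁻¹ ≠ 1 ∧
      Cfsg.supportR L (c * z * c⁻¹) = (Cfsg.fittingHallOf M).map (MulAut.conj c).toMonoidHom := by
  have hG := hs.hG
  have hM := hs.hM
  obtain ⟨-, -, -, -, -, hF⟩ := decomp_of_typeII hG hM hII
  obtain ⟨hzM, hτ⟩ := hs.tau2_of_mem_C hII hz hz1
  have hPz : ∀ y ∈ Cfsg.sigmaCore M, Commute y z := fun y hy =>
    mem_centralizer_iff.1 (hs.C_eq.ge hz).2 y (hF.ge hy)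
  obtain ⟨y, hy, hy1⟩ := (bot_or_exists_ne_one _).resolve_left (sigmaCore_ne_bot hG hM)
  obtain ⟨hCz, L, hL, hzL, -⟩ := support_of_tau2 hG hM hzM hz1 hτ hy hy1 (hPz y hy)
  haveI := solvable_of_ne_top hG hM.1
  obtain ⟨E, hE, -⟩ := exists_compl_ge hG hM (U := ⊥) bot_le fun s hs' hd => by
    rw [Subgroup.card_bot, Nat.dvd_one] at hd; exact absurd hd hs'.ne_one
  have huM := ((Cfsg.Agent.S1420.result hG M hM E hE).2.2.2 z hzM hz1 hτ ⟨hzM, y, hy, hy1, (hPz y hy).eq.symm⟩).2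
  have hCL : ¬ centralizer ({z} : Set G) ≤ L := fun h => by
    obtain ⟨r, hr, hd⟩ := Nat.exists_prime_and_dvd fun e => hz1 (orderOf_eq_one_iff.1 e)
    rw [huM L hL h] at hzL
    exact (hτ r hr hd).2.1 (TransHyp.piCoreOf_primes (π := Cfsg.sigma M) (X := M) hr
      (hd.trans (Subgroup.orderOf_dvd_natCard _ hzL)))
  obtain ⟨N, hsup, -, hκL⟩ := exists_support_kappa hG hL hzL hz1 hCL
  obtain rfl := huM N hsup.hN hsup.le
  obtain ⟨c, hc⟩ := hcomp L hL (typeI_of_kappa_empty hG hL hκL)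
  change MulAut.conj c • L ∈ 𝓛 at hc
  have hcL : IsCoatom (MulAut.conj c • L) := isCoatom_conj hG hL c
  have hzc : c * z * c⁻¹ ∈ Cfsg.sigmaCore (MulAut.conj c • L) := by
    rw [← smul_sigmaCore hG hL]
    exact ⟨z, hzL, rfl⟩
  have hzc1 : c * z * c⁻¹ ≠ 1 := fun e => hz1 (conj_eq_one_iff.1 e)
  refine ⟨hCz, _, hc, c, hzc, hzc1, ?_⟩
  ext r
  rw [supportR_iff hG hcL hzc hzc1]
  refine ⟨fun hr => ⟨c⁻¹ * r * c, ?_, ?_⟩, ?_⟩
  · have h' := hr.conj hG hcL c⁻¹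
    rw [Grp.conj_smul_conj_smul, inv_mul_cancel, map_one, one_smul, inv_inv,
      show c⁻¹ * (c * z * c⁻¹) * c = z by group] at h'
    rcases h' with h' | ⟨N', hN', hr'⟩
    · rw [h']; exact one_mem _
    · rw [huM N' hN'.hN hN'.le] at hr'
      exact hF.ge hr'.1
  · show c * (c⁻¹ * r * c) * c⁻¹ = r
    group
  · rintro ⟨x, hx, rfl⟩
    exact InR.conj hG hL (Or.inr ⟨N, hsup, hF.le hx, mem_centralizer_singleton_iff.2 (hPz x (hF.le hx)).eq⟩) c

end Side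

end Cfsg.Agent.Grp.FT
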