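import Cfsg.Agent.Lib.Grp.FT.MuCoef
import Cfsg.Agent.Lib.Grp.FT.Measure
import Cfsg.Agent.Lib.Grp.FT.SetupFix

/-!
The images of the type I members are constant on the cosets `z P` of the kernel of a side of type II; this gives
the lower bound for the energy of a class function on the regions in terms of its fluctuation on `P × C`.
-/

set_option autoImplicit false
set_option linter.unusedSectionVars false
set_option linter.style.haveILetI false
set_option maxHeartbeats 1000000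

namespace Cfsg.Agent.Grp.FT

open Subgroup Cfsg.Agent.Char Cfsg.Agent.Transfer Cfsg.Agent.Transfer.Loc
open scoped ComplexConjugate Pointwise

attribute [local instance] _root_.Classical.propDecidable

universe u

variable {G : Type u} [Group G] [Fintype G] {S T W₁ W₂ : Subgroup G} {𝓛 : Finset (Subgroup G)}

theorem mixed_symm (A B : Subgroup G) : mixed A B = mixed B A := by
  ext g
  simp only [mixed, sup_comm A B, Set.union_comm (A : Set G) B]

/-- The cover seen from the other member of the pair. -/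
theorem Cover.symm (hc : Cover S T W₁ W₂ 𝓛) : Cover T S W₂ W₁ 𝓛 where
  coatom := hc.coatom
  typeI := hc.typeI
  complete := hc.complete
  cover := fun g hg => by
    rcases hc.cover g hg with h | h | h | h
    · exact Or.inl (mixed_symm W₁ W₂ ▸ h)
    · exact Or.inr (Or.inr (Or.inl h))
    · exact Or.inr (Or.inl h)
    · exact Or.inr (Or.inr (Or.inr h))
  disjoint := by rw [Set.insert_comm]; exact hc.disjoint
  disjoint_mixed := by rw [Set.insert_comm, mixed_symm]; exact hc.disjoint_mixed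

/-- The member attached to an element of the covering family. -/
noncomputable def Cover.mem (hc : Cover S T W₁ W₂ 𝓛) (hG : Cfsg.IsMinSimpleOddOrder G) (L : {L // L ∈ 𝓛}) :
    Member G :=
  memberI hG (hc.coatom L L.2) (hc.typeI L L.2)

theorem Cover.mem_reg (hc : Cover S T W₁ W₂ 𝓛) (hG : Cfsg.IsMinSimpleOddOrder G) (L : {L // L ∈ 𝓛}) :
    (hc.mem hG L).reg = reg L.1 := memberI_reg hG (hc.coatom L L.2) (hc.typeI L L.2)

/-- A function that is constant on the cosets of `P` in `P × C`. -/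
def ConstP (P C : Subgroup G) (Φ : G → ℂ) : Prop :=
  ∀ x y : ↥(P ⊔ C), (y : G) ∈ P → Φ (x * y : ↥(P ⊔ C)) = Φ x

namespace Side

variable {M P U C A B : Subgroup G} {p q : ℕ} (hs : Side M P U C A B p q) [Fintype M]
include hs

theorem linCoef_zero {Φ : G → ℂ} (hΦ : ConstP P C Φ) {l : ↥(P ⊔ C) →* ℂˣ}
    (hl : ∃ y : ↥(P ⊔ C), (y : G) ∈ P ∧ l y ≠ 1) : linCoef Φ l = 0 := by
  haveI : Fintype ↥(P ⊔ C) := Fintype.ofFinite _
  rw [linCoef, finsum_eq_sum_of_fintype, sum_const_cosets (fun x : ↥(P ⊔ C) => Φ x) hΦ l hl, mul_zero]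

/-- The images of differences are orthogonal to the functions constant on the cosets of `P`. -/
theorem inner_tau_constP {Φ : G → ℂ} (hΦc : Cfsg.IsClassFunction G Φ) (hΦ : ConstP P C Φ)
    {l l' : ↥(P ⊔ C) →* ℂˣ} (hl : ∃ y : ↥(P ⊔ C), (y : G) ∈ P ∧ l y ≠ 1)
    (hl' : ∃ y : ↥(P ⊔ C), (y : G) ∈ P ∧ l' y ≠ 1) :
    Cfsg.classInner Φ (hs.tauS (indLin M l - indLin M l')) = 0 := by
  rw [hs.inner_tau_indLin hΦc, hs.linCoef_zero hΦ hl, hs.linCoef_zero hΦ hl', sub_self]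

theorem PC_ti : Cfsg.DadeHypothesis (((P ⊔ C : Subgroup G) : Set G) \ {1}) M (fun _ => ⊥) := by
  refine ti_dade (fun h => h.2 rfl) (fun x hx => hs.PC_le hx.1) (fun x hx a ha => ⟨Grp.mem_conj_normalizer
    (hs.M_norm_PC hx) ha.1, fun e => ha.2 (conj_eq_one_iff.1 e)⟩) fun a ha g hg => ?_
  by_contra hgM
  have hti := hs.ti
  rw [hs.fit] at hti
  exact ha.2 (hti g (fun h => hgM (hs.normalizer_PC ▸ h)) a ha.1 hg.1)

end Side

namespace Pair

variable (h : Pair S T W₁ W₂) (hc : Cover S T W₁ W₂ 𝓛) {U C : Subgroup G} {p q : ℕ}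
  (hs : Side S (Cfsg.fittingHallOf S) U C W₁ W₂ p q)
include h hc hs

/-- The images of a type I member are constant on the cosets of `P`. -/
theorem tau_constP (L : {L // L ∈ 𝓛}) {α : (hc.mem h.hG L).L → ℂ} (hα : Supp (hc.mem h.hG L).A (hc.mem h.hG L).L α) :
    ConstP (Cfsg.fittingHallOf S) C ((hc.mem h.hG L).tau α) := by
  set φ := (hc.mem h.hG L).tau α with hφ
  have hS : S ∈ insert S (insert T (↑𝓛 : Set (Subgroup G))) := Or.inl rfl
  have hL : L.1 ∈ insert S (insert T (↑𝓛 : Set (Subgroup G))) := Or.inr (Or.inr L.2)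
  have h0 : ∀ y ∈ Cfsg.fittingHallOf S, φ y = 0 := fun y hy => by
    refine (hc.mem h.hG L).tau_outside fun hr => ?_
    rw [hc.mem_reg] at hr
    by_cases hy1 : y = 1
    · exact h.one_not_regI (hc.coatom L L.2) (hc.typeI L L.2) (hy1 ▸ hr)
    · refine Set.disjoint_left.1 (hc.disjoint S hS L.1 hL fun e => h.S_not_mem hc
        (Finset.mem_insert_of_mem (e ▸ L.2))) ⟨y, ⟨h.sigmaCore_S ▸ hy, hy1⟩, 1, one_mem _, 1, by group⟩ hr
  have hcf : Cfsg.IsClassFunction G φ := dade_cf (hc.mem h.hG L).hD hα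
  intro x y hy
  obtain ⟨y', hy', z, hz, hx⟩ := hs.mem_PC x.2
  have hxy : ((x * y : ↥(Cfsg.fittingHallOf S ⊔ C)) : G) = z * (y' * y) := by
    rw [Subgroup.coe_mul, hx, hs.comm_PC hy' hz, mul_assoc]
  by_cases hz1 : z = 1
  · rw [hxy, hx, hz1, one_mul, mul_one, h0 _ (mul_mem hy' hy), h0 _ hy']
  suffices key : ∀ w ∈ Cfsg.fittingHallOf S, φ (z * w) = φ z by
    rw [hxy, hx, hs.comm_PC hy' hz, key _ (mul_mem hy' hy), key _ hy']
  intro w hw
  obtain ⟨-, L', hL', c, hzL, hzc1, hR⟩ := hs.fixing h.typeII hc.complete hz hz1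
  have hmem : ∀ w ∈ Cfsg.fittingHallOf S, c * (z * w) * c⁻¹ = c * z * c⁻¹ * (c * w * c⁻¹) ∧
      c * w * c⁻¹ ∈ Cfsg.supportR L' (c * z * c⁻¹) := fun w hw => ⟨by group, hR.ge ⟨w, hw, rfl⟩⟩
  have hreg : ∀ w ∈ Cfsg.fittingHallOf S, z * w ∈ reg L' := fun w hw =>
    ⟨c * z * c⁻¹, ⟨hzL, hzc1⟩, c * w * c⁻¹, (hmem w hw).2, c⁻¹, by group⟩
  by_cases e : L' = L.1
  · subst e
    have hA : c * z * c⁻¹ ∈ (hc.mem h.hG L).A := by
      show c * z * c⁻¹ ∈ Cfsg.typeA L.1
      rw [(typeI_facts h.hG (hc.coatom L L.2) (hc.typeI L L.2)).2.2.2.1]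
      exact ⟨hzL, hzc1⟩
    have hval : ∀ w ∈ Cfsg.fittingHallOf S, φ (z * w) = Cfsg.extendByZero (hc.mem h.hG L).L α (c * z * c⁻¹) := fun w hw => by
      rw [← hcf (z * w) c, (hmem w hw).1]
      exact Dade.dade_apply_coset (hc.mem h.hG L).hD hα.1 hA (hmem w hw).2
    rw [hval w hw, ← hval 1 (one_mem _), mul_one]
  · have hz' : ∀ w ∈ Cfsg.fittingHallOf S, φ (z * w) = 0 := fun w hw => (hc.mem h.hG L).tau_outside fun hr => by
      rw [hc.mem_reg] at hr
      exact Set.disjoint_left.1 (hc.disjoint L' (Or.inr (Or.inr hL')) L.1 hL e) (hreg w hw) hr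
    rw [hz' w hw, ← hz' 1 (one_mem _), mul_one]

/-- The images of differences are orthogonal to the images of the members. -/
theorem inner_tau_member [Fintype S] (L : {L // L ∈ 𝓛}) {α : (hc.mem h.hG L).L → ℂ}
    (hα : Supp (hc.mem h.hG L).A (hc.mem h.hG L).L α) {l l' : ↥(Cfsg.fittingHallOf S ⊔ C) →* ℂˣ}
    (hl : ∃ y : ↥(Cfsg.fittingHallOf S ⊔ C), (y : G) ∈ Cfsg.fittingHallOf S ∧ l y ≠ 1)
    (hl' : ∃ y : ↥(Cfsg.fittingHallOf S ⊔ C), (y : G) ∈ Cfsg.fittingHallOf S ∧ l' y ≠ 1) :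
    Cfsg.classInner ((hc.mem h.hG L).tau α) (hs.tauS (indLin S l - indLin S l')) = 0 :=
  hs.inner_tau_constP (dade_cf (hc.mem h.hG L).hD hα) (h.tau_constP hc hs L hα) hl hl'

/-- The fluctuation bound. -/
theorem fluct [Fintype S] [Fintype ↥(Cfsg.fittingHallOf S ⊔ C)] {χ : G → ℂ} (hχ : Cfsg.IsClassFunction G χ)
    (horth : ∀ L i, Cfsg.classInner χ ((hc.mem h.hG L).Z i) =
      ((hc.mem h.hG L).d i : ℂ) * Cfsg.classInner χ ((hc.mem h.hG L).Z (hc.mem h.hG L).i₀))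
    (O R : Finset (↥(Cfsg.fittingHallOf S ⊔ C) →* ℂˣ)) (hOR : Disjoint O R)
    (hP : ∀ l, l ∈ O ∨ l ∈ R → ∃ y : ↥(Cfsg.fittingHallOf S ⊔ C), (y : G) ∈ Cfsg.fittingHallOf S ∧ l y ≠ 1)
    (s ε : ℂ) (hR : ∀ l ∈ R, linCoef χ l = s) (hO : ∀ l ∈ O, linCoef χ l = s + ε) :
    Complex.normSq ε * ((Nat.card ↥(Cfsg.fittingHallOf S ⊔ C) : ℝ) *
        ((O.card : ℝ) * R.card / ((O.card : ℝ) + R.card))) / Nat.card S +
      ∑ L, Complex.normSq (Cfsg.classInner χ (hc.mem h.hG L).beta) * meas L.1 ≤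
      energy (reg S) χ + ∑ L ∈ 𝓛, energy (reg L) χ := by
  let φ : {L // L ∈ 𝓛} → G → ℂ := fun L =>
    (hc.mem h.hG L).tau (avgA (hc.mem h.hG L).A (hc.mem h.hG L).L (hc.mem h.hG L).R χ)
  have hφα : ∀ L : {L // L ∈ 𝓛}, Supp (hc.mem h.hG L).A (hc.mem h.hG L).L
      (avgA (hc.mem h.hG L).A (hc.mem h.hG L).L (hc.mem h.hG L).R χ) := fun L => avgA_supp (hc.mem h.hG L).hD hχ
  have hφ0 : ∀ (L : {L // L ∈ 𝓛}) (g : G), g ∉ reg L.1 → φ L g = 0 := fun L g hg =>
    (hc.mem h.hG L).tau_outside (by rwa [hc.mem_reg])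
  set Φ : G → ℂ := fun g => ∑ L, φ L g with hΦdef
  have hΦcf : Cfsg.IsClassFunction G Φ := fun g x =>
    Finset.sum_congr rfl fun L _ => dade_cf (hc.mem h.hG L).hD (hφα L) g x
  -- the member bound
  have hval : ∀ L : {L // L ∈ 𝓛}, Complex.normSq (Cfsg.classInner χ (hc.mem h.hG L).beta) * meas L.1 +
      energy (reg L.1) (χ - φ L) ≤ energy (reg L.1) χ := fun L => by
    have h1 := (hc.mem h.hG L).value_le hχ (horth L) (F := (hc.mem h.hG L).reg) Set.Subset.rfl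
    rw [hc.mem_reg] at h1
    rwa [memberI_meas h.hG (hc.coatom L L.2) (hc.typeI L L.2)]
  -- the set
  set X : Set G := {g | ∃ a ∈ ((Cfsg.fittingHallOf S ⊔ C : Subgroup G) : Set G) \ {1}, ∃ x : G, g = x * a * x⁻¹}
  have hX : X ⊆ reg S ∪ ⋃ L ∈ 𝓛, reg L := by
    rintro _ ⟨a, ⟨ha, ha1⟩, x, rfl⟩
    obtain ⟨y, hy, z, hz, rfl⟩ := hs.mem_PC ha
    by_cases hz1 : z = 1
    · subst hz1
      exact Or.inl ⟨y, ⟨h.sigmaCore_S ▸ hy, fun e => ha1 (by simp [Set.mem_singleton_iff.1 e])⟩, 1, one_mem _, x,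
        by group⟩
    · obtain ⟨-, L', hL', c, hzL, hzc1, hR'⟩ := hs.fixing h.typeII hc.complete hz hz1
      refine Or.inr (Set.mem_iUnion₂.2 ⟨L', hL', c * z * c⁻¹, ⟨hzL, hzc1⟩, c * y * c⁻¹, hR'.ge ⟨y, hy, rfl⟩,
        x * c⁻¹, ?_⟩)
      rw [hs.comm_PC hy hz]; group
  have hdis : ∀ A ∈ insert S 𝓛, ∀ B ∈ insert S 𝓛, A ≠ B → Disjoint (reg A) (reg B) := fun A hA B hB =>
    hc.disjoint A (by rcases Finset.mem_insert.1 hA with e | e <;> simp [e])
      B (by rcases Finset.mem_insert.1 hB with e | e <;> simp [e])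
  have hSnot : S ∉ 𝓛 := fun e => h.S_not_mem hc (Finset.mem_insert_of_mem e)
  have hsum := sum_energy_le (insert S 𝓛) reg hdis (χ - Φ)
  rw [Finset.sum_insert hSnot, Finset.set_biUnion_insert] at hsum
  -- on the regions
  have hS : energy (reg S) (χ - Φ) = energy (reg S) χ := by
    simp only [energy]
    congr 1
    refine Finset.sum_congr rfl fun g _ => ?_
    by_cases hg : g ∈ reg S
    · rw [Set.indicator_of_mem hg, Set.indicator_of_mem hg]
      congr 1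
      rw [Pi.sub_apply, hΦdef, sub_eq_self]
      exact Finset.sum_eq_zero fun L _ => hφ0 L g fun hg' =>
        Set.disjoint_left.1 (hdis S (Finset.mem_insert_self _ _) L.1 (Finset.mem_insert_of_mem L.2)
          fun e => hSnot (e ▸ L.2)) hg hg'
    · rw [Set.indicator_of_notMem hg, Set.indicator_of_notMem hg]
  have hL : ∀ L : {L // L ∈ 𝓛}, energy (reg L.1) (χ - Φ) = energy (reg L.1) (χ - φ L) := fun L => by
    simp only [energy]
    congr 1
    refine Finset.sum_congr rfl fun g _ => ?_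
    by_cases hg : g ∈ reg L.1
    · rw [Set.indicator_of_mem hg, Set.indicator_of_mem hg]
      congr 1
      rw [Pi.sub_apply, Pi.sub_apply, hΦdef]
      congr 1
      exact Finset.sum_eq_single_of_mem L (Finset.mem_univ _) fun L' _ hne => hφ0 L' g fun hg' =>
        Set.disjoint_left.1 (hdis L.1 (Finset.mem_insert_of_mem L.2) L'.1 (Finset.mem_insert_of_mem L'.2)
          fun e => hne (Subtype.ext e.symm)) hg hg'
    · rw [Set.indicator_of_notMem hg, Set.indicator_of_notMem hg]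
  have hXle := energy_mono hX (χ - Φ)
  rw [← hsum, hS] at hXle
  -- the fluctuation on `P × C`
  have hti := ti_energy hs.PC_ti (classFunction_sub hχ hΦcf)
  have hblock := hs.block_bound hχ (fun x : ↥(Cfsg.fittingHallOf S ⊔ C) => Φ x)
    (fun a b => by simpa using hΦcf (a : G) (b : G))
    (fun x y hy => Finset.sum_congr rfl fun L _ => h.tau_constP hc hs L (hφα L) x y hy) O R hOR hP s ε hR hO
  have hindic : (∑ a : S, ((fun x : S => (x : G)) ⁻¹' (((Cfsg.fittingHallOf S ⊔ C : Subgroup G) : Set G) \ {1})).indicator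
      (fun x => Complex.normSq ((χ - Φ) x)) a) =
      (∑ x : ↥(Cfsg.fittingHallOf S ⊔ C), Complex.normSq (χ x - Φ x)) -
        Complex.normSq (χ ((1 : ↥(Cfsg.fittingHallOf S ⊔ C)) : G) - Φ ((1 : ↥(Cfsg.fittingHallOf S ⊔ C)) : G)) := by
    rw [← Finset.sum_erase_eq_sub (Finset.mem_univ _)]
    simp only [Set.indicator_apply]
    rw [← Finset.sum_filter]
    refine Finset.sum_bij' (fun a ha => ⟨a.1, (Finset.mem_filter.1 ha).2.1⟩) (fun x _ => ⟨x.1, hs.PC_le x.2⟩)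
      (fun a ha => Finset.mem_erase.2 ⟨fun e => (Finset.mem_filter.1 ha).2.2 ?_, Finset.mem_univ _⟩)
      (fun x hx => Finset.mem_filter.2 ⟨Finset.mem_univ _, x.2, fun e => (Finset.mem_erase.1 hx).1 (Subtype.ext e)⟩)
      (fun _ _ => rfl) (fun _ _ => rfl) (fun _ _ => rfl)
    exact congrArg (fun x : ↥(Cfsg.fittingHallOf S ⊔ C) => (x : G)) e
  rw [hindic] at hti
  have hlow : Complex.normSq ε * ((Nat.card ↥(Cfsg.fittingHallOf S ⊔ C) : ℝ) *
      ((O.card : ℝ) * R.card / ((O.card : ℝ) + R.card))) / Nat.card S ≤ energy X (χ - Φ) := by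
    rw [hti, div_eq_inv_mul]
    exact mul_le_mul_of_nonneg_left hblock (by positivity)
  have h4 : ∑ L ∈ 𝓛, energy (reg L) (χ - Φ) = ∑ L : {L // L ∈ 𝓛}, energy (reg L.1) (χ - φ L) := by
    rw [← Finset.sum_coe_sort 𝓛]
    exact Finset.sum_congr rfl fun L _ => hL L
  have h5 : ∑ L : {L // L ∈ 𝓛}, (Complex.normSq (Cfsg.classInner χ (hc.mem h.hG L).beta) * meas L.1 +
      energy (reg L.1) (χ - φ L)) ≤ ∑ L ∈ 𝓛, energy (reg L) χ := by
    rw [← Finset.sum_coe_sort 𝓛 fun L => energy (reg L) χ]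
    exact Finset.sum_le_sum fun L _ => hval L
  rw [Finset.sum_add_distrib] at h5
  linarith

end Pair

end Cfsg.Agent.Grp.FT
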