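import Cfsg.Agent.Lib.Grp.FT.SetupPair
import Cfsg.Agent.S1377
import Cfsg.Agent.S1379
import Cfsg.Agent.S1434

/-!
The covering family of type I maximal subgroups of a pair, the counts, and facts about its members.
-/

set_option autoImplicit false
set_option maxHeartbeats 1000000

namespace Cfsg.Agent.Grp.FT

open Subgroup Cfsg.Agent.Transfer Cfsg.Agent.Transfer.Loc Cfsg.Agent.Transfer.Loc.TypeI
open scoped Pointwise

universe u

variable {G : Type u} [Group G] [Finite G]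

/-- The regular set is invariant under conjugation of the subgroup. -/
theorem reg_conj (hG : Cfsg.IsMinSimpleOddOrder G) {M : Subgroup G} (hM : IsCoatom M) (c : G) :
    reg (MulAut.conj c • M) = reg M := by
  have key : ∀ (L : Subgroup G), IsCoatom L → ∀ (e : G), reg (MulAut.conj e • L) ⊆ reg L := by
    intro L hL e g hg
    obtain ⟨t, a, r, ha, ha1, hr, rfl⟩ := (mem_tilde_iff hG (isCoatom_conj hG hL e)).1 hg
    refine (mem_tilde_iff hG hL).2 ⟨t * e, a, r, ?_, ha1, ?_, rfl⟩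
    · rwa [← smul_sigmaCore hG hL, Grp.conj_smul_conj_smul] at ha
    · rwa [Grp.conj_smul_conj_smul] at hr
  refine le_antisymm (key M hM c) ?_
  have h1 := key _ (isCoatom_conj hG hM c) c⁻¹
  rwa [Grp.conj_smul_conj_smul, inv_mul_cancel, map_one, one_smul] at h1

/-- Tilde sets of nonconjugate maximal subgroups are disjoint. -/
theorem reg_disjoint (hG : Cfsg.IsMinSimpleOddOrder G) {A B : Subgroup G} (hA : IsCoatom A) (hB : IsCoatom B)
    (h : ∀ g : G, B ≠ MulAut.conj g • A) : Disjoint (reg A) (reg B) :=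
  Set.disjoint_iff_inter_eq_empty.2 ((Cfsg.Agent.S1379.result hG).1 A B hA hB h)

/-- The size of a regular set. -/
theorem reg_card (hG : Cfsg.IsMinSimpleOddOrder G) {M : Subgroup G} (hM : IsCoatom M) :
    (reg M).ncard = (Nat.card (Cfsg.sigmaCore M) - 1) * M.index :=
  Cfsg.Agent.S1377.result hG M hM

namespace Pair

variable {S T W₁ W₂ : Subgroup G} (h : Pair S T W₁ W₂)
include h

/-- The number of mixed elements. -/
theorem mixed_card :
    Nat.card W₁ * Nat.card W₂ * (mixed W₁ W₂).ncard =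
      (Nat.card W₁ * Nat.card W₂ - Nat.card W₁ - Nat.card W₂ + 1) * Nat.card G ∧
      Nat.card G < 2 * (mixed W₁ W₂).ncard := by
  obtain ⟨U, hU, -⟩ := h.decomp_S
  obtain ⟨-, -, -, -, h1, h2⟩ :=
    Cfsg.Agent.S1434.result h.hG S h.hS W₁ U hU h.W₁_ne T h.hT h.kp.dual.symm h.kp.hall
  change Nat.card W₁ * Nat.card ↥(kStar S W₁) * (mixed W₁ (kStar S W₁)).ncard = _ at h1
  change Nat.card G < 2 * (mixed W₁ (kStar S W₁)).ncard at h2
  rw [h.star] at h1 h2
  refine ⟨?_, h2⟩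
  rw [h1, show (Cfsg.sigmaCore S ⊓ centralizer (W₁ : Set G) : Subgroup G) = W₂ from h.star]

/-- The maximal subgroups with nonempty `κ` are conjugate to `S` or `T`. -/
theorem conj_of_kappa {L : Subgroup G} (hL : IsCoatom L) (hκ : (Cfsg.kappa L).Nonempty) :
    ∃ g : G, L = MulAut.conj g • S ∨ L = MulAut.conj g • T := by
  obtain ⟨U, hU, -⟩ := h.decomp_S
  exact (Cfsg.Agent.S1369.result h.hG S h.hS W₁ U hU h.W₁_ne T h.hT h.kp.dual.symm h.kp.hall).2 L hL hκ

/-- The covering family. -/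
theorem exists_cover : ∃ 𝓛 : Finset (Subgroup G), Cover S T W₁ W₂ 𝓛 := by
  classical
  have hG := h.hG
  let rel : Setoid {L : Subgroup G // IsCoatom L ∧ Cfsg.IsOfTypeI L} :=
    { r := fun a b => ∃ g : G, b.1 = MulAut.conj g • a.1
      iseqv := ⟨fun a => ⟨1, by simp⟩, fun {a b} ⟨g, hg⟩ => ⟨g⁻¹, by
          rw [hg, Grp.conj_smul_conj_smul, inv_mul_cancel, map_one, one_smul]⟩,
        fun {a b c} ⟨g, hg⟩ ⟨k, hk⟩ => ⟨k * g, by rw [hk, hg, Grp.conj_smul_conj_smul]⟩⟩ }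
  letI : Fintype (Quotient rel) := Fintype.ofFinite _
  let F : Quotient rel → Subgroup G := fun i => i.out.1
  set 𝓛 : Finset (Subgroup G) := Finset.univ.image F
  have hmem : ∀ L ∈ 𝓛, ∃ i, F i = L := fun L hL => by
    obtain ⟨i, -, hi⟩ := Finset.mem_image.1 hL
    exact ⟨i, hi⟩
  have hc : ∀ L ∈ 𝓛, IsCoatom L := fun L hL => by
    obtain ⟨i, rfl⟩ := hmem L hL
    exact i.out.2.1
  have hI : ∀ L ∈ 𝓛, Cfsg.IsOfTypeI L := fun L hL => by
    obtain ⟨i, rfl⟩ := hmem L hL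
    exact i.out.2.2
  have hcomp : ∀ L : Subgroup G, IsCoatom L → Cfsg.IsOfTypeI L → ∃ c : G, MulAut.conj c • L ∈ 𝓛 := by
    intro L hL hLI
    obtain ⟨d, hd⟩ := Quotient.exact (Quotient.out_eq (Quotient.mk rel ⟨L, hL, hLI⟩))
    refine ⟨d⁻¹, Finset.mem_image.2 ⟨Quotient.mk rel ⟨L, hL, hLI⟩, Finset.mem_univ _, ?_⟩⟩
    have e : MulAut.conj d⁻¹ • L = MulAut.conj d⁻¹ • MulAut.conj d • F (Quotient.mk rel ⟨L, hL, hLI⟩) :=
      congrArg (MulAut.conj d⁻¹ • ·) hd
    rw [Grp.conj_smul_conj_smul, inv_mul_cancel, map_one, one_smul] at e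
    exact e.symm
  have hne : ∀ L ∈ 𝓛, ∀ A : Subgroup G, IsCoatom A → (Cfsg.kappa A).Nonempty → ∀ g : G, L ≠ MulAut.conj g • A :=
    fun L hL A hA hκ g e => hκ.ne_empty (by
      rw [← kappa_smul hG hA g, ← e, kappa_empty_of_typeI hG (hc L hL) (hI L hL)])
  refine ⟨𝓛, hc, hI, hcomp, fun g hg => ?_, ?_, ?_⟩
  · rcases sigma_dichotomy_pair hG h.hS h.kp hg with ⟨L, hL, hgL⟩ | hm
    · by_cases hκ : (Cfsg.kappa L).Nonempty
      · obtain ⟨c, rfl | rfl⟩ := h.conj_of_kappa hL hκ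
        · exact Or.inr (Or.inl (reg_conj hG h.hS c ▸ hgL))
        · exact Or.inr (Or.inr (Or.inl (reg_conj hG h.hT c ▸ hgL)))
      · obtain ⟨c, hcL⟩ := hcomp L hL (typeI_of_kappa_empty hG hL (Set.not_nonempty_iff_eq_empty.1 hκ))
        exact Or.inr (Or.inr (Or.inr ⟨_, hcL, (reg_conj hG hL c).symm ▸ hgL⟩))
    · rw [h.star] at hm
      exact Or.inl hm
  · intro A hA B hB hAB
    simp only [Set.mem_insert_iff, Finset.mem_coe] at hA hB
    have hST : ∀ g : G, T ≠ MulAut.conj g • S := h.kp.not_conj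
    have hTS : ∀ g : G, S ≠ MulAut.conj g • T := fun g e => hST g⁻¹ (by
      rw [e, Grp.conj_smul_conj_smul, inv_mul_cancel, map_one, one_smul])
    rcases hA with rfl | rfl | hA <;> rcases hB with rfl | rfl | hB
    · exact absurd rfl hAB
    · exact reg_disjoint hG h.hS h.hT hST
    · exact reg_disjoint hG h.hS (hc B hB) (hne B hB _ h.hS h.kappa_S)
    · exact reg_disjoint hG h.hT h.hS hTS
    · exact absurd rfl hAB
    · exact reg_disjoint hG h.hT (hc B hB) (hne B hB _ h.hT h.kappa_T)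
    · exact (reg_disjoint hG h.hS (hc A hA) (hne A hA _ h.hS h.kappa_S)).symm
    · exact (reg_disjoint hG h.hT (hc A hA) (hne A hA _ h.hT h.kappa_T)).symm
    · refine reg_disjoint hG (hc A hA) (hc B hB) fun g e => hAB ?_
      obtain ⟨i, rfl⟩ := hmem A hA
      obtain ⟨j, rfl⟩ := hmem B hB
      rw [show i = j by rw [← Quotient.out_eq i, ← Quotient.out_eq j]; exact Quotient.sound ⟨g, e⟩]
  · intro A hA
    have hAc : IsCoatom A := by
      simp only [Set.mem_insert_iff, Finset.mem_coe] at hA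
      rcases hA with rfl | rfl | hA
      exacts [h.hS, h.hT, hc A hA]
    obtain ⟨U, hU, -⟩ := h.decomp_S
    refine Set.disjoint_left.2 fun g hg hm => ?_
    obtain ⟨y, z, hz, rfl⟩ := hm
    refine ((Cfsg.Agent.S1379.result hG).2.2 S W₁ U h.hS hU h.W₁_ne).2 A hAc y z ?_ hg
    rw [← h.star] at hz
    exact hz

end Pair

/-- The facts about a member of the covering family. -/
theorem typeI_facts (hG : Cfsg.IsMinSimpleOddOrder G) {L : Subgroup G} (hL : IsCoatom L) (hI : Cfsg.IsOfTypeI L) :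
    Cfsg.kappa L = ∅ ∧ Cfsg.fittingHallOf L = Cfsg.sigmaCore L ∧
      (∀ x ∈ Cfsg.sigmaCore L, x ≠ 1 → L ⊓ centralizer ({x} : Set G) ≤ Cfsg.sigmaCore L) ∧
      Cfsg.typeA L = (Cfsg.sigmaCore L : Set G) \ {1} ∧ Cfsg.sigmaCore L < L := by
  have hκ := kappa_empty_of_typeI hG hL hI
  have hF := fitting_of_kappa_empty hG hL hκ
  refine ⟨hκ, hF, fun x hx hx1 => free_sigmaCore hG hL hκ hx hx1, ?_, sigmaCore_lt hG hL⟩
  rw [Cfsg.typeA, if_pos hI, hF]
  ext a
  refine ⟨fun ⟨ha, ha1, x, hx, hx1, hc⟩ => ⟨free_sigmaCore hG hL hκ hx hx1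
      ⟨ha, mem_centralizer_singleton_iff.2 hc⟩, ha1⟩,
    fun ha => ⟨TransHyp.piCoreOf_le L ha.1, ha.2, a, ha.1, ha.2, rfl⟩⟩

end Cfsg.Agent.Grp.FT
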