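import Cfsg.Agent.Lib.Grp.FT.Build
import Cfsg.Agent.Lib.Grp.FT.SetupCover
import Cfsg.Agent.Lib.Char.TypeICoherence
import Cfsg.Agent.Lib.Char.OneSeen.Values
import Cfsg.Agent.S1540
import Cfsg.Agent.S1542
import Cfsg.Agent.S1501

/-!
The members of the covering family and of `T` when `T` is not of type II.
-/

set_option autoImplicit false
set_option linter.unusedSectionVars false
set_option linter.style.haveILetI false
set_option maxHeartbeats 1000000

namespace Cfsg.Agent.Grp.FT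

open Subgroup Cfsg.Agent.Char Cfsg.Agent.Transfer Cfsg.Agent.Transfer.Loc
open scoped ComplexConjugate Classical

universe u

variable {G : Type u} [Group G] [Fintype G]

noncomputable local instance (priority := low) (H : Subgroup G) (K : Subgroup H) : Fintype K := Fintype.ofFinite _

noncomputable local instance (priority := low) (H : Subgroup G) : Fintype H := Fintype.ofFinite _

/-- The regular set as the support of a Dade map. -/
theorem reg_eq_supp {M : Subgroup G} {A : Set G} {R : G → Subgroup G}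
    (hA : A = (Cfsg.sigmaCore M : Set G) \ {1}) (hR : ∀ a ∈ A, R a = Cfsg.supportR M a) :
    reg M = Dade.supp A R := by
  subst hA
  ext g
  constructor
  · rintro ⟨a, ha, r, hr, y, rfl⟩
    exact ⟨a, ha, r, (hR a ha).symm ▸ hr, y⁻¹, by group⟩
  · rintro ⟨a, ha, r, hr, x, hx⟩
    refine ⟨a, ha, r, hR a ha ▸ hr, x⁻¹, ?_⟩
    rw [← hx]
    group

/-- At least two characters of equal degree induced from free characters of a normal subgroup `K` are
coherent for a Dade map on `K \ 1`. -/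
theorem coherent_equal {L : Subgroup G} [Fintype L] {A : Set G} {R : G → Subgroup G}
    (hD : Cfsg.DadeHypothesis A L R) (K : Subgroup L) [K.Normal] [Fintype K]
    (hA : ∀ x : L, (x : G) ∈ A ↔ x ∈ K ∧ x ≠ 1) (U : Finset (L → ℂ))
    (hU : ∀ f ∈ U, Cfsg.IsIrrCharacter L f ∧ (∀ x, x ∉ K → f x = 0) ∧ f 1 = (K.index : ℂ))
    (htwo : ∃ a ∈ U, ∃ b ∈ U, a ≠ b) :
    Cfsg.IsCoherent (↑U : Set (L → ℂ)) {1}ᶜ (Cfsg.dadeIsometry A L R) := by
  have hgen : ∀ α ∈ Cfsg.zspan (↑U : Set (L → ℂ)), Cfsg.IsGeneralizedCharacter L α ∧ ∀ x ∉ K, α x = 0 := by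
    intro α hα
    induction hα using Submodule.span_induction with
    | mem x hx => exact ⟨IsGenChar.of_isCharacter (IsIrr.isCharacter (hU x hx).1), (hU x hx).2.1⟩
    | zero => exact ⟨IsGenChar.zero, fun _ _ => rfl⟩
    | add x y _ _ hx hy => exact ⟨IsGenChar.add hx.1 hy.1, fun z hz => by simp [hx.2 z hz, hy.2 z hz]⟩
    | smul c x _ hx =>
      exact ⟨by rw [← Int.cast_smul_eq_zsmul ℂ]; exact IsGenChar.zsmul hx.1 c, fun z hz => by simp [hx.2 z hz]⟩
  have hsupp : ∀ α ∈ Cfsg.zspanOn (↑U : Set (L → ℂ)) {1}ᶜ, Supp A L α := fun α hα =>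
    ⟨IsGenChar.classFun (hgen α hα.1).1, fun x hx => by
      by_cases hxK : x ∈ K
      · exact hα.2 x (fun h => h (by_contra fun hne => hx ((hA x).2 ⟨hxK, hne⟩)))
      · exact (hgen α hα.1).2 x hxK⟩
  refine Coh.equal_degree_irr U ⟨fun f hf => (hU f hf).1, ⟨fun α _ β _ => dade_add α β, fun α _ n => ?_,
    fun α hα β hβ => dade_iso hD (hsupp α hα) (hsupp β hβ),
    fun α hα => dade_gen hD (hsupp α hα) (hgen α hα.1).1⟩, fun α _ => dade_at_one hD α⟩ (fun f hf => (hU f hf).2.2)
    htwo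
  rw [← Int.cast_smul_eq_zsmul ℂ, dade_smul, ← Int.cast_smul_eq_zsmul ℂ]

/-- A subgroup and a subgroup of it given inside it. -/
theorem mem_map_iff' {L : Subgroup G} (K : Subgroup L) (x : L) : (x : G) ∈ K.map L.subtype ↔ x ∈ K :=
  Subgroup.mem_map_iff_mem L.subtype_injective

section typeI

variable (hG : Cfsg.IsMinSimpleOddOrder G) {L : Subgroup G} (hL : IsCoatom L) (hI : Cfsg.IsOfTypeI L)
include hG hL hI

theorem fittingHall_free {k : L} (hk : k ∈ Cfsg.fittingHall L) (hk1 : k ≠ 1) :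
    centralizer ({k} : Set L) ≤ Cfsg.fittingHall L := fun x hx =>
  (mem_map_iff' _ x).1 (Cfsg.Agent.S1540.result hG L hL hI k ((mem_map_iff' _ k).2 hk)
    (fun e => hk1 (Subtype.ext e))
    ⟨x.2, mem_centralizer_singleton_iff.2 (congrArg Subtype.val (mem_centralizer_singleton_iff.1 hx))⟩)

theorem fittingHall_ne_bot : Cfsg.fittingHall L ≠ ⊥ := fun e => sigmaCore_ne_bot hG hL (by
  rw [← (typeI_facts hG hL hI).2.1, Cfsg.fittingHallOf, e, Subgroup.map_bot])

theorem exists_linear_fittingHall : ∃ θ : IrrCharacter (Cfsg.fittingHall L),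
    (θ : Cfsg.fittingHall L → ℂ) ≠ (fun _ => 1) ∧ (θ : Cfsg.fittingHall L → ℂ) 1 = 1 := by
  haveI := solvable_of_ne_top hG hL.1
  haveI : Nontrivial (Cfsg.fittingHall L) := (Subgroup.nontrivial_iff_ne_bot _).2 (fittingHall_ne_bot hG hL hI)
  haveI : Group.IsSolvable L := inferInstance
  haveI := OneSeen.finite_linHom (G := Cfsg.fittingHall L)
  have h1 : 1 < Nat.card (Cfsg.fittingHall L →* ℂˣ) := by
    rw [OneSeen.card_linHom]
    have h := Group.IsSolvable.commutator_lt_top_of_nontrivial (Cfsg.fittingHall L)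
    have := Subgroup.index_ne_zero_of_finite (H := commutator (Cfsg.fittingHall L))
    have : (commutator (Cfsg.fittingHall L)).index ≠ 1 := fun e => h.ne (Subgroup.index_eq_one.1 e)
    omega
  obtain ⟨l, hl⟩ := @exists_ne _ (Finite.one_lt_card_iff_nontrivial.1 h1) (1 : _ →* ℂˣ)
  exact ⟨OneSeen.linIrr l, fun e => hl (MonoidHom.ext fun x => Units.ext (by simpa [OneSeen.linIrr] using congrFun e x)),
    by simp [OneSeen.linIrr]⟩

/-- The family of a member of the covering. -/
noncomputable def famI : Fam G where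
  L := L
  finL := Fintype.ofFinite _
  A := Cfsg.typeA L
  R := Cfsg.supportR L
  hD := (TypeSet.main hG hL (Or.inr (Or.inl rfl))).2
  hodd := hG.1
  K := Cfsg.fittingHall L
  hK := inferInstance
  hA := fun x => by
    obtain ⟨-, hF, -, hA, -⟩ := typeI_facts hG hL hI
    rw [hA, ← hF, Set.mem_sdiff, SetLike.mem_coe, Cfsg.fittingHallOf, mem_map_iff', Set.mem_singleton_iff]
    simp
  Θ := Finset.univ.filter fun θ : IrrCharacter (Cfsg.fittingHall L) => (θ : Cfsg.fittingHall L → ℂ) ≠ fun _ => 1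
  ne_one := fun θ hθ => (Finset.mem_filter.1 hθ).2
  free := fun θ hθ => by
    haveI : Fintype L := Fintype.ofFinite _
    exact inertia_eq_of_fpf _ (fun k hk hk1 => fittingHall_free hG hL hI hk hk1) θ.2 (Finset.mem_filter.1 hθ).2
  conj_mem := fun θ hθ g => ⟨⟨_, IsIrr.conjN _ θ.2 g⟩, Finset.mem_filter.2 ⟨Finset.mem_univ _, fun e =>
    (Finset.mem_filter.1 hθ).2 (by
      rw [← conjN_inv_cancel _ g (θ : Cfsg.fittingHall L → ℂ)]
      exact funext fun x => by rw [conjN_apply]; exact congrFun e _)⟩, rfl⟩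
  map_mem := fun θ hθ σ => ⟨⟨_, IsIrr.map_ringAut θ.2 σ⟩, Finset.mem_filter.2 ⟨Finset.mem_univ _, fun e =>
    (Finset.mem_filter.1 hθ).2 (funext fun x => σ.injective ((congrFun e x).trans (map_one σ).symm))⟩, rfl⟩
  θ₀ := (exists_linear_fittingHall hG hL hI).choose
  θ₀_mem := Finset.mem_filter.2 ⟨Finset.mem_univ _, (exists_linear_fittingHall hG hL hI).choose_spec.1⟩
  θ₀_one := (exists_linear_fittingHall hG hL hI).choose_spec.2
  coh := by
    letI : Fintype L := Fintype.ofFinite _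
    have h := (Cfsg.Agent.S1542.result hG L hL hI fun x hx hx1 => Cfsg.Agent.S1540.result hG L hL hI x hx hx1).2
    convert h using 1
    ext f
    constructor
    · rintro ⟨θ, hθ, rfl⟩
      refine ⟨_, θ.2, (Finset.mem_filter.1 hθ).2, fun a ha => ?_, rfl⟩
      rw [show a = 1 from Subtype.ext (Subgroup.mem_bot.1 ha)]
    · rintro ⟨θ, hθ, hθ1, -, rfl⟩
      exact ⟨⟨θ, hθ⟩, Finset.mem_filter.2 ⟨Finset.mem_univ _, hθ1⟩, rfl⟩

/-- The member of a maximal subgroup of type I. -/
noncomputable def memberI : Member G := (famI hG hL hI).member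

/-- Its region. -/
theorem memberI_reg : (memberI hG hL hI).reg = reg L :=
  (reg_eq_supp (typeI_facts hG hL hI).2.2.2.1 fun _ _ => rfl).symm

/-- Its index and size. -/
theorem memberI_card : (memberI hG hL hI).e * (memberI hG hL hI).n + 1 = Nat.card (Cfsg.sigmaCore L) ∧
    (memberI hG hL hI).e = (Cfsg.sigmaCore L).relIndex L := by
  letI : Fintype L := Fintype.ofFinite _
  have hF := (typeI_facts hG hL hI).2.1
  have hc : Nat.card (Cfsg.sigmaCore L) = Nat.card (Cfsg.fittingHall L) := by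
    rw [← hF]
    exact Subgroup.card_subtype L _
  refine ⟨?_, ?_⟩
  · show (Cfsg.fittingHall L).index * (∑ i : (famI hG hL hI).Mem, (famI hG hL hI).deg i ^ 2) + 1 = _
    rw [hc]
    refine Nat.cast_injective (R := ℂ) ?_
    rw [Nat.cast_add, Nat.cast_one,
      show (Cfsg.fittingHall L).index * (∑ i : (famI hG hL hI).Mem, (famI hG hL hI).deg i ^ 2) =
        ∑ θ ∈ (famI hG hL hI).Θ, KerSets.dg θ.1 ^ 2 from (famI hG hL hI).sum_deg, ← sum_degree_sq,
      ← Finset.sum_filter_add_sum_filter_not Finset.univ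
        (fun θ : IrrCharacter (Cfsg.fittingHall L) => (θ : Cfsg.fittingHall L → ℂ) ≠ fun _ => 1)]
    push_cast
    refine congrArg₂ (· + ·) (Finset.sum_congr rfl fun θ _ => congrArg (· ^ 2) (KerSets.dg_spec θ.2).symm) ?_
    rw [Finset.sum_eq_single_of_mem (⟨fun _ => 1, isIrr_one⟩ : IrrCharacter (Cfsg.fittingHall L))
      (Finset.mem_filter.2 ⟨Finset.mem_univ _, fun h => h rfl⟩) fun θ hθ hne => ?_]
    · simp
    · exact absurd (Subtype.ext (not_not.1 (Finset.mem_filter.1 hθ).2)) hne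
  · show (Cfsg.fittingHall L).index = _
    rw [← hF, Cfsg.fittingHallOf, Subgroup.relIndex, Subgroup.subgroupOf,
      Subgroup.comap_map_eq_self_of_injective L.subtype_injective]

end typeI

namespace Pair

variable {S T W₁ W₂ : Subgroup G} (h : Pair S T W₁ W₂) (hT2 : Cfsg.IsSigmaDecomposition T W₂ ⊥)
include h hT2

theorem sigmaCore_T : Cfsg.sigmaCore T = ⁅T, T⁆ := by
  rw [(Cfsg.Agent.S1365.result h.hG T h.hT W₂ ⊥ hT2 h.W₂_ne).1, bot_sup_eq]

theorem W₁_le_derived₂ : W₁ ≤ ⁅⁅T, T⁆, ⁅T, T⁆⁆ :=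
  h.dual.ge.trans (Cfsg.Agent.S1365.result h.hG T h.hT W₂ ⊥ hT2 h.W₂_ne).2

theorem derived_inf_centralizer {x : G} (hx : x ∈ W₂) (hx1 : x ≠ 1) :
    ⁅T, T⁆ ⊓ centralizer ({x} : Set G) ≤ W₁ := fun a ha => by
  obtain ⟨-, h2, -⟩ := derived_compl h.hG h.hT hT2 h.W₂_ne
  have h3 : a ∈ W₂ ⊔ kStar T W₂ :=
    h.symm_kp.inf_centralizer hx hx1 ▸ ⟨T.commutator_le_self ha.1, ha.2⟩
  rw [h.dual] at h3
  rw [← SetLike.mem_coe, Subgroup.coe_mul_of_left_le_normalizer_right W₂ _
    ((h.dual ▸ (le_centralizer_iff.1 inf_le_right : W₂ ≤ centralizer (kStar T W₂ : Set G))).trans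
      (centralizer_le_normalizer _))] at h3
  obtain ⟨k, hk, s, hs, rfl⟩ := h3
  have hsT : s ∈ ⁅T, T⁆ := ⁅T, T⁆.commutator_le_self (h.W₁_le_derived₂ hT2 hs)
  have h4 : k ∈ ⁅T, T⁆ ⊓ W₂ := ⟨(⁅T, T⁆.mul_mem_cancel_right hsT).1 ha.1, hk⟩
  rw [h2.2.2.1, mem_bot] at h4
  subst h4
  simpa using hs

theorem map_commutator_T : (commutator T).map T.subtype = ⁅T, T⁆ :=
  T.map_subtype_commutator

/-- A linear character of `T'` fixed by an element outside `T'` is principal. -/
theorem linear_free {l : commutator T →* ℂˣ}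
    (hl : l ≠ 1) : inertia (commutator T) (fun k => (l k : ℂ)) = commutator T := by
  refine le_antisymm (fun g hg => ?_) (le_inertia _ (IsIrr.classFun (isIrr_linear l)))
  by_contra hgK
  obtain ⟨-, h2, hcop, -⟩ := derived_compl h.hG h.hT hT2 h.W₂_ne
  obtain ⟨d, hd, x, hx, hgdx⟩ := h2.2.2.2 g g.2
  have hxT : x ∈ T := h2.2.1 hx
  have hdT : d ∈ T := h2.1 hd
  have hx1 : x ≠ 1 := fun e => hgK ((mem_map_iff' _ g).1 (by
    rw [h.map_commutator_T hT2, hgdx, e, mul_one]; exact hd))
  set x' : T := ⟨x, hxT⟩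
  have hinv : x' ∈ inertia (commutator T) (fun k => (l k : ℂ)) := by
    have hd' : (⟨d, hdT⟩ : T) ∈ inertia (commutator T) (fun k => (l k : ℂ)) :=
      le_inertia _ (IsIrr.classFun (isIrr_linear l)) ((mem_map_iff' _ _).1 (by rw [h.map_commutator_T hT2]; exact hd))
    have e : x' = (⟨d, hdT⟩ : T)⁻¹ * g := Subtype.ext (by simp [x', hgdx])
    rw [e]
    exact mul_mem (inv_mem hd') hg
  refine hl (MonoidHom.ext fun k => ?_)
  have hkK : ((k : T) : G) ∈ ⁅T, T⁆ := h.map_commutator_T hT2 ▸ (mem_map_iff' _ _).2 k.2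
  obtain ⟨y, hy, c, hc, hcx, hconj⟩ := exists_conj_centralizer_coset ⁅T, T⁆ x
    (Grp.PiHall.le_normalizer_of_conj_mem (fun a ha b hb => by
      rw [← h.map_commutator_T hT2] at hb ⊢
      obtain ⟨b, hb, rfl⟩ := hb
      exact ⟨⟨a, ha⟩ * b * ⟨a, ha⟩⁻¹, (inferInstance : (commutator T).Normal).conj_mem b hb _, rfl⟩) hxT)
    (hcop.symm.coprime_dvd_left (Subgroup.orderOf_dvd_natCard _ hx)) _ hkK
  have hyT : y ∈ T := T.commutator_le_self hy
  have hcT : c ∈ T := T.commutator_le_self hc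
  set y' : commutator T := ⟨⟨y, hyT⟩, (mem_map_iff' _ _).1 (by rw [h.map_commutator_T hT2]; exact hy)⟩
  set c' : commutator T := ⟨⟨c, hcT⟩, (mem_map_iff' _ _).1 (by rw [h.map_commutator_T hT2]; exact hc)⟩
  set z : commutator T := ⟨x' * (y' : T) * x'⁻¹, (inferInstance : (commutator T).Normal).conj_mem _ y'.2 x'⟩
  have hk : k = y'⁻¹ * c' * z := Subtype.ext (Subtype.ext (by
    show ((k : T) : G) = y⁻¹ * c * (x * y * x⁻¹)
    calc ((k : T) : G) = y⁻¹ * (y * ((k : T) * x) * y⁻¹) * (y * x⁻¹) := by group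
      _ = y⁻¹ * c * (x * y * x⁻¹) := by rw [hconj]; group))
  have hzy : l z = l y' := Units.ext (by
    have := congrFun ((mem_inertia _).1 hinv) y'
    rw [conjN_apply] at this
    exact (congrArg (fun v => (l v : ℂ)) (Subtype.ext rfl)).trans this)
  have hc1 : l c' = 1 := by
    refine OneSeen.lin_eq_one l ?_
    have hcW : c ∈ W₁ := h.derived_inf_centralizer hT2 hx hx1 ⟨hc, mem_centralizer_singleton_iff.2 hcx⟩
    have h5 := h.W₁_le_derived₂ hT2 hcW
    rw [← h.map_commutator_T hT2, ← Subgroup.map_commutator] at h5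
    rw [← Subgroup.mem_map_iff_mem (commutator T).subtype_injective, Subgroup.map_subtype_commutator]
    exact (mem_map_iff' _ _).1 h5
  rw [hk, map_mul, map_mul, map_inv, hzy, hc1, mul_one, inv_mul_cancel, MonoidHom.one_apply]

theorem exists_linear_T : ∃ θ : IrrCharacter (commutator T),
    (θ : commutator T → ℂ) ≠ (fun _ => 1) ∧ (θ : commutator T → ℂ) 1 = 1 := by
  haveI := solvable_of_ne_top h.hG h.hT.1
  have hne : commutator T ≠ ⊥ := fun e => h.W₁_ne (le_bot_iff.1 ((h.W₁_le_derived₂ hT2).trans (by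
    rw [← h.map_commutator_T hT2, e, Subgroup.map_bot]; exact (commutator_bot_right _).le)))
  haveI : Nontrivial (commutator T) := (Subgroup.nontrivial_iff_ne_bot _).2 hne
  haveI := OneSeen.finite_linHom (G := commutator T)
  have h1 : 1 < Nat.card (commutator T →* ℂˣ) := by
    rw [OneSeen.card_linHom]
    have h := Group.IsSolvable.commutator_lt_top_of_nontrivial (commutator T)
    have := Subgroup.index_ne_zero_of_finite (H := commutator (commutator T))
    have : (commutator (commutator T)).index ≠ 1 := fun e => h.ne (Subgroup.index_eq_one.1 e)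
    omega
  obtain ⟨l, hl⟩ := @exists_ne _ (Finite.one_lt_card_iff_nontrivial.1 h1) (1 : _ →* ℂˣ)
  exact ⟨OneSeen.linIrr l, fun e => hl (MonoidHom.ext fun x => Units.ext (by simpa [OneSeen.linIrr] using congrFun e x)),
    by simp [OneSeen.linIrr]⟩

theorem inertia_T {θ : IrrCharacter (commutator T)} (h1 : (θ : commutator T → ℂ) 1 = 1)
    (hne : (θ : commutator T → ℂ) ≠ fun _ => 1) : inertia (commutator T) (θ : commutator T → ℂ) = commutator T := by
  obtain ⟨l, hl⟩ := linearHom_of_isCharacter (IsIrr.isCharacter θ.2) h1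
  rw [hl]
  refine h.linear_free hT2 fun e => hne ?_
  rw [hl, e]
  funext x
  simp

theorem dade_T : Cfsg.DadeHypothesis ((Cfsg.sigmaCore T : Set G) \ {1}) T fun _ => ⊥ := by
  have hT25 : Cfsg.typeA1 T = (Cfsg.sigmaCore T : Set G) \ {1} := by
    rw [Cfsg.typeA1, typeCore_eq h.hG h.hT]
  have hD := (TypeSet.main h.hG h.hT (A := (Cfsg.sigmaCore T : Set G) \ {1}) (Or.inl hT25.symm)).2
  exact
    { one_not_mem := hD.one_not_mem
      subset := hD.subset
      conj_mem := hD.conj_mem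
      fusion := hD.fusion
      le_centralizer := fun a _ => bot_le
      conj_mem_H := fun a _ c _ u hu => by simp_all
      inf_eq_bot := fun a _ => bot_inf_eq _
      sup_eq := fun a ha => by
        rw [bot_sup_eq]
        exact inf_eq_right.2 (h.centralizer_le_T ha.1 ha.2)
      coprime := fun a _ b _ => by simp }

/-- The family of `T`: the nonprincipal linear characters of `T'`. -/
noncomputable def famT : Fam G where
  L := T
  finL := Fintype.ofFinite _
  A := (Cfsg.sigmaCore T : Set G) \ {1}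
  R := fun _ => ⊥
  hD := h.dade_T hT2
  hodd := h.hG.1
  K := commutator T
  hK := inferInstance
  hA := fun x => by
    rw [h.sigmaCore_T hT2, ← h.map_commutator_T hT2, Set.mem_sdiff, SetLike.mem_coe, mem_map_iff',
      Set.mem_singleton_iff]
    simp
  Θ := Finset.univ.filter fun θ : IrrCharacter (commutator T) =>
    (θ : commutator T → ℂ) 1 = 1 ∧ (θ : commutator T → ℂ) ≠ fun _ => 1
  ne_one := fun θ hθ => (Finset.mem_filter.1 hθ).2.2
  free := fun θ hθ => h.inertia_T hT2 (Finset.mem_filter.1 hθ).2.1 (Finset.mem_filter.1 hθ).2.2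
  conj_mem := fun θ hθ g => ⟨⟨_, IsIrr.conjN _ θ.2 g⟩, Finset.mem_filter.2 ⟨Finset.mem_univ _,
    by
      show Char.conjN (commutator T) g (θ : commutator T → ℂ) 1 = 1
      rw [conjN_apply]
      exact (congrArg (θ : commutator T → ℂ) (Subtype.ext (by simp))).trans (Finset.mem_filter.1 hθ).2.1,
    fun e => (Finset.mem_filter.1 hθ).2.2 (by
      rw [← conjN_inv_cancel _ g (θ : commutator T → ℂ)]
      exact funext fun x => by rw [conjN_apply]; exact congrFun e _)⟩, rfl⟩
  map_mem := fun θ hθ σ => ⟨⟨_, IsIrr.map_ringAut θ.2 σ⟩, Finset.mem_filter.2 ⟨Finset.mem_univ _,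
    by show σ ((θ : commutator T → ℂ) 1) = 1; rw [(Finset.mem_filter.1 hθ).2.1, map_one],
    fun e => (Finset.mem_filter.1 hθ).2.2 (funext fun x => σ.injective ((congrFun e x).trans (map_one σ).symm))⟩,
    rfl⟩
  θ₀ := (h.exists_linear_T hT2).choose
  θ₀_mem := Finset.mem_filter.2 ⟨Finset.mem_univ _, (h.exists_linear_T hT2).choose_spec.2,
    (h.exists_linear_T hT2).choose_spec.1⟩
  θ₀_one := (h.exists_linear_T hT2).choose_spec.2
  coh := by
    letI : Fintype T := Fintype.ofFinite _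
    set Θ := Finset.univ.filter fun θ : IrrCharacter (commutator T) =>
      (θ : commutator T → ℂ) 1 = 1 ∧ (θ : commutator T → ℂ) ≠ fun _ => 1 with hΘ
    set θ₀ := (h.exists_linear_T hT2).choose with hθ₀
    have hspec := (h.exists_linear_T hT2).choose_spec
    rw [← hθ₀] at hspec
    have hset : {f : T → ℂ | ∃ θ ∈ Θ, Cfsg.indFun (commutator T) (θ : commutator T → ℂ) = f} =
        ↑(Θ.image fun θ : IrrCharacter (commutator T) => Cfsg.indFun (commutator T) (θ : commutator T → ℂ)) := by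
      ext f; simp
    have hirr : ∀ θ ∈ Θ, Cfsg.IsIrrCharacter T (Cfsg.indFun (commutator T) (θ : commutator T → ℂ)) := fun θ hθ =>
      indFun_irr_of_inertia_eq _ θ.2 (h.inertia_T hT2 (Finset.mem_filter.1 hθ).2.1 (Finset.mem_filter.1 hθ).2.2)
    rw [hset]
    refine coherent_equal (h.dade_T hT2) (commutator T) (fun x => ?_) _ (fun f hf => ?_) ?_
    · rw [h.sigmaCore_T hT2, ← h.map_commutator_T hT2, Set.mem_sdiff, SetLike.mem_coe, mem_map_iff',
        Set.mem_singleton_iff]
      simp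
    · obtain ⟨θ, hθ, rfl⟩ := Finset.mem_image.1 hf
      refine ⟨hirr θ hθ, fun x hx => indFun_eq_zero_of_not_conj _ _ fun g hg => (hx (by
        simpa [mul_assoc] using (inferInstance : (commutator T).Normal).conj_mem _ hg g)).elim, ?_⟩
      rw [indFun_one_eq, (Finset.mem_filter.1 hθ).2.1, mul_one]
    · have hm : θ₀ ∈ Θ := Finset.mem_filter.2 ⟨Finset.mem_univ _, hspec.2, hspec.1⟩
      refine ⟨_, Finset.mem_image_of_mem _ hm, Cfsg.conjFun (Cfsg.indFun (commutator T) (θ₀ : commutator T → ℂ)),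
        Finset.mem_image.2 ⟨⟨_, IsIrr.map_ringAut θ₀.2 (starRingAut : ℂ ≃+* ℂ)⟩, Finset.mem_filter.2
          ⟨Finset.mem_univ _, ?_, ?_⟩, ?_⟩, fun e => ?_⟩
      · show (starRingAut : ℂ ≃+* ℂ) ((θ₀ : commutator T → ℂ) 1) = 1
        rw [hspec.2, map_one]
      · exact fun e => hspec.1 (funext fun x =>
          (starRingAut : ℂ ≃+* ℂ).injective ((congrFun e x).trans (map_one _).symm))
      · exact (map_indFun (commutator T) (starRingAut : ℂ ≃+* ℂ) (θ₀ : commutator T → ℂ)).symm
      · have h1 := Cfsg.Agent.Block.FS.eq_one_of_real_of_odd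
          (h.hG.1.of_dvd_nat (Subgroup.card_subgroup_dvd_card T)) ⟨_, hirr θ₀ hm⟩ fun x => congrFun e.symm x
        have h2 : Cfsg.classInner (Cfsg.indFun (commutator T) (θ₀ : commutator T → ℂ)) (fun _ => 1) = 0 := by
          rw [classInner_indFun (commutator T) _ (IsIrr.classFun isIrr_one), classInner_irr_ne θ₀.2 isIrr_one hspec.1]
        rw [show Cfsg.indFun (commutator T) (θ₀ : commutator T → ℂ) = fun _ => (1 : ℂ) from h1,
          classInner_self_irr isIrr_one] at h2
        exact one_ne_zero h2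

/-- The member of `T`. -/
noncomputable def memberT : Member G := (h.famT hT2).member

theorem memberT_reg : (h.memberT hT2).reg = reg T :=
  (reg_eq_supp rfl fun a ha => (h.supportR_T ha.1 ha.2).symm).symm

theorem mem_famT {θ : IrrCharacter (commutator T)} : θ ∈ (h.famT hT2).Θ ↔
    ((θ : commutator T → ℂ) 1 = 1 ∧ (θ : commutator T → ℂ) ≠ fun _ => 1) :=
  ⟨fun hm => (Finset.mem_filter.1 (show θ ∈ Finset.univ.filter (fun φ : IrrCharacter (commutator T) =>
      (φ : commutator T → ℂ) 1 = 1 ∧ (φ : commutator T → ℂ) ≠ fun _ => 1) from hm)).2,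
    fun hm => Finset.mem_filter.2 ⟨Finset.mem_univ _, hm⟩⟩

theorem memberT_deg (i : (h.memberT hT2).ι) : (h.memberT hT2).d i = 1 := by
  have h1 := (h.famT hT2).deg_spec i
  have h2 : ((h.famT hT2).src i).1 1 = 1 := ((h.mem_famT hT2).1 ((h.famT hT2).src_mem i)).1
  exact Nat.cast_injective (R := ℂ) ((h2.symm.trans h1).symm.trans Nat.cast_one.symm)

theorem memberT_card : (h.memberT hT2).e = Nat.card W₂ ∧
    (h.memberT hT2).e * (h.memberT hT2).n + 1 = (⁅⁅T, T⁆, ⁅T, T⁆⁆).relIndex ⁅T, T⁆ := by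
  letI : Fintype T := Fintype.ofFinite _
  obtain ⟨-, h2, -⟩ := derived_compl h.hG h.hT hT2 h.W₂_ne
  refine ⟨?_, ?_⟩
  · show (commutator T).index = _
    rw [← (complIn_relIndex h2).1, ← h.map_commutator_T hT2, Subgroup.relIndex, Subgroup.subgroupOf,
      Subgroup.comap_map_eq_self_of_injective T.subtype_injective]
  · show (commutator T).index * (∑ i : (h.famT hT2).Mem, (h.famT hT2).deg i ^ 2) + 1 = _
    rw [show (commutator T).index * (∑ i : (h.famT hT2).Mem, (h.famT hT2).deg i ^ 2) =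
        ∑ θ ∈ (h.famT hT2).Θ, KerSets.dg θ.1 ^ 2 from (h.famT hT2).sum_deg]
    haveI := OneSeen.finite_linHom (G := commutator T)
    letI : Fintype (commutator T →* ℂˣ) := Fintype.ofFinite _
    have hcard : ((h.famT hT2).Θ).card + 1 = Nat.card (commutator T →* ℂˣ) := by
      rw [Nat.card_eq_fintype_card, ← Finset.card_univ, ← Finset.card_erase_add_one (Finset.mem_univ 1)]
      refine congrArg (· + 1) (Finset.card_bij (fun l _ => OneSeen.linIrr l) (fun l hl => ?_)
        (fun a _ b _ e => OneSeen.linIrr_injective e) fun θ hθ => ?_).symm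
      · refine (h.mem_famT hT2).2 ⟨(congrArg Units.val (map_one l)).trans Units.val_one, fun e => (Finset.mem_erase.1 hl).1 (MonoidHom.ext fun x => ?_)⟩
        exact Units.ext (congrFun e x)
      · obtain ⟨h1, hne⟩ := (h.mem_famT hT2).1 hθ
        obtain ⟨l, hl⟩ : ∃ l : commutator T →* ℂˣ, θ.1 = fun x => (l x : ℂ) :=
          linearHom_of_isCharacter (IsIrr.isCharacter θ.2) h1
        refine ⟨l, Finset.mem_erase.2 ⟨fun e => hne (hl.trans (by rw [e]; funext x; simp)),
          Finset.mem_univ (α := commutator T →* ℂˣ) l⟩, ?_⟩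
        exact Subtype.ext hl.symm
    rw [Finset.sum_eq_card_nsmul (b := 1) fun θ hθ => ?_, smul_eq_mul, mul_one, hcard, OneSeen.card_linHom,
      ← h.map_commutator_T hT2, ← Subgroup.map_commutator,
      Subgroup.relIndex_map_map_of_injective _ _ T.subtype_injective]
    · rw [← Subgroup.map_subtype_commutator, Subgroup.relIndex, Subgroup.subgroupOf,
        Subgroup.comap_map_eq_self_of_injective (commutator T).subtype_injective]
    · rw [show KerSets.dg θ.1 = 1 from Nat.cast_injective (R := ℂ)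
        (((KerSets.dg_spec θ.2).symm.trans ((h.mem_famT hT2).1 hθ).1).trans Nat.cast_one.symm), one_pow]

end Pair

end Cfsg.Agent.Grp.FT
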