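import Cfsg.Agent.Lib.Grp.FT.Defs
import Mathlib.Data.Complex.Basic

/-!
The linear characters of `P × C` used on a side of the pair, and their weight.
-/

set_option autoImplicit false

namespace Cfsg.Agent.Grp.FT

universe u

variable {G : Type u} [Group G]

/-- Conjugation by `x` fixes the linear character `l` of `H`. -/
def Fixes {H : Subgroup G} (x : G) (l : ↥H →* ℂˣ) : Prop :=
  ∀ y z : ↥H, x * (y : G) * x⁻¹ = (z : G) → l z = l y

/-- The linear characters of `P × C`, nontrivial on `P`, fixed by no element of `M` outside `P × C`. -/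
def regChar (M P C : Subgroup G) : Set (↥(P ⊔ C) →* ℂˣ) :=
  {l | (∃ y : ↥(P ⊔ C), (y : G) ∈ P ∧ l y ≠ 1) ∧ ∀ x ∈ M, Fixes x l → x ∈ P ⊔ C}

/-- The weight of the characters under control on a side: the regular ones and the `p - 1` orbits of length
`[U : C]` of those fixed by `W₁`. -/
noncomputable def weight (M P U C : Subgroup G) (p : ℕ) : ℕ :=
  (p - 1) * C.relIndex U + (regChar M P C).ncard

/-- `U` acts irreducibly on `P`. -/
def Galois (P U : Subgroup G) : Prop :=
  ∀ X : Subgroup G, X ≤ P → X ≠ ⊥ → U ≤ Subgroup.normalizer (X : Set G) → X = P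

end Cfsg.Agent.Grp.FT
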