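import Cfsg.Agent.Lib.Grp.FT.Tau
import Cfsg.Agent.Lib.Grp.FT.SideDefs
import Cfsg.Agent.Lib.Grp.FT.Measure

/-!
Characters induced to a subgroup `M` from linear characters of a subgroup `H ≤ M`.
-/

set_option autoImplicit false
set_option linter.unusedSectionVars false
set_option linter.style.haveILetI false
set_option maxHeartbeats 1000000

namespace Cfsg.Agent.Grp.FT

open Subgroup Cfsg Cfsg.Agent.Char
open scoped ComplexConjugate Pointwise

attribute [local instance] _root_.Classical.propDecidable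

universe u

variable {G : Type u} [Group G] [Fintype G]

/-- Linear characters multiply under complex conjugation to one. -/
theorem lin_mul_conj {U : Subgroup G} (f : ↥U →* ℂˣ) (x : ↥U) : (f x : ℂ) * conj (f x : ℂ) = 1 := by
  rw [Complex.mul_conj, normSq_lin, Complex.ofReal_one]

/-- Orthogonality of linear characters. -/
theorem sum_lin_conj {H : Subgroup G} [Fintype H] (l l' : ↥H →* ℂˣ) :
    ∑ h : H, (l h : ℂ) * conj (l' h : ℂ) = if l = l' then (Nat.card H : ℂ) else 0 := by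
  have hc : (Nat.card H : ℂ) ≠ 0 := Nat.cast_ne_zero.2 Nat.card_pos.ne'
  split_ifs with h
  · subst h
    simp [lin_mul_conj, Nat.card_eq_fintype_card]
  · have h1 := classInner_irr_ne (isIrr_linear l) (isIrr_linear l') fun e => h (MonoidHom.ext fun x =>
      Units.ext (congrFun e x))
    simp only [classInner] at h1
    exact (mul_eq_zero.1 h1).resolve_left (inv_ne_zero hc)

/-- A linear character of `N` extends to `N ⊔ A`. -/
theorem exists_extend {N A : Subgroup G} (hA : A ≤ normalizer (N : Set G)) (hdis : N ⊓ A = ⊥)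
    (l : ↥N →* ℂˣ) (hl : ∀ a ∈ A, Fixes a l) (f : ↥A →* ℂˣ) :
    ∃ L : ↥(N ⊔ A) →* ℂˣ, ∀ (n : ↥N) (a : ↥A) (x : ↥(N ⊔ A)), (x : G) = (n : G) * a → L x = l n * f a := by
  have hdec : ∀ x : ↥(N ⊔ A), ∃ p : ↥N × ↥A, (x : G) = (p.1 : G) * p.2 := fun x => by
    obtain ⟨n, hn, a, ha, e⟩ : (x : G) ∈ (N : Set G) * (A : Set G) := by
      rw [← Subgroup.coe_mul_of_right_le_normalizer_left N A hA]; exact x.2
    exact ⟨(⟨n, hn⟩, ⟨a, ha⟩), e.symm⟩
  choose p hp using hdec
  have huniq : ∀ (n n' : ↥N) (a a' : ↥A), (n : G) * a = (n' : G) * a' → n = n' ∧ a = a' := by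
    intro n n' a a' e
    have h1 : ((n' : G))⁻¹ * n = (a' : G) * (a : G)⁻¹ := by
      rw [eq_mul_inv_iff_mul_eq, mul_assoc, e, inv_mul_cancel_left]
    have h2 : ((n' : G))⁻¹ * n ∈ N ⊓ A :=
      Subgroup.mem_inf.2 ⟨N.mul_mem (N.inv_mem n'.2) n.2, h1 ▸ A.mul_mem a'.2 (A.inv_mem a.2)⟩
    rw [hdis, mem_bot, inv_mul_eq_one] at h2
    exact ⟨Subtype.ext h2.symm, Subtype.ext (mul_left_cancel (a := (n : G)) (by rw [e, h2]))⟩
  refine ⟨MonoidHom.mk' (fun x => l (p x).1 * f (p x).2) fun x y => ?_, fun n a x hx => ?_⟩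
  · have hm : ((p x).2 : G) * (p y).1 * ((p x).2 : G)⁻¹ ∈ N := Grp.mem_conj_normalizer (hA (p x).2.2) (p y).1.2
    obtain ⟨e1, e2⟩ := huniq (p (x * y)).1 ((p x).1 * ⟨_, hm⟩) (p (x * y)).2 ((p x).2 * (p y).2) (by
      rw [← hp, Subgroup.coe_mul, hp x, hp y, Subgroup.coe_mul, Subgroup.coe_mul]
      group)
    rw [e1, e2, map_mul, map_mul, hl (p x).2 (p x).2.2 (p y).1 ⟨_, hm⟩ rfl]
    exact mul_mul_mul_comm _ _ _ _
  · obtain ⟨e1, e2⟩ := huniq (p x).1 n (p x).2 a (by rw [← hp, hx])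
    simp [e1, e2]

variable (M : Subgroup G) [Fintype M]

/-- The character of `M` induced from a linear character of `H`. -/
noncomputable def indLin {H : Subgroup G} (l : ↥H →* ℂˣ) : M → ℂ :=
  indFun (H.subgroupOf M) fun x => (l ⟨((x : M) : G), x.2⟩ : ℂ)

variable {M}

theorem indLin_apply {H : Subgroup G} (hH : H ≤ M) (l : ↥H →* ℂˣ) (g : M) :
    indLin M l g = (Nat.card H : ℂ)⁻¹ * ∑ x : M,
      if h : (x : G)⁻¹ * g * x ∈ H then (l ⟨_, h⟩ : ℂ) else 0 := by
  simp only [indLin, indFun]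
  rw [show Nat.card (H.subgroupOf M) = Nat.card H from Nat.card_congr (Subgroup.subgroupOfEquivOfLe hH).toEquiv]
  congr 1
  refine Finset.sum_congr rfl fun x _ => ?_
  by_cases h : (x : G)⁻¹ * g * x ∈ H
  · rw [dif_pos h, extendByZero_of_mem _ (show x⁻¹ * g * x ∈ H.subgroupOf M from h)]
    rfl
  · rw [dif_neg h, extendByZero_not_mem _ (show x⁻¹ * g * x ∉ H.subgroupOf M from h)]

theorem indLin_char {H : Subgroup G} (hH : H ≤ M) (l : ↥H →* ℂˣ) : IsCharacter M (indLin M l) :=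
  isCharacter_indFun _ (IsIrr.isCharacter (isIrr_linear (l.comp (Subgroup.subgroupOfEquivOfLe hH).toMonoidHom)))

theorem indLin_gen {H : Subgroup G} (hH : H ≤ M) (l : ↥H →* ℂˣ) : IsGeneralizedCharacter M (indLin M l) :=
  IsGenChar.of_isCharacter (indLin_char hH l)

theorem indLin_classFun {H : Subgroup G} (l : ↥H →* ℂˣ) : IsClassFunction M (indLin M l) :=
  indFun_classFun _ _

theorem indLin_one {H : Subgroup G} (l : ↥H →* ℂˣ) : indLin M l 1 = ((H.relIndex M : ℕ) : ℂ) := by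
  rw [indLin, indFun_one_eq]
  have h1 : (l ⟨(((1 : H.subgroupOf M) : M) : G), (1 : H.subgroupOf M).2⟩ : ℂ) = 1 :=
    (congrArg Units.val (map_one l)).trans Units.val_one
  exact (congrArg _ h1).trans (mul_one _)

/-- Frobenius reciprocity. -/
theorem inner_indLin {H : Subgroup G} [Fintype H] (hH : H ≤ M) (l : ↥H →* ℂˣ) {ψ : M → ℂ}
    (hψ : IsClassFunction M ψ) :
    classInner ψ (indLin M l) = classInner (fun h : H => ψ ⟨h, hH h.2⟩) (fun h => (l h : ℂ)) := by
  letI : Fintype (H.subgroupOf M) := Fintype.ofFinite _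
  rw [indLin, classInner_indFun_right _ _ hψ]
  simp only [classInner]
  rw [show Nat.card (H.subgroupOf M) = Nat.card H from Nat.card_congr (Subgroup.subgroupOfEquivOfLe hH).toEquiv]
  congr 1
  exact Fintype.sum_equiv (Subgroup.subgroupOfEquivOfLe hH).toEquiv _ _ fun x => rfl

/-- `l'` is the conjugate of `l` by `x`. -/
def ConjEq {H : Subgroup G} (x : G) (l l' : ↥H →* ℂˣ) : Prop :=
  ∀ y z : ↥H, x * (y : G) * x⁻¹ = (z : G) → l z = l' y

omit [Fintype G] [Fintype M] in
theorem conjEq_self {H : Subgroup G} (x : G) (l : ↥H →* ℂˣ) : ConjEq x l l ↔ Fixes x l := Iff.rfl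

variable {H : Subgroup G} (hH : H ≤ M) (hN : M ≤ normalizer (H : Set G))
include hH hN

omit [Fintype G] [Fintype M] in
theorem conj_mem_of_mem {x : G} (hx : x ∈ M) (h : ↥H) : x * (h : G) * x⁻¹ ∈ H :=
  Grp.mem_conj_normalizer (hN hx) h.2

/-- Off a normal `H` the induced function vanishes. -/
theorem indLin_eq_zero (l : ↥H →* ℂˣ) {g : M} (hg : (g : G) ∉ H) : indLin M l g = 0 := by
  rw [indLin_apply hH, Finset.sum_eq_zero fun x _ => dif_neg fun h => hg (by
    simpa [mul_assoc] using Grp.mem_conj_normalizer (hN x.2) h), mul_zero]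

/-- The inner product of two induced linear characters of a normal subgroup. -/
theorem inner_indLin_indLin [Fintype H] (l l' : ↥H →* ℂˣ) :
    classInner (indLin M l) (indLin M l') =
      (Nat.card H : ℂ)⁻¹ * (Finset.univ.filter fun x : M => ConjEq (x : G) l l').card := by
  rw [inner_indLin hH l' (indLin_classFun l), classInner]
  congr 1
  have key : ∀ x : M, ∑ h : H, ((if hh : (x : G)⁻¹ * h * x ∈ H then (l ⟨_, hh⟩ : ℂ) else 0) * conj (l' h : ℂ)) =
      if ConjEq ((x : G)⁻¹) l l' then (Nat.card H : ℂ) else 0 := by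
    intro x
    have hx : (x : G)⁻¹ ∈ M := inv_mem x.2
    let l₁ : ↥H →* ℂˣ := MonoidHom.mk' (fun h => l ⟨_, conj_mem_of_mem hH hN hx h⟩) fun a b => by
      rw [← map_mul]; congr 1; exact Subtype.ext (by simp [mul_assoc])
    have e : ∀ h : H, (if hh : (x : G)⁻¹ * h * x ∈ H then (l ⟨_, hh⟩ : ℂ) else 0) = (l₁ h : ℂ) := fun h => by
      have hh : (x : G)⁻¹ * h * x ∈ H := by simpa using conj_mem_of_mem hH hN hx h
      rw [dif_pos hh]
      exact congrArg (fun v => (l v : ℂ)) (Subtype.ext (by simp))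
    rw [Finset.sum_congr rfl fun h _ => by rw [e h], sum_lin_conj]
    refine if_congr ⟨fun e1 y z hyz => ?_, fun hc => MonoidHom.ext fun h => ?_⟩ rfl rfl
    · rw [← e1]
      exact congrArg l (Subtype.ext hyz.symm)
    · exact hc h ⟨_, conj_mem_of_mem hH hN hx h⟩ rfl
  simp only [indLin_apply hH]
  rw [Finset.sum_congr rfl fun h _ => by rw [mul_assoc, Finset.sum_mul], ← Finset.mul_sum, Finset.sum_comm,
    Finset.sum_congr rfl fun x _ => key x, ← Finset.sum_filter, Finset.sum_const, nsmul_eq_mul]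
  have hc : (Nat.card H : ℂ) ≠ 0 := Nat.cast_ne_zero.2 Nat.card_pos.ne'
  rw [← mul_assoc, mul_comm ((Nat.card H : ℂ)⁻¹), mul_assoc, inv_mul_cancel₀ hc, mul_one]
  congr 1
  refine Finset.card_nbij' (fun x => x⁻¹) (fun x => x⁻¹) ?_ ?_ (fun x _ => inv_inv x) fun x _ => inv_inv x
  · intro x hx
    simpa using hx
  · intro x hx
    simpa using hx

omit [Fintype M] in
/-- The elements conjugating `l` to itself form a subgroup containing `H`. -/
theorem fixes_of_mem {x : G} (hx : x ∈ H) (l : ↥H →* ℂˣ) : Fixes x l := fun y z e => by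
  rw [show z = ⟨x, hx⟩ * y * ⟨x, hx⟩⁻¹ from Subtype.ext e.symm, map_mul, map_mul, map_inv]
  rw [mul_right_comm, mul_inv_cancel, one_mul]

omit [Fintype M] in
theorem fixes_mul {a b : G} (hb : b ∈ M) (l : ↥H →* ℂˣ) (ha' : Fixes a l) (hb' : Fixes b l) : Fixes (a * b) l :=
  fun y z e => by
    rw [ha' ⟨_, conj_mem_of_mem hH hN hb y⟩ z (by rw [← e]; simp [mul_assoc]), hb' y _ rfl]

/-- If the stabiliser of `l` in `M` is `H`, the induced character is irreducible. -/
theorem indLin_irr [Fintype H] (l : ↥H →* ℂˣ) (hl : ∀ x ∈ M, Fixes x l → x ∈ H) :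
    classInner (indLin M l) (indLin M l) = 1 := by
  rw [inner_indLin_indLin hH hN]
  have e : (Finset.univ.filter fun x : M => ConjEq (x : G) l l).card = Nat.card H := by
    rw [← Nat.card_congr (Subgroup.subgroupOfEquivOfLe hH).toEquiv, Nat.card_eq_fintype_card,
      Fintype.card_of_subtype (Finset.univ.filter fun x : M => ConjEq (x : G) l l)]
    intro x
    rw [Finset.mem_filter]
    exact ⟨fun h => hl x x.2 h.2, fun h => ⟨Finset.mem_univ _, fixes_of_mem hH hN h l⟩⟩
  rw [e, inv_mul_cancel₀ (Nat.cast_ne_zero.2 Nat.card_pos.ne')]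

/-- Induced linear characters from non-conjugate ones are orthogonal. -/
theorem indLin_orth [Fintype H] (l l' : ↥H →* ℂˣ) (hl : ∀ x ∈ M, ¬ ConjEq x l l') :
    classInner (indLin M l) (indLin M l') = 0 := by
  rw [inner_indLin_indLin hH hN,
    show (Finset.univ.filter fun x : M => ConjEq (x : G) l l') = ∅ from
      Finset.filter_eq_empty_iff.2 fun x _ => hl x x.2]
  simp

end Cfsg.Agent.Grp.FT
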