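import Cfsg.Agent.Lib.Grp.FT.Virt
import Cfsg.Agent.Lib.Char.Dade
import Cfsg.Agent.Lib.Char.DadeGen
import Cfsg.Agent.S1500

/-!
The Dade map: linearity, coset averages and the decomposition of the energy on its support.
-/

set_option autoImplicit false
set_option linter.unusedSectionVars false
set_option linter.style.haveILetI false

namespace Cfsg.Agent.Grp.FT

open Cfsg Cfsg.Agent.Char
open scoped ComplexConjugate

universe u

variable {G : Type u} [Group G] [Fintype G] {A : Set G} {L : Subgroup G} [Fintype L] {R : G → Subgroup G}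

/-- The class functions of `L` supported in `A`. -/
def Supp (A : Set G) (L : Subgroup G) (α : L → ℂ) : Prop :=
  IsClassFunction L α ∧ ∀ x : L, (x : G) ∉ A → α x = 0

theorem Supp.sub {α β : L → ℂ} (ha : Supp A L α) (hb : Supp A L β) : Supp A L (α - β) :=
  ⟨classFunction_sub ha.1 hb.1, fun x hx => by simp [ha.2 x hx, hb.2 x hx]⟩

theorem Supp.add {α β : L → ℂ} (ha : Supp A L α) (hb : Supp A L β) : Supp A L (α + β) :=
  ⟨classFunction_add ha.1 hb.1, fun x hx => by simp [ha.2 x hx, hb.2 x hx]⟩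

theorem Supp.smul {α : L → ℂ} (c : ℂ) (ha : Supp A L α) : Supp A L (c • α) :=
  ⟨classFunction_smul c ha.1, fun x hx => by simp [ha.2 x hx]⟩

theorem Supp.sum {ι : Type*} {s : Finset ι} {f : ι → L → ℂ} (h : ∀ i ∈ s, Supp A L (f i)) :
    Supp A L (∑ i ∈ s, f i) := by
  classical
  induction s using Finset.induction_on with
  | empty => exact ⟨fun g k => by simp, fun x _ => by simp⟩
  | @insert a s ha ih =>
    rw [Finset.sum_insert ha]
    exact (h a (Finset.mem_insert_self a s)).add (ih fun i hi => h i (Finset.mem_insert_of_mem hi))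

theorem dade_add (α β : L → ℂ) : dadeIsometry A L R (α + β) = dadeIsometry A L R α + dadeIsometry A L R β := by
  funext g; simp only [Pi.add_apply, dadeIsometry]; split_ifs <;> simp

theorem dade_sub (α β : L → ℂ) : dadeIsometry A L R (α - β) = dadeIsometry A L R α - dadeIsometry A L R β := by
  funext g; simp only [Pi.sub_apply, dadeIsometry]; split_ifs <;> simp

theorem dade_smul (c : ℂ) (α : L → ℂ) : dadeIsometry A L R (c • α) = c • dadeIsometry A L R α := by
  funext g; simp only [Pi.smul_apply, dadeIsometry]; split_ifs <;> simp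

theorem dade_sum {ι : Type*} (s : Finset ι) (f : ι → L → ℂ) :
    dadeIsometry A L R (∑ i ∈ s, f i) = ∑ i ∈ s, dadeIsometry A L R (f i) := by
  funext g; simp only [Finset.sum_apply, dadeIsometry]; split_ifs <;> simp

theorem dade_map (σ : ℂ ≃+* ℂ) (α : L → ℂ) :
    (fun g => σ (dadeIsometry A L R α g)) = dadeIsometry A L R fun x => σ (α x) := by
  funext g; simp only [dadeIsometry]; split_ifs <;> simp

theorem dade_conj (α : L → ℂ) : conjFun (dadeIsometry A L R α) = dadeIsometry A L R (conjFun α) := by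
  funext g; simp only [conjFun, dadeIsometry]; split_ifs <;> simp

/-- The coset averages of a function on `G`, as a function on `L` supported in `A`. -/
noncomputable def avgA (A : Set G) (L : Subgroup G) (R : G → Subgroup G) (χ : G → ℂ) : L → ℂ :=
  ((fun x : L => (x : G)) ⁻¹' A).indicator fun a => (Nat.card (R (a : G)) : ℂ)⁻¹ * ∑ᶠ u ∈ (R (a : G) : Set G), χ ((a : G) * u)

theorem avgA_of_mem {χ : G → ℂ} {a : L} (ha : (a : G) ∈ A) :
    avgA A L R χ a = (Nat.card (R (a : G)) : ℂ)⁻¹ * ∑ᶠ u ∈ (R (a : G) : Set G), χ ((a : G) * u) := by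
  simp [avgA, Set.indicator, ha]

/-- When the kernel at `a` is trivial the average is the value. -/
theorem avgA_bot {χ : G → ℂ} {a : L} (ha : (a : G) ∈ A) (hR : R (a : G) = ⊥) : avgA A L R χ a = χ a := by
  rw [avgA_of_mem ha, hR]
  simp [Subgroup.coe_bot]

theorem avgA_supp (hD : DadeHypothesis A L R) {χ : G → ℂ} (hχ : IsClassFunction G χ) :
    Supp A L (avgA A L R χ) := by
  classical
  refine ⟨fun a x => ?_, fun a ha => by simp [avgA, Set.indicator, ha]⟩
  have hmem : ((x * a * x⁻¹ : L) : G) ∈ A ↔ (a : G) ∈ A := ⟨fun h => by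
    have := hD.conj_mem _ (L.inv_mem x.2) _ h
    simpa [mul_assoc] using this, fun h => by simpa using hD.conj_mem _ x.2 _ h⟩
  by_cases ha : (a : G) ∈ A
  swap
  · show avgA A L R χ (x * a * x⁻¹) = avgA A L R χ a
    rw [avgA, Set.indicator_of_notMem (show x * a * x⁻¹ ∉ (fun x : L => (x : G)) ⁻¹' A from mt hmem.1 ha),
      Set.indicator_of_notMem (show a ∉ (fun x : L => (x : G)) ⁻¹' A from ha)]
  rw [avgA_of_mem ha, avgA_of_mem (hmem.2 ha)]
  have hc := Dade.card_H_conj hD ha x.2
  rw [show ((x * a * x⁻¹ : L) : G) = (x : G) * a * (x : G)⁻¹ by simp, hc]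
  congr 1
  refine finsum_mem_eq_of_bijOn (fun u => (x : G)⁻¹ * u * x) ⟨fun u hu => ?_, ?_, fun v hv => ?_⟩ fun u _ => ?_
  · have := Dade.conj_mem_H hD (hD.conj_mem _ x.2 _ ha) (L.inv_mem x.2) hu
    simpa [mul_assoc] using this
  · intro u _ v _ h
    simpa using h
  · exact ⟨(x : G) * v * (x : G)⁻¹, Dade.conj_mem_H hD ha x.2 hv, by simp [mul_assoc]⟩
  · rw [← hχ _ (x : G)⁻¹]
    simp [mul_assoc]

/-- The adjunction. -/
theorem dade_inner (hD : DadeHypothesis A L R) {α : L → ℂ} (hα : Supp A L α) {χ : G → ℂ} (hχ : IsClassFunction G χ) :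
    classInner (dadeIsometry A L R α) χ = classInner α (avgA A L R χ) :=
  (Cfsg.Agent.S1500.result A L R hD α hα.1 hα.2).2 χ _ hχ fun _ ha => avgA_of_mem ha

/-- The isometry. -/
theorem dade_iso (hD : DadeHypothesis A L R) {α β : L → ℂ} (hα : Supp A L α) (hβ : Supp A L β) :
    classInner (dadeIsometry A L R α) (dadeIsometry A L R β) = classInner α β :=
  (Cfsg.Agent.S1500.result A L R hD α hα.1 hα.2).1 β hβ.1 hβ.2

theorem dade_gen (hD : DadeHypothesis A L R) {α : L → ℂ} (hα : Supp A L α) (hg : IsGeneralizedCharacter L α) :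
    IsGeneralizedCharacter G (dadeIsometry A L R α) := Dade.isGenChar_dade hD hg hα.2

theorem dade_cf (hD : DadeHypothesis A L R) {α : L → ℂ} (hα : Supp A L α) :
    IsClassFunction G (dadeIsometry A L R α) := Dade.dade_classFun hD hα.1

theorem dade_at_one (hD : DadeHypothesis A L R) (α : L → ℂ) : dadeIsometry A L R α 1 = 0 :=
  Dade.dade_eq_zero (DadeImg.one_not_supp hD)

/-- The energy on the support: the averaged part and the fluctuation on any part of the support. -/
theorem energy_supp (hD : DadeHypothesis A L R) {χ : G → ℂ} (hχ : IsClassFunction G χ) {F : Set G}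
    (hF : F ⊆ Dade.supp A R) :
    (classInner (avgA A L R χ) (avgA A L R χ)).re +
        energy F (χ - dadeIsometry A L R (avgA A L R χ)) ≤ energy (Dade.supp A R) χ := by
  classical
  set ψ := avgA A L R χ
  set φ := dadeIsometry A L R ψ
  have hψ := avgA_supp hD hχ
  set χ₀ : G → ℂ := (Dade.supp A R).indicator χ with hχ0
  have hcf : IsClassFunction G χ₀ := fun g y => by
    have hm : y * g * y⁻¹ ∈ Dade.supp A R ↔ g ∈ Dade.supp A R := ⟨fun h => by
      have := Dade.mem_supp_conj h y⁻¹
      simpa [mul_assoc] using this, fun h => Dade.mem_supp_conj h y⟩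
    simp only [χ₀, Set.indicator_apply, hm, hχ g y]
  have h0 : classInner φ χ₀ = classInner φ χ := by
    simp only [classInner]
    congr 1
    refine Finset.sum_congr rfl fun g _ => ?_
    by_cases hg : g ∈ Dade.supp A R
    · rw [hχ0, Set.indicator_of_mem hg]
    · rw [show φ g = 0 from Dade.dade_eq_zero hg, zero_mul, zero_mul]
  have h1 : classInner φ χ₀ = classInner ψ ψ := h0.trans (dade_inner hD hψ hχ)
  have h2 : classInner χ₀ φ = classInner ψ ψ := by rw [← classInner_conj_symm, h1, classInner_conj_symm]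
  have h3 : classInner φ φ = classInner ψ ψ := dade_iso hD hψ hψ
  have h4 : classInner χ₀ χ₀ = classInner ψ ψ + classInner (χ₀ - φ) (χ₀ - φ) := by
    simp only [classInner_sub_left, classInner_sub_right, h1, h2, h3]
    ring
  have h5 : energy (Dade.supp A R) χ = (classInner χ₀ χ₀).re := by
    rw [← energy_univ]
    simp only [energy, Set.indicator_univ]
    congr 1
    refine Finset.sum_congr rfl fun g _ => ?_
    by_cases hg : g ∈ Dade.supp A R <;> simp [χ₀, hg]
  have h6 : energy F (χ - φ) ≤ (classInner (χ₀ - φ) (χ₀ - φ)).re := by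
    rw [show energy F (χ - φ) = energy F (χ₀ - φ) from ?_]
    · exact energy_le_norm _
    simp only [energy]
    congr 1
    refine Finset.sum_congr rfl fun g _ => ?_
    by_cases hg : g ∈ F
    · simp [χ₀, hg, hF hg]
    · simp [hg]
  rw [h5, h4, Complex.add_re]
  linarith

/-- A subset with trivial intersections. -/
theorem ti_dade {A : Set G} {L : Subgroup G} (h1 : (1 : G) ∉ A) (hAL : A ⊆ L)
    (hinv : ∀ x ∈ L, ∀ a ∈ A, x * a * x⁻¹ ∈ A) (hTI : ∀ a ∈ A, ∀ g : G, g * a * g⁻¹ ∈ A → g ∈ L) :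
    DadeHypothesis A L (fun _ => ⊥) where
  one_not_mem := h1
  subset := hAL
  conj_mem := hinv
  fusion := fun a ha g hg => ⟨g, hTI a ha g hg, rfl⟩
  le_centralizer := fun _ _ => bot_le
  conj_mem_H := fun a _ c _ u hu => by rw [Subgroup.mem_bot] at hu; simp [hu]
  inf_eq_bot := fun a _ => bot_inf_eq _
  sup_eq := fun a ha => by
    rw [bot_sup_eq]
    exact inf_eq_right.2 fun c hc => hTI a ha c (by
      rw [Subgroup.mem_centralizer_singleton_iff.1 hc, mul_inv_cancel_right]; exact ha)
  coprime := fun a _ b _ => by simp [Subgroup.card_bot]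

theorem ti_supp (A : Set G) : Dade.supp A (fun _ : G => (⊥ : Subgroup G)) = {g | ∃ a ∈ A, ∃ x : G, g = x * a * x⁻¹} := by
  ext g
  constructor
  · rintro ⟨a, ha, u, hu, x, hx⟩
    rw [Subgroup.mem_bot] at hu
    exact ⟨a, ha, x⁻¹, by rw [hu, mul_one] at hx; rw [← hx]; group⟩
  · rintro ⟨a, ha, x, rfl⟩
    exact ⟨a, ha, 1, one_mem _, x⁻¹, by group⟩

theorem ti_apply (hD : DadeHypothesis A L (fun _ => ⊥)) {α : L → ℂ} (hα : Supp A L α) {a : L} (ha : (a : G) ∈ A) :
    dadeIsometry A L (fun _ => ⊥) α a = α a := by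
  rw [← mul_one (a : G), Dade.dade_apply_coset hD hα.1 ha (one_mem _), extendByZero_apply]

theorem ti_inner (hD : DadeHypothesis A L (fun _ => ⊥)) {α : L → ℂ} (hα : Supp A L α) {χ : G → ℂ}
    (hχ : IsClassFunction G χ) : classInner (dadeIsometry A L (fun _ => ⊥) α) χ = classInner α (fun x : L => χ x) := by
  rw [dade_inner hD hα hχ]
  simp only [classInner]
  congr 1
  refine Finset.sum_congr rfl fun x _ => ?_
  by_cases hx : (x : G) ∈ A
  · rw [avgA_bot (R := fun _ => (⊥ : Subgroup G)) hx rfl]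
  · rw [hα.2 x hx, zero_mul, zero_mul]

/-- The energy on the conjugates of a trivial intersection set. -/
theorem ti_energy (hD : DadeHypothesis A L (fun _ => ⊥)) {χ : G → ℂ} (hχ : IsClassFunction G χ) :
    energy {g | ∃ a ∈ A, ∃ x : G, g = x * a * x⁻¹} χ =
      (Nat.card L : ℝ)⁻¹ * ∑ a : L, ((fun x : L => (x : G)) ⁻¹' A).indicator (fun x => Complex.normSq (χ x)) a := by
  classical
  set ψ := avgA A L (fun _ => (⊥ : Subgroup G)) χ
  have hψ := avgA_supp hD hχ
  have h1 := dade_iso hD hψ hψ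
  have h2 : ∀ g, dadeIsometry A L (fun _ => (⊥ : Subgroup G)) ψ g = ({g | ∃ a ∈ A, ∃ x : G, g = x * a * x⁻¹} : Set G).indicator χ g := by
    intro g
    by_cases hg : g ∈ ({g | ∃ a ∈ A, ∃ x : G, g = x * a * x⁻¹} : Set G)
    · rw [Set.indicator_of_mem hg]
      obtain ⟨a, ha, x, rfl⟩ := hg
      rw [dade_cf hD hψ a x, hχ a x]
      exact (ti_apply hD hψ (a := ⟨a, hD.subset ha⟩) ha).trans (avgA_bot (R := fun _ => (⊥ : Subgroup G)) ha rfl)
    · rw [Set.indicator_of_notMem hg]
      exact Dade.dade_eq_zero fun h => hg (by rwa [ti_supp] at h)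
  have h3 : (classInner (dadeIsometry A L (fun _ => (⊥ : Subgroup G)) ψ) (dadeIsometry A L (fun _ => (⊥ : Subgroup G)) ψ)).re =
      (classInner ψ ψ).re := by rw [h1]
  rw [← energy_univ (G := G), ← energy_univ (G := L)] at h3
  have e1 : energy Set.univ (dadeIsometry A L (fun _ => (⊥ : Subgroup G)) ψ) =
      energy {g | ∃ a ∈ A, ∃ x : G, g = x * a * x⁻¹} χ := by
    simp only [energy, Set.indicator_univ]
    congr 1
    refine Finset.sum_congr rfl fun g _ => ?_
    rw [h2]
    by_cases hg : g ∈ ({g | ∃ a ∈ A, ∃ x : G, g = x * a * x⁻¹} : Set G)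
    · rw [Set.indicator_of_mem hg, Set.indicator_of_mem hg]
    · rw [Set.indicator_of_notMem hg, Set.indicator_of_notMem hg, map_zero]
  rw [← e1, h3]
  simp only [energy, Set.indicator_univ]
  congr 1
  refine Finset.sum_congr rfl fun a _ => ?_
  by_cases ha : (a : G) ∈ A
  · rw [show ψ a = χ a from avgA_bot (R := fun _ => (⊥ : Subgroup G)) ha rfl]
    rw [Set.indicator_of_mem (show a ∈ (fun x : L => (x : G)) ⁻¹' A from ha)]
  · rw [show ψ a = 0 from hψ.2 a ha, map_zero]
    rw [Set.indicator_of_notMem (show a ∉ (fun x : L => (x : G)) ⁻¹' A from ha)]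

end Cfsg.Agent.Grp.FT
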