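import Cfsg.Agent.Lib.Grp.FT.Pattern
import Cfsg.Agent.Lib.Grp.FT.Tau

/-!
Members: a maximal subgroup with a Dade set, a coherent family and the basic function `beta`.
-/

set_option autoImplicit false
set_option linter.unusedSectionVars false
set_option linter.style.haveILetI false

namespace Cfsg.Agent.Grp.FT

open Cfsg Cfsg.Agent.Char
open scoped ComplexConjugate

universe u

variable {G : Type u} [Group G] [Fintype G]

/-- The inner product of two virtual characters of norm one. -/
theorem unit_inner {a b : G → ℂ} (ha : IsGeneralizedCharacter G a) (hb : IsGeneralizedCharacter G b)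
    (h1 : classInner a a = 1) (h2 : classInner b b = 1) :
    zInner a b ≤ 1 ∧ -1 ≤ zInner a b ∧ (zInner a b = 1 → a = b) ∧ (zInner a b = -1 → a = -b) := by
  have h := zInner_spec ha hb
  have h' : classInner b a = (zInner a b : ℂ) := by rw [← classInner_conj_symm, h, map_intCast]
  have hs : classInner (a - b) (a - b) = ((2 - 2 * zInner a b : ℤ) : ℂ) := by
    simp only [classInner_sub_left, classInner_sub_right, h1, h2, h, h']; push_cast; ring
  have hp : classInner (a + b) (a + b) = ((2 + 2 * zInner a b : ℤ) : ℂ) := by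
    simp only [classInner_add_left, classInner_add_right, h1, h2, h, h']; push_cast; ring
  have n1 := classInner_self_re_nonneg (a - b)
  have n2 := classInner_self_re_nonneg (a + b)
  rw [hs, Complex.intCast_re, Int.cast_nonneg_iff] at n1
  rw [hp, Complex.intCast_re, Int.cast_nonneg_iff] at n2
  refine ⟨by omega, by omega, fun e => sub_eq_zero.1 ((classInner_self_eq_zero _).1 ?_),
    fun e => eq_neg_of_add_eq_zero_left ((classInner_self_eq_zero _).1 ?_)⟩
  · rw [hs, e]; norm_num
  · rw [hp, e]; norm_num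

/-- A maximal subgroup with a Dade set and a coherent family. -/
structure Member (G : Type u) [Group G] [Fintype G] where
  L : Subgroup G
  finL : Fintype L
  A : Set G
  R : G → Subgroup G
  hD : DadeHypothesis A L R
  e : ℕ
  n : ℕ
  ι : Type u
  fin : Fintype ι
  deq : DecidableEq ι
  d : ι → ℕ
  i₀ : ι
  bar : ι → ι
  xi : ι → L → ℂ
  base : L → ℂ
  Z : ι → G → ℂ
  d₀ : d i₀ = 1
  d_pos : ∀ i, 0 < d i
  d_bar : ∀ i, d (bar i) = d i
  bar_ne : ∀ i, bar i ≠ i
  sum_d : ∑ i, d i ^ 2 = n
  xi_gen : ∀ i, IsGeneralizedCharacter L (xi i)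
  base_gen : IsGeneralizedCharacter L base
  xi_orth : ∀ i j, classInner (xi i) (xi j) = if i = j then 1 else 0
  xi_base : ∀ i, classInner (xi i) base = 0
  base_norm : classInner base base = (e : ℂ)
  xi_one : ∀ i, classInner (xi i) (fun _ => 1) = 0
  base_one : classInner base (fun _ => 1) = 1
  xi_conj : ∀ i, conjFun (xi i) = xi (bar i)
  base_map : ∀ σ : ℂ ≃+* ℂ, (fun x => σ (base x)) = base
  xi_map : ∀ σ : ℂ ≃+* ℂ, ∃ i, d i = 1 ∧ (fun x => σ (xi i₀ x)) = xi i
  xi_supp : ∀ i, Supp A L (xi i - (d i : ℂ) • xi i₀)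
  base_supp : Supp A L (base - xi i₀)
  Z_gen : ∀ i, IsGeneralizedCharacter G (Z i)
  Z_orth : ∀ i j, classInner (Z i) (Z j) = if i = j then 1 else 0
  Z_diff : ∀ i, dadeIsometry A L R (xi i - (d i : ℂ) • xi i₀) = Z i - (d i : ℂ) • Z i₀
  value : ∀ ψ : L → ℂ, Supp A L ψ → (∀ i, classInner ψ (xi i) = (d i : ℂ) * classInner ψ (xi i₀)) →
    Complex.normSq (classInner ψ (base - xi i₀)) * ((n : ℝ) / (e * n + 1)) ≤ (classInner ψ ψ).re

attribute [instance] Member.finL Member.fin Member.deq

namespace Member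

variable (M : Member G)

/-- The Dade map of the member. -/
noncomputable def tau (α : M.L → ℂ) : G → ℂ := dadeIsometry M.A M.L M.R α

/-- The region of the member. -/
noncomputable def reg : Set G := Dade.supp M.A M.R

/-- The image of the basic function. -/
noncomputable def beta : G → ℂ := M.tau (M.base - M.xi M.i₀)

/-- The real part left after removing `1` and the distinguished image. -/
noncomputable def delta : G → ℂ := M.beta - (fun _ => 1) + M.Z M.i₀

theorem tau_outside {α : M.L → ℂ} {g : G} (hg : g ∉ M.reg) : M.tau α g = 0 := Dade.dade_eq_zero hg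

theorem beta_gen : IsGeneralizedCharacter G M.beta :=
  dade_gen M.hD M.base_supp (IsGenChar.sub M.base_gen (M.xi_gen _))

theorem Z_norm (i : M.ι) : classInner (M.Z i) (M.Z i) = 1 := by rw [M.Z_orth, if_pos rfl]

theorem tau_inner_one {α : M.L → ℂ} (hα : Supp M.A M.L α) : classInner (M.tau α) (fun _ => 1) = classInner α (fun _ => 1) := by
  rw [tau, dade_inner M.hD hα (IsGenChar.classFun gen_one)]
  simp only [classInner]
  congr 1
  refine Finset.sum_congr rfl fun x _ => ?_
  by_cases hx : (x : G) ∈ M.A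
  · rw [avgA_of_mem hx]
    have hc : (Nat.card (M.R (x : G)) : ℂ) ≠ 0 := Nat.cast_ne_zero.2 Nat.card_pos.ne'
    rw [finsum_mem_eq_finite_toFinset_sum _ (Set.toFinite _), Finset.sum_const, nsmul_eq_mul, mul_one,
      ← Nat.card_eq_card_finite_toFinset, show Nat.card (M.R (x : G) : Set G) = Nat.card (M.R (x : G)) from rfl,
      inv_mul_cancel₀ hc]
  · rw [hα.2 x hx, zero_mul, zero_mul]

theorem beta_one : classInner M.beta (fun _ => 1) = 1 := by
  rw [beta, M.tau_inner_one M.base_supp, classInner_sub_left, M.base_one, M.xi_one, sub_zero]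

theorem beta_norm : classInner M.beta M.beta = ((M.e + 1 : ℤ) : ℂ) := by
  rw [beta, tau, dade_iso M.hD M.base_supp M.base_supp]
  have h : classInner M.base (M.xi M.i₀) = 0 := by rw [← classInner_conj_symm, M.xi_base, map_zero]
  simp only [classInner_sub_left, classInner_sub_right, M.base_norm, M.xi_base, h, M.xi_orth, if_true]
  push_cast; ring

/-- The own coordinates of `beta` are proportional to the degrees. -/
theorem beta_coord (i : M.ι) : classInner M.beta (M.Z i) =
    (M.d i : ℂ) * (classInner M.beta (M.Z M.i₀) + 1) - if i = M.i₀ then 1 else 0 := by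
  have h := dade_iso M.hD M.base_supp (M.xi_supp i)
  rw [M.Z_diff] at h
  have hb : ∀ j, classInner M.base (M.xi j) = 0 := fun j => by rw [← classInner_conj_symm, M.xi_base, map_zero]
  simp only [classInner_sub_left, classInner_sub_right, classInner_smul_right, hb, M.xi_orth, map_natCast,
    if_true] at h
  change classInner M.beta (M.Z i) - (M.d i : ℂ) * classInner M.beta (M.Z M.i₀) = _ at h
  by_cases hi : i = M.i₀
  · subst hi; simp [M.d₀]
  · rw [if_neg (Ne.symm hi)] at h
    rw [if_neg hi]
    linear_combination h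

/-- The differences of the family are orthogonal to `1`, hence so are the members. -/
theorem Z_conj (i : M.ι) : conjFun (M.Z i) = M.Z (M.bar i) := by
  have h1 : M.Z i - M.Z (M.bar i) = M.tau (M.xi i - M.xi (M.bar i)) := by
    have e : M.xi i - M.xi (M.bar i) = (M.xi i - (M.d i : ℂ) • M.xi M.i₀) - (M.xi (M.bar i) - (M.d (M.bar i) : ℂ) • M.xi M.i₀) := by
      rw [M.d_bar]; abel
    rw [tau, e, dade_sub, M.Z_diff, M.Z_diff, M.d_bar]
    abel
  have h2 : conjFun (M.Z i) - conjFun (M.Z (M.bar i)) = M.Z (M.bar i) - M.Z i := by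
    rw [← conjFun_sub, h1, tau, dade_conj, conjFun_sub, M.xi_conj, ← M.xi_conj i, Coh.conjFun_conjFun, M.xi_conj,
      ← neg_sub (M.Z i), h1, ← neg_sub (M.xi i), tau]
    rw [show -(M.xi i - M.xi (M.bar i)) = (-1 : ℂ) • (M.xi i - M.xi (M.bar i)) by simp, dade_smul, neg_one_smul]
  have hc := gen_conj (M.Z_gen i)
  have hn : classInner (conjFun (M.Z i)) (conjFun (M.Z i)) = 1 := by rw [inner_conjFun, M.Z_norm, map_one]
  have h3 := congrArg (fun F => classInner F (conjFun (M.Z i))) h2
  have ho : classInner (conjFun (M.Z (M.bar i))) (conjFun (M.Z i)) = 0 := by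
    rw [inner_conjFun, M.Z_orth, if_neg (M.bar_ne i), map_zero]
  simp only [classInner_sub_left, hn, ho, sub_zero, zInner_spec (M.Z_gen _) hc] at h3
  obtain ⟨a1, a2, a3, -⟩ := unit_inner (M.Z_gen (M.bar i)) hc (M.Z_norm _) hn
  obtain ⟨b1, b2, -, b4⟩ := unit_inner (M.Z_gen i) hc (M.Z_norm _) hn
  have h4 : (1 : ℤ) = zInner (M.Z (M.bar i)) (conjFun (M.Z i)) - zInner (M.Z i) (conjFun (M.Z i)) := by exact_mod_cast h3
  by_cases h5 : zInner (M.Z (M.bar i)) (conjFun (M.Z i)) = 1
  · exact (a3 h5).symm
  exfalso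
  have h6 := b4 (by omega)
  rcases IsGenChar.norm_one (M.Z_gen i) (M.Z_norm i) with h | h <;>
  · obtain ⟨k, hk, hk'⟩ := IsIrr.one_eq_pos h
    have := congrFun h6 1
    simp only [Pi.neg_apply, conjFun] at this hk'
    first
      | rw [hk', map_natCast] at this
      | rw [show M.Z i 1 = -(k : ℂ) by rw [← hk', neg_neg], map_neg, map_natCast] at this
    have : (k : ℂ) = 0 := by
      first
        | linear_combination this / 2
        | linear_combination -this / 2
    exact hk.ne' (by exact_mod_cast this)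

theorem Z_one (i : M.ι) : classInner (M.Z i) (fun _ => 1) = 0 := by
  obtain ⟨a1, a2, a3, a4⟩ := unit_inner (M.Z_gen i) gen_one (M.Z_norm i) (classInner_self_irr isIrr_one)
  have h0 : zInner (M.Z i) (fun _ => (1 : ℂ)) = 0 := by
    by_contra hne
    have hreal : conjFun (M.Z i) = M.Z i := by
      rcases (by omega : zInner (M.Z i) (fun _ => (1 : ℂ)) = 1 ∨ zInner (M.Z i) (fun _ => (1 : ℂ)) = -1) with h | h
      · rw [a3 h, conjFun_const_one]
      · rw [a4 h]; funext g; simp [conjFun]
    have h5 := M.Z_orth (M.bar i) i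
    rw [← M.Z_conj, hreal, M.Z_norm, if_neg (M.bar_ne i)] at h5
    exact one_ne_zero h5
  rw [zInner_spec (M.Z_gen i) gen_one, h0, Int.cast_zero]

theorem delta_gen : IsGeneralizedCharacter G M.delta :=
  IsGenChar.add (IsGenChar.sub M.beta_gen gen_one) (M.Z_gen _)

theorem delta_one : classInner M.delta (fun _ => 1) = 0 := by
  rw [delta, classInner_add_left, classInner_sub_left, M.beta_one, M.Z_one, classInner_self_irr isIrr_one]
  ring

theorem delta_real : conjFun M.delta = M.delta := by
  have h : M.base - M.xi (M.bar M.i₀) = (M.base - M.xi M.i₀) - (M.xi (M.bar M.i₀) - (M.d (M.bar M.i₀) : ℂ) • M.xi M.i₀) := by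
    rw [M.d_bar, M.d₀, Nat.cast_one, one_smul]; abel
  have hb : conjFun M.base = M.base := M.base_map (starRingAut : ℂ ≃+* ℂ)
  rw [delta, conjFun_add, conjFun_sub, conjFun_const_one, M.Z_conj, beta, tau, dade_conj, conjFun_sub, hb, M.xi_conj, h,
    dade_sub, M.Z_diff, M.d_bar, M.d₀, Nat.cast_one, one_smul]
  abel

/-- A field automorphism moves `beta` by a difference of two images of linear degree. -/
theorem beta_map (σ : ℂ ≃+* ℂ) : ∃ i, M.d i = 1 ∧ (fun g => σ (M.beta g)) = M.beta + M.Z M.i₀ - M.Z i := by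
  obtain ⟨i, hi, h⟩ := M.xi_map σ
  refine ⟨i, hi, ?_⟩
  have e : (fun x => σ ((M.base - M.xi M.i₀) x)) = (M.base - M.xi M.i₀) - (M.xi i - (M.d i : ℂ) • M.xi M.i₀) := by
    rw [hi, Nat.cast_one, one_smul, show (fun x => σ ((M.base - M.xi M.i₀) x)) = (fun x => σ (M.base x)) - fun x => σ (M.xi M.i₀ x)
      from funext fun x => map_sub σ _ _, M.base_map, h]
    abel
  rw [beta, tau, dade_map, e, dade_sub, M.Z_diff, hi, Nat.cast_one, one_smul]
  abel

/-- The value inequality. -/
theorem value_le {χ : G → ℂ} (hχ : IsClassFunction G χ)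
    (horth : ∀ i, classInner χ (M.Z i) = (M.d i : ℂ) * classInner χ (M.Z M.i₀)) {F : Set G} (hF : F ⊆ M.reg) :
    Complex.normSq (classInner χ M.beta) * ((M.n : ℝ) / (M.e * M.n + 1)) +
      energy F (χ - M.tau (avgA M.A M.L M.R χ)) ≤ energy M.reg χ := by
  have hψ := avgA_supp M.hD hχ
  refine le_trans (add_le_add ?_ le_rfl) (energy_supp M.hD hχ hF)
  have key : ∀ α, Supp M.A M.L α → classInner (avgA M.A M.L M.R χ) α = classInner χ (M.tau α) := fun α hα => by
    rw [← classInner_conj_symm, ← dade_inner M.hD hα hχ, classInner_conj_symm]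
    rfl
  rw [beta, ← key _ M.base_supp]
  refine M.value _ hψ fun i => ?_
  have h := key _ (M.xi_supp i)
  rw [tau, M.Z_diff] at h
  simp only [classInner_sub_right, classInner_smul_right, map_natCast] at h
  rw [horth i, sub_self] at h
  linear_combination h

theorem value_le' {χ : G → ℂ} (hχ : IsClassFunction G χ)
    (horth : ∀ i, classInner χ (M.Z i) = (M.d i : ℂ) * classInner χ (M.Z M.i₀)) :
    Complex.normSq (classInner χ M.beta) * ((M.n : ℝ) / (M.e * M.n + 1)) ≤ energy M.reg χ :=
  le_trans (le_add_of_nonneg_right (energy_nonneg _ _)) (M.value_le hχ horth (F := ∅) (Set.empty_subset _))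

theorem two_le_n : 2 ≤ M.n := by
  rw [← M.sum_d, ← Finset.add_sum_erase _ _ (Finset.mem_univ M.i₀), M.d₀]
  have := Finset.single_le_sum (f := fun i => M.d i ^ 2) (fun i _ => Nat.zero_le _)
    (Finset.mem_erase.2 ⟨M.bar_ne M.i₀, Finset.mem_univ (M.bar M.i₀)⟩)
  simp only [M.d_bar, M.d₀] at this
  omega

end Member

end Cfsg.Agent.Grp.FT
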