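import Cfsg.Agent.Lib.Grp.FT.Eta

/-!
Counting on the grid: virtual characters of norm at most two are determined by their values on `V`.
-/

set_option autoImplicit false
set_option linter.unusedSectionVars false
set_option linter.style.haveILetI false

namespace Cfsg.Agent.Grp.FT

open Cfsg Cfsg.Agent.Char
open scoped ComplexConjugate

universe u

section comb

variable {I J : Type*} [Fintype I] [Fintype J] [DecidableEq I] [DecidableEq J]

/-- A column of an additive array in which some row is nonzero. -/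
theorem column_pos (u : I → ℤ) {i₀ : I} (h0 : u i₀ = 0) {i : I} (hi : u i ≠ 0) (c : ℤ) :
    1 ≤ ∑ x, (u x + c) ^ 2 := by
  by_cases hc : c = 0
  · refine le_trans ?_ (Finset.single_le_sum (f := fun x => (u x + c) ^ 2) (fun x _ => sq_nonneg _) (Finset.mem_univ i))
    show 1 ≤ (u i + c) ^ 2
    rw [hc, add_zero]
    have := Int.one_le_abs hi
    nlinarith [sq_abs (u i)]
  · refine le_trans ?_ (Finset.single_le_sum (f := fun x => (u x + c) ^ 2) (fun x _ => sq_nonneg _) (Finset.mem_univ i₀))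
    show 1 ≤ (u i₀ + c) ^ 2
    rw [h0, zero_add]
    have := Int.one_le_abs hc
    nlinarith [sq_abs c]

/-- An additive array with zero corner and squares summing to at most two vanishes. -/
theorem pattern_zero (hI : 3 ≤ Fintype.card I) (hJ : 3 ≤ Fintype.card J) (i₀ : I) (j₀ : J) (e : I → J → ℤ)
    (hadd : ∀ i j, e i j = e i j₀ + e i₀ j) (h0 : e i₀ j₀ = 0) (h : ∑ j, ∑ i, e i j ^ 2 ≤ 2) :
    ∀ i j, e i j = 0 := by
  by_cases hu : ∀ i, e i j₀ = 0
  · intro i j
    rw [hadd, hu i, zero_add]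
    by_contra hj
    have h1 := (Finset.single_le_sum (f := fun j => ∑ i, e i j ^ 2) (fun j _ => Finset.sum_nonneg fun i _ => sq_nonneg _)
      (Finset.mem_univ j)).trans h
    have h2 : ∀ x, e x j ^ 2 = e i₀ j ^ 2 := fun x => by rw [hadd x j, hu x, zero_add]
    rw [Finset.sum_congr rfl fun x _ => h2 x, Finset.sum_const, Finset.card_univ, nsmul_eq_mul] at h1
    have := Int.one_le_abs hj
    have h3 : (3 : ℤ) ≤ Fintype.card I := by exact_mod_cast hI
    nlinarith [sq_abs (e i₀ j)]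
  · exfalso
    push Not at hu
    obtain ⟨i, hi⟩ := hu
    have h1 : ∀ j, 1 ≤ ∑ x, e x j ^ 2 := fun j => by
      rw [Finset.sum_congr rfl fun x _ => show e x j ^ 2 = (e x j₀ + e i₀ j) ^ 2 by rw [← hadd]]
      exact column_pos (fun x => e x j₀) h0 hi _
    have h2 := Finset.sum_le_sum (s := Finset.univ) fun j _ => h1 j
    simp only [Finset.sum_const, Finset.card_univ, nsmul_eq_mul, mul_one] at h2
    have : (3 : ℤ) ≤ Fintype.card J := by exact_mod_cast hJ
    linarith

/-- The same with a target difference in one column. -/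
theorem pattern_diff (hI : 3 ≤ Fintype.card I) (hJ : 3 ≤ Fintype.card J) (i₀ : I) (j₀ : J) {a c : I} (ha : a ≠ i₀)
    (hc : c ≠ i₀) (hac : a ≠ c) (b : J) (e : I → J → ℤ) (hadd : ∀ i j, e i j = e i j₀ + e i₀ j) (h0 : e i₀ j₀ = 0)
    (t : ℤ) (ht : t ^ 2 = 1)
    (h : ∑ j, ∑ i, (e i j + if j = b then (if i = a then t else if i = c then -t else 0) else 0) ^ 2 ≤ 2) :
    ∀ i j, e i j = 0 := by
  set tt : I → ℤ := fun i => if i = a then t else if i = c then -t else 0 with htt
  rw [← Finset.add_sum_erase _ _ (Finset.mem_univ b)] at h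
  simp only [if_true] at h
  rw [Finset.sum_congr rfl fun j hj => Finset.sum_congr rfl fun i _ => by
    rw [if_neg (Finset.ne_of_mem_erase hj), add_zero]] at h
  have htb : ∀ i, tt i = if i = a then t else if i = c then -t else 0 := fun i => rfl
  simp only [← htb] at h
  have hcardJ : ((Finset.univ.erase b).card : ℤ) = (Fintype.card J : ℤ) - 1 := by
    rw [Finset.card_erase_of_mem (Finset.mem_univ b), Finset.card_univ, Nat.cast_sub (by omega)]; simp
  have hJ' : (3 : ℤ) ≤ Fintype.card J := by exact_mod_cast hJ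
  have hI' : (3 : ℤ) ≤ Fintype.card I := by exact_mod_cast hI
  have hpair : ∀ F : I → ℤ, (∀ i, 0 ≤ F i) → F a + F c ≤ ∑ i, F i := fun F hF => by
    rw [← Finset.sum_pair (f := F) hac]
    exact Finset.sum_le_sum_of_subset_of_nonneg (Finset.subset_univ _) fun i _ _ => hF i
  by_cases hu : ∀ i, e i j₀ = 0
  · have he : ∀ i j, e i j = e i₀ j := fun i j => by rw [hadd, hu, zero_add]
    have hb : 2 + (e i₀ b) ^ 2 * 2 ≤ ∑ i, (e i b + tt i) ^ 2 := by
      refine le_trans ?_ (hpair (fun i => (e i b + tt i) ^ 2) fun i => sq_nonneg _)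
      simp only [he a b, he c b, tt, if_true, hac.symm, if_false]
      nlinarith
    have hj : ∀ j ∈ Finset.univ.erase b, ∑ i, e i j ^ 2 = (Fintype.card I : ℤ) * e i₀ j ^ 2 := fun j _ => by
      rw [Finset.sum_congr rfl (g := fun _ => e i₀ j ^ 2) fun i _ => by rw [he i j], Finset.sum_const, Finset.card_univ,
        nsmul_eq_mul]
    rw [Finset.sum_congr rfl hj] at h
    have hnn : ∀ j ∈ Finset.univ.erase b, 0 ≤ (Fintype.card I : ℤ) * e i₀ j ^ 2 := fun j _ => by positivity
    have hs := Finset.sum_nonneg hnn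
    have hb0 : e i₀ b = 0 := (pow_eq_zero_iff two_ne_zero).1 (by nlinarith [sq_nonneg (e i₀ b)])
    have hz := (Finset.sum_eq_zero_iff_of_nonneg hnn).1 (by nlinarith [sq_nonneg (e i₀ b)])
    intro i j
    rw [he]
    by_cases hjb : j = b
    · rw [hjb, hb0]
    · have := hz j (Finset.mem_erase.2 ⟨hjb, Finset.mem_univ j⟩)
      rcases mul_eq_zero.1 this with h' | h'
      · omega
      · exact (pow_eq_zero_iff two_ne_zero).1 h'
  · exfalso
    push Not at hu
    obtain ⟨i, hi⟩ := hu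
    have h1 : ∀ j, 1 ≤ ∑ x, e x j ^ 2 := fun j => by
      rw [Finset.sum_congr rfl fun x _ => show e x j ^ 2 = (e x j₀ + e i₀ j) ^ 2 by rw [← hadd]]
      exact column_pos (fun x => e x j₀) h0 hi _
    have h2 := Finset.sum_le_sum (s := Finset.univ.erase b) fun j _ => h1 j
    simp only [Finset.sum_const, nsmul_eq_mul, mul_one] at h2
    have hb0 : ∑ x, (e x b + tt x) ^ 2 = 0 := le_antisymm (by linarith) (Finset.sum_nonneg fun x _ => sq_nonneg _)
    have hz := (Finset.sum_eq_zero_iff_of_nonneg fun x _ => sq_nonneg _).1 hb0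
    have hb1 : ∀ x, e x b = -tt x := fun x => by
      have := (pow_eq_zero_iff two_ne_zero).1 (hz x (Finset.mem_univ x)); linarith
    have hbz : e i₀ b = 0 := by rw [hb1]; simp [tt, ha.symm, hc.symm]
    have hcol : ∀ j, 2 ≤ ∑ x, e x j ^ 2 := fun j => by
      refine le_trans ?_ (hpair (fun x => e x j ^ 2) fun x => sq_nonneg _)
      have ea : e a j₀ = -t := by
        have := hadd a b; rw [hb1 a, hbz, add_zero] at this; simpa [tt] using this.symm
      have ec : e c j₀ = t := by
        have := hadd c b; rw [hb1 c, hbz, add_zero] at this; simpa [tt, hac.symm] using this.symm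
      rw [hadd a j, hadd c j, ea, ec]
      nlinarith [sq_nonneg (e i₀ j)]
    have h3 := Finset.sum_le_sum (s := Finset.univ.erase b) fun j _ => hcol j
    simp only [Finset.sum_const, nsmul_eq_mul] at h3
    linarith

end comb

variable {G : Type u} [Group G] [Fintype G] {W₁ W₂ : Subgroup G}

/-- Field automorphisms commute with the inner product of virtual characters. -/
theorem inner_map₂ {a b : G → ℂ} (ha : IsGeneralizedCharacter G a) (hb : IsGeneralizedCharacter G b) (σ : ℂ ≃+* ℂ) :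
    classInner (fun x => σ (a x)) (fun x => σ (b x)) = σ (classInner a b) := by
  obtain ⟨a₁, a₂, h1, h2, rfl⟩ := ha
  obtain ⟨b₁, b₂, h3, h4, rfl⟩ := hb
  have e : ∀ u v : G → ℂ, (fun x => σ ((u - v) x)) = (fun x => σ (u x)) - fun x => σ (v x) :=
    fun u v => funext fun x => map_sub σ _ _
  rw [e, e]
  simp only [classInner_sub_left, classInner_sub_right, IsChar.classInner_map_ringAut h1 h3,
    IsChar.classInner_map_ringAut h1 h4, IsChar.classInner_map_ringAut h2 h3, IsChar.classInner_map_ringAut h2 h4,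
    map_sub]

namespace Grid

variable (E : Grid W₁ W₂)

theorem gen (f : ↥W₁ →* ℂˣ) (g : ↥W₂ →* ℂˣ) : IsGeneralizedCharacter G (E.eta f g) := by
  rcases E.irr f g with h | h
  · exact gen_irr h
  · simpa using IsGenChar.neg (gen_irr h)

theorem classFun (f : ↥W₁ →* ℂˣ) (g : ↥W₂ →* ℂˣ) : IsClassFunction G (E.eta f g) := IsGenChar.classFun (E.gen f g)

/-- The integral coordinate. -/
noncomputable def coef (θ : G → ℂ) (f : ↥W₁ →* ℂˣ) (g : ↥W₂ →* ℂˣ) : ℤ := zInner θ (E.eta f g)

theorem coef_spec {θ : G → ℂ} (hθ : IsGeneralizedCharacter G θ) (f : ↥W₁ →* ℂˣ) (g : ↥W₂ →* ℂˣ) :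
    classInner θ (E.eta f g) = (E.coef θ f g : ℂ) := zInner_spec hθ (E.gen f g)

theorem coef_add {θ : G → ℂ} (hθ : IsGeneralizedCharacter G θ)
    (hV : ∀ (a : ↥W₁) (b : ↥W₂), a ≠ 1 → b ≠ 1 → θ ((a : G) * b) = 0) (f : ↥W₁ →* ℂˣ) (g : ↥W₂ →* ℂˣ) :
    E.coef θ f g = E.coef θ f 1 + E.coef θ 1 g - E.coef θ 1 1 := by
  have h := E.additive θ (IsGenChar.classFun hθ) hV f g
  simp only [E.coef_spec hθ] at h
  exact_mod_cast h

theorem eta_inner [DecidableEq (↥W₁ →* ℂˣ)] [DecidableEq (↥W₂ →* ℂˣ)] (p p' : (↥W₁ →* ℂˣ) × (↥W₂ →* ℂˣ)) :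
    classInner (E.eta p.1 p.2) (E.eta p'.1 p'.2) = if p = p' then 1 else 0 := by
  split_ifs with h
  · rw [h, E.norm_one]
  · exact E.orth _ _ _ _ fun e => h (Prod.ext e.1 e.2)

/-- The coordinates obey Bessel's inequality. -/
theorem coef_sq_le [Fintype (↥W₁ →* ℂˣ)] [Fintype (↥W₂ →* ℂˣ)] {θ : G → ℂ} (hθ : IsGeneralizedCharacter G θ) {N : ℤ}
    (hN : classInner θ θ = N) : ∑ g, ∑ f, E.coef θ f g ^ 2 ≤ N := by
  classical
  have h := (bessel_int (fun p : (↥W₁ →* ℂˣ) × (↥W₂ →* ℂˣ) => E.eta p.1 p.2) E.eta_inner θ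
    (fun p => E.coef θ p.1 p.2) (fun p => E.coef_spec hθ _ _) hN).1
  rw [Fintype.sum_prod_type, Finset.sum_comm] at h
  exact h

theorem card_left (E : Grid W₁ W₂) [Fintype (↥W₁ →* ℂˣ)] : Fintype.card (↥W₁ →* ℂˣ) = Nat.card W₁ := by
  rw [← Nat.card_eq_fintype_card]
  haveI := E.self.2.2.2.2.1
  exact (dual_facts W₁ (isCyclic_of_injective (Subgroup.inclusion (le_sup_left (b := W₂)))
    (Subgroup.inclusion_injective _))).2.1

theorem finite_left (E : Grid W₁ W₂) : Finite (↥W₁ →* ℂˣ) := by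
  haveI := E.self.2.2.2.2.1
  exact (dual_facts W₁ (isCyclic_of_injective (Subgroup.inclusion (le_sup_left (b := W₂)))
    (Subgroup.inclusion_injective _))).1

theorem three_le (E : Grid W₁ W₂) (hodd : Odd (Nat.card G)) [Fintype (↥W₁ →* ℂˣ)] : 3 ≤ Fintype.card (↥W₁ →* ℂˣ) := by
  rw [E.card_left]
  have h1 : Nat.card W₁ ≠ 1 := fun h => E.self.1 (Subgroup.card_eq_one.1 h)
  obtain ⟨k, hk⟩ := hodd.of_dvd_nat (Subgroup.card_subgroup_dvd_card W₁)
  omega

/-- A virtual character of norm at most two without principal part vanishing on `V` is orthogonal to the grid. -/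
theorem coef_eq_zero (hodd : Odd (Nat.card G)) {θ : G → ℂ} (hθ : IsGeneralizedCharacter G θ)
    (hV : ∀ (a : ↥W₁) (b : ↥W₂), a ≠ 1 → b ≠ 1 → θ ((a : G) * b) = 0) (h1 : classInner θ (fun _ => 1) = 0) {N : ℤ}
    (hN : classInner θ θ = N) (hN2 : N ≤ 2) (f : ↥W₁ →* ℂˣ) (g : ↥W₂ →* ℂˣ) : E.coef θ f g = 0 := by
  classical
  haveI := E.finite_left; haveI := E.swap.finite_left
  letI := Fintype.ofFinite (↥W₁ →* ℂˣ); letI := Fintype.ofFinite (↥W₂ →* ℂˣ)
  have h0 : E.coef θ 1 1 = 0 := zInner_eq (by rw [E.one, h1, Int.cast_zero])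
  exact pattern_zero (E.three_le hodd) (E.swap.three_le hodd) 1 1 (E.coef θ)
    (fun i j => by rw [E.coef_add hθ hV i j, h0, sub_zero]) h0 ((E.coef_sq_le hθ hN).trans hN2) f g

/-- A virtual character of norm two agreeing on `V` with the difference of two grid members of one column is
that difference. -/
theorem eq_diff (hodd : Odd (Nat.card G)) {θ : G → ℂ} (hθ : IsGeneralizedCharacter G θ) {a c : ↥W₁ →* ℂˣ} (ha : a ≠ 1)
    (hc : c ≠ 1) (hac : a ≠ c) (b : ↥W₂ →* ℂˣ) {t : ℤ} (ht : t = 1 ∨ t = -1) (h1 : classInner θ (fun _ => 1) = 0)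
    (hN : classInner θ θ = 2)
    (hV : ∀ (x : ↥W₁) (y : ↥W₂), x ≠ 1 → y ≠ 1 →
      θ ((x : G) * y) = (t : ℂ) * ((a x : ℂ) * (b y : ℂ) - (c x : ℂ) * (b y : ℂ))) :
    θ = (t : ℂ) • (E.eta a b - E.eta c b) := by
  classical
  haveI := E.finite_left; haveI := E.swap.finite_left
  letI := Fintype.ofFinite (↥W₁ →* ℂˣ); letI := Fintype.ofFinite (↥W₂ →* ℂˣ)
  have ht2 : t ^ 2 = 1 := by rcases ht with rfl | rfl <;> norm_num
  set T : G → ℂ := (t : ℂ) • (E.eta a b - E.eta c b) with hT
  have hTgen : IsGeneralizedCharacter G T := IsGenChar.zsmul (IsGenChar.sub (E.gen a b) (E.gen c b)) t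
  have hdiff : IsGeneralizedCharacter G (θ - T) := IsGenChar.sub hθ hTgen
  have hV' : ∀ (x : ↥W₁) (y : ↥W₂), x ≠ 1 → y ≠ 1 → (θ - T) ((x : G) * y) = 0 := fun x y hx hy => by
    simp only [T, Pi.sub_apply, Pi.smul_apply, smul_eq_mul, hV x y hx hy, E.val _ _ x y hx hy, sub_self]
  have hT0 : ∀ f g, classInner T (E.eta f g) =
      (t : ℂ) * ((if a = f ∧ b = g then 1 else 0) - (if c = f ∧ b = g then 1 else 0)) := fun f g => by
    simp only [T, classInner_smul_left, classInner_sub_left]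
    congr 1
    refine congr_arg₂ (· - ·) ?_ ?_
    · split_ifs with h
      · rw [h.1, h.2, E.norm_one]
      · exact E.orth _ _ _ _ h
    · split_ifs with h
      · rw [h.1, h.2, E.norm_one]
      · exact E.orth _ _ _ _ h
  have hcoef : ∀ f g, E.coef θ f g = E.coef (θ - T) f g + if g = b then (if f = a then t else if f = c then -t else 0) else 0 := by
    intro f g
    have e1 : classInner θ (E.eta f g) = classInner (θ - T) (E.eta f g) + classInner T (E.eta f g) := by
      rw [classInner_sub_left, sub_add_cancel]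
    rw [E.coef_spec hθ, E.coef_spec hdiff, hT0] at e1
    apply Int.cast_injective (α := ℂ)
    rw [e1, Int.cast_add]
    congr 1
    by_cases hg : g = b
    · subst hg
      by_cases hfa : f = a
      · subst hfa; simp [hac.symm]
      · by_cases hfc : f = c
        · subst hfc; simp [hac, hfa]
        · simp [hfa, hfc, Ne.symm hfa, Ne.symm hfc]
    · simp [hg, Ne.symm hg]
  have h00 : E.coef (θ - T) 1 1 = 0 := zInner_eq (by
    rw [E.one, classInner_sub_left, h1, zero_sub, show classInner T (fun _ => 1) = classInner T (E.eta 1 1) by rw [E.one], hT0]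
    simp [ha, hc])
  have hz := pattern_diff (E.three_le hodd) (E.swap.three_le hodd) 1 1 ha hc hac b (E.coef (θ - T))
    (fun i j => by rw [E.coef_add hdiff hV' i j, h00, sub_zero]) h00 t ht2 (by
      have := E.coef_sq_le hθ (N := 2) (by rw [hN]; norm_num)
      simpa only [← hcoef] using this)
  let e : Fin 2 → G → ℂ := ![E.eta a b, E.eta c b]
  have he := (bessel_int (fun i : Bool => E.eta (if i then a else c) b) (fun i j => by
    cases i <;> cases j <;> simp [E.norm_one, E.orth, hac, hac.symm]) θ (fun i => if i then t else -t) (fun i => by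
    cases i <;> simp [E.coef_spec hθ, hcoef, hz, hac.symm]) (N := 2) (by rw [hN]; norm_num)).2 (by simp [ht2])
  rw [he, Fintype.sum_bool, hT]
  simp [sub_eq_add_neg]

/-- A signed irreducible character other than the principal one which agrees on `V` with a grid member is that
member. -/
theorem eq_of_eq_on (hodd : Odd (Nat.card G)) {ψ : G → ℂ} (hψ : IsGeneralizedCharacter G ψ)
    (hN : classInner ψ ψ = 1) {f : ↥W₁ →* ℂˣ} {g : ↥W₂ →* ℂˣ} (hne : ¬(f = 1 ∧ g = 1))
    (h1 : classInner ψ (fun _ => 1) = 0)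
    (hV : ∀ (x : ↥W₁) (y : ↥W₂), x ≠ 1 → y ≠ 1 → ψ ((x : G) * y) = (f x : ℂ) * (g y : ℂ)) : ψ = E.eta f g := by
  set s := zInner ψ (E.eta f g) with hs
  have hsC : classInner ψ (E.eta f g) = (s : ℂ) := zInner_spec hψ (E.gen f g)
  have hsC' : classInner (E.eta f g) ψ = (s : ℂ) := by rw [← classInner_conj_symm, hsC, map_intCast]
  have hd : IsGeneralizedCharacter G (ψ - E.eta f g) := IsGenChar.sub hψ (E.gen f g)
  have hNd : classInner (ψ - E.eta f g) (ψ - E.eta f g) = ((2 - 2 * s : ℤ) : ℂ) := by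
    rw [classInner_sub_left, classInner_sub_right, classInner_sub_right, hN, hsC, hsC', E.norm_one]
    push_cast; ring
  have hd1 : classInner (ψ - E.eta f g) (fun _ => 1) = 0 := by
    rw [classInner_sub_left, h1, ← E.one, E.orth _ _ _ _ hne, sub_zero]
  have hup : s ≤ 1 := by
    have := classInner_self_re_nonneg (ψ - E.eta f g)
    rw [hNd, Complex.intCast_re, Int.cast_nonneg_iff] at this
    omega
  have hlo : -1 ≤ s := by
    have hsum : classInner (ψ + E.eta f g) (ψ + E.eta f g) = ((2 + 2 * s : ℤ) : ℂ) := by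
      rw [classInner_add_left, classInner_add_right, classInner_add_right, hN, hsC, hsC', E.norm_one]
      push_cast; ring
    have := classInner_self_re_nonneg (ψ + E.eta f g)
    rw [hsum, Complex.intCast_re, Int.cast_nonneg_iff] at this
    omega
  rcases (by omega : s = 1 ∨ s = 0 ∨ s = -1) with h | h | h
  · refine sub_eq_zero.1 ((classInner_self_eq_zero _).1 ?_)
    rw [hNd, h]; norm_num
  · exfalso
    have hz := E.coef_eq_zero hodd hd (fun x y hx hy => by rw [Pi.sub_apply, hV x y hx hy, E.val _ _ x y hx hy, sub_self])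
      hd1 hNd (by omega) f g
    have := E.coef_spec hd f g
    rw [hz, classInner_sub_left, hsC, h, E.norm_one] at this
    norm_num at this
  · exfalso
    have hsum : ψ + E.eta f g = 0 := (classInner_self_eq_zero _).1 (by
      rw [classInner_add_left, classInner_add_right, classInner_add_right, hN, hsC, hsC', E.norm_one, h]; norm_num)
    obtain ⟨a, ha⟩ := (Subgroup.bot_or_exists_ne_one W₁).resolve_left E.self.1
    obtain ⟨b, hb⟩ := (Subgroup.bot_or_exists_ne_one W₂).resolve_left E.self.2.1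
    have := congrFun hsum ((a : G) * b)
    have hx : (⟨a, ha.1⟩ : ↥W₁) ≠ 1 := fun e => ha.2 (congrArg Subtype.val e)
    have hy : (⟨b, hb.1⟩ : ↥W₂) ≠ 1 := fun e => hb.2 (congrArg Subtype.val e)
    rw [Pi.add_apply, hV ⟨a, ha.1⟩ ⟨b, hb.1⟩ hx hy, E.val f g ⟨a, ha.1⟩ ⟨b, hb.1⟩ hx hy] at this
    simp at this

/-- Field automorphisms permute the grid. -/
theorem map_eta (hodd : Odd (Nat.card G)) (σ : ℂ ≃+* ℂ) (f : ↥W₁ →* ℂˣ) (g : ↥W₂ →* ℂˣ) :
    (fun x => σ (E.eta f g x)) =
      E.eta ((Units.map σ.toRingHom.toMonoidHom).comp f) ((Units.map σ.toRingHom.toMonoidHom).comp g) := by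
  by_cases hne : f = 1 ∧ g = 1
  · rw [hne.1, hne.2, E.one, MonoidHom.comp_one, MonoidHom.comp_one, E.one]
    simp
  have hψ : IsGeneralizedCharacter G (fun x => σ (E.eta f g x)) := DadeImg.gen_map (E.gen f g) σ
  refine E.eq_of_eq_on hodd hψ ?_ (fun h => hne ⟨?_, ?_⟩) ?_ fun x y hx hy => ?_
  · rw [inner_map₂ (E.gen f g) (E.gen f g) σ, E.norm_one, map_one]
  · exact MonoidHom.ext fun x => Units.ext (σ.injective (by simpa using congrArg Units.val (DFunLike.congr_fun h.1 x)))
  · exact MonoidHom.ext fun x => Units.ext (σ.injective (by simpa using congrArg Units.val (DFunLike.congr_fun h.2 x)))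
  · rw [show (fun _ : G => (1 : ℂ)) = fun x => σ ((fun _ : G => (1 : ℂ)) x) by simp,
      inner_map₂ (E.gen f g) gen_one σ, ← E.one, E.orth _ _ _ _ hne, map_zero]
  · rw [E.val f g x y hx hy, map_mul]
    rfl

/-- Complex conjugation on the grid. -/
theorem conj_eta (hodd : Odd (Nat.card G)) (f : ↥W₁ →* ℂˣ) (g : ↥W₂ →* ℂˣ) :
    conjFun (E.eta f g) = E.eta f⁻¹ g⁻¹ := by
  have h := E.map_eta hodd (starRingAut : ℂ ≃+* ℂ) f g
  have key : ∀ (U : Subgroup G) (f : ↥U →* ℂˣ),
      (Units.map (starRingAut : ℂ ≃+* ℂ).toRingHom.toMonoidHom).comp f = f⁻¹ := fun U f => MonoidHom.ext fun x => Units.ext (by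
    show conj (f x : ℂ) = ((f x)⁻¹ : ℂˣ)
    rw [Units.val_inv_eq_inv_val, Complex.inv_eq_conj]
    have h1 : (f x : ℂ) ^ Nat.card U = 1 := by rw [← Units.val_pow_eq_pow_val, ← map_pow, pow_card_eq_one', map_one, Units.val_one]
    exact Complex.norm_eq_one_of_pow_eq_one h1 Nat.card_pos.ne')
  rw [key, key] at h
  exact h

end Grid

end Cfsg.Agent.Grp.FT
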