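import Cfsg.Agent.Lib.Grp.FT.SideBasic
import Cfsg.Agent.Lib.Grp.FT.Pattern
import Cfsg.Agent.Lib.Grp.FpfWard

/-!
The characters `μ(f, g)` of a side, induced from the extensions to `P C W₁` of the `W₁`-fixed linear
characters of `P × C`, and their Dade images.
-/

set_option autoImplicit false
set_option linter.unusedSectionVars false
set_option linter.style.haveILetI false
set_option maxHeartbeats 1000000

namespace Cfsg.Agent.Grp.FT

open Subgroup Cfsg.Agent.Char Cfsg.Agent.Transfer Cfsg.Agent.Transfer.Loc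
open scoped ComplexConjugate Pointwise

attribute [local instance] _root_.Classical.propDecidable

universe u

variable {G : Type u} [Group G] [Fintype G]

/-- The linear characters of `P × C` attached to the characters of `W₂`: fixed by `W₁`, trivial on `C`, with the
given restriction to `W₂`. -/
structure IsLam (P C A B : Subgroup G) (g : ↥B →* ℂˣ) (l : ↥(P ⊔ C) →* ℂˣ) : Prop where
  fixed : ∀ a ∈ A, Fixes a l
  triv : ∀ x : ↥(P ⊔ C), (x : G) ∈ C → l x = 1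
  res : ∀ (x : ↥(P ⊔ C)) (b : ↥B), (x : G) = (b : G) → l x = g b

namespace Side

variable {M P U C A B : Subgroup G} {p q : ℕ} (hs : Side M P U C A B p q)
include hs

theorem exists_norm_hom : ∃ N : ↥(P ⊔ C) →* ↥B, ((∀ x : ↥(P ⊔ C), (x : G) ∈ C → N x = 1) ∧
    (∀ (x : ↥(P ⊔ C)) (b : ↥B), (x : G) = (b : G) → N x = b ^ q) ∧
    (∀ a ∈ A, ∀ y z : ↥(P ⊔ C), a * (y : G) * a⁻¹ = (z : G) → N z = N y)) ∧ ∀ l : ↥(P ⊔ C) →* ℂˣ, (∀ a ∈ A, Fixes a l) →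
      (∀ x : ↥(P ⊔ C), (x : G) ∈ C → l x = 1) →
      ∀ x, l x ^ q = l ⟨(N x : G), mem_sup_left (hs.W₂_le (N x).2)⟩ := by
  haveI : Fintype A := Fintype.ofFinite _
  letI : CommGroup P := { (inferInstance : Group P) with mul_comm := fun a b => Subtype.ext (hs.comm_P a.2 b.2) }
  let φ : ↥P × ↥C →* ↥(P ⊔ C) := MonoidHom.noncommCoprod (Subgroup.inclusion le_sup_left)
    (Subgroup.inclusion le_sup_right) fun y z => Subtype.ext (hs.comm_PC y.2 z.2)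
  have hval : ∀ w : ↥P × ↥C, (φ w : G) = (w.1 : G) * w.2 := fun w => rfl
  have hφ : Function.Bijective φ := by
    refine ⟨(MonoidHom.ker_eq_bot_iff φ).1 ?_, fun w => ?_⟩
    · rw [Subgroup.eq_bot_iff_forall]
      intro x hx
      have h : (x.1 : G) * x.2 = 1 := congrArg Subtype.val (MonoidHom.mem_ker.1 hx)
      have h1 : (x.1 : G) ∈ P ⊓ C := Subgroup.mem_inf.2 ⟨x.1.2, (eq_inv_of_mul_eq_one_left h).symm ▸ C.inv_mem x.2.2⟩
      rw [hs.P_inf_C, mem_bot] at h1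
      exact Prod.ext (Subtype.ext h1) (Subtype.ext (by simpa [h1] using h))
    · obtain ⟨y, hy, z, hz, e⟩ := hs.mem_PC w.2
      exact ⟨(⟨y, hy⟩, ⟨z, hz⟩), Subtype.ext e.symm⟩
  let e := MulEquiv.ofBijective φ hφ
  let pr : ↥(P ⊔ C) →* ↥P := (MonoidHom.fst _ _).comp e.symm.toMonoidHom
  let cj : A → ↥P →* ↥P := fun a => MonoidHom.mk'
    (fun y => ⟨(a : G) * y * (a : G)⁻¹, Grp.mem_conj_normalizer (hs.A_norm_P a.2) y.2⟩) fun y z => Subtype.ext (by simp [mul_assoc])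
  let N₀ : ↥P →* ↥P := ∏ a : A, cj a
  have hN₀ : ∀ y, (N₀ y : G) ∈ B := fun y => by
    obtain ⟨a, ha, ha1⟩ := (bot_or_exists_ne_one A).resolve_left
      fun e => hs.hq.ne_one (by rw [← hs.card₁, e, Subgroup.card_bot])
    rw [← hs.fix a ha ha1]
    refine Subgroup.mem_inf.2 ⟨hs.compl.1 (N₀ y).2, mem_centralizer_singleton_iff.2 ?_⟩
    have h1 : cj ⟨a, ha⟩ (N₀ y) = N₀ y := by
      rw [MonoidHom.finsetProd_apply, map_prod]
      refine Fintype.prod_equiv (Equiv.mulLeft (⟨a, ha⟩ : A)) _ _ fun x => Subtype.ext ?_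
      simp [cj, mul_assoc]
    exact mul_inv_eq_iff_eq_mul.1 (congrArg Subtype.val h1) |>.symm
  have hpr : ∀ (y : ↥P) (z : ↥C), pr (φ (y, z)) = y := fun y z => by
    show (e.symm (φ (y, z))).1 = y
    rw [show φ (y, z) = e (y, z) from rfl, MulEquiv.symm_apply_apply]
  refine ⟨MonoidHom.mk' (fun x => ⟨N₀ (pr x), hN₀ _⟩) fun x y => Subtype.ext (by simp), ⟨?_, ?_, ?_⟩,
    fun l hl hlC x => ?_⟩
  · intro x hx
    refine Subtype.ext ?_
    rw [show x = φ (1, ⟨x, hx⟩) from Subtype.ext (by rw [hval]; simp)]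
    show (N₀ (pr (φ (1, ⟨x, hx⟩))) : G) = 1
    rw [hpr, map_one]; rfl
  · intro x b hxb
    refine Subtype.ext ?_
    rw [show x = φ (⟨b, hs.W₂_le b.2⟩, 1) from Subtype.ext (by rw [hval]; simpa using hxb)]
    show (N₀ (pr (φ (⟨b, hs.W₂_le b.2⟩, 1))) : G) = ((b ^ q : ↥B) : G)
    rw [hpr, MonoidHom.finsetProd_apply, Finset.prod_congr rfl fun a _ => show cj a ⟨b, hs.W₂_le b.2⟩ = ⟨b, hs.W₂_le b.2⟩ from
      Subtype.ext (by
        show (a : G) * b * (a : G)⁻¹ = b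
        rw [(hs.commute_lines a.2 b.2).eq, mul_inv_cancel_right]),
      Finset.prod_const, Finset.card_univ, ← Nat.card_eq_fintype_card, hs.card₁]
    rfl
  · intro a ha y z hyz
    refine Subtype.ext ?_
    obtain ⟨⟨y₁, y₂⟩, rfl⟩ := hφ.2 y
    have hz : z = φ (cj ⟨a, ha⟩ y₁, ⟨a * y₂ * a⁻¹, Grp.mem_conj_normalizer (hs.A_le_normalizer_C ha) y₂.2⟩) :=
      Subtype.ext (by rw [← hyz, hval, hval]; simp [cj, mul_assoc])
    rw [hz]
    show (N₀ (pr _) : G) = N₀ (pr _)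
    rw [hpr, hpr, MonoidHom.finsetProd_apply, MonoidHom.finsetProd_apply]
    refine congrArg Subtype.val (Fintype.prod_equiv (Equiv.mulRight (⟨a, ha⟩ : A)) _ _ fun x => Subtype.ext ?_)
    simp [cj, mul_assoc]
  set li : ↥P →* ℂˣ := l.comp (Subgroup.inclusion le_sup_left)
  have h1 : l x = li (pr x) := by
    obtain ⟨⟨y, z⟩, rfl⟩ := hφ.2 x
    rw [hpr, show φ (y, z) = Subgroup.inclusion le_sup_left y * Subgroup.inclusion le_sup_right z from rfl, map_mul,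
      hlC (Subgroup.inclusion le_sup_right z) z.2, mul_one]
    rfl
  have h2 : ∀ (a : A) (y : ↥P), li (cj a y) = li y := fun a y =>
    hl a a.2 (Subgroup.inclusion le_sup_left y) (Subgroup.inclusion le_sup_left (cj a y)) rfl
  show l x ^ q = li (N₀ (pr x))
  rw [h1, MonoidHom.finsetProd_apply, map_prod,
    Finset.prod_congr rfl fun a _ => h2 a _, Finset.prod_const, Finset.card_univ, ← Nat.card_eq_fintype_card, hs.card₁]

/-- The norm to `W₂`. -/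
noncomputable def nrm : ↥(P ⊔ C) →* ↥B := hs.exists_norm_hom.choose

theorem pow_q (l : ↥(P ⊔ C) →* ℂˣ) (hl : ∀ a ∈ A, Fixes a l) (hC : ∀ x : ↥(P ⊔ C), (x : G) ∈ C → l x = 1)
    (x : ↥(P ⊔ C)) : l x ^ q = l ⟨(hs.nrm x : G), mem_sup_left (hs.W₂_le (hs.nrm x).2)⟩ :=
  hs.exists_norm_hom.choose_spec.2 l hl hC x

theorem nrm_C {x : ↥(P ⊔ C)} (hx : (x : G) ∈ C) : hs.nrm x = 1 := hs.exists_norm_hom.choose_spec.1.1 x hx

theorem nrm_B {x : ↥(P ⊔ C)} {b : ↥B} (hx : (x : G) = (b : G)) : hs.nrm x = b ^ q :=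
  hs.exists_norm_hom.choose_spec.1.2.1 x b hx

theorem nrm_conj {a : G} (ha : a ∈ A) {y z : ↥(P ⊔ C)} (h : a * (y : G) * a⁻¹ = (z : G)) : hs.nrm z = hs.nrm y :=
  hs.exists_norm_hom.choose_spec.1.2.2 a ha y z h

theorem exists_inv_q : ∃ k : ℕ, q * k ≡ 1 [MOD p] := by
  obtain ⟨k, -, hk⟩ := Nat.exists_mul_mod_eq_one_of_coprime
    ((Nat.coprime_primes hs.hq hs.hp).2 hs.hpq.symm) hs.hp.one_lt
  exact ⟨k, by rw [Nat.ModEq, hk, Nat.one_mod_eq_one.2 hs.hp.ne_one]⟩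

theorem pow_p_PC (l : ↥(P ⊔ C) →* ℂˣ) (hC : ∀ x : ↥(P ⊔ C), (x : G) ∈ C → l x = 1) (x : ↥(P ⊔ C)) :
    l x ^ p = 1 := by
  obtain ⟨y, hy, z, hz, e⟩ := hs.mem_PC x.2
  have : x = ⟨y, mem_sup_left hy⟩ * ⟨z, mem_sup_right hz⟩ := Subtype.ext e
  rw [this, map_mul, hC ⟨z, mem_sup_right hz⟩ hz, mul_one, ← map_pow,
    show (⟨y, mem_sup_left hy⟩ : ↥(P ⊔ C)) ^ p = 1 from Subtype.ext (hs.elem.2 y hy), map_one]

theorem isLam_eq {g : ↥B →* ℂˣ} {l l' : ↥(P ⊔ C) →* ℂˣ} (h : IsLam P C A B g l) (h' : IsLam P C A B g l') :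
    l = l' := by
  obtain ⟨k, hk⟩ := hs.exists_inv_q
  refine MonoidHom.ext fun x => ?_
  have key : ∀ l : ↥(P ⊔ C) →* ℂˣ, IsLam P C A B g l → l x = g (hs.nrm x) ^ k := fun l hl => by
    have h1 : l x ^ (q * k) = l x := by
      conv_rhs => rw [← pow_one (l x)]
      exact pow_eq_pow_iff_modEq.2 (hk.of_dvd (orderOf_dvd_of_pow_eq_one (hs.pow_p_PC l hl.triv x)))
    rw [← h1, pow_mul, hs.pow_q l hl.fixed hl.triv x, hl.res _ _ rfl]
  rw [key l h, key l' h']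

theorem exists_lam (g : ↥B →* ℂˣ) : ∃ l : ↥(P ⊔ C) →* ℂˣ, IsLam P C A B g l := by
  obtain ⟨k, hk⟩ := hs.exists_inv_q
  refine ⟨MonoidHom.mk' (fun x => g (hs.nrm x) ^ k) fun x y => by rw [map_mul, map_mul, mul_pow],
    fun a ha y z e => by simp [hs.nrm_conj ha e], fun x hx => by simp [hs.nrm_C hx], fun x b hx => ?_⟩
  show g (hs.nrm x) ^ k = g b
  rw [hs.nrm_B hx, map_pow, ← pow_mul]
  conv_rhs => rw [← pow_one (g b)]
  refine pow_eq_pow_iff_modEq.2 (hk.of_dvd (orderOf_dvd_of_pow_eq_one ?_))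
  rw [← map_pow, show b ^ p = 1 from Subtype.ext (hs.elem.2 b (hs.W₂_le b.2)), map_one]

/-- The fixed linear character with restriction `g`. -/
noncomputable def lam (g : ↥B →* ℂˣ) : ↥(P ⊔ C) →* ℂˣ := (hs.exists_lam g).choose

theorem lam_spec (g : ↥B →* ℂˣ) : IsLam P C A B g (hs.lam g) := (hs.exists_lam g).choose_spec

theorem cyclic_A : IsCyclic A := by
  haveI := hs.self.2.2.2.2.1
  exact isCyclic_of_injective (Subgroup.inclusion (le_sup_left (b := B))) (Subgroup.inclusion_injective _)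

theorem lam_one : hs.lam 1 = 1 :=
  hs.isLam_eq (hs.lam_spec 1) ⟨fun a _ y z _ => by simp, fun x _ => rfl, fun x b _ => rfl⟩

theorem lam_ne {g : ↥B →* ℂˣ} (hg : g ≠ 1) : ∃ y : ↥(P ⊔ C), (y : G) ∈ P ∧ hs.lam g y ≠ 1 := by
  obtain ⟨b, hb⟩ : ∃ b, g b ≠ 1 := by
    by_contra h
    push Not at h
    exact hg (MonoidHom.ext h)
  refine ⟨⟨b, mem_sup_left (hs.W₂_le b.2)⟩, hs.W₂_le b.2, ?_⟩
  rwa [(hs.lam_spec g).res _ b rfl]

theorem lam_injective : Function.Injective hs.lam := fun g g' e => MonoidHom.ext fun b => by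
  rw [← (hs.lam_spec g).res ⟨b, mem_sup_left (hs.W₂_le b.2)⟩ b rfl, e,
    (hs.lam_spec g').res ⟨b, mem_sup_left (hs.W₂_le b.2)⟩ b rfl]

theorem lam_map (σ : ℂ ≃+* ℂ) (g : ↥B →* ℂˣ) :
    hs.lam ((Units.map σ.toRingHom.toMonoidHom).comp g) = (Units.map σ.toRingHom.toMonoidHom).comp (hs.lam g) :=
  hs.isLam_eq (hs.lam_spec _) ⟨fun a ha y z e => by simp [(hs.lam_spec g).fixed a ha y z e],
    fun x hx => by simp [(hs.lam_spec g).triv x hx], fun x b hx => by simp [(hs.lam_spec g).res x b hx]⟩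

theorem lam_inv (g : ↥B →* ℂˣ) : hs.lam g⁻¹ = (hs.lam g)⁻¹ :=
  hs.isLam_eq (hs.lam_spec _) ⟨fun a ha y z e => by simp [(hs.lam_spec g).fixed a ha y z e],
    fun x hx => by simp [(hs.lam_spec g).triv x hx], fun x b hx => by simp [(hs.lam_spec g).res x b hx]⟩

/-- An element of `U` fixing `lam g` lies in `C`. -/
theorem fixes_U {g : ↥B →* ℂˣ} (hg : g ≠ 1) {u : G} (hu : u ∈ U) (hfu : Fixes u (hs.lam g)) : u ∈ C := by
  set l := hs.lam g with hl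
  have hPC := hs.PC_le
  have hN := hs.M_norm_PC
  let X : Subgroup G :=
    { carrier := {v | v ∈ U ∧ Fixes v l}
      one_mem' := ⟨U.one_mem, fixes_of_mem hPC hN (one_mem _) l⟩
      mul_mem' := fun {a b} ha hb => ⟨U.mul_mem ha.1 hb.1, fixes_mul hPC hN (hs.U_le hb.1) l ha.2 hb.2⟩
      inv_mem' := fun {a} ha => ⟨U.inv_mem ha.1, fun y z e => (ha.2 z y (by rw [← e]; group)).symm⟩ }
  have hCX : C ≤ X := fun c hc => ⟨hs.C_lt.le hc, fixes_of_mem hPC hN (mem_sup_right hc) l⟩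
  have hUX : U ≤ normalizer (X : Set G) := Grp.PiHall.le_normalizer_of_conj_mem fun e he v hv => by
    have h3 := X.mul_mem (hCX (hs.comm_quot (commutator_mem_commutator he hv.1))) hv
    rwa [commutatorElement_def, inv_mul_cancel_right] at h3
  have hAX : A ≤ normalizer (X : Set G) := Grp.PiHall.le_normalizer_of_conj_mem fun a ha v hv =>
    ⟨Grp.mem_conj_normalizer (hs.norm_U ha) hv.1,
      fixes_mul hPC hN (inv_mem (hs.A_le ha)) l
        (fixes_mul hPC hN (hs.U_le hv.1) l ((hs.lam_spec g).fixed a ha) hv.2)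
        ((hs.lam_spec g).fixed _ (inv_mem ha))⟩
  have hXP : X ≤ normalizer (P : Set G) := fun v hv => hs.norm_P (hs.U_le hv.1)
  have hY : ⁅P, X⁆ ≤ P := Subgroup.commutator_le.2 fun y hy v hv => by
    rw [commutatorElement_def, mul_assoc, mul_assoc]
    exact P.mul_mem hy (by rw [← mul_assoc]; exact Grp.mem_conj_normalizer (hXP hv) (P.inv_mem hy))
  have hker : ∀ x ∈ ⁅P, X⁆, ∀ hx : x ∈ P ⊔ C, l ⟨x, hx⟩ = 1 := by
    intro x hx hx'
    have : x ∈ l.ker.map (P ⊔ C).subtype := by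
      refine Subgroup.commutator_le.2 (fun y hy v hv => ?_) hx
      have hy' : y⁻¹ ∈ P ⊔ C := mem_sup_left (P.inv_mem hy)
      have hvy : v * y⁻¹ * v⁻¹ ∈ P ⊔ C := Grp.mem_conj_normalizer (hN (hs.U_le hv.1)) hy'
      refine ⟨⟨y, mem_sup_left hy⟩ * ⟨_, hvy⟩, MonoidHom.mem_ker.2 ?_, ?_⟩
      · rw [map_mul, hv.2 ⟨_, hy'⟩ ⟨_, hvy⟩ rfl, ← map_mul]
        rw [show (⟨y, mem_sup_left hy⟩ : ↥(P ⊔ C)) * ⟨y⁻¹, hy'⟩ = 1 from Subtype.ext (mul_inv_cancel y), map_one]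
      · simp [commutatorElement_def, mul_assoc]
    obtain ⟨x₀, hx₀, e⟩ := this
    rw [← MonoidHom.mem_ker.1 hx₀]
    exact congrArg l (Subtype.ext e.symm)
  have hbot : ⁅P, X⁆ = ⊥ := by
    by_contra hne
    have hUAN : U ⊔ A ≤ normalizer ((⁅P, X⁆ : Subgroup G) : Set G) :=
      Grp.le_normalizer_commutator' (sup_le (hs.U_le.trans hs.norm_P) hs.A_norm_P) (sup_le hUX hAX)
    have hP := hs.irred _ hY hne hUAN
    obtain ⟨y, hy, hy1⟩ := hs.lam_ne hg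
    exact hy1 (hker y (hP.ge hy) y.2)
  rw [← hs.C_eq]
  exact Subgroup.mem_inf.2 ⟨hu, le_centralizer_iff.1
    (Subgroup.commutator_eq_bot_iff_le_centralizer.1 hbot) (show u ∈ X from ⟨hu, hfu⟩)⟩

/-- The conjugations among the fixed characters. -/
theorem conjEq_lam {g g' : ↥B →* ℂˣ} (hg : g' ≠ 1) {m : G} (hm : m ∈ M) (h : ConjEq m (hs.lam g) (hs.lam g')) :
    g = g' ∧ m ∈ P ⊔ C ⊔ A := by
  obtain ⟨y, hy, u, hu, a, ha, rfl⟩ := hs.decomp hm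
  have hPC := hs.PC_le
  have hN := hs.M_norm_PC
  have hyM : y ∈ M := hs.PC_le (mem_sup_left hy)
  have hu' : ConjEq u (hs.lam g) (hs.lam g') := by
    intro x z e
    have h1 : y * u * a * (a⁻¹ * (x : G) * a) * (y * u * a)⁻¹ = y * z * y⁻¹ := by rw [← e]; group
    have hx' : a⁻¹ * (x : G) * a ∈ P ⊔ C := by
      simpa using Grp.mem_conj_normalizer (hs.A_norm_PC (inv_mem ha)) x.2
    have hz' : y * (z : G) * y⁻¹ ∈ P ⊔ C := Grp.mem_conj_normalizer (hN hyM) z.2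
    rw [← fixes_of_mem hPC hN (mem_sup_left hy) (hs.lam g) z ⟨_, hz'⟩ rfl, h ⟨_, hx'⟩ ⟨_, hz'⟩ h1,
      (hs.lam_spec g').fixed a ha ⟨_, hx'⟩ x (by simp [mul_assoc])]
  have huC : u ∈ C := by
    obtain ⟨a₁, ha₁, ha₁1⟩ := (bot_or_exists_ne_one A).resolve_left
      fun e => hs.hq.ne_one (by rw [← hs.card₁, e, Subgroup.card_bot])
    refine hs.free_mod ha₁ ha₁1 hu (hs.fixes_U hg (U.mul_mem (U.inv_mem hu)
      (Grp.mem_conj_normalizer (hs.norm_U ha₁) hu)) fun x z e => ?_)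
    have huM := hs.U_le hu
    have hav : a₁ * u * a₁⁻¹ * (x : G) * (a₁ * u * a₁⁻¹)⁻¹ = u * z * u⁻¹ := by rw [← e]; group
    have hz1 : u * (z : G) * u⁻¹ ∈ P ⊔ C := Grp.mem_conj_normalizer (hN huM) z.2
    have hx1 : a₁⁻¹ * (x : G) * a₁ ∈ P ⊔ C := by
      simpa using Grp.mem_conj_normalizer (hs.A_norm_PC (inv_mem ha₁)) x.2
    have hx2 : u * (a₁⁻¹ * (x : G) * a₁) * u⁻¹ ∈ P ⊔ C := Grp.mem_conj_normalizer (hN huM) hx1
    rw [← hu' z ⟨_, hz1⟩ rfl, (hs.lam_spec g).fixed a₁ ha₁ ⟨_, hx2⟩ ⟨_, hz1⟩ (by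
      show a₁ * (u * (a₁⁻¹ * (x : G) * a₁) * u⁻¹) * a₁⁻¹ = u * (z : G) * u⁻¹
      rw [← hav]; group),
      hu' ⟨_, hx1⟩ ⟨_, hx2⟩ rfl, (hs.lam_spec g').fixed a₁ ha₁ ⟨_, hx1⟩ x (by simp [mul_assoc])]
  refine ⟨hs.lam_injective (MonoidHom.ext fun x => ?_),
    mul_mem (mul_mem (mem_sup_left (mem_sup_left hy)) (mem_sup_left (mem_sup_right huC))) (mem_sup_right ha)⟩
  have huM := hs.U_le hu
  have hx : u⁻¹ * (x : G) * u ∈ P ⊔ C := by simpa using Grp.mem_conj_normalizer (hN (inv_mem huM)) x.2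
  rw [hu' ⟨_, hx⟩ x (by simp [mul_assoc]),
    ← fixes_of_mem hPC hN (mem_sup_right huC) (hs.lam g') ⟨_, hx⟩ x (by simp [mul_assoc])]

theorem H_le : P ⊔ C ⊔ A ≤ M := sup_le hs.PC_le hs.A_le

theorem exists_ext (f : ↥A →* ℂˣ) (g : ↥B →* ℂˣ) : ∃ L : ↥(P ⊔ C ⊔ A) →* ℂˣ,
    ∀ (n : ↥(P ⊔ C)) (a : ↥A) (x : ↥(P ⊔ C ⊔ A)), (x : G) = (n : G) * a → L x = hs.lam g n * f a :=
  exists_extend hs.A_norm_PC hs.A_inf_PC _ (hs.lam_spec g).fixed f

/-- The extension of `lam g` by `f`. -/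
noncomputable def ext (f : ↥A →* ℂˣ) (g : ↥B →* ℂˣ) : ↥(P ⊔ C ⊔ A) →* ℂˣ := (hs.exists_ext f g).choose

theorem ext_spec (f : ↥A →* ℂˣ) (g : ↥B →* ℂˣ) (n : ↥(P ⊔ C)) (a : ↥A) (x : ↥(P ⊔ C ⊔ A))
    (e : (x : G) = (n : G) * a) : hs.ext f g x = hs.lam g n * f a := (hs.exists_ext f g).choose_spec n a x e

/-- The characters `μ`. -/
noncomputable def mu [Fintype M] (f : ↥A →* ℂˣ) (g : ↥B →* ℂˣ) : M → ℂ := indLin M (hs.ext f g)

theorem mem_H {x : G} (hx : x ∈ P ⊔ C ⊔ A) : ∃ n ∈ P ⊔ C, ∃ a ∈ A, x = n * a := by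
  rw [← SetLike.mem_coe, Subgroup.coe_mul_of_right_le_normalizer_left _ A hs.A_norm_PC] at hx
  obtain ⟨n, hn, a, ha, e⟩ := hx
  exact ⟨n, hn, a, ha, e.symm⟩

theorem H_inf_derived {x : G} (hx : x ∈ P ⊔ C ⊔ A) (hx' : x ∈ ⁅M, M⁆) : x ∈ P ⊔ C := by
  obtain ⟨n, hn, a, ha, rfl⟩ := hs.mem_H hx
  have : a ∈ ⁅M, M⁆ ⊓ A := Subgroup.mem_inf.2 ⟨((⁅M, M⁆).mul_mem_cancel_left (hs.PC_le_derived hn)).1 hx', ha⟩
  rw [hs.compl₁.2.2.1, mem_bot] at this
  rwa [this, mul_one]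

variable [Fintype M]

theorem mu_char (f : ↥A →* ℂˣ) (g : ↥B →* ℂˣ) : Cfsg.IsCharacter M (hs.mu f g) := indLin_char hs.H_le _

theorem mu_gen (f : ↥A →* ℂˣ) (g : ↥B →* ℂˣ) : Cfsg.IsGeneralizedCharacter M (hs.mu f g) := indLin_gen hs.H_le _

theorem mu_classFun (f : ↥A →* ℂˣ) (g : ↥B →* ℂˣ) : Cfsg.IsClassFunction M (hs.mu f g) := indLin_classFun _

/-- The values on `W₁ × W₂` off `W₂`. -/
theorem mu_val (f : ↥A →* ℂˣ) (g : ↥B →* ℂˣ) {a : ↥A} (ha : a ≠ 1) (b : ↥B) (hab : (a : G) * b ∈ M) :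
    hs.mu f g ⟨(a : G) * b, hab⟩ = (f a : ℂ) * (g b : ℂ) := by
  have hH : (a : G) * b ∈ P ⊔ C ⊔ A :=
    mul_mem (mem_sup_right a.2) (mem_sup_left (mem_sup_left (hs.W₂_le b.2)))
  have hval : (hs.ext f g ⟨_, hH⟩ : ℂ) = (f a : ℂ) * (g b : ℂ) := by
    rw [hs.ext_spec f g ⟨b, mem_sup_left (hs.W₂_le b.2)⟩ a ⟨_, hH⟩ (hs.commute_lines a.2 b.2).eq,
      (hs.lam_spec g).res _ b rfl, Units.val_mul, mul_comm]
  rw [mu, indLin_apply hs.H_le]
  have key : ∀ x : M, (if h : (x : G)⁻¹ * ((a : G) * b) * x ∈ P ⊔ C ⊔ A then (hs.ext f g ⟨_, h⟩ : ℂ) else 0) =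
      if (x : G) ∈ P ⊔ C ⊔ A then (f a : ℂ) * (g b : ℂ) else 0 := by
    intro x
    by_cases hx : (x : G) ∈ P ⊔ C ⊔ A
    · rw [if_pos hx, dif_pos (mul_mem (mul_mem (inv_mem hx) hH) hx), ← hval]
      congr 1
      rw [show (⟨(x : G)⁻¹ * ((a : G) * b) * x, _⟩ : ↥(P ⊔ C ⊔ A)) = ⟨x, hx⟩⁻¹ * ⟨_, hH⟩ * ⟨x, hx⟩ from rfl,
        map_mul, map_mul, map_inv, mul_right_comm, inv_mul_cancel, one_mul]
    · rw [if_neg hx, dif_neg fun h => hx ?_]
      obtain ⟨y, hy, u, hu, a', ha', e⟩ := hs.decomp (inv_mem x.2 : (x : G)⁻¹ ∈ M)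
      have hyH : y ∈ P ⊔ C ⊔ A := mem_sup_left (mem_sup_left hy)
      have ha'H : a' ∈ P ⊔ C ⊔ A := mem_sup_right ha'
      have hu2 : u * ((a : G) * b) * u⁻¹ ∈ P ⊔ C ⊔ A := by
        have hcomm : a' * ((a : G) * b) * a'⁻¹ = (a : G) * b := by
          haveI := hs.self.2.2.2.2.1
          letI : CommGroup ↥(A ⊔ B) := IsCyclic.commGroup
          rw [show a' * ((a : G) * b) = (a : G) * b * a' from congrArg Subtype.val (mul_comm
            (⟨a', mem_sup_left ha'⟩ : ↥(A ⊔ B)) ⟨_, mul_mem (mem_sup_left a.2) (mem_sup_right b.2)⟩),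
            mul_inv_cancel_right]
        have h1 := mul_mem (mul_mem (inv_mem hyH) h) hyH
        rwa [show (x : G) = ((x : G)⁻¹)⁻¹ from (inv_inv _).symm, inv_inv ((x : G)⁻¹), e,
          show y⁻¹ * (y * u * a' * ((a : G) * b) * (y * u * a')⁻¹) * y = u * (a' * ((a : G) * b) * a'⁻¹) * u⁻¹ by group,
          hcomm] at h1
      have hub : u * (b : G) * u⁻¹ ∈ P := Grp.mem_conj_normalizer (hs.norm_P (hs.U_le hu)) (hs.W₂_le b.2)
      have hua : u * (a : G) * u⁻¹ ∈ P ⊔ C ⊔ A := by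
        have h1 := mul_mem hu2 (inv_mem (mem_sup_left (mem_sup_left hub) : u * (b : G) * u⁻¹ ∈ P ⊔ C ⊔ A))
        rwa [show u * ((a : G) * b) * u⁻¹ * (u * (b : G) * u⁻¹)⁻¹ = u * (a : G) * u⁻¹ by group] at h1
      have hwU : u * ((a : G) * u⁻¹ * (a : G)⁻¹) ∈ U :=
        U.mul_mem hu (Grp.mem_conj_normalizer (hs.norm_U a.2) (U.inv_mem hu))
      have hwH : u * ((a : G) * u⁻¹ * (a : G)⁻¹) ∈ P ⊔ C ⊔ A := by
        have h1 := mul_mem hua (inv_mem (mem_sup_right a.2 : (a : G) ∈ P ⊔ C ⊔ A))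
        rwa [show u * (a : G) * u⁻¹ * (a : G)⁻¹ = u * ((a : G) * u⁻¹ * (a : G)⁻¹) by group] at h1
      have hwC := hs.U_inf_PC hwU (hs.H_inf_derived hwH (hs.compl.2.1 hwU))
      have huC : u⁻¹ ∈ C := hs.free_mod a.2 (fun e => ha (Subtype.ext e)) (U.inv_mem hu) (by rwa [inv_inv])
      have : (x : G)⁻¹ ∈ P ⊔ C ⊔ A := by
        rw [e]
        exact mul_mem (mul_mem hyH (mem_sup_left (mem_sup_right (by simpa using C.inv_mem huC)))) ha'H
      simpa using inv_mem this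
  rw [Finset.sum_congr rfl fun x _ => key x, ← Finset.sum_filter, Finset.sum_const, nsmul_eq_mul, ← mul_assoc,
    show (Finset.univ.filter fun x : M => (x : G) ∈ P ⊔ C ⊔ A).card = Nat.card ↥(P ⊔ C ⊔ A) from ?_,
    inv_mul_cancel₀ (Nat.cast_ne_zero.2 Nat.card_pos.ne'), one_mul]
  rw [← Nat.card_congr (Subgroup.subgroupOfEquivOfLe hs.H_le).toEquiv, Nat.card_eq_fintype_card,
    Fintype.card_of_subtype (Finset.univ.filter fun x : M => (x : G) ∈ P ⊔ C ⊔ A)]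
  exact fun x => by simp [Subgroup.mem_subgroupOf]

theorem card_H : Nat.card ↥(P ⊔ C ⊔ A) = Nat.card ↥(P ⊔ C) * q := by
  have h := Grp.card_sup_mul_card_inf (hs.A_norm_PC)
  rw [inf_comm, hs.A_inf_PC, Subgroup.card_bot, mul_one, sup_comm, hs.card₁, mul_comm] at h
  exact h

omit [Fintype M] in
theorem card_dual₁ [Fintype (↥A →* ℂˣ)] : Fintype.card (↥A →* ℂˣ) = q := by
  rw [← Nat.card_eq_fintype_card, (dual_facts A hs.cyclic_A).2.1, hs.card₁]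

/-- The sum over a row. -/
theorem mu_sum [Fintype (↥A →* ℂˣ)] (g : ↥B →* ℂˣ) : ∑ f, hs.mu f g = indLin M (hs.lam g) := by
  funext x
  simp only [Finset.sum_apply, mu, indLin_apply hs.H_le, indLin_apply hs.PC_le]
  rw [← Finset.mul_sum, Finset.sum_comm, hs.card_H, Nat.cast_mul, mul_inv, mul_assoc, Finset.mul_sum]
  congr 1
  refine Finset.sum_congr rfl fun t _ => ?_
  by_cases h : (t : G)⁻¹ * x * t ∈ P ⊔ C ⊔ A
  · simp only [dif_pos h]
    obtain ⟨n, hn, a, ha, e⟩ := hs.mem_H h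
    simp only [hs.ext_spec _ g ⟨n, hn⟩ ⟨a, ha⟩ ⟨_, h⟩ e, Units.val_mul, ← Finset.mul_sum]
    by_cases ha1 : a = 1
    · subst ha1
      rw [mul_one] at e
      rw [dif_pos (e ▸ hn), Finset.sum_congr rfl fun f _ => show ((f ⟨1, ha⟩ : ℂˣ) : ℂ) = 1 from
        (congrArg Units.val (map_one f)).trans Units.val_one, Finset.sum_const, Finset.card_univ, hs.card_dual₁,
        nsmul_one, mul_comm (hs.lam g _ : ℂ), ← mul_assoc, inv_mul_cancel₀ (Nat.cast_ne_zero.2 hs.hq.ne_zero), one_mul]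
      exact congrArg (fun v => (hs.lam g v : ℂ)) (Subtype.ext e.symm)
    · have hns : (t : G)⁻¹ * x * t ∉ P ⊔ C := fun hc => ha1 (by
        have : a ∈ (P ⊔ C) ⊓ A := Subgroup.mem_inf.2 ⟨by rw [e] at hc; exact ((P ⊔ C).mul_mem_cancel_left hn).1 hc, ha⟩
        rwa [hs.A_inf_PC, mem_bot] at this)
      have hab : ∀ a b : ↥A, a * b = b * a := (dual_facts A hs.cyclic_A).2.2
      letI : CommGroup ↥A := { (inferInstance : Group ↥A) with mul_comm := hab }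
      obtain ⟨f₀, hf₀⟩ := CommGroup.exists_apply_ne_one_of_hasEnoughRootsOfUnity ↥A ℂ
        (a := ⟨a, ha⟩) fun e' => ha1 (congrArg Subtype.val e')
      have h0 : (∑ f : ↥A →* ℂˣ, ((f ⟨a, ha⟩ : ℂˣ) : ℂ)) = 0 := by
        have h1 : (f₀ ⟨a, ha⟩ : ℂ) * ∑ f : ↥A →* ℂˣ, ((f ⟨a, ha⟩ : ℂˣ) : ℂ) = ∑ f : ↥A →* ℂˣ, ((f ⟨a, ha⟩ : ℂˣ) : ℂ) := by
          rw [Finset.mul_sum]
          exact Fintype.sum_equiv (Equiv.mulLeft f₀) _ _ fun f => by simp
        exact (mul_eq_zero.1 (show ((f₀ ⟨a, ha⟩ : ℂ) - 1) * _ = 0 by rw [sub_mul, one_mul, h1, sub_self])).resolve_left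
          (sub_ne_zero.2 fun e' => hf₀ (Units.ext e'))
      rw [dif_neg hns, h0, mul_zero, mul_zero]
  · have hns : (t : G)⁻¹ * x * t ∉ P ⊔ C := fun hc => h (mem_sup_left hc)
    simp [dif_neg h, dif_neg hns]

theorem card_filter_lam {g : ↥B →* ℂˣ} (hg : g ≠ 1) :
    (Finset.univ.filter fun x : M => ConjEq (x : G) (hs.lam g) (hs.lam g)).card = Nat.card ↥(P ⊔ C ⊔ A) := by
  rw [← Nat.card_congr (Subgroup.subgroupOfEquivOfLe hs.H_le).toEquiv, Nat.card_eq_fintype_card,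
    Fintype.card_of_subtype (Finset.univ.filter fun x : M => ConjEq (x : G) (hs.lam g) (hs.lam g))]
  intro x
  rw [Finset.mem_filter]
  refine ⟨fun h => (hs.conjEq_lam hg x.2 h.2).2, fun h => ⟨Finset.mem_univ _, ?_⟩⟩
  obtain ⟨n, hn, a, ha, e⟩ := hs.mem_H (show (x : G) ∈ P ⊔ C ⊔ A from h)
  rw [conjEq_self, e]
  exact fixes_mul hs.PC_le hs.M_norm_PC (hs.A_le ha) _ (fixes_of_mem hs.PC_le hs.M_norm_PC hn _) ((hs.lam_spec g).fixed a ha)

/-- Orthonormality. -/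
theorem mu_inner {g g' : ↥B →* ℂˣ} (hg : g ≠ 1) (hg' : g' ≠ 1) (f f' : ↥A →* ℂˣ) :
    Cfsg.classInner (hs.mu f g) (hs.mu f' g') = if f = f' ∧ g = g' then 1 else 0 := by
  haveI : Finite (↥A →* ℂˣ) := (dual_facts A hs.cyclic_A).1
  letI : Fintype (↥A →* ℂˣ) := Fintype.ofFinite _
  choose n hn using fun (f f' : ↥A →* ℂˣ) (g g' : ↥B →* ℂˣ) => IsChar.classInner_nat (hs.mu_char f g) (hs.mu_char f' g')
  have hsum : ∀ g g', (∑ f, ∑ f', (n f f' g g' : ℂ)) = Cfsg.classInner (indLin M (hs.lam g)) (indLin M (hs.lam g')) := by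
    intro g g'
    rw [← hs.mu_sum, ← hs.mu_sum, classInner_sum_left]
    refine Finset.sum_congr rfl fun f _ => ?_
    rw [classInner_sum_right]
    exact Finset.sum_congr rfl fun f' _ => (hn f f' g g').symm
  rw [hn]
  by_cases e : g = g'
  · subst e
    have h1 := hsum g g
    rw [inner_indLin_indLin hs.PC_le hs.M_norm_PC, hs.card_filter_lam hg, hs.card_H, Nat.cast_mul, ← mul_assoc,
      inv_mul_cancel₀ (Nat.cast_ne_zero.2 Nat.card_pos.ne'), one_mul] at h1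
    have h2 : ∑ f, ∑ f', n f f' g g = q := by exact_mod_cast h1
    have hd : ∀ f, 1 ≤ n f f g g := fun f => Nat.one_le_iff_ne_zero.2 fun h0 => by
      have h3 := hn f f g g
      rw [h0, Nat.cast_zero, classInner_self_eq_zero] at h3
      have h4 := congrFun h3 1
      rw [mu, indLin_one, Pi.zero_apply, Nat.cast_eq_zero] at h4
      exact Subgroup.index_ne_zero_of_finite h4
    have h5 : ∀ f₀, n f₀ f₀ g g = 1 ∧ ∀ f', f' ≠ f₀ → n f₀ f' g g = 0 := by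
      have hle : ∀ f₀, ∑ f', n f₀ f' g g = 1 := by
        have h6 : ∀ f₀ ∈ Finset.univ, 1 ≤ ∑ f', n f₀ f' g g := fun f₀ _ =>
          (hd f₀).trans (Finset.single_le_sum (f := fun f' => n f₀ f' g g) (fun _ _ => Nat.zero_le _) (Finset.mem_univ f₀))
        have h7 : ∑ _f₀ : ↥A →* ℂˣ, 1 = ∑ f₀, ∑ f', n f₀ f' g g := by
          rw [h2, Finset.sum_const, smul_eq_mul, mul_one, Finset.card_univ, hs.card_dual₁]
        exact fun f₀ => ((Finset.sum_eq_sum_iff_of_le h6).1 h7 f₀ (Finset.mem_univ _)).symm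
      intro f₀
      have h8 := hle f₀
      rw [← Finset.add_sum_erase _ _ (Finset.mem_univ f₀)] at h8
      have := hd f₀
      exact ⟨by omega, fun f' hf' => Nat.eq_zero_of_le_zero ((Finset.single_le_sum (f := fun f' => n f₀ f' g g)
        (fun _ _ => Nat.zero_le _) (Finset.mem_erase.2 ⟨hf', Finset.mem_univ _⟩)).trans (by omega))⟩
    by_cases hf : f = f'
    · subst hf; simp [(h5 f).1]
    · simp [hf, (h5 f).2 f' (Ne.symm hf)]
  · have h1 := hsum g g'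
    rw [indLin_orth hs.PC_le hs.M_norm_PC _ _ fun x hx h => e (hs.conjEq_lam hg' hx h).1] at h1
    have h2 : ∑ f, ∑ f', n f f' g g' = 0 := by exact_mod_cast h1
    simp [e, Finset.sum_eq_zero_iff.1 (Finset.sum_eq_zero_iff.1 h2 f (Finset.mem_univ _)) f' (Finset.mem_univ _)]

end Side

end Cfsg.Agent.Grp.FT
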