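import Cfsg.Agent.Lib.Grp.FT.MuTau
import Cfsg.Agent.Lib.Char.CohDescent

/-!
The coefficients of the restriction of a class function of `G` to `P × C` at the controlled linear characters,
and the lower bound for its fluctuation.
-/

set_option autoImplicit false
set_option linter.unusedSectionVars false
set_option linter.style.haveILetI false
set_option maxHeartbeats 1000000

namespace Cfsg.Agent.Grp.FT

open Subgroup Cfsg.Agent.Char Cfsg.Agent.Transfer Cfsg.Agent.Transfer.Loc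
open scoped ComplexConjugate Pointwise

attribute [local instance] _root_.Classical.propDecidable

universe u

variable {G : Type u} [Group G] [Fintype G]

/-- The coefficient of the restriction to `H` at a linear character. -/
noncomputable def linCoef {H : Subgroup G} (χ : G → ℂ) (l : ↥H →* ℂˣ) : ℂ :=
  (Nat.card H : ℂ)⁻¹ * ∑ᶠ x : ↥H, χ x * conj (l x : ℂ)

theorem linCoef_eq {H : Subgroup G} [Fintype H] (χ : G → ℂ) (l : ↥H →* ℂˣ) :
    linCoef χ l = Cfsg.classInner (fun x : H => χ x) fun x => (l x : ℂ) := by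
  rw [linCoef, finsum_eq_sum_of_fintype, Cfsg.classInner]

/-- A linear character nontrivial on a subgroup is orthogonal to the functions constant on its cosets. -/
theorem sum_const_cosets {H : Subgroup G} [Fintype H] {N : Subgroup G} (Φ : ↥H → ℂ)
    (hΦ : ∀ x y : ↥H, (y : G) ∈ N → Φ (x * y) = Φ x) (l : ↥H →* ℂˣ)
    (hl : ∃ y : ↥H, (y : G) ∈ N ∧ l y ≠ 1) : ∑ x : H, Φ x * conj (l x : ℂ) = 0 := by
  obtain ⟨y, hy, hy1⟩ := hl
  set S := ∑ x : H, Φ x * conj (l x : ℂ) with hS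
  have h1 : conj (l y : ℂ) * S = S := by
    rw [hS, Finset.mul_sum]
    refine Fintype.sum_equiv (Equiv.mulRight y) _ _ fun x => ?_
    simp only [Equiv.coe_mulRight, hΦ x y hy, map_mul, Units.val_mul]
    ring
  have h2 : (conj (l y : ℂ) - 1) * S = 0 := by rw [sub_mul, one_mul, h1, sub_self]
  refine (mul_eq_zero.1 h2).resolve_left (sub_ne_zero.2 fun e => hy1 (Units.ext ?_))
  have := congrArg conj e
  simpa using this

namespace Side

variable {M P U C A B : Subgroup G} {p q : ℕ} (hs : Side M P U C A B p q) [Fintype M]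
include hs

/-- Conjugate linear characters have equal coefficients. -/
theorem coef_conj {χ : G → ℂ} (hχ : Cfsg.IsClassFunction G χ) {x : G} (hx : x ∈ M) {l l' : ↥(P ⊔ C) →* ℂˣ}
    (h : ConjEq x l l') : linCoef χ l = linCoef χ l' := by
  haveI : Fintype ↥(P ⊔ C) := Fintype.ofFinite _
  simp only [linCoef, finsum_eq_sum_of_fintype]
  congr 1
  refine (Fintype.sum_equiv ?_ _ _ fun y => ?_).symm
  · exact
      { toFun := fun y => ⟨x * (y : G) * x⁻¹, conj_mem_of_mem hs.PC_le hs.M_norm_PC hx y⟩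
        invFun := fun y => ⟨x⁻¹ * (y : G) * x, by simpa using conj_mem_of_mem hs.PC_le hs.M_norm_PC (inv_mem hx) y⟩
        left_inv := fun y => Subtype.ext (by simp [mul_assoc])
        right_inv := fun y => Subtype.ext (by simp [mul_assoc]) }
  · show χ y * conj (l' y : ℂ) = χ (x * (y : G) * x⁻¹) * conj (l ⟨_, _⟩ : ℂ)
    rw [hχ, h y ⟨_, conj_mem_of_mem hs.PC_le hs.M_norm_PC hx y⟩ rfl]

theorem inner_tau_indLin {χ : G → ℂ} (hχ : Cfsg.IsClassFunction G χ) (l l' : ↥(P ⊔ C) →* ℂˣ) :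
    Cfsg.classInner χ (hs.tauS (indLin M l - indLin M l')) = linCoef χ l - linCoef χ l' := by
  haveI : Fintype ↥(P ⊔ C) := Fintype.ofFinite _
  have hM : Cfsg.IsClassFunction M fun x : M => χ x := fun a b => by
    simpa using hχ (a : G) (b : G)
  rw [← classInner_conj_symm, hs.tauS_inner hs.supp_indLin hχ, classInner_conj_symm, classInner_sub_right,
    inner_indLin hs.PC_le l hM, inner_indLin hs.PC_le l' hM, linCoef_eq, linCoef_eq]

/-- The difference of two coefficients at fixed characters. -/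
theorem coef_lam_sub (E : Grid A B) {χ : G → ℂ} (hχ : Cfsg.IsClassFunction G χ) {g g' : ↥B →* ℂˣ} (hg : g ≠ 1)
    (hg' : g' ≠ 1) : linCoef χ (hs.lam g) - linCoef χ (hs.lam g') =
      Cfsg.classInner χ (E.colSum g) - Cfsg.classInner χ (E.colSum g') := by
  haveI := E.finite_left
  letI := Fintype.ofFinite (↥A →* ℂˣ)
  rw [← hs.inner_tau_indLin hχ]
  have e : hs.tauS (indLin M (hs.lam g) - indLin M (hs.lam g')) = ∑ f, hs.tauS (hs.mu f g - hs.mu f g') := by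
    simp only [tauS, ← dade_sum]
    congr 1
    rw [Finset.sum_sub_distrib, hs.mu_sum, hs.mu_sum]
  rw [e, E.colSum_eq, E.colSum_eq, ← classInner_sub_right, ← Finset.sum_sub_distrib]
  congr 1
  exact Finset.sum_congr rfl fun f _ => hs.tau_mu E f hg hg'

/-- The conjugates of a linear character. -/
noncomputable def orbit (_hs : Side M P U C A B p q) [Fintype (↥(P ⊔ C) →* ℂˣ)] (l : ↥(P ⊔ C) →* ℂˣ) :
    Finset (↥(P ⊔ C) →* ℂˣ) :=
  Finset.univ.filter fun l' => ∃ x ∈ M, ConjEq x l' l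

theorem mem_orbit [Fintype (↥(P ⊔ C) →* ℂˣ)] {l l' : ↥(P ⊔ C) →* ℂˣ} :
    l' ∈ hs.orbit l ↔ ∃ x ∈ M, ConjEq x l' l := by
  rw [orbit, Finset.mem_filter]
  exact and_iff_right (Finset.mem_univ _)

/-- The size of an orbit. -/
theorem card_orbit [Fintype (↥(P ⊔ C) →* ℂˣ)] (l : ↥(P ⊔ C) →* ℂˣ) :
    (hs.orbit l).card * (Finset.univ.filter fun x : M => ConjEq (x : G) l l).card = Nat.card M := by
  have hmem : ∀ {m : G}, m ∈ M → ∀ y : ↥(P ⊔ C), m * (y : G) * m⁻¹ ∈ P ⊔ C := fun hm y =>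
    conj_mem_of_mem hs.PC_le hs.M_norm_PC hm y
  let c : M → ↥(P ⊔ C) →* ℂˣ := fun x => MonoidHom.mk' (fun y => l ⟨_, hmem (inv_mem x.2) y⟩) fun a b => by
    rw [← map_mul]; congr 1; exact Subtype.ext (by simp [mul_assoc])
  have hc : ∀ (x : M) l', ConjEq (x : G) l' l ↔ c x = l' := by
    intro x l'
    constructor
    · intro h
      refine MonoidHom.ext fun y => ?_
      show l ⟨_, hmem (inv_mem x.2) y⟩ = l' y
      exact (h ⟨_, hmem (inv_mem x.2) y⟩ y (by simp [mul_assoc])).symm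
    · rintro rfl y z e
      show l ⟨_, hmem (inv_mem x.2) z⟩ = l y
      refine congrArg l (Subtype.ext ?_)
      show (x : G)⁻¹ * (z : G) * ((x : G)⁻¹)⁻¹ = y
      rw [← e]; simp [mul_assoc]
  rw [Nat.card_eq_fintype_card (α := M), ← Finset.card_univ,
    Finset.card_eq_sum_card_fiberwise (s := (Finset.univ : Finset M)) (f := c) (t := hs.orbit l) fun x _ =>
      hs.mem_orbit.2 ⟨x, x.2, (hc x (c x)).2 rfl⟩]
  refine ((Finset.sum_eq_card_nsmul fun l' hl' => ?_).trans (smul_eq_mul _ _)).symm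
  obtain ⟨x₀, hx₀, h₀⟩ := hs.mem_orbit.1 hl'
  refine (Finset.card_nbij' (fun x => ⟨x₀, hx₀⟩ * x) (fun x => (⟨x₀, hx₀⟩ : M)⁻¹ * x) ?_ ?_ (fun x _ => inv_mul_cancel_left _ x)
    fun x _ => mul_inv_cancel_left _ x).symm
  · intro x hx
    simp only [Finset.coe_filter, Finset.mem_univ, true_and, Set.mem_ofPred_eq] at hx ⊢
    rw [← hc]
    intro y z e
    rw [h₀ ⟨_, hmem x.2 y⟩ z (by rw [← e]; simp [mul_assoc]), hx y _ rfl]
  · intro x hx
    simp only [Finset.coe_filter, Finset.mem_univ, true_and, Set.mem_ofPred_eq] at hx ⊢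
    rw [← hc] at hx
    intro y z e
    rw [← h₀ z ⟨_, hmem hx₀ z⟩ rfl, hx y ⟨_, hmem hx₀ z⟩ (by show (x : G) * y * (x : G)⁻¹ = x₀ * z * x₀⁻¹; rw [← e]; simp [mul_assoc])]

theorem card_M : Nat.card M = C.relIndex U * q * Nat.card ↥(P ⊔ C) := by
  rw [hs.card_PC, ← Grp.card_mul_relIndex hs.compl₁.1, (complIn_relIndex hs.compl₁).1, hs.card₁,
    ← Grp.card_mul_relIndex hs.compl.1, (complIn_relIndex hs.compl).1, hs.card_P, ← Grp.card_mul_relIndex hs.C_lt.le]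
  ring

theorem card_orbit_lam [Fintype (↥(P ⊔ C) →* ℂˣ)] {g : ↥B →* ℂˣ} (hg : g ≠ 1) :
    (hs.orbit (hs.lam g)).card = C.relIndex U := by
  have h := hs.card_orbit (hs.lam g)
  rw [hs.card_filter_lam hg, hs.card_H, hs.card_M] at h
  refine Nat.eq_of_mul_eq_mul_right (Nat.mul_pos (Nat.card_pos (α := ↥(P ⊔ C))) hs.hq.pos) (h.trans ?_)
  ring

theorem card_orbit_reg [Fintype (↥(P ⊔ C) →* ℂˣ)] {l : ↥(P ⊔ C) →* ℂˣ} (hl : l ∈ regChar M P C) :
    (hs.orbit l).card = C.relIndex U * q := by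
  have h := hs.card_orbit l
  have e : (Finset.univ.filter fun x : M => ConjEq (x : G) l l).card = Nat.card ↥(P ⊔ C) := by
    rw [← Nat.card_congr (Subgroup.subgroupOfEquivOfLe hs.PC_le).toEquiv, Nat.card_eq_fintype_card,
      Fintype.card_of_subtype (Finset.univ.filter fun x : M => ConjEq (x : G) l l)]
    intro x
    rw [Finset.mem_filter]
    exact ⟨fun h => hl.2 x x.2 h.2, fun h => ⟨Finset.mem_univ _, fixes_of_mem hs.PC_le hs.M_norm_PC h l⟩⟩
  rw [e, hs.card_M] at h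
  exact Nat.eq_of_mul_eq_mul_right (Nat.card_pos (α := ↥(P ⊔ C))) h

theorem reg_conj {l l' : ↥(P ⊔ C) →* ℂˣ} (hl : l ∈ regChar M P C) {x : G} (hx : x ∈ M) (h : ConjEq x l' l) :
    l' ∈ regChar M P C := by
  have hN := hs.M_norm_PC
  have hmem : ∀ {m : G}, m ∈ M → ∀ y : ↥(P ⊔ C), m * (y : G) * m⁻¹ ∈ P ⊔ C := fun hm y =>
    conj_mem_of_mem hs.PC_le hN hm y
  obtain ⟨⟨y, hy, hy1⟩, h2⟩ := hl
  refine ⟨⟨⟨_, hmem hx y⟩, Grp.mem_conj_normalizer (hs.norm_P hx) hy, by rwa [h y ⟨_, hmem hx y⟩ rfl]⟩,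
    fun t ht hf => ?_⟩
  have h3 : x⁻¹ * t * x ∈ P ⊔ C := by
    refine h2 _ (mul_mem (mul_mem (inv_mem hx) ht) hx) fun a b e => ?_
    rw [← h b ⟨_, hmem hx b⟩ rfl, ← h a ⟨_, hmem hx a⟩ rfl]
    refine hf _ _ ?_
    show t * (x * (a : G) * x⁻¹) * t⁻¹ = x * (b : G) * x⁻¹
    rw [← e]; simp [mul_assoc]
  have := Grp.mem_conj_normalizer (hN hx) h3
  simpa [mul_assoc] using this

theorem lam_orbit_ne [Fintype (↥(P ⊔ C) →* ℂˣ)] {g : ↥B →* ℂˣ} (hg : g ≠ 1) {l : ↥(P ⊔ C) →* ℂˣ}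
    (hl : l ∈ hs.orbit (hs.lam g)) : ∃ y : ↥(P ⊔ C), (y : G) ∈ P ∧ l y ≠ 1 := by
  obtain ⟨x, hx, h⟩ := hs.mem_orbit.1 hl
  obtain ⟨y, hy, hy1⟩ := hs.lam_ne hg
  exact ⟨⟨_, conj_mem_of_mem hs.PC_le hs.M_norm_PC hx y⟩, Grp.mem_conj_normalizer (hs.norm_P hx) hy,
    by rwa [h y ⟨_, conj_mem_of_mem hs.PC_le hs.M_norm_PC hx y⟩ rfl]⟩

/-- The two block bound on `P × C`. -/
theorem block_bound [Fintype ↥(P ⊔ C)] {χ : G → ℂ} (hχ : Cfsg.IsClassFunction G χ) (Φ : ↥(P ⊔ C) → ℂ)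
    (hΦc : Cfsg.IsClassFunction ↥(P ⊔ C) Φ) (hΦ : ∀ x y : ↥(P ⊔ C), (y : G) ∈ P → Φ (x * y) = Φ x)
    (O R : Finset (↥(P ⊔ C) →* ℂˣ)) (hOR : Disjoint O R)
    (hP : ∀ l, l ∈ O ∨ l ∈ R → ∃ y : ↥(P ⊔ C), (y : G) ∈ P ∧ l y ≠ 1) (s ε : ℂ)
    (hR : ∀ l ∈ R, linCoef χ l = s) (hO : ∀ l ∈ O, linCoef χ l = s + ε) :
    Complex.normSq ε * ((Nat.card ↥(P ⊔ C) : ℝ) * ((O.card : ℝ) * R.card / ((O.card : ℝ) + R.card))) ≤
      (∑ x : ↥(P ⊔ C), Complex.normSq (χ x - Φ x)) - Complex.normSq (χ ((1 : ↥(P ⊔ C)) : G) - Φ 1) := by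
  let ι : (↥(P ⊔ C) →* ℂˣ) → Cfsg.IrrCharacter ↥(P ⊔ C) := fun l => ⟨fun x => (l x : ℂ), isIrr_linear l⟩
  have hι : Function.Injective ι := fun a b e =>
    MonoidHom.ext fun x => Units.ext (congrFun (congrArg Subtype.val e) x)
  have hfc : Cfsg.IsClassFunction ↥(P ⊔ C) fun x => χ x - Φ x := fun a b => by
    simp only [Subgroup.coe_mul, InvMemClass.coe_inv, hχ (a : G) (b : G), hΦc a b]
  have hd : ∀ l, KerSets.dg ((ι l : Cfsg.IrrCharacter ↥(P ⊔ C)) : ↥(P ⊔ C) → ℂ) = 1 := fun l =>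
    Nat.cast_injective (R := ℂ) (((KerSets.dg_spec (ι l).2).symm.trans
      ((congrArg Units.val (map_one l)).trans Units.val_one)).trans Nat.cast_one.symm)
  have hinner : ∀ l, l ∈ O ∨ l ∈ R →
      Cfsg.classInner (fun x : ↥(P ⊔ C) => χ x - Φ x) (fun x => (l x : ℂ)) = linCoef χ l := fun l hl => by
    rw [linCoef_eq, Cfsg.classInner, Cfsg.classInner]
    congr 1
    simp only [sub_mul, Finset.sum_sub_distrib, sum_const_cosets Φ hΦ l (hP l hl), sub_zero]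
  have hv := two_block hfc (fun φ => KerSets.dg (φ : ↥(P ⊔ C) → ℂ)) (fun φ => KerSets.dg_spec φ.2)
    (O.image ι) (R.image ι) ((Finset.disjoint_image hι).2 hOR) s ε (fun φ hφ => ?_) fun φ hφ => ?_
  · rw [Finset.sum_image hι.injOn, Finset.sum_image hι.injOn] at hv
    simpa [hd] using hv
  · obtain ⟨l, hl, rfl⟩ := Finset.mem_image.1 hφ
    rw [hd, Nat.cast_one, mul_one]
    exact (hinner l (Or.inr hl)).trans (hR l hl)
  · obtain ⟨l, hl, rfl⟩ := Finset.mem_image.1 hφ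
    rw [hd, Nat.cast_one, mul_one]
    exact (hinner l (Or.inl hl)).trans (hO l hl)

end Side

end Cfsg.Agent.Grp.FT
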