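import Cfsg.Agent.Lib.Grp.FT.Mu

/-!
The Dade images of the differences of the characters induced from `P × C`: the differences of two `μ` are
differences of two grid members, and a regular linear character differs from a fixed one by a signed irreducible
character and a column of the grid.
-/

set_option autoImplicit false
set_option linter.unusedSectionVars false
set_option linter.style.haveILetI false
set_option maxHeartbeats 1000000

namespace Cfsg.Agent.Grp.FT

open Subgroup Cfsg.Agent.Char Cfsg.Agent.Transfer Cfsg.Agent.Transfer.Loc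
open scoped ComplexConjugate Pointwise

attribute [local instance] _root_.Classical.propDecidable

universe u

variable {G : Type u} [Group G] [Fintype G]

/-- The sum of a column of the grid. -/
noncomputable def Grid.colSum {A B : Subgroup G} (E : Grid A B) (g : ↥B →* ℂˣ) : G → ℂ :=
  ∑ᶠ f : ↥A →* ℂˣ, E.eta f g

theorem Grid.colSum_eq {A B : Subgroup G} (E : Grid A B) [Fintype (↥A →* ℂˣ)] (g : ↥B →* ℂˣ) :
    E.colSum g = ∑ f, E.eta f g := finsum_eq_sum_of_fintype _

theorem Grid.colSum_inner {A B : Subgroup G} (E : Grid A B) (g : ↥B →* ℂˣ) (f : ↥A →* ℂˣ) (h : ↥B →* ℂˣ) :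
    Cfsg.classInner (E.colSum g) (E.eta f h) = if g = h then 1 else 0 := by
  haveI := E.finite_left
  letI := Fintype.ofFinite (↥A →* ℂˣ)
  rw [E.colSum_eq, classInner_sum_left]
  split_ifs with e
  · subst e
    rw [Finset.sum_eq_single f (fun f' _ hne => E.orth _ _ _ _ fun e' => hne e'.1)
      fun hf => absurd (Finset.mem_univ f) hf, E.norm_one]
  · exact Finset.sum_eq_zero fun f' _ => E.orth _ _ _ _ fun e' => e e'.2

theorem Grid.colSum_norm {A B : Subgroup G} (E : Grid A B) (g : ↥B →* ℂˣ) :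
    Cfsg.classInner (E.colSum g) (E.colSum g) = (Nat.card A : ℂ) := by
  haveI := E.finite_left
  letI := Fintype.ofFinite (↥A →* ℂˣ)
  conv_lhs => arg 2; rw [E.colSum_eq]
  rw [classInner_sum_right, Finset.sum_congr rfl fun f _ => E.colSum_inner g f g]
  simp [E.card_left]

theorem Grid.colSum_gen {A B : Subgroup G} (E : Grid A B) (g : ↥B →* ℂˣ) :
    Cfsg.IsGeneralizedCharacter G (E.colSum g) := by
  haveI := E.finite_left
  letI := Fintype.ofFinite (↥A →* ℂˣ)
  rw [E.colSum_eq]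
  exact IsGenChar.sum fun f _ => E.gen f g

/-- The pattern of a difference on the grid. -/
theorem pattern_D {I J : Type*} [Fintype I] [Fintype J] [DecidableEq I] [DecidableEq J] (hI : 3 ≤ Fintype.card I)
    (hJ : 3 ≤ Fintype.card J) (i₀ : I) (j₀ b : J) (hb : b ≠ j₀) (e : I → J → ℤ)
    (hadd : ∀ i j, e i j = e i j₀ + e i₀ j) (h0 : e i₀ j₀ = 0) (u : ℤ) (hu : ∀ i, i ≠ i₀ → e i j₀ = u)
    (hc : ∀ j j', j ≠ j₀ → j' ≠ j₀ → e i₀ j - e i₀ j' = (if j' = b then 1 else 0) - if j = b then 1 else 0)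
    (h : ∑ j, ∑ i, e i j ^ 2 ≤ (Fintype.card I : ℤ) + 1) :
    (∀ i j, e i j = if j = b then -1 else 0) ∨
      (Fintype.card J = 3 ∧ ∀ i j, e i j = if j ≠ j₀ ∧ j ≠ b then 1 else 0) := by
  set γ := e i₀ b + 1 with hγ
  have hcol : ∀ j, j ≠ j₀ → e i₀ j = if j = b then γ - 1 else γ := fun j hj => by
    have h1 := hc j b hj hb
    simp only [if_true] at h1
    split_ifs at h1 ⊢ with hjb <;> omega
  have hq : (3 : ℤ) ≤ Fintype.card I := by exact_mod_cast hI
  have hp : (3 : ℤ) ≤ Fintype.card J := by exact_mod_cast hJ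
  have hsum : ∀ j, ∑ i, e i j ^ 2 = e i₀ j ^ 2 + ((Fintype.card I : ℤ) - 1) * (u + e i₀ j) ^ 2 := fun j => by
    rw [← Finset.add_sum_erase _ _ (Finset.mem_univ i₀), Finset.sum_congr rfl (g := fun _ => (u + e i₀ j) ^ 2)
      fun i hi => by rw [hadd i j, hu i (Finset.ne_of_mem_erase hi)], Finset.sum_const, nsmul_eq_mul,
      Finset.card_erase_of_mem (Finset.mem_univ i₀), Finset.card_univ, Nat.cast_sub (by omega), Nat.cast_one]
  rw [Finset.sum_congr rfl fun j _ => hsum j, ← Finset.add_sum_erase _ _ (Finset.mem_univ j₀), h0] at h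
  have hb' : b ∈ Finset.univ.erase j₀ := Finset.mem_erase.2 ⟨hb, Finset.mem_univ b⟩
  rw [← Finset.add_sum_erase _ _ hb', hcol b hb, if_pos rfl, Finset.sum_congr rfl
    (g := fun _ => γ ^ 2 + ((Fintype.card I : ℤ) - 1) * (u + γ) ^ 2) fun j hj => by
      rw [hcol j (Finset.ne_of_mem_erase (Finset.mem_of_mem_erase hj)), if_neg (Finset.ne_of_mem_erase hj)],
    Finset.sum_const, nsmul_eq_mul, Finset.card_erase_of_mem hb', Finset.card_erase_of_mem (Finset.mem_univ j₀),
    Finset.card_univ, show Fintype.card J - 1 - 1 = Fintype.card J - 2 by omega, Nat.cast_sub (by omega)] at h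
  push_cast at h
  have hu0 : u = 0 := by
    by_contra hne
    have hu2 : 1 ≤ u ^ 2 := by have := Int.one_le_abs hne; nlinarith [sq_abs u]
    have key : ∀ c : ℤ, 1 ≤ c ^ 2 + ((Fintype.card I : ℤ) - 1) * (u + c) ^ 2 ∧
        (c ^ 2 + ((Fintype.card I : ℤ) - 1) * (u + c) ^ 2 ≤ 1 → u + c = 0) := by
      intro c
      by_cases hc0 : u + c = 0
      · refine ⟨?_, fun _ => hc0⟩
        rw [hc0, show c = -u by omega]; nlinarith
      · have : 1 ≤ (u + c) ^ 2 := by have := Int.one_le_abs hc0; nlinarith [sq_abs (u + c)]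
        refine ⟨by nlinarith [sq_nonneg c], fun h' => ?_⟩
        nlinarith [sq_nonneg c]
    obtain ⟨k1, k2⟩ := key (γ - 1)
    obtain ⟨k3, k4⟩ := key γ
    have k5 := mul_le_mul_of_nonneg_left k3 (show (0 : ℤ) ≤ (Fintype.card J : ℤ) - 2 by linarith)
    have k6 : ((Fintype.card I : ℤ) - 1) * 1 ≤ ((Fintype.card I : ℤ) - 1) * u ^ 2 :=
      mul_le_mul_of_nonneg_left hu2 (by linarith)
    have k7 := k2 (by nlinarith)
    have k8 := k4 (by nlinarith)
    omega
  subst hu0
  have hrow : ∀ i j, e i j = e i₀ j := fun i j => by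
    by_cases hi : i = i₀
    · rw [hi]
    · rw [hadd, hu i hi, zero_add]
  have h' : (γ - 1) ^ 2 + ((Fintype.card J : ℤ) - 2) * γ ^ 2 ≤ 1 := by
    have : (Fintype.card I : ℤ) * ((γ - 1) ^ 2 + ((Fintype.card J : ℤ) - 2) * γ ^ 2) ≤ (Fintype.card I : ℤ) + 1 := by
      nlinarith
    by_contra hlt
    nlinarith [mul_le_mul_of_nonneg_left (show (2 : ℤ) ≤ (γ - 1) ^ 2 + ((Fintype.card J : ℤ) - 2) * γ ^ 2 by omega)
      (show (0 : ℤ) ≤ Fintype.card I by linarith)]
  rcases (show γ = 0 ∨ γ = 1 by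
    have : γ ^ 2 ≤ 1 := by nlinarith [sq_nonneg (γ - 1)]
    rcases (show γ = 0 ∨ γ = 1 ∨ γ = -1 by
      have h1 : -1 ≤ γ := by nlinarith
      have h2 : γ ≤ 1 := by nlinarith
      omega) with h | h | h
    · exact Or.inl h
    · exact Or.inr h
    · exfalso; rw [h] at h'; nlinarith) with hg | hg
  · refine Or.inl fun i j => ?_
    rw [hrow]
    by_cases hj : j = j₀
    · rw [hj, h0, if_neg hb.symm]
    · rw [hcol j hj, hg]; rfl
  · refine Or.inr ⟨?_, fun i j => ?_⟩
    · rw [hg] at h'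
      have : (Fintype.card J : ℤ) ≤ 3 := by linarith
      omega
    · rw [hrow]
      by_cases hj : j = j₀
      · rw [hj, h0, if_neg fun h => h.1 rfl]
      · rw [hcol j hj, hg]
        by_cases hjb : j = b
        · rw [if_pos hjb, if_neg fun h => h.2 hjb]; norm_num
        · rw [if_neg hjb, if_pos ⟨hj, hjb⟩]

namespace Side

/-- The Dade map of the side. -/
noncomputable def tauS {M P U C A B : Subgroup G} {p q : ℕ} [Fintype M] (_hs : Side M P U C A B p q) (α : M → ℂ) :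
    G → ℂ :=
  Cfsg.dadeIsometry (sideA0 M P C A B) M (fun _ => ⊥) α

variable {M P U C A B : Subgroup G} {p q : ℕ} (hs : Side M P U C A B p q) [Fintype M]
include hs

theorem supp_indLin {l l' : ↥(P ⊔ C) →* ℂˣ} : Supp (sideA0 M P C A B) M (indLin M l - indLin M l') := by
  refine ⟨classFunction_sub (indLin_classFun l) (indLin_classFun l'), fun x hx => ?_⟩
  by_cases h : (x : G) ∈ P ⊔ C
  · have h1 : x = 1 := by
      by_contra hne
      exact hx (Or.inl ⟨h, fun e => hne (Subtype.ext e)⟩)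
    subst h1
    simp [indLin_one]
  · rw [Pi.sub_apply, indLin_eq_zero hs.PC_le hs.M_norm_PC l h, indLin_eq_zero hs.PC_le hs.M_norm_PC l' h, sub_self]

theorem supp_mu (f : ↥A →* ℂˣ) (g g' : ↥B →* ℂˣ) : Supp (sideA0 M P C A B) M (hs.mu f g - hs.mu f g') := by
  refine ⟨classFunction_sub (hs.mu_classFun f g) (hs.mu_classFun f g'), fun x hx => ?_⟩
  by_cases hx1 : x = 1
  · subst hx1; simp [mu, indLin_one]
  rw [Pi.sub_apply]
  by_contra hne
  have : ∃ t : M, (t : G)⁻¹ * x * t ∈ P ⊔ C ⊔ A := by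
    by_contra hno
    push Not at hno
    refine hne ?_
    simp only [mu, indLin_apply hs.H_le]
    rw [Finset.sum_eq_zero fun t _ => dif_neg (hno t), Finset.sum_eq_zero fun t _ => dif_neg (hno t)]
    simp
  obtain ⟨t, ht⟩ := this
  obtain ⟨n, hn, a, ha, e⟩ := hs.mem_H ht
  by_cases ha1 : a = 1
  · rw [ha1, mul_one] at e
    refine hx (Or.inl ⟨?_, fun e' => hx1 (Subtype.ext e')⟩)
    have := Grp.mem_conj_normalizer (hs.M_norm_PC t.2) (e ▸ hn)
    simpa [mul_assoc] using this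
  haveI := Fact.mk hs.hq
  have hcop : Nat.Coprime (orderOf a) (Nat.card ↥(P ⊔ C)) := by
    refine Nat.Coprime.coprime_dvd_left (Subgroup.orderOf_dvd_natCard A ha) ?_
    rw [hs.card₁, hs.card_PC]
    exact Nat.Coprime.mul_right (((Nat.coprime_primes hs.hq hs.hp).2 hs.hpq.symm).pow_right _)
      (hs.coprime₁.coprime_dvd_left (card_dvd_of_le hs.C_lt.le)).symm
  obtain ⟨k, hk, c, hc, hcx, hconj⟩ := exists_conj_centralizer_coset (P ⊔ C) a (hs.A_norm_PC ha) hcop n hn
  have hcB : c ∈ B := by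
    rw [← hs.fix a ha ha1]
    exact Subgroup.mem_inf.2 ⟨hs.PC_le_derived hc, mem_centralizer_singleton_iff.2 hcx⟩
  set m : G := k * (t : G)⁻¹ with hm
  have hmM : m ∈ M := mul_mem (hs.PC_le hk) (inv_mem t.2)
  have hxm : m * x * m⁻¹ = a * c := by
    rw [show m * x * m⁻¹ = k * ((t : G)⁻¹ * x * t) * k⁻¹ by rw [hm]; group, e, hconj,
      (hs.commute_lines ha hcB).eq]
  have hab : a * c ∈ M := hxm ▸ mul_mem (mul_mem hmM x.2) (inv_mem hmM)
  have hval : ∀ g₁ : ↥B →* ℂˣ, hs.mu f g₁ x = (f ⟨a, ha⟩ : ℂ) * (g₁ ⟨c, hcB⟩ : ℂ) := fun g₁ => by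
    rw [← hs.mu_val f g₁ (a := ⟨a, ha⟩) (fun e' => ha1 (congrArg Subtype.val e')) ⟨c, hcB⟩ hab]
    rw [← (hs.mu_classFun f g₁) x ⟨m, hmM⟩]
    exact congrArg _ (Subtype.ext hxm)
  by_cases hc1 : c = 1
  · refine hne ?_
    subst hc1
    rw [hval, hval, show (⟨1, hcB⟩ : ↥B) = 1 from rfl, map_one, map_one, sub_self]
  refine hx (Or.inr ⟨m⁻¹, inv_mem hmM, a * c, ⟨mul_mem (mem_sup_left ha) (mem_sup_right hcB), ?_⟩,
    by rw [← hxm]; group⟩)
  rintro (h | h)
  · exact hc1 (Subgroup.mem_bot.1 (hs.self.2.2.1.le ⟨(A.mul_mem_cancel_left ha).1 h, hcB⟩))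
  · exact ha1 (Subgroup.mem_bot.1 (hs.self.2.2.1.le ⟨ha, (B.mul_mem_cancel_right hcB).1 h⟩))

theorem tauS_gen {α : M → ℂ} (hα : Supp (sideA0 M P C A B) M α) (hg : Cfsg.IsGeneralizedCharacter M α) :
    Cfsg.IsGeneralizedCharacter G (hs.tauS α) := dade_gen hs.dade_A0 hα hg

theorem tauS_inner {α : M → ℂ} (hα : Supp (sideA0 M P C A B) M α) {χ : G → ℂ} (hχ : Cfsg.IsClassFunction G χ) :
    Cfsg.classInner (hs.tauS α) χ = Cfsg.classInner α fun x : M => χ x := ti_inner hs.dade_A0 hα hχ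

theorem tauS_iso {α β : M → ℂ} (hα : Supp (sideA0 M P C A B) M α) (hβ : Supp (sideA0 M P C A B) M β) :
    Cfsg.classInner (hs.tauS α) (hs.tauS β) = Cfsg.classInner α β := dade_iso hs.dade_A0 hα hβ

theorem inner_one_indLin {l : ↥(P ⊔ C) →* ℂˣ} (hl : l ≠ 1) :
    Cfsg.classInner (indLin M l) (fun _ => 1) = 0 := by
  rw [← classInner_conj_symm, inner_indLin hs.PC_le l (IsGenChar.classFun gen_one),
    classInner_irr_ne isIrr_one (isIrr_linear l), map_zero]
  intro e
  exact hl (MonoidHom.ext fun x => Units.ext (congrFun e x).symm)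

theorem inner_one_mu (f : ↥A →* ℂˣ) {g : ↥B →* ℂˣ} (hg : g ≠ 1) :
    Cfsg.classInner (hs.mu f g) (fun _ => 1) = 0 := by
  haveI : Finite (↥A →* ℂˣ) := (dual_facts A hs.cyclic_A).1
  letI : Fintype (↥A →* ℂˣ) := Fintype.ofFinite _
  choose n hn using fun f' => IsChar.classInner_nat (hs.mu_char f' g) (IsChar.one (G := M))
  have h1 : (∑ f', (n f' : ℂ)) = 0 := by
    simp only [← hn, ← classInner_sum_left, hs.mu_sum]
    exact hs.inner_one_indLin fun e => hg (hs.lam_injective (by rw [e, hs.lam_one]))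
  have h2 : ∑ f', n f' = 0 := by exact_mod_cast h1
  rw [hn, Finset.sum_eq_zero_iff.1 h2 f (Finset.mem_univ f), Nat.cast_zero]

variable (E : Grid A B)

/-- The images of differences within a row are grid differences. -/
theorem tau_mu (f : ↥A →* ℂˣ) {g g' : ↥B →* ℂˣ} (hg : g ≠ 1) (hg' : g' ≠ 1) :
    hs.tauS (hs.mu f g - hs.mu f g') = E.eta f g - E.eta f g' := by
  by_cases e : g = g'
  · subst e
    rw [sub_self, sub_self]
    funext x
    simp [tauS, Cfsg.dadeIsometry]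
  have hα := hs.supp_mu f g g'
  have h2 := E.swap.eq_diff hs.hG.1 (hs.tauS_gen hα (IsGenChar.sub (hs.mu_gen f g) (hs.mu_gen f g'))) hg hg' e f
    (t := 1) (Or.inl rfl) ?_ ?_ ?_
  · rw [h2, Int.cast_one, one_smul]; rfl
  · rw [hs.tauS_inner hα (IsGenChar.classFun gen_one), classInner_sub_left, hs.inner_one_mu f hg,
      hs.inner_one_mu f hg', sub_self]
  · rw [hs.tauS_iso hα hα]
    simp [classInner_sub_left, classInner_sub_right, hs.mu_inner hg hg, hs.mu_inner hg hg', hs.mu_inner hg' hg,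
      hs.mu_inner hg' hg', e, Ne.symm e]
    norm_num
  · intro x y hx hy
    rw [← (hs.commute_lines y.2 x.2).eq]
    have hV : (y : G) * x ∈ M := hs.W_le (mul_mem (mem_sup_left y.2) (mem_sup_right x.2))
    rw [tauS, ti_apply hs.dade_A0 hα (a := ⟨_, hV⟩) (Or.inr ⟨1, M.one_mem, _, ⟨mul_mem (mem_sup_left y.2)
      (mem_sup_right x.2), ?_⟩, by simp⟩), Pi.sub_apply, hs.mu_val f g hy x hV, hs.mu_val f g' hy x hV]
    · push_cast; ring
    · rintro (h | h)
      · exact hx (Subtype.ext (Subgroup.mem_bot.1 (hs.self.2.2.1.le ⟨(A.mul_mem_cancel_left y.2).1 h, x.2⟩)))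
      · exact hy (Subtype.ext (Subgroup.mem_bot.1 (hs.self.2.2.1.le ⟨y.2, (B.mul_mem_cancel_right x.2).1 h⟩)))

/-- The image of the difference of two characters induced from `P × C` vanishes on mixed elements. -/
theorem tau_indLin_V {l l' : ↥(P ⊔ C) →* ℂˣ} (a : ↥A) (b : ↥B) (ha : a ≠ 1) (hb : b ≠ 1) :
    hs.tauS (indLin M l - indLin M l') ((a : G) * b) = 0 := by
  have hm := mixed_mul hs.self ha hb
  have hV : (a : G) * b ∈ M := hs.W_le (mul_mem (mem_sup_left a.2) (mem_sup_right b.2))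
  obtain ⟨t, z, hz, e⟩ := hm
  rw [tauS, ti_apply hs.dade_A0 hs.supp_indLin (a := ⟨_, hV⟩) (Or.inr ⟨1, M.one_mem, (a : G) * b,
    ⟨mul_mem (mem_sup_left a.2) (mem_sup_right b.2), ?_⟩, by simp⟩), Pi.sub_apply,
    indLin_eq_zero hs.PC_le hs.M_norm_PC l (hs.mixed_not_PC (mixed_mul hs.self ha hb)),
    indLin_eq_zero hs.PC_le hs.M_norm_PC l' (hs.mixed_not_PC (mixed_mul hs.self ha hb)), sub_self]
  rintro (h | h)
  · exact hb (Subtype.ext (Subgroup.mem_bot.1 (hs.self.2.2.1.le ⟨(A.mul_mem_cancel_left a.2).1 h, b.2⟩)))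
  · exact ha (Subtype.ext (Subgroup.mem_bot.1 (hs.self.2.2.1.le ⟨a.2, (B.mul_mem_cancel_right b.2).1 h⟩)))

theorem reg_ne_one {l : ↥(P ⊔ C) →* ℂˣ} (hl : l ∈ regChar M P C) : l ≠ 1 := fun e => by
  obtain ⟨y, -, hy⟩ := hl.1
  exact hy (by simp [e])

theorem reg_not_conj_lam {l : ↥(P ⊔ C) →* ℂˣ} (hl : l ∈ regChar M P C) (g : ↥B →* ℂˣ) {x : G} (hx : x ∈ M) :
    ¬ ConjEq x l (hs.lam g) := by
  intro h
  obtain ⟨a, ha, ha1⟩ := (bot_or_exists_ne_one A).resolve_left
    fun e => hs.hq.ne_one (by rw [← hs.card₁, e, Subgroup.card_bot])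
  have hN := hs.M_norm_PC
  have hconj : ∀ {m : G}, m ∈ M → ∀ y : ↥(P ⊔ C), m * (y : G) * m⁻¹ ∈ P ⊔ C := fun hm y =>
    Grp.mem_conj_normalizer (hN hm) y.2
  have hf : Fixes (x * a * x⁻¹) l := by
    intro y z e
    have hy' := hconj (inv_mem hx) y
    have hy'' := hconj (hs.A_le ha) ⟨_, hy'⟩
    rw [h ⟨_, hy''⟩ z (by rw [← e]; group), (hs.lam_spec g).fixed a ha ⟨_, hy'⟩ ⟨_, hy''⟩ rfl,
      h ⟨_, hy'⟩ y (by simp [mul_assoc])]
  have h1 := hl.2 _ (mul_mem (mul_mem hx (hs.A_le ha)) (inv_mem hx)) hf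
  have h2 : a ∈ (P ⊔ C) ⊓ A := by
    refine Subgroup.mem_inf.2 ⟨?_, ha⟩
    have := Grp.mem_conj_normalizer (hN (inv_mem hx)) h1
    simpa [mul_assoc] using this
  rw [hs.A_inf_PC, mem_bot] at h2
  exact ha1 h2

theorem norm_lam {g : ↥B →* ℂˣ} (hg : g ≠ 1) :
    Cfsg.classInner (indLin M (hs.lam g)) (indLin M (hs.lam g)) = (q : ℂ) := by
  rw [inner_indLin_indLin hs.PC_le hs.M_norm_PC, hs.card_filter_lam hg, hs.card_H, Nat.cast_mul, ← mul_assoc,
    inv_mul_cancel₀ (Nat.cast_ne_zero.2 Nat.card_pos.ne'), one_mul]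

theorem reg_orth_mu {l : ↥(P ⊔ C) →* ℂˣ} (hl : l ∈ regChar M P C) (f : ↥A →* ℂˣ) (g : ↥B →* ℂˣ) :
    Cfsg.classInner (indLin M l) (hs.mu f g) = 0 := by
  haveI : Finite (↥A →* ℂˣ) := (dual_facts A hs.cyclic_A).1
  letI : Fintype (↥A →* ℂˣ) := Fintype.ofFinite _
  choose n hn using fun f' => IsChar.classInner_nat (indLin_char (M := M) hs.PC_le l) (hs.mu_char f' g)
  have h1 : (∑ f', (n f' : ℂ)) = 0 := by
    simp only [← hn, ← classInner_sum_right, hs.mu_sum]
    exact indLin_orth hs.PC_le hs.M_norm_PC _ _ fun x hx => hs.reg_not_conj_lam hl g hx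
  have h2 : ∑ f', n f' = 0 := by exact_mod_cast h1
  rw [hn, Finset.sum_eq_zero_iff.1 h2 f (Finset.mem_univ f), Nat.cast_zero]

theorem reg_map {l : ↥(P ⊔ C) →* ℂˣ} (hl : l ∈ regChar M P C) (σ : ℂ ≃+* ℂ) :
    (Units.map σ.toRingHom.toMonoidHom).comp l ∈ regChar M P C := by
  obtain ⟨⟨y, hy, hy1⟩, h2⟩ := hl
  refine ⟨⟨y, hy, fun e => hy1 (Units.ext (σ.injective ?_))⟩, fun x hx hf => h2 x hx fun a b e => ?_⟩
  · simpa using congrArg Units.val e
  · exact Units.ext (σ.injective (congrArg Units.val (hf a b e) : _))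

theorem map_indLin {H : Subgroup G} (σ : ℂ ≃+* ℂ) (l : ↥H →* ℂˣ) :
    (fun x : M => σ (indLin M l x)) = indLin M ((Units.map σ.toRingHom.toMonoidHom).comp l) := by
  funext x
  simp only [indLin, Cfsg.indFun, map_mul, map_inv₀, map_natCast, map_sum]
  congr 1
  refine Finset.sum_congr rfl fun t _ => ?_
  by_cases h : t⁻¹ * x * t ∈ H.subgroupOf M
  · rw [extendByZero_of_mem _ h, extendByZero_of_mem _ h]; rfl
  · rw [extendByZero_not_mem _ h, extendByZero_not_mem _ h, map_zero]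

/-- The image attached to a regular character. -/
theorem exists_X {l : ↥(P ⊔ C) →* ℂˣ} (hl : l ∈ regChar M P C) :
    ∃ X : G → ℂ, Cfsg.IsGeneralizedCharacter G X ∧ Cfsg.classInner X X = 1 ∧
      (∀ f g, Cfsg.classInner X (E.eta f g) = 0) ∧
      ((∀ g, g ≠ 1 → hs.tauS (indLin M l - indLin M (hs.lam g)) = X - E.colSum g) ∨
        (p = 3 ∧ ∀ g g', g ≠ 1 → g' ≠ 1 → g ≠ g' →
          hs.tauS (indLin M l - indLin M (hs.lam g)) = X + E.colSum g')) := by
  haveI := E.finite_left; haveI := E.swap.finite_left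
  letI := Fintype.ofFinite (↥A →* ℂˣ); letI := Fintype.ofFinite (↥B →* ℂˣ)
  have hodd := hs.hG.1
  have hJ : Fintype.card (↥B →* ℂˣ) = p := by rw [E.swap.card_left, hs.card₂]
  have hI : Fintype.card (↥A →* ℂˣ) = q := by rw [E.card_left, hs.card₁]
  set D : (↥B →* ℂˣ) → G → ℂ := fun g => hs.tauS (indLin M l - indLin M (hs.lam g)) with hD
  have hDgen : ∀ g, Cfsg.IsGeneralizedCharacter G (D g) := fun g =>
    hs.tauS_gen hs.supp_indLin (IsGenChar.sub (indLin_gen hs.PC_le _) (indLin_gen hs.PC_le _))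
  have hDV : ∀ g (a : ↥A) (b : ↥B), a ≠ 1 → b ≠ 1 → D g ((a : G) * b) = 0 := fun g a b ha hb =>
    hs.tau_indLin_V a b ha hb
  have hl1 := hs.reg_ne_one hl
  have hlam1 : ∀ {g : ↥B →* ℂˣ}, g ≠ 1 → hs.lam g ≠ 1 := fun hg e => hg (hs.lam_injective (by rw [e, hs.lam_one]))
  have hl0 := hl
  have hnorm : ∀ {g : ↥B →* ℂˣ}, g ≠ 1 → Cfsg.classInner (D g) (D g) = ((q + 1 : ℤ) : ℂ) := fun {g} hg => by
    have h0 := indLin_orth hs.PC_le hs.M_norm_PC l (hs.lam g) fun x hx => hs.reg_not_conj_lam hl0 g hx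
    have h0' : Cfsg.classInner (indLin M (hs.lam g)) (indLin M l) = 0 := by rw [← classInner_conj_symm, h0, map_zero]
    simp only [D, hs.tauS_iso hs.supp_indLin hs.supp_indLin, classInner_sub_left, classInner_sub_right,
      indLin_irr hs.PC_le hs.M_norm_PC l hl.2, hs.norm_lam hg, h0, h0']
    push_cast; ring
  have h11 : ∀ {g : ↥B →* ℂˣ}, g ≠ 1 → E.coef (D g) 1 1 = 0 := fun {g} hg => zInner_eq (by
    rw [E.one, hs.tauS_inner hs.supp_indLin (IsGenChar.classFun gen_one), classInner_sub_left,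
      hs.inner_one_indLin hl1, hs.inner_one_indLin (hlam1 hg), sub_self, Int.cast_zero])
  have hadd : ∀ {g : ↥B →* ℂˣ}, g ≠ 1 → ∀ i j, E.coef (D g) i j = E.coef (D g) i 1 + E.coef (D g) 1 j :=
    fun {g} hg i j => by rw [E.coef_add (hDgen g) (hDV g) i j, h11 hg, sub_zero]
  -- the differences of columns
  have hDD : ∀ {g g' : ↥B →* ℂˣ}, g ≠ 1 → g' ≠ 1 → D g' - D g = E.colSum g - E.colSum g' := fun {g g'} hg hg' => by
    have e : hs.tauS (indLin M l - indLin M (hs.lam g')) - hs.tauS (indLin M l - indLin M (hs.lam g)) =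
        ∑ f, hs.tauS (hs.mu f g - hs.mu f g') := by
      simp only [tauS, ← dade_sub, ← dade_sum]
      congr 1
      rw [Finset.sum_sub_distrib, hs.mu_sum, hs.mu_sum]
      abel
    simp only [D, e, hs.tau_mu E _ hg hg', E.colSum_eq, Finset.sum_sub_distrib]
  have hrel : ∀ {g : ↥B →* ℂˣ}, g ≠ 1 → ∀ f h h', h ≠ 1 → h' ≠ 1 → E.coef (D g) f h - E.coef (D g) f h' =
      (if h' = g then 1 else 0) - if h = g then 1 else 0 := fun {g} hg f h h' hh hh' => by
    have h1 := hs.tauS_iso (hs.supp_indLin (l := l) (l' := hs.lam g)) (hs.supp_mu f h h')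
    rw [hs.tau_mu E f hh hh'] at h1
    have hsum : ∀ k, k ≠ 1 → Cfsg.classInner (indLin M (hs.lam g)) (hs.mu f k) = if k = g then 1 else 0 := fun k hk => by
      rw [← hs.mu_sum, classInner_sum_left]
      simp only [hs.mu_inner hg hk]
      by_cases e : k = g
      · subst e; simp
      · simp [e, Ne.symm e]
    simp only [classInner_sub_right, classInner_sub_left, hs.reg_orth_mu hl, hsum h hh, hsum h' hh',
      show Cfsg.classInner (hs.tauS (indLin M l - indLin M (hs.lam g))) (E.eta f h) = (E.coef (D g) f h : ℂ) from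
        E.coef_spec (hDgen g) f h,
      show Cfsg.classInner (hs.tauS (indLin M l - indLin M (hs.lam g))) (E.eta f h') = (E.coef (D g) f h' : ℂ) from
        E.coef_spec (hDgen g) f h'] at h1
    apply Int.cast_injective (α := ℂ)
    push_cast [apply_ite (Int.cast : ℤ → ℂ)]
    linear_combination h1
  have hu : ∀ {g : ↥B →* ℂˣ}, g ≠ 1 → ∀ f f' : ↥A →* ℂˣ, f ≠ 1 → f' ≠ 1 → E.coef (D g) f 1 = E.coef (D g) f' 1 := by
    intro g hg f f' hf hf'
    obtain ⟨σ, hσ⟩ := Member.exists_map_eq (hs.card₁.symm ▸ hs.hq) hf hf'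
    set g₁ := (Units.map σ.toRingHom.toMonoidHom).comp g with hg₁
    set l₁ := (Units.map σ.toRingHom.toMonoidHom).comp l with hl₁
    have hg₁ne : g₁ ≠ 1 := fun e => hg (MonoidHom.ext fun x => Units.ext (σ.injective (by
      simpa [g₁] using congrArg Units.val (DFunLike.congr_fun e x))))
    have hmap : (fun x => σ (D g x)) = hs.tauS (indLin M l₁ - indLin M (hs.lam g₁)) := by
      simp only [D, tauS, dade_map]
      congr 1
      rw [hg₁, hs.lam_map, hl₁, ← hs.map_indLin, ← hs.map_indLin]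
      exact funext fun x => map_sub σ _ _
    have hl₁R : l₁ ∈ regChar M P C := hs.reg_map hl σ
    have hY : ∀ i j, Cfsg.classInner (hs.tauS (indLin M l₁ - indLin M l)) (E.eta i j) = 0 := fun i j => by
      have hgen := hs.tauS_gen (hs.supp_indLin (l := l₁) (l' := l))
        (IsGenChar.sub (indLin_gen hs.PC_le _) (indLin_gen hs.PC_le _))
      obtain ⟨n, hn⟩ := IsChar.classInner_nat (indLin_char (M := M) hs.PC_le l₁) (indLin_char (M := M) hs.PC_le l)
      have hn' : Cfsg.classInner (indLin M l) (indLin M l₁) = (n : ℂ) := by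
        rw [← classInner_conj_symm, hn, map_natCast]
      have := E.coef_eq_zero hodd hgen (fun a b ha hb => hs.tau_indLin_V a b ha hb)
        (by rw [hs.tauS_inner hs.supp_indLin (IsGenChar.classFun gen_one), classInner_sub_left,
          hs.inner_one_indLin (hs.reg_ne_one hl₁R), hs.inner_one_indLin hl1, sub_self])
        (N := 2 - 2 * n) (by
          simp only [hs.tauS_iso hs.supp_indLin hs.supp_indLin, classInner_sub_left, classInner_sub_right,
            indLin_irr hs.PC_le hs.M_norm_PC l hl.2, indLin_irr hs.PC_le hs.M_norm_PC l₁ hl₁R.2, hn, hn']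
          push_cast; ring) (by omega) i j
      rw [E.coef_spec hgen, this, Int.cast_zero]
    have h2 : hs.tauS (indLin M l₁ - indLin M (hs.lam g₁)) =
        hs.tauS (indLin M l₁ - indLin M l) + (D g + (E.colSum g - E.colSum g₁)) := by
      rw [← hDD hg hg₁ne, add_sub_cancel]
      simp only [D, tauS, ← dade_add]
      congr 1; abel
    have h3 := inner_map₂ (hDgen g) (E.gen f 1) σ
    rw [hmap, E.map_eta hodd, hσ, MonoidHom.comp_one, E.coef_spec (hDgen g), map_intCast, h2, classInner_add_left,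
      classInner_add_left, classInner_sub_left, hY, E.colSum_inner, E.colSum_inner, if_neg hg, if_neg hg₁ne, sub_zero,
      add_zero, zero_add, E.coef_spec (hDgen g)] at h3
    exact_mod_cast h3.symm
  obtain ⟨f₁, hf₁⟩ : ∃ f₁ : ↥A →* ℂˣ, f₁ ≠ 1 := Fintype.exists_ne_of_one_lt_card (by rw [hI]; exact hs.hq.one_lt) 1
  have key : ∀ {g : ↥B →* ℂˣ}, g ≠ 1 →
      (∀ i j, E.coef (D g) i j = if j = g then -1 else 0) ∨
        (p = 3 ∧ ∀ i j, E.coef (D g) i j = if j ≠ 1 ∧ j ≠ g then 1 else 0) := fun {g} hg => by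
    have := pattern_D (E.three_le hodd) (E.swap.three_le hodd) 1 1 g hg (E.coef (D g)) (hadd hg) (h11 hg)
      (E.coef (D g) f₁ 1) (fun i hi => hu hg i f₁ hi hf₁) (fun j j' hj hj' => hrel hg 1 j j' hj hj')
      (by rw [hI]; exact E.coef_sq_le (hDgen g) (hnorm hg))
    rwa [hJ] at this
  obtain ⟨g₀, hg₀⟩ : ∃ g₀ : ↥B →* ℂˣ, g₀ ≠ 1 := Fintype.exists_ne_of_one_lt_card (by rw [hJ]; exact hs.hp.one_lt) 1
  have hcsymm : ∀ {a b : G → ℂ} {c : ℂ}, Cfsg.classInner a b = c → Cfsg.classInner b a = conj c := fun {a b c} e => by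
    rw [← classInner_conj_symm, e]
  rcases key hg₀ with hA | ⟨hp3, hA⟩
  · set X := D g₀ + E.colSum g₀ with hX
    have hXe : ∀ f g, Cfsg.classInner X (E.eta f g) = 0 := fun f g => by
      rw [classInner_add_left, E.coef_spec (hDgen g₀), hA, E.colSum_inner]
      by_cases e : g = g₀
      · simp [e]
      · simp [e, Ne.symm e]
    have hXc : Cfsg.classInner X (E.colSum g₀) = 0 := by
      rw [E.colSum_eq, classInner_sum_right]; exact Finset.sum_eq_zero fun f _ => hXe f g₀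
    refine ⟨X, IsGenChar.add (hDgen g₀) (E.colSum_gen g₀), ?_, hXe, Or.inl fun g hg => ?_⟩
    · have h1 : D g₀ = X - E.colSum g₀ := by rw [hX, add_sub_cancel_right]
      have h2 := hnorm hg₀
      rw [h1] at h2
      simp only [classInner_sub_left, classInner_sub_right, E.colSum_norm, hs.card₁, hXc, hcsymm hXc, map_zero] at h2
      push_cast at h2
      linear_combination h2
    · have h1 := hDD hg₀ hg
      rw [hX]
      show D g = _
      rw [eq_add_of_sub_eq h1]
      abel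
  · obtain ⟨g₁, hg₁, hg₁₀⟩ : ∃ g₁ : ↥B →* ℂˣ, g₁ ≠ 1 ∧ g₁ ≠ g₀ := by
      by_contra hno
      push Not at hno
      have : Fintype.card (↥B →* ℂˣ) ≤ ({1, g₀} : Finset (↥B →* ℂˣ)).card := by
        rw [← Finset.card_univ]
        exact Finset.card_le_card fun x _ => by
          by_cases hx : x = 1
          · simp [hx]
          · simp [hno x hx]
      rw [hJ, hp3] at this
      have := this.trans Finset.card_le_two
      omega
    have huniv : ∀ j : ↥B →* ℂˣ, j ≠ 1 → j ≠ g₀ → j = g₁ := by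
      intro j hj hj0
      by_contra hj1
      have : ({1, g₀, g₁, j} : Finset (↥B →* ℂˣ)).card ≤ 3 := (Finset.card_le_univ _).trans (by rw [hJ, hp3])
      rw [Finset.card_insert_of_notMem (by simp [hg₀.symm, hg₁.symm, Ne.symm hj]), Finset.card_insert_of_notMem (by
        simp [hg₁₀.symm, Ne.symm hj0]), Finset.card_insert_of_notMem (by simp [Ne.symm hj1]),
        Finset.card_singleton] at this
      omega
    set X := D g₀ - E.colSum g₁ with hX
    have hXe : ∀ f g, Cfsg.classInner X (E.eta f g) = 0 := fun f g => by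
      rw [classInner_sub_left, E.coef_spec (hDgen g₀), hA, E.colSum_inner]
      by_cases h1 : g ≠ 1 ∧ g ≠ g₀
      · rw [if_pos h1, if_pos (huniv g h1.1 h1.2).symm]; simp
      · rw [if_neg h1, if_neg fun e : g₁ = g => h1 (by rw [← e]; exact ⟨hg₁, hg₁₀⟩)]; simp
    have hXc : Cfsg.classInner X (E.colSum g₁) = 0 := by
      rw [E.colSum_eq, classInner_sum_right]; exact Finset.sum_eq_zero fun f _ => hXe f g₁
    refine ⟨X, IsGenChar.sub (hDgen g₀) (E.colSum_gen g₁), ?_, hXe, Or.inr ⟨hp3, fun g g' hg hg' hgg' => ?_⟩⟩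
    · have h1 : D g₀ = X + E.colSum g₁ := by rw [hX, sub_add_cancel]
      have h2 := hnorm hg₀
      rw [h1] at h2
      simp only [classInner_add_left, classInner_add_right, E.colSum_norm, hs.card₁, hXc, hcsymm hXc, map_zero] at h2
      push_cast at h2
      linear_combination h2
    · show D g = _
      rw [hX]
      by_cases e : g = g₀
      · rw [e, huniv g' hg' fun e' => hgg' (e.trans e'.symm)]; abel
      · rw [eq_add_of_sub_eq (hDD hg₀ hg), huniv g hg e,
          show g' = g₀ from by_contra fun e' => hgg' ((huniv g hg e).trans (huniv g' hg' e').symm)]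
        abel

end Side

end Cfsg.Agent.Grp.FT
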