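import Cfsg.Agent.Lib.Grp.FT.Defs
import Cfsg.Agent.Lib.Transfer.Local.Types
import Cfsg.Agent.S1365

/-!
The member `T` of the pair when its factor `U` is trivial: `T' = T_σ`, a Hall subgroup with cyclic complement
`W₂`, every nonidentity element of which has centraliser `W₁` in `T'`.
-/

set_option autoImplicit false
set_option linter.unusedSectionVars false

namespace Cfsg.Agent.Grp.FT

open Subgroup Cfsg.Agent.Transfer Cfsg.Agent.Transfer.Loc
open scoped commutatorElement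

universe u

variable {G : Type u} [Group G]

/-- The standing hypotheses on a member `T` that is not of type II. -/
structure NonTwo [Finite G] (T W₁ W₂ : Subgroup G) : Prop where
  hG : Cfsg.IsMinSimpleOddOrder G
  hT : IsCoatom T
  dec : Cfsg.IsSigmaDecomposition T W₂ ⊥
  ne : W₂ ≠ ⊥
  star : kStar T W₂ = W₁
  prime₁ : (Nat.card W₁).Prime

/-- The hypotheses, from a pair and a factorisation of `T` with trivial `U`. -/
theorem Pair.nonTwo [Finite G] {S T W₁ W₂ : Subgroup G} (h : Pair S T W₁ W₂)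
    (hd : Cfsg.IsSigmaDecomposition T W₂ ⊥) : NonTwo T W₁ W₂ where
  hG := h.kp.hG
  hT := h.kp.hMs
  dec := hd
  ne := h.star ▸ h.kp.star1
  star := h.star ▸ h.kp.dual
  prime₁ := h.prime₁

namespace NonTwo

variable [Finite G] {T W₁ W₂ : Subgroup G} (h : NonTwo T W₁ W₂)
include h

theorem derived : ⁅T, T⁆ = Cfsg.sigmaCore T := by
  rw [(Cfsg.Agent.S1365.result h.hG T h.hT W₂ ⊥ h.dec h.ne).1, bot_sup_eq]

theorem compl : Cfsg.IsComplIn (Cfsg.sigmaCore T) W₂ T :=
  h.derived ▸ (derived_compl h.hG h.hT h.dec h.ne).2.1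

theorem coprime : (Nat.card (Cfsg.sigmaCore T)).Coprime (Nat.card W₂) :=
  h.derived ▸ (derived_compl h.hG h.hT h.dec h.ne).2.2.1

theorem core_le : Cfsg.sigmaCore T ≤ T := h.compl.1

theorem le₂ : W₂ ≤ T := h.compl.2.1

theorem le_normalizer_core : T ≤ normalizer (Cfsg.sigmaCore T : Set G) := TransHyp.le_normalizer_piCoreOf T

theorem cyclic₂ : IsCyclic W₂ := h.dec.cyclic

theorem card₂_ne_one : Nat.card W₂ ≠ 1 := fun e => h.ne (Subgroup.card_eq_one.1 e)

theorem odd (H : Subgroup G) : Odd (Nat.card H) := h.hG.1.of_dvd_nat (card_subgroup_dvd_card H)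

theorem ne_two {p : ℕ} (H : Subgroup G) (hp : p ∣ Nat.card H) : p ≠ 2 := by
  rintro rfl
  exact Nat.not_even_iff_odd.2 (h.odd H) (even_iff_two_dvd.2 hp)

theorem le₁_derived : W₁ ≤ ⁅Cfsg.sigmaCore T, Cfsg.sigmaCore T⁆ := by
  have := (Cfsg.Agent.S1365.result h.hG T h.hT W₂ ⊥ h.dec h.ne).2
  rwa [h.derived, ← kStar, h.star] at this

theorem le₁ : W₁ ≤ Cfsg.sigmaCore T := by
  rw [← h.star]; exact inf_le_left

theorem le₁_fittingHall : W₁ ≤ Cfsg.fittingHallOf T := by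
  have := (Cfsg.Agent.S1364.result h.hG T h.hT W₂ ⊥ h.dec h.ne).2.2.1
  rwa [← kStar, h.star] at this

theorem not_cyclic : ¬ IsCyclic (Cfsg.fittingHallOf T) :=
  (Cfsg.Agent.S1364.result h.hG T h.hT W₂ ⊥ h.dec h.ne).2.2.2

/-- The centraliser in `T'` of a nonidentity element of `W₂`. -/
theorem fix {x : G} (hx : x ∈ W₂) (hx1 : x ≠ 1) : Cfsg.sigmaCore T ⊓ centralizer ({x} : Set G) = W₁ := by
  obtain ⟨Ms, hp⟩ := exists_kappaPair h.hG h.hT h.dec.hall h.ne
  refine le_antisymm (fun a ha => ?_) (le_inf h.le₁ ?_)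
  · have h3 : a ∈ W₂ ⊔ kStar T W₂ := hp.inf_centralizer hx hx1 ▸ ⟨h.core_le ha.1, ha.2⟩
    rw [h.star, ← SetLike.mem_coe, Subgroup.coe_mul_of_left_le_normalizer_right W₂ W₁
      ((le_centralizer_iff.1 (h.star ▸ inf_le_right : W₁ ≤ centralizer (W₂ : Set G))).trans
        (centralizer_le_normalizer _))] at h3
    obtain ⟨k, hk, s, hs, rfl⟩ := h3
    have h4 : k ∈ Cfsg.sigmaCore T ⊓ W₂ := ⟨((Cfsg.sigmaCore T).mul_mem_cancel_right (h.le₁ hs)).1 ha.1, hk⟩
    rw [h.compl.2.2.1, mem_bot] at h4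
    subst h4
    simpa using hs
  · rw [← h.star]
    exact inf_le_right.trans (centralizer_le (Set.singleton_subset_iff.2 hx))

/-- An element of `T'` commuting with a nonidentity element of `W₂` lies in `W₁`. -/
theorem mem₁_of_comm {x a : G} (hx : x ∈ W₂) (hx1 : x ≠ 1) (ha : a ∈ Cfsg.sigmaCore T) (hc : a * x = x * a) :
    a ∈ W₁ :=
  h.fix hx hx1 ▸ ⟨ha, mem_centralizer_singleton_iff.2 hc⟩

/-- Fixed points of nonidentity elements of `W₂` in invariant sections of `T'`. -/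
theorem fix_section {x k : G} (hx : x ∈ W₂) (hx1 : x ≠ 1) {K N : Subgroup G} (hK : K ≤ Cfsg.sigmaCore T)
    (hNK : N ≤ K) (hKN : K ≤ normalizer (N : Set G)) (hWK : W₂ ≤ normalizer (K : Set G))
    (hWN : W₂ ≤ normalizer (N : Set G)) (hk : k ∈ K) (hc : x * k * x⁻¹ * k⁻¹ ∈ N) :
    ∃ c ∈ W₁ ⊓ K, k⁻¹ * c ∈ N := by
  have hle : zpowers x ≤ W₂ := zpowers_le.2 hx
  have hcop : (Nat.card (zpowers x)).Coprime (Nat.card K) :=
    (h.coprime.symm.coprime_dvd_left (card_dvd_of_le hle)).coprime_dvd_right (card_dvd_of_le hK)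
  obtain ⟨c, hc', hcN⟩ := Grp.exists_fixed_rep (zpowers x) K N (hle.trans hWK) (Grp.inf_eq_bot_of_coprime hcop)
    (hcop.coprime_dvd_right (card_dvd_of_le hNK)) (Or.inl inferInstance) hNK hKN (hle.trans hWN) hk (by
      intro a ha
      obtain ⟨n, rfl⟩ := mem_zpowers_iff.1 ha
      -- the elements fixing `k` modulo `N` form a subgroup
      let S : Subgroup G :=
        { carrier := {a | a ∈ normalizer (N : Set G) ∧ a * k * a⁻¹ * k⁻¹ ∈ N}
          one_mem' := ⟨one_mem _, by simp⟩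
          mul_mem' := fun {a b} ha hb => ⟨mul_mem ha.1 hb.1, by
            have h1 := mul_mem (Grp.mem_conj_normalizer ha.1 hb.2) ha.2
            convert h1 using 1
            group⟩
          inv_mem' := fun {a} ha => ⟨inv_mem ha.1, by
            have h1 := inv_mem (Grp.mem_conj_normalizer (inv_mem ha.1) ha.2)
            convert h1 using 1
            group⟩ }
      exact (zpow_mem (show x ∈ S from ⟨hWN hx, hc⟩) n).2)
  exact ⟨c, ⟨h.mem₁_of_comm hx hx1 (hK hc'.1) (mem_centralizer_iff.1 hc'.2 x (mem_zpowers x)).symm, hc'.1⟩, hcN⟩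

/-- Type `P` data. -/
theorem typeP : ∃ V : Subgroup G, Cfsg.IsTypePWith T W₂ V W₁ := by
  rw [← h.star]
  by_cases hne : Cfsg.fittingHallOf T = Cfsg.sigmaCore T
  · refine ⟨⊥, isTypePWith_of h.hG h.hT h.dec h.ne inferInstance ?_ ?_⟩
    · intro g _
      rw [Grp.mem_normalizer_iff_smul, Subgroup.smul_bot]
    · rw [h.derived, hne]
      exact ⟨le_rfl, bot_le, inf_bot_eq _, fun m hm => ⟨m, hm, 1, one_mem _, (mul_one m).symm⟩⟩
  · obtain ⟨D, hD, hKD, hc, -, -⟩ := exists_compl_fitting h.hG h.hT h.dec h.ne hne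
    exact ⟨D, isTypePWith_of h.hG h.hT h.dec h.ne hD hKD hc⟩

theorem self : Cfsg.IsSelfNormalizingCyclic W₂ W₁ := by
  obtain ⟨V, hV⟩ := h.typeP
  exact hV.selfNormalizing

theorem fitting_le : Cfsg.fittingOf T ≤ Cfsg.sigmaCore T := by
  obtain ⟨V, hV⟩ := h.typeP
  exact hV.fitting_le.trans h.derived.le

theorem fitting_eq :
    Cfsg.fittingHallOf T ⊔ (T ⊓ centralizer (Cfsg.fittingHallOf T : Set G)) = Cfsg.fittingOf T := by
  obtain ⟨V, hV⟩ := h.typeP
  exact hV.fitting_eq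

end NonTwo

end Cfsg.Agent.Grp.FT
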