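import Cfsg.Agent.Lib.Grp.FT.NonTwo
import Cfsg.Agent.Lib.Char.Clifford
import Cfsg.Agent.S1513

/-!
The `W₂`-invariant irreducible characters of `T'`.
-/

set_option autoImplicit false
set_option linter.unusedSectionVars false
set_option linter.style.haveILetI false

namespace Cfsg.Agent.Grp.FT

open Subgroup Cfsg.Agent.Transfer Cfsg.Agent.Transfer.Loc Cfsg.Agent.Char

universe u

variable {G : Type u} [Group G]

instance sigmaCore_subgroupOf_normal (T : Subgroup G) : ((Cfsg.sigmaCore T).subgroupOf T).Normal := by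
  rw [show (Cfsg.sigmaCore T).subgroupOf T = Cfsg.piCore (Cfsg.sigma T) T from
    Subgroup.comap_map_eq_self_of_injective T.subtype_injective _]
  infer_instance

/-- A nonprincipal irreducible character of `T_σ` fixed by `W`. -/
def IsFixedChar (T W : Subgroup G) (θ : ↥((Cfsg.sigmaCore T).subgroupOf T) → ℂ) : Prop :=
  Cfsg.IsIrrCharacter _ θ ∧ θ ≠ (fun _ => 1) ∧
    ∀ x : ↥T, (x : G) ∈ W → conjN ((Cfsg.sigmaCore T).subgroupOf T) x θ = θ

variable [Finite G] {T W₁ W₂ : Subgroup G} (h : NonTwo T W₁ W₂)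
include h

theorem NonTwo.card_fixed :
    Nat.card {θ : ↥((Cfsg.sigmaCore T).subgroupOf T) → ℂ // IsFixedChar T W₂ θ} + 1 = Nat.card W₁ := by
  classical
  letI : Fintype T := Fintype.ofFinite T
  obtain ⟨hW₁, hW₁', hcompl⟩ : (Cfsg.sigmaCore T).subgroupOf T ⊓ W₂.subgroupOf T = ⊥ ∧
      (Cfsg.sigmaCore T).subgroupOf T ⊔ W₂.subgroupOf T = ⊤ ∧ True := by
    refine ⟨?_, ?_, trivial⟩
    · refine le_bot_iff.1 fun a ha => mem_bot.2 (Subtype.ext ?_)
      exact mem_bot.1 (h.compl.2.2.1 ▸ (⟨mem_subgroupOf.1 ha.1, mem_subgroupOf.1 ha.2⟩ : (a : G) ∈ Cfsg.sigmaCore T ⊓ W₂))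
    · refine top_unique fun t _ => ?_
      obtain ⟨a, ha, b, hb, e⟩ := h.compl.2.2.2 t t.2
      rw [show t = (⟨a, h.core_le ha⟩ : ↥T) * ⟨b, h.le₂ hb⟩ from Subtype.ext e]
      exact mul_mem_sup (mem_subgroupOf.2 ha) (mem_subgroupOf.2 hb)
  have hT₂ := (Nat.card_congr (subgroupOfEquivOfLe h.le₂).toEquiv)
  have hT₁ := (Nat.card_congr (subgroupOfEquivOfLe (h.le₁.trans h.core_le)).toEquiv)
  have hne₁ : W₁ ≠ ⊥ := fun e => h.prime₁.ne_one (by rw [e, Subgroup.card_bot])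
  obtain ⟨-, hcard, -⟩ := Cfsg.Agent.S1513.result ((Cfsg.sigmaCore T).subgroupOf T) (W₂.subgroupOf T) (W₁.subgroupOf T)
    hW₁ hW₁' (fun e => h.ne (by rw [← Subgroup.map_subgroupOf_eq_of_le h.le₂, e, Subgroup.map_bot]))
    (by haveI := h.cyclic₂; exact isCyclic_of_surjective _ (subgroupOfEquivOfLe h.le₂).symm.surjective)
    (by
      rw [hT₂, show (W₂.subgroupOf T).index = Nat.card (Cfsg.sigmaCore T) from (complIn_relIndex h.compl).2]
      exact h.coprime.symm)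
    (fun e => hne₁ (by rw [← Subgroup.map_subgroupOf_eq_of_le (h.le₁.trans h.core_le), e, Subgroup.map_bot]))
    (by
      haveI : IsCyclic W₁ := by haveI := Fact.mk h.prime₁; exact isCyclic_of_prime_card rfl
      exact isCyclic_of_surjective _ (subgroupOfEquivOfLe (h.le₁.trans h.core_le)).symm.surjective)
    (Subgroup.comap_mono h.le₁)
    (fun x hx hx1 => by
      ext a
      simp only [mem_inf, mem_subgroupOf, mem_centralizer_singleton_iff, Subtype.ext_iff, Subgroup.coe_mul]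
      rw [← h.fix (mem_subgroupOf.1 hx) (fun e => hx1 (Subtype.ext e))]
      simp only [mem_inf, mem_centralizer_singleton_iff])
    ((h.odd T).of_dvd_nat (Subgroup.card_subgroup_dvd_card _))
  rw [← hT₁, ← hcard]
  -- remove the principal character
  have key : ∀ θ : IrrCharacter ↥((Cfsg.sigmaCore T).subgroupOf T),
      (∀ x : ↥T, (x : G) ∈ W₂ → conjN ((Cfsg.sigmaCore T).subgroupOf T) x (θ : ↥((Cfsg.sigmaCore T).subgroupOf T) → ℂ) = θ) ↔
      (∀ x ∈ W₂.subgroupOf T, (fun k : ↥((Cfsg.sigmaCore T).subgroupOf T) => (θ : ↥((Cfsg.sigmaCore T).subgroupOf T) → ℂ)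
        ⟨x * k * x⁻¹, (sigmaCore_subgroupOf_normal T).conj_mem (k : ↥T) k.2 x⟩) = θ) :=
    fun θ => ⟨fun hh x hx => hh x (mem_subgroupOf.1 hx), fun hh x hx => hh x (mem_subgroupOf.2 hx)⟩
  let one : IrrCharacter ↥((Cfsg.sigmaCore T).subgroupOf T) :=
    ⟨fun _ => 1, by simpa using isIrr_linear (1 : ↥((Cfsg.sigmaCore T).subgroupOf T) →* ℂˣ)⟩
  let e : Option {θ : ↥((Cfsg.sigmaCore T).subgroupOf T) → ℂ // IsFixedChar T W₂ θ} →
      {θ : IrrCharacter ↥((Cfsg.sigmaCore T).subgroupOf T) // ∀ x ∈ W₂.subgroupOf T,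
        (fun k : ↥((Cfsg.sigmaCore T).subgroupOf T) => (θ : ↥((Cfsg.sigmaCore T).subgroupOf T) → ℂ)
          ⟨x * k * x⁻¹, (sigmaCore_subgroupOf_normal T).conj_mem (k : ↥T) k.2 x⟩) = θ} :=
    fun o => o.elim ⟨one, fun _ _ => rfl⟩ fun θ => ⟨⟨θ.1, θ.2.1⟩, (key ⟨θ.1, θ.2.1⟩).1 θ.2.2.2⟩
  have he : Function.Bijective e := by
    refine ⟨?_, fun θ => ?_⟩
    · rintro (_ | a) (_ | b) hab
      · rfl
      · exact absurd (congrArg (fun z => Subtype.val (Subtype.val z)) hab).symm b.2.2.1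
      · exact absurd (congrArg (fun z => Subtype.val (Subtype.val z)) hab) a.2.2.1
      · exact congrArg some (Subtype.ext (congrArg (fun z => Subtype.val (Subtype.val z)) hab))
    · by_cases h1 : θ.1.1 = fun _ => 1
      · exact ⟨none, Subtype.ext (Subtype.ext h1.symm)⟩
      · exact ⟨some ⟨_, θ.1.2, h1, (key θ.1).2 θ.2⟩, rfl⟩
  haveI : Finite {θ : ↥((Cfsg.sigmaCore T).subgroupOf T) → ℂ // IsFixedChar T W₂ θ} :=
    Finite.of_injective (fun θ => (⟨θ.1, θ.2.1⟩ : IrrCharacter ↥((Cfsg.sigmaCore T).subgroupOf T)))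
      fun a b hab => Subtype.ext (congrArg (fun z : IrrCharacter ↥((Cfsg.sigmaCore T).subgroupOf T) => z.1) hab)
  rw [← Nat.card_eq_of_bijective e he]
  exact (Finite.card_option).symm

/-- Fixed characters exist. -/
theorem NonTwo.exists_fixed : ∃ θ, IsFixedChar T W₂ θ := by
  by_contra! hno
  haveI : IsEmpty {θ : ↥((Cfsg.sigmaCore T).subgroupOf T) → ℂ // IsFixedChar T W₂ θ} := ⟨fun θ => hno θ.1 θ.2⟩
  have := h.card_fixed
  rw [Nat.card_of_isEmpty] at this
  exact h.prime₁.ne_one this.symm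

end Cfsg.Agent.Grp.FT
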