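import Cfsg.Agent.Lib.Char.CentralCongr

/-!
A congruence for a character at an element whose centraliser controls the fusion into a subgroup.
-/

set_option autoImplicit false
set_option linter.unusedSectionVars false

namespace Cfsg.Agent.Grp.FT

open Cfsg Cfsg.Agent.Char
open scoped ComplexConjugate

universe u

variable {G : Type u} [Group G] [Fintype G]

/-- If `P` centralises `z` and an element of `P#` commutes with a conjugate of `z` only when that conjugate is
`z`, then a character real at `z` has `ψ(z²) ≡ ψ(1)` modulo the order of `P`. -/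
theorem congr_one (P : Subgroup G) {z : G} (hcomm : ∀ y ∈ P, y * z = z * y)
    (key : ∀ g : G, ∀ k ∈ P, k ≠ 1 → k * (g * z * g⁻¹) = g * z * g⁻¹ * k → g * z * g⁻¹ = z)
    {ψ : G → ℂ} (hψ : IsIrrCharacter G ψ) (hreal : ψ z⁻¹ = ψ z) :
    ∃ γ : ℂ, IsIntegral ℤ γ ∧ ψ (z * z) - ψ 1 = (Nat.card P : ℂ) * γ := by
  classical
  have hint : ∀ g, IsIntegral ℤ (ψ g) := fun g => by
    obtain ⟨m, ρ, -, rfl⟩ := id hψ
    exact isIntegral_character ρ g
  set C := Subgroup.centralizer ({z} : Set G) with hC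
  let cj : G ⧸ C → G := Quotient.lift (fun a => a * z * a⁻¹) fun a b h => by
    have h' : a⁻¹ * b ∈ C := QuotientGroup.leftRel_apply.mp h
    have h'' := Subgroup.mem_centralizer_singleton_iff.1 h'
    show a * z * a⁻¹ = b * z * b⁻¹
    calc a * z * a⁻¹ = a * (z * (a⁻¹ * b)) * b⁻¹ := by group
      _ = a * ((a⁻¹ * b) * z) * b⁻¹ := by rw [h'']
      _ = b * z * b⁻¹ := by group
  have hcj_inj : Function.Injective cj := fun x y h => by
    induction x using Quotient.inductionOn with
    | h a =>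
      induction y using Quotient.inductionOn with
      | h b =>
        refine Quotient.sound (QuotientGroup.leftRel_apply.mpr
          (Subgroup.mem_centralizer_singleton_iff.2 ?_))
        have h' : a * z * a⁻¹ = b * z * b⁻¹ := h
        calc a⁻¹ * b * z = a⁻¹ * (b * z * b⁻¹) * b := by group
          _ = a⁻¹ * (a * z * a⁻¹) * b := by rw [h']
          _ = z * (a⁻¹ * b) := by group
  have hsum : ∀ f : G → ℂ, ∑ a : G, f (a * z * a⁻¹) = (Nat.card C : ℂ) * ∑ q : G ⧸ C, f (cj q) := by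
    intro f
    rw [Fintype.sum_equiv (Subgroup.groupEquivQuotientProdSubgroup (s := C))
      (fun a => f (a * z * a⁻¹)) (fun p => f (cj p.1)) (fun a => rfl), Fintype.sum_prod_type,
      Finset.mul_sum]
    refine Finset.sum_congr rfl fun q _ => ?_
    simp [Finset.sum_const, Nat.card_eq_fintype_card]
  set F : (G ⧸ C) × (G ⧸ C) → ℂ := fun p =>
    ψ (cj p.1 * cj p.2) - ψ (cj p.1 * (cj p.2)⁻¹) with hF
  have hF0 : ∑ p, F p = 0 := by
    have hm : ((Nat.card C : ℂ) * (Nat.card C : ℂ)) ≠ 0 :=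
      mul_ne_zero (Nat.cast_ne_zero.2 Nat.card_pos.ne') (Nat.cast_ne_zero.2 Nat.card_pos.ne')
    refine mul_left_cancel₀ hm ?_
    rw [mul_zero, mul_assoc, Fintype.sum_prod_type, Finset.mul_sum, Finset.sum_congr rfl fun q _ =>
        (hsum fun y => ψ (cj q * y) - ψ (cj q * y⁻¹)).symm, Finset.sum_comm, Finset.mul_sum,
      Finset.sum_congr rfl fun c _ => (hsum fun x => ψ (x * (c * z * c⁻¹)) - ψ (x * (c * z * c⁻¹)⁻¹)).symm]
    refine Finset.sum_eq_zero fun c _ => ?_
    rw [Finset.sum_sub_distrib, sum_conj_apply hψ, sum_conj_apply hψ,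
      show (c * z * c⁻¹)⁻¹ = c * z⁻¹ * c⁻¹ by group, IsIrr.classFun hψ z c, IsIrr.classFun hψ z⁻¹ c,
      hreal, sub_self]
  let q₀ : G ⧸ C := QuotientGroup.mk 1
  have hq₀ : cj q₀ = z := by show (1 : G) * z * 1⁻¹ = z; group
  have hrep : ∀ q : G ⧸ C, ∃ a, cj q = a * z * a⁻¹ := fun q => by
    induction q using Quotient.inductionOn with
    | h a => exact ⟨a, rfl⟩
  have hsmul : ∀ (k : P) (q : G ⧸ C), cj (k • q) = (k : G) * cj q * (k : G)⁻¹ := fun k q => by
    induction q using Quotient.inductionOn with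
    | h a =>
      show (k : G) * a * z * ((k : G) * a)⁻¹ = (k : G) * (a * z * a⁻¹) * (k : G)⁻¹
      group
  have hfix0 : ∀ k : P, k • q₀ = q₀ := fun k => hcj_inj (by
    rw [hsmul, hq₀, hcomm _ k.2, mul_inv_cancel_right])
  obtain ⟨γ, hγ, hγe⟩ := CentralCongr.sum_free (P := P) F (fun p => (hint _).sub (hint _))
    (fun k p => by
      show ψ (cj (k • p.1) * cj (k • p.2)) - ψ (cj (k • p.1) * (cj (k • p.2))⁻¹) = _
      simp only [hsmul]
      rw [show (k : G) * cj p.1 * (k : G)⁻¹ * ((k : G) * cj p.2 * (k : G)⁻¹) =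
          (k : G) * (cj p.1 * cj p.2) * (k : G)⁻¹ by group,
        show (k : G) * cj p.1 * (k : G)⁻¹ * ((k : G) * cj p.2 * (k : G)⁻¹)⁻¹ =
          (k : G) * (cj p.1 * (cj p.2)⁻¹) * (k : G)⁻¹ by group,
        IsIrr.classFun hψ, IsIrr.classFun hψ])
    (Finset.univ.erase (q₀, q₀))
    (fun k p hp => by
      refine Finset.mem_erase.2 ⟨fun h => (Finset.mem_erase.1 hp).1 ?_, Finset.mem_univ _⟩
      have h1 : ∀ q : G ⧸ C, k • q = q₀ → q = q₀ := fun q hq => MulAction.injective k (hq.trans (hfix0 k).symm)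
      exact Prod.ext (h1 _ (congrArg Prod.fst h)) (h1 _ (congrArg Prod.snd h)))
    (fun k p hp hfix => by
      by_contra hk
      refine (Finset.mem_erase.1 hp).1 ?_
      have hq : ∀ q : G ⧸ C, k • q = q → q = q₀ := fun q hkq => by
        obtain ⟨a, ha⟩ := hrep q
        have h := hsmul k q
        rw [hkq, ha] at h
        have hc : (k : G) * (a * z * a⁻¹) = a * z * a⁻¹ * (k : G) :=
          eq_mul_inv_iff_mul_eq.1 h |>.symm
        exact hcj_inj (by rw [hq₀, ha, key a k k.2 (fun e => hk (Subtype.ext e)) hc])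
      exact Prod.ext (hq _ (congrArg Prod.fst hfix)) (hq _ (congrArg Prod.snd hfix)))
  rw [← Finset.add_sum_erase _ _ (Finset.mem_univ (q₀, q₀)), hγe] at hF0
  simp only [hF, hq₀, mul_inv_cancel] at hF0
  exact ⟨-γ, hγ.neg, by linear_combination hF0⟩

end Cfsg.Agent.Grp.FT
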