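import Cfsg.Agent.Lib.Grp.FT.Tau
import Cfsg.Agent.Lib.Char.CohDescent

/-!
The defect of a function `f` on a normal subgroup `K` against a family of induced linear characters of `K`: the
failure of `f ↦ τ(Ind f - f(1) ξ₀) + f(1) Z₀` to be an isometry.
-/

set_option autoImplicit false
set_option linter.unusedSectionVars false
set_option linter.style.haveILetI false

namespace Cfsg.Agent.Grp.FT

open Cfsg Cfsg.Agent.Char
open scoped ComplexConjugate

attribute [local instance] _root_.Classical.propDecidable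

universe u

variable {G : Type u} [Group G] [Fintype G] {L : Subgroup G} [Fintype L]

/-- A family of characters induced from linear characters of `K`, with images. -/
structure LinFam (K : Subgroup L) (A : Set G) {ι : Type u} [DecidableEq ι] (xi : ι → L → ℂ) (Z : ι → G → ℂ) (i₀ : ι) : Prop where
  hD : DadeHypothesis A L (fun _ => ⊥)
  hA : ∀ x : L, (x : G) ∈ A ↔ x ∈ K ∧ x ≠ 1
  src : ∀ i, ∃ φ : K → ℂ, IsIrrCharacter K φ ∧ φ 1 = 1 ∧ φ ≠ (fun _ => 1) ∧ xi i = indFun K φ
  lin : ∀ φ : K → ℂ, IsIrrCharacter K φ → φ 1 = 1 → φ ≠ (fun _ => 1) → ∃ i, xi i = indFun K φ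
  orth : ∀ i j, classInner (xi i) (xi j) = if i = j then 1 else 0
  gen : ∀ i, IsGeneralizedCharacter G (Z i)
  Z_orth : ∀ i j, classInner (Z i) (Z j) = if i = j then 1 else 0
  Z_diff : ∀ i, dadeIsometry A L (fun _ => ⊥) (xi i - xi i₀) = Z i - Z i₀
  bar : ∀ i, ∃ j, j ≠ i ∧ xi j = conjFun (xi i) ∧ Z j = conjFun (Z i)

/-- The shifted image. -/
noncomputable def sig (K : Subgroup L) (A : Set G) (ξ : L → ℂ) (F : G → ℂ) (f : K → ℂ) : G → ℂ :=
  dadeIsometry A L (fun _ => ⊥) (indFun K f - f 1 • ξ) + f 1 • F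

/-- The defect. -/
noncomputable def defect (K : Subgroup L) (A : Set G) (ξ : L → ℂ) (F : G → ℂ) (f : K → ℂ) : ℂ :=
  classInner (sig K A ξ F f) F - classInner (indFun K f) ξ

/-- The scaled indicator of a subgroup, the sum of `φ(1) φ` over the characters with the subgroup in the kernel. -/
noncomputable def rho (K B : Subgroup L) : K → ℂ :=
  (B.subgroupOf K : Set K).indicator fun _ => (B.relIndex K : ℂ)

namespace LinFam

variable {K : Subgroup L} [hK : K.Normal] [Fintype K] {A : Set G} {ι : Type u} [DecidableEq ι]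
  {xi : ι → L → ℂ} {Z : ι → G → ℂ} {i₀ : ι} (hF : LinFam K A xi Z i₀)
include hF

theorem xi_gen (i : ι) : IsGeneralizedCharacter L (xi i) := by
  obtain ⟨φ, hφ, -, -, e⟩ := hF.src i
  exact e ▸ IsGenChar.ind K (IsGenChar.of_isCharacter (IsIrr.isCharacter hφ))

theorem xi_classFun (i : ι) : IsClassFunction L (xi i) := IsGenChar.classFun (hF.xi_gen i)

theorem xi_off (i : ι) {x : L} (hx : x ∉ K) : xi i x = 0 := by
  obtain ⟨φ, -, -, -, e⟩ := hF.src i
  rw [e]
  exact indFun_eq_zero_of_not_conj _ _ fun g hg => (hx (by simpa [mul_assoc] using hK.conj_mem _ hg g)).elim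

theorem xi_one (i : ι) : xi i 1 = (K.index : ℂ) := by
  obtain ⟨φ, -, h1, -, e⟩ := hF.src i
  rw [e, indFun_one_eq, h1, mul_one]

theorem norm₀ : classInner (xi i₀) (xi i₀) = 1 := by rw [hF.orth, if_pos rfl]

theorem Z_norm₀ : classInner (Z i₀) (Z i₀) = 1 := by rw [hF.Z_orth, if_pos rfl]

theorem supp {f : K → ℂ} : Supp A L (indFun K f - f 1 • xi i₀) := by
  refine ⟨classFunction_sub (indFun_classFun _ _) (classFunction_smul _ (hF.xi_classFun _)), fun x hx => ?_⟩
  by_cases hxK : x ∈ K
  · have hx1 : x = 1 := by_contra fun h => hx ((hF.hA x).2 ⟨hxK, h⟩)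
    subst hx1
    rw [Pi.sub_apply, Pi.smul_apply, indFun_one_eq, hF.xi_one, smul_eq_mul]
    ring
  · rw [Pi.sub_apply, Pi.smul_apply, hF.xi_off _ hxK, smul_zero, sub_zero]
    exact indFun_eq_zero_of_not_conj _ _ fun g hg => (hxK (by simpa [mul_assoc] using hK.conj_mem _ hg g)).elim

theorem tau_inner (f : K → ℂ) :
    classInner (dadeIsometry A L (fun _ => ⊥) (indFun K f - f 1 • xi i₀)) (Z i₀) =
      defect K A (xi i₀) (Z i₀) f + classInner (indFun K f) (xi i₀) - f 1 := by
  rw [defect, sig, classInner_add_left, classInner_smul_left, hF.Z_norm₀]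
  ring

/-- The inner products of the shifted images. -/
theorem sig_inner (f g : K → ℂ) : classInner (sig K A (xi i₀) (Z i₀) f) (sig K A (xi i₀) (Z i₀) g) =
    classInner (indFun K f) (indFun K g) + conj (g 1) * defect K A (xi i₀) (Z i₀) f +
      f 1 * conj (defect K A (xi i₀) (Z i₀) g) := by
  have h1 := dade_iso hF.hD (hF.supp (f := f)) (hF.supp (f := g))
  have h2 := hF.tau_inner f
  have h3 : classInner (Z i₀) (dadeIsometry A L (fun _ => ⊥) (indFun K g - g 1 • xi i₀)) =
      conj (defect K A (xi i₀) (Z i₀) g) + classInner (xi i₀) (indFun K g) - conj (g 1) := by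
    rw [← classInner_conj_symm, hF.tau_inner g, map_sub, map_add, classInner_conj_symm]
  simp only [sig, classInner_add_left, classInner_add_right, classInner_smul_left, classInner_smul_right,
    h1, h2, h3, hF.Z_norm₀]
  simp only [classInner_sub_left, classInner_sub_right, classInner_smul_left, classInner_smul_right, hF.norm₀]
  ring

theorem defect_add (f g : K → ℂ) :
    defect K A (xi i₀) (Z i₀) (f + g) = defect K A (xi i₀) (Z i₀) f + defect K A (xi i₀) (Z i₀) g := by
  have e : indFun K (f + g) - (f + g) 1 • xi i₀ =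
      (indFun K f - f 1 • xi i₀) + (indFun K g - g 1 • xi i₀) := by
    rw [indFun_add, Pi.add_apply, add_smul]; abel
  simp only [defect, sig]
  rw [e, dade_add, indFun_add, Pi.add_apply, add_smul]
  simp only [classInner_add_left]
  ring

theorem defect_smul (c : ℂ) (f : K → ℂ) :
    defect K A (xi i₀) (Z i₀) (c • f) = c * defect K A (xi i₀) (Z i₀) f := by
  have e : indFun K (c • f) - (c • f) 1 • xi i₀ = c • (indFun K f - f 1 • xi i₀) := by
    rw [indFun_smul, Pi.smul_apply, smul_eq_mul, smul_sub, smul_smul]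
  simp only [defect, sig]
  rw [e, dade_smul, indFun_smul, Pi.smul_apply, smul_eq_mul, mul_smul]
  simp only [classInner_add_left, classInner_smul_left]
  ring

theorem defect_sub (f g : K → ℂ) :
    defect K A (xi i₀) (Z i₀) (f - g) = defect K A (xi i₀) (Z i₀) f - defect K A (xi i₀) (Z i₀) g := by
  rw [sub_eq_add_neg, ← neg_one_smul ℂ g, hF.defect_add, hF.defect_smul]
  ring

theorem defect_sum {κ : Type*} (s : Finset κ) (f : κ → K → ℂ) :
    defect K A (xi i₀) (Z i₀) (∑ i ∈ s, f i) = ∑ i ∈ s, defect K A (xi i₀) (Z i₀) (f i) := by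
  classical
  induction s using Finset.induction_on with
  | empty => simpa using hF.defect_smul 0 (0 : K → ℂ)
  | @insert a s ha ih => rw [Finset.sum_insert ha, Finset.sum_insert ha, hF.defect_add, ih]

/-- The defect of a class function from its expansion. -/
theorem defect_expand {f : K → ℂ} (hf : IsClassFunction K f) :
    defect K A (xi i₀) (Z i₀) f =
      ∑ φ : IrrCharacter K, classInner f (φ : K → ℂ) * defect K A (xi i₀) (Z i₀) (φ : K → ℂ) := by
  conv_lhs => rw [classFunction_expansion hf]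
  rw [hF.defect_sum]
  exact Finset.sum_congr rfl fun φ _ => hF.defect_smul _ _

theorem defect_int {f : K → ℂ} (hf : IsGeneralizedCharacter K f) :
    ∃ z : ℤ, defect K A (xi i₀) (Z i₀) f = (z : ℂ) := by
  obtain ⟨m, hm⟩ := IsGenChar.classInner_int hf (IsGenChar.of_isCharacter IsChar.one)
  have hα : IsGeneralizedCharacter L (indFun K f) := IsGenChar.ind K hf
  obtain ⟨a, ha⟩ : ∃ a : ℤ, f 1 = (a : ℂ) := by
    obtain ⟨c, d, hc, hd, e⟩ := hf
    obtain ⟨x, hx⟩ := IsChar.one_eq_nat hc
    obtain ⟨y, hy⟩ := IsChar.one_eq_nat hd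
    exact ⟨(x : ℤ) - y, by rw [e, Pi.sub_apply, hx, hy]; push_cast; ring⟩
  have hsub : IsGeneralizedCharacter L (indFun K f - f 1 • xi i₀) := by
    rw [ha]; exact IsGenChar.sub hα (IsGenChar.zsmul (hF.xi_gen _) a)
  obtain ⟨p, hp⟩ := IsGenChar.classInner_int (dade_gen hF.hD hF.supp hsub) (hF.gen i₀)
  obtain ⟨r, hr⟩ := IsGenChar.classInner_int hα (hF.xi_gen i₀)
  refine ⟨p - r + a, ?_⟩
  have h := hF.tau_inner f
  rw [hp, hr, ha] at h
  push_cast
  linear_combination -h

/-- The coefficient of the restriction of the first image. -/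
theorem pair (f : K → ℂ) : classInner f (fun x : K => Z i₀ (x : G)) =
    defect K A (xi i₀) (Z i₀) f + classInner (indFun K f) (xi i₀) +
      f 1 * (classInner (xi i₀) (fun x : L => Z i₀ x) - 1) := by
  have h1 := ti_inner hF.hD (hF.supp (f := f)) (IsGenChar.classFun (hF.gen i₀))
  have hres : IsClassFunction L (fun x : L => Z i₀ x) :=
    IsGenChar.classFun (IsGenChar.comp L.subtype (hF.gen i₀))
  have h2 := classInner_indFun K f hres
  rw [hF.tau_inner, classInner_sub_left, classInner_smul_left, h2] at h1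
  linear_combination -h1

/-- Induction of an invariant function. -/
theorem res_ind_invariant {g : K → ℂ} (hg : ∀ x : L, Char.conjN K x g = g) :
    (fun k : K => indFun K g k) = (K.index : ℂ) • g := by
  rw [res_indFun, Finset.sum_congr rfl fun x _ => hg x, Finset.sum_const, Finset.card_univ,
    ← Nat.card_eq_fintype_card, ← Nat.cast_smul_eq_nsmul ℂ, smul_smul, ← K.card_mul_index, Nat.cast_mul,
    inv_mul_cancel_left₀ (Nat.cast_ne_zero.2 Nat.card_pos.ne')]

theorem inner_ind_invariant (f : K → ℂ) {g : K → ℂ} (hg : ∀ x : L, Char.conjN K x g = g) :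
    classInner (indFun K f) (indFun K g) = (K.index : ℂ) * classInner f g := by
  rw [classInner_indFun K f (indFun_classFun K g), hF.res_ind_invariant hg, classInner_smul_right, map_natCast]

/-- The basic inequality: a function orthogonal to an invariant one of defect zero. -/
theorem cauchy {f g : K → ℂ} {P m : ℕ} {c z : ℤ} (hg : ∀ x : L, Char.conjN K x g = g)
    (hgD : defect K A (xi i₀) (Z i₀) g = 0) (hg1 : g 1 = (P : ℂ)) (hgg : classInner g g = (P : ℂ)) (hP : 0 < P)
    (hfg : classInner f g = 0) (hf1 : f 1 = (m : ℂ)) (hc : classInner (indFun K f) (indFun K f) = (c : ℂ))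
    (hz : defect K A (xi i₀) (Z i₀) f = (z : ℂ)) :
    (P : ℤ) * z ^ 2 ≤ (K.index : ℤ) * (c + 2 * m * z) := by
  set x := sig K A (xi i₀) (Z i₀) f
  set y := sig K A (xi i₀) (Z i₀) g
  have hxx : classInner x x = ((c + 2 * m * z : ℤ) : ℂ) := by
    rw [hF.sig_inner, hc, hz, hf1, map_natCast, map_intCast]
    push_cast; ring
  have hyy : classInner y y = (((K.index : ℤ) * P : ℤ) : ℂ) := by
    rw [hF.sig_inner, hF.inner_ind_invariant g hg, hgg, hgD, map_zero]
    push_cast; ring
  have hxy : classInner x y = (((P : ℤ) * z : ℤ) : ℂ) := by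
    rw [hF.sig_inner, hF.inner_ind_invariant f hg, hfg, hgD, hz, hg1, map_zero, map_natCast]
    push_cast; ring
  have hyx : classInner y x = (((P : ℤ) * z : ℤ) : ℂ) := by rw [← classInner_conj_symm, hxy, map_intCast]
  set Y : ℤ := (K.index : ℤ) * P with hY
  set p : ℤ := (P : ℤ) * z with hp
  have h := classInner_self_re_nonneg ((Y : ℂ) • x - (p : ℂ) • y)
  simp only [classInner_sub_left, classInner_sub_right, classInner_smul_left, classInner_smul_right, hxx, hyy,
    hxy, hyx, map_intCast] at h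
  have h' : (0 : ℤ) ≤ Y * (Y * (c + 2 * m * z) - p ^ 2) := by
    rw [← Int.cast_nonneg_iff (R := ℝ), ← Complex.intCast_re]
    refine le_of_le_of_eq h (congrArg Complex.re ?_)
    push_cast; ring
  have hY0 : 0 < Y := mul_pos (by exact_mod_cast Nat.pos_of_ne_zero Subgroup.index_ne_zero_of_finite)
    (by exact_mod_cast hP)
  have h'' : 0 ≤ Y * (c + 2 * m * z) - p ^ 2 := nonneg_of_mul_nonneg_right h' hY0
  have hP' : (0 : ℤ) < P := by exact_mod_cast hP
  refine le_of_mul_le_mul_left ?_ hP'
  rw [hp, hY] at h''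
  nlinarith [h'']

/-- Linear characters have no defect. -/
theorem defect_linear {φ : K → ℂ} (hφ : IsIrrCharacter K φ) (h1 : φ 1 = 1) (hne : φ ≠ fun _ => 1) :
    defect K A (xi i₀) (Z i₀) φ = 0 := by
  obtain ⟨i, hi⟩ := hF.lin φ hφ h1 hne
  rw [defect, sig, h1, one_smul, one_smul, ← hi, hF.Z_diff, sub_add_cancel, hF.Z_orth, hF.orth, sub_self]

/-- Two members only: the flipped family. -/
theorem flip {j : ι} (hj : j ≠ i₀) (hall : ∀ i, i = i₀ ∨ i = j) :
    LinFam K A xi (fun i => -conjFun (Z i)) i₀ := by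
  have hb : ∀ a b, a ≠ b → xi b = conjFun (xi a) ∧ Z b = conjFun (Z a) := fun a b hab => by
    obtain ⟨c, hc, h1, h2⟩ := hF.bar a
    rcases hall a with rfl | rfl <;> rcases hall b with rfl | rfl <;> rcases hall c with rfl | rfl <;>
      first | exact ⟨h1, h2⟩ | exact absurd rfl hab | exact absurd rfl hc
  refine { hF with gen := fun i => ?_, Z_orth := fun a b => ?_, Z_diff := fun i => ?_, bar := fun i => ?_ }
  · exact IsGenChar.neg (Grp.FT.gen_conj (hF.gen i))
  · rw [classInner_neg_left, classInner_neg_right, neg_neg, inner_conjFun, hF.Z_orth]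
    split_ifs <;> simp
  · rcases hall i with rfl | rfl
    · simp only [sub_self]
      have := hF.Z_diff i
      rwa [sub_self, sub_self] at this
    · rw [hF.Z_diff, ← (hb i₀ i hj.symm).2, ← (hb i i₀ hj).2]
      abel
  · obtain ⟨c, hc, h1, h2⟩ := hF.bar i
    exact ⟨c, hc, h1, by funext g; simp [h2, conjFun]⟩

/-- The defect against the flipped family. -/
theorem defect_flip {j : ι} (hj : j ≠ i₀) (hall : ∀ i, i = i₀ ∨ i = j) {f : K → ℂ}
    (h : ∀ i, classInner (indFun K f) (xi i) = 0) :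
    defect K A (xi i₀) (-conjFun (Z i₀)) f = f 1 - defect K A (xi i₀) (Z i₀) f := by
  obtain ⟨c, hc, -, h2⟩ := hF.bar i₀
  obtain rfl : c = j := (hall c).resolve_left hc
  have hbar : classInner (dadeIsometry A L (fun _ => ⊥) (indFun K f - f 1 • xi i₀)) (Z c - Z i₀) = f 1 := by
    have hs : Supp A L (xi c - xi i₀) := by
      refine ⟨classFunction_sub (hF.xi_classFun _) (hF.xi_classFun _), fun x hx => ?_⟩
      by_cases hxK : x ∈ K
      · have hx1 : x = 1 := by_contra fun h => hx ((hF.hA x).2 ⟨hxK, h⟩)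
        subst hx1
        rw [Pi.sub_apply, hF.xi_one, hF.xi_one, sub_self]
      · rw [Pi.sub_apply, hF.xi_off _ hxK, hF.xi_off _ hxK, sub_self]
    rw [← hF.Z_diff, dade_iso hF.hD hF.supp hs]
    simp only [classInner_sub_left, classInner_sub_right, classInner_smul_left, h, hF.orth, if_neg hc.symm, if_true]
    ring
  have hn : classInner (-conjFun (Z i₀)) (-conjFun (Z i₀)) = 1 := by
    rw [classInner_neg_left, classInner_neg_right, neg_neg, ← h2, hF.Z_orth, if_pos rfl]
  have h3 := hF.tau_inner f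
  rw [h] at h3
  rw [classInner_sub_right, h3, h2] at hbar
  rw [defect, sig, classInner_add_left, classInner_smul_left, hn, h, classInner_neg_right]
  linear_combination -hbar

theorem rho_apply (B : Subgroup L) (k : K) : rho K B k = if (k : L) ∈ B then (B.relIndex K : ℂ) else 0 := by
  classical
  simp [rho, Set.indicator, Subgroup.mem_subgroupOf]

theorem rho_one (B : Subgroup L) : rho K B 1 = (B.relIndex K : ℂ) := by
  rw [hF.rho_apply, if_pos (by simp)]

theorem rho_invariant (B : Subgroup L) [B.Normal] (x : L) : Char.conjN K x (rho K B) = rho K B := by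
  funext k
  rw [conjN_apply, hF.rho_apply, hF.rho_apply]
  refine if_congr ⟨fun h => ?_, fun h => ?_⟩ rfl rfl
  · have := (inferInstance : B.Normal).conj_mem _ h x⁻¹
    simpa [mul_assoc] using this
  · exact (inferInstance : B.Normal).conj_mem _ h x

theorem rho_classFun (B : Subgroup L) [B.Normal] : IsClassFunction K (rho K B) := fun a b => by
  have h := congrFun (hF.rho_invariant B (b : L)) a
  rw [conjN_apply] at h
  exact h

/-- Inner product with the scaled indicator. -/
theorem inner_rho (B : Subgroup L) (hBK : B ≤ K) (f : K → ℂ) :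
    classInner f (rho K B) = (Nat.card B : ℂ)⁻¹ * ∑ k : K, if (k : L) ∈ B then f k else 0 := by
  classical
  have hc : (B.relIndex K : ℂ) * (Nat.card B : ℂ) = (Nat.card K : ℂ) := by
    have := Subgroup.relIndex_mul_relIndex ⊥ B K bot_le hBK
    rw [Subgroup.relIndex_bot_left, Subgroup.relIndex_bot_left] at this
    rw [mul_comm]
    exact_mod_cast this
  have hB : (Nat.card B : ℂ) ≠ 0 := Nat.cast_ne_zero.2 Nat.card_pos.ne'
  have hK0 : (Nat.card K : ℂ) ≠ 0 := Nat.cast_ne_zero.2 Nat.card_pos.ne'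
  rw [classInner, Finset.mul_sum, Finset.mul_sum]
  refine Finset.sum_congr rfl fun k _ => ?_
  rw [hF.rho_apply]
  split_ifs with h
  · rw [map_natCast]
    rw [show (B.relIndex K : ℂ) = (Nat.card K : ℂ) * (Nat.card B : ℂ)⁻¹ by rw [← hc, mul_inv_cancel_right₀ hB]]
    field_simp
  · rw [map_zero, mul_zero, mul_zero, mul_zero]

/-- The constituents of the scaled indicator. -/
theorem rho_coef (B : Subgroup L) [B.Normal] (hBK : B ≤ K) {φ : K → ℂ} (hφ : IsIrrCharacter K φ) :
    ((∀ k : K, (k : L) ∈ B → φ k = φ 1) → classInner φ (rho K B) = φ 1) ∧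
    (¬ (∀ k : K, (k : L) ∈ B → φ k = φ 1) → classInner φ (rho K B) = 0) := by
  classical
  letI : Fintype (B.subgroupOf K) := Fintype.ofFinite _
  have e : classInner φ (rho K B) = avgN (B.subgroupOf K) φ 1 := by
    rw [hF.inner_rho B hBK, avgN, Nat.card_congr (Subgroup.subgroupOfEquivOfLe hBK).toEquiv]
    congr 1
    rw [← Finset.sum_filter]
    simp only [mul_one]
    exact Finset.sum_subtype _ (fun x => by simp [Subgroup.mem_subgroupOf]) _
  refine ⟨fun h => ?_, fun h => ?_⟩
  · rw [e, FrobTI.avg_one_of_not_nonTriv]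
    rintro ⟨k, hk, hne⟩
    exact hne (h k (Subgroup.mem_subgroupOf.1 hk))
  · push Not at h
    obtain ⟨k, hk, hne⟩ := h
    rw [e, FrobTI.avg_of_nonTriv _ hφ ⟨k, Subgroup.mem_subgroupOf.2 hk, hne⟩]
    rfl

theorem rho_rho {B C : Subgroup L} (hBC : B ≤ C) (hCK : C ≤ K) :
    classInner (rho K B) (rho K C) = (C.relIndex K : ℂ) ∧ classInner (rho K C) (rho K B) = (C.relIndex K : ℂ) := by
  classical
  have h1 : classInner (rho K B) (rho K C) = (C.relIndex K : ℂ) := by
    rw [hF.inner_rho C hCK, Finset.sum_congr rfl (g := fun k : K => if (k : L) ∈ B then (B.relIndex K : ℂ) else 0)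
      fun k _ => by
        rw [hF.rho_apply]
        split_ifs with h1 h2 h2 <;> first | rfl | exact absurd (hBC h2) h1,
      ← Finset.sum_filter, Finset.sum_const, nsmul_eq_mul, ← Fintype.card_subtype, ← Nat.card_eq_fintype_card,
      show Nat.card {x : K // (x : L) ∈ B} = Nat.card B from
        Nat.card_congr (Subgroup.subgroupOfEquivOfLe (hBC.trans hCK)).toEquiv]
    have hC : (Nat.card C : ℂ) ≠ 0 := Nat.cast_ne_zero.2 Nat.card_pos.ne'
    have e : (Nat.card B : ℂ) * (B.relIndex K : ℂ) = (Nat.card C : ℂ) * (C.relIndex K : ℂ) := by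
      have e1 := Subgroup.relIndex_mul_relIndex ⊥ B K bot_le (hBC.trans hCK)
      have e2 := Subgroup.relIndex_mul_relIndex ⊥ C K bot_le hCK
      rw [Subgroup.relIndex_bot_left, Subgroup.relIndex_bot_left] at e1 e2
      exact_mod_cast e1.trans e2.symm
    rw [e, inv_mul_cancel_left₀ hC]
  exact ⟨h1, by rw [← classInner_conj_symm, h1, map_natCast]⟩

/-- A layer of characters without defect bounds the defect outside the layer. -/
theorem layer {B C : Subgroup L} [B.Normal] [C.Normal] (hBC : B < C) (hCK : C ≤ K)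
    (h0 : ∀ φ : K → ℂ, IsIrrCharacter K φ → (∀ k : K, (k : L) ∈ B → φ k = φ 1) →
      ¬ (∀ k : K, (k : L) ∈ C → φ k = φ 1) → defect K A (xi i₀) (Z i₀) φ = 0)
    {f : K → ℂ} {m : ℕ} {c z : ℤ} (hf : IsIrrCharacter K f)
    (hout : (∀ k : K, (k : L) ∈ C → f k = f 1) ∨ ¬ (∀ k : K, (k : L) ∈ B → f k = f 1))
    (hf1 : f 1 = (m : ℂ)) (hc : classInner (indFun K f) (indFun K f) = (c : ℂ))
    (hz : defect K A (xi i₀) (Z i₀) f = (z : ℂ)) :
    ((B.relIndex K : ℤ) - C.relIndex K) * z ^ 2 ≤ (K.index : ℤ) * (c + 2 * m * z) := by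
  classical
  have hlt : C.relIndex K < B.relIndex K := by
    rw [← Subgroup.relIndex_mul_relIndex B C K hBC.le hCK]
    exact (Nat.lt_mul_iff_one_lt_left (Nat.pos_of_ne_zero (C.subgroupOf K).index_ne_zero_of_finite)).2
      (by
        have h1 : B.relIndex C ≠ 1 := fun h => hBC.not_ge (Subgroup.relIndex_eq_one.1 h)
        have h2 : B.relIndex C ≠ 0 := (B.subgroupOf C).index_ne_zero_of_finite
        omega)
  have hP : ((B.relIndex K : ℤ) - C.relIndex K) = ((B.relIndex K - C.relIndex K : ℕ) : ℤ) := by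
    rw [Nat.cast_sub hlt.le]
  have hBK : B ≤ K := hBC.le.trans hCK
  rw [hP]
  refine hF.cauchy (f := f) (g := rho K B - rho K C) (fun x => ?_) ?_ ?_ ?_ (by omega) ?_ hf1 hc hz
  · funext k
    have h1 := congrFun (hF.rho_invariant B x) k
    have h2 := congrFun (hF.rho_invariant C x) k
    rw [conjN_apply] at h1 h2 ⊢
    simp only [Pi.sub_apply, h1, h2]
  · rw [hF.defect_expand (classFunction_sub (hF.rho_classFun B) (hF.rho_classFun C))]
    refine Finset.sum_eq_zero fun φ _ => ?_
    rw [classInner_sub_left, ← classInner_conj_symm (φ : K → ℂ), ← classInner_conj_symm (φ : K → ℂ)]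
    obtain ⟨hB1, hB2⟩ := hF.rho_coef B hBK φ.2
    obtain ⟨hC1, hC2⟩ := hF.rho_coef C hCK φ.2
    by_cases hC : ∀ k : K, (k : L) ∈ C → (φ : K → ℂ) k = (φ : K → ℂ) 1
    · rw [hB1 fun k hk => hC k (hBC.le hk), hC1 hC, sub_self, zero_mul]
    · by_cases hB : ∀ k : K, (k : L) ∈ B → (φ : K → ℂ) k = (φ : K → ℂ) 1
      · rw [h0 _ φ.2 hB hC, mul_zero]
      · rw [hB2 hB, hC2 hC, sub_self, zero_mul]
  · rw [Pi.sub_apply, hF.rho_one, hF.rho_one, Nat.cast_sub hlt.le]
  · simp only [classInner_sub_left, classInner_sub_right, (hF.rho_rho le_rfl hBK).1, (hF.rho_rho le_rfl hCK).1,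
      (hF.rho_rho hBC.le hCK).1, (hF.rho_rho hBC.le hCK).2]
    rw [Nat.cast_sub hlt.le]
    ring
  · obtain ⟨hB1, hB2⟩ := hF.rho_coef B hBK hf
    obtain ⟨hC1, hC2⟩ := hF.rho_coef C hCK hf
    rw [classInner_sub_right]
    rcases hout with h | h
    · rw [hB1 fun k hk => h k (hBC.le hk), hC1 h, sub_self]
    · rw [hB2 h, hC2 fun h' => h fun k hk => h' k (hBC.le hk), sub_self]

end LinFam

end Cfsg.Agent.Grp.FT
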