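import Cfsg.Agent.Lib.Grp.FT.NonTwoQuot
import Cfsg.Agent.Lib.Grp.FT.NonTwoChar

/-!
In types III and IV every fixed character has degree the index in `D` of the kernel of its action on `Q / Q₀`.
-/

set_option autoImplicit false
set_option linter.unusedSectionVars false
set_option linter.style.haveILetI false
set_option maxHeartbeats 1000000

namespace Cfsg.Agent.Grp.FT

open Subgroup Cfsg.Agent.Transfer Cfsg.Agent.Transfer.Loc Cfsg.Agent.Char
open scoped commutatorElement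

universe u

variable {G : Type u} [Group G] [Finite G]

namespace Split

variable {T W₁ W₂ Q D Q₀ : Subgroup G} (h : Split T W₁ W₂ Q D Q₀)
include h

/-- An element of `D` fixing a fixed linear function centralises `Q` modulo `Q₀`. -/
theorem stab {l : G → ℂˣ} (hl : IsLinFun Q Q₀ W₂ l) {d : G} (hd : d ∈ D)
    (hfix : ∀ a ∈ Q, l (d * a * d⁻¹) = l a) : d ∈ kern Q D Q₀ := by
  classical
  have hnQ : ∀ {t a : G}, t ∈ T → a ∈ Q → t * a * t⁻¹ ∈ Q := fun ht ha => Grp.mem_conj_normalizer (h.normQ ht) ha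
  let N : Subgroup G :=
    { carrier := {a | a ∈ Q ∧ ∀ t ∈ T, l (t * a * t⁻¹) = 1}
      one_mem' := ⟨one_mem _, fun t _ => by simp [hl.one]⟩
      mul_mem' := fun {a b} ha hb => ⟨Q.mul_mem ha.1 hb.1, fun t ht => by
        rw [show t * (a * b) * t⁻¹ = (t * a * t⁻¹) * (t * b * t⁻¹) by group, hl.mul _ (hnQ ht ha.1) _ (hnQ ht hb.1),
          ha.2 t ht, hb.2 t ht, one_mul]⟩
      inv_mem' := fun {a} ha => ⟨Q.inv_mem ha.1, fun t ht => by
        rw [show t * a⁻¹ * t⁻¹ = (t * a * t⁻¹)⁻¹ by group, hl.inv (hnQ ht ha.1), ha.2 t ht, inv_one]⟩ }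
  have hNT : T ≤ normalizer (N : Set G) := by
    have key : ∀ t ∈ T, ∀ a ∈ N, t * a * t⁻¹ ∈ N := fun t ht a ha => ⟨hnQ ht ha.1, fun s hs => by
      rw [show s * (t * a * t⁻¹) * s⁻¹ = (s * t) * a * (s * t)⁻¹ by group]
      exact ha.2 _ (T.mul_mem hs ht)⟩
    refine fun t ht => Subgroup.mem_normalizer_iff.2 fun a => ⟨key t ht a, fun ha => ?_⟩
    have h1 := key t⁻¹ (T.inv_mem ht) _ ha
    convert h1 using 1
    group
  have hN₀ : N = Q₀ := by
    refine le_antisymm ?_ fun a ha => ⟨h.le₀ ha, fun t ht => hl.ker _ (Grp.mem_conj_normalizer (h.norm₀ ht) ha)⟩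
    by_contra hc
    obtain ⟨a₀, ha₀, hne⟩ := hl.ne_one
    refine h.minQ N (lt_of_le_not_ge (fun a ha => ⟨h.le₀ ha, fun t ht => hl.ker _
      (Grp.mem_conj_normalizer (h.norm₀ ht) ha)⟩) hc) (lt_of_le_not_ge (fun a ha => ha.1) fun e => hne ?_) hNT
    have := (e ha₀).2 1 (one_mem _)
    simpa using this
  let Dl : Set G := {d | d ∈ D ∧ ∀ a ∈ Q, l (d * a * d⁻¹) = l a}
  have hkern : ∀ c ∈ kern Q D Q₀, c ∈ Dl := fun c hc => ⟨hc.1.1, fun a ha => by
    have h1 := hl.ker _ (hc.2 a ha)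
    rw [hl.mul _ (hnQ (h.DT hc.1.1) ha) _ (Q.inv_mem ha), hl.inv ha, mul_inv_eq_one] at h1
    exact h1⟩
  have hDW : ∀ x ∈ W₂, ∀ d ∈ Dl, x * d * x⁻¹ ∈ Dl := fun x hx d hd =>
    ⟨Grp.mem_conj_normalizer (h.normD hx) hd.1, fun a ha => by
      have hxa : x⁻¹ * a * x ∈ Q := by simpa using hnQ (T.inv_mem (h.nt.le₂ hx)) ha
      rw [show x * d * x⁻¹ * a * (x * d * x⁻¹)⁻¹ = x * (d * (x⁻¹ * a * x) * d⁻¹) * x⁻¹ by group,
        hl.fixed x hx _ (hnQ (h.DT hd.1) hxa), hd.2 _ hxa, ← hl.fixed x hx _ hxa]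
      congr 1
      group⟩
  have hDD : ∀ e ∈ D, ∀ d ∈ Dl, e * d * e⁻¹ ∈ Dl := fun e he d hd => by
    have hc := hkern _ (h.quot_facts.1 (commutator_mem_commutator he hd.1))
    refine ⟨D.mul_mem (D.mul_mem he hd.1) (D.inv_mem he), fun a ha => ?_⟩
    rw [show e * d * e⁻¹ * a * (e * d * e⁻¹)⁻¹ = ⁅e, d⁆ * (d * a * d⁻¹) * ⁅e, d⁆⁻¹ by
      simp [commutatorElement_def, mul_assoc], hc.2 _ (hnQ (h.DT hd.1) ha), hd.2 a ha]
  refine h.mem_kern.2 ⟨hd, fun a ha => ?_⟩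
  rw [← hN₀]
  refine ⟨Q.mul_mem (hnQ (h.DT hd) ha) (Q.inv_mem ha), fun t ht => ?_⟩
  obtain ⟨k, hk, x, hx, rfl⟩ := h.nt.compl.2.2.2 t ht
  obtain ⟨u, hu, e, he, rfl⟩ := h.compl.2.2.2 k hk
  have hd' := hDD e he _ (hDW x hx d ⟨hd, hfix⟩)
  have hex : e * x ∈ T := T.mul_mem (h.DT he) (h.nt.le₂ hx)
  rw [show u * e * x * (d * a * d⁻¹ * a⁻¹) * (u * e * x)⁻¹ =
      u * ((e * (x * d * x⁻¹) * e⁻¹) * (e * x * a * (e * x)⁻¹) * (e * (x * d * x⁻¹) * e⁻¹)⁻¹ *
        (e * x * a * (e * x)⁻¹)⁻¹) * u⁻¹ by group,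
    hl.conj hu (Q.mul_mem (hnQ (h.DT hd'.1) (hnQ hex ha)) (Q.inv_mem (hnQ hex ha))),
    hl.mul _ (hnQ (h.DT hd'.1) (hnQ hex ha)) _ (Q.inv_mem (hnQ hex ha)), hl.inv (hnQ hex ha),
    hd'.2 _ (hnQ hex ha), mul_inv_cancel]

/-- A power of a fixed linear function. -/
theorem linFun_pow {l : G → ℂˣ} (hl : IsLinFun Q Q₀ W₂ l) {j : ℕ} (hj : ¬ Nat.card W₁ ∣ j) :
    IsLinFun Q Q₀ W₂ fun g => l g ^ j where
  mul a ha b hb := by rw [hl.mul a ha b hb, mul_pow]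
  ker a ha := by rw [hl.ker a ha, one_pow]
  fixed x hx a ha := by rw [hl.fixed x hx a ha]
  ne_one := by
    obtain ⟨a, ha, hne⟩ := hl.ne_one
    haveI := Fact.mk h.nt.prime₁
    have hord : orderOf (l a) = Nat.card W₁ :=
      orderOf_eq_prime (by rw [← hl.pow ha, hl.ker _ (h.powQ a ha)]) hne
    exact ⟨a, ha, fun e => hj (hord ▸ orderOf_dvd_of_pow_eq_one e)⟩

/-- All fixed characters have degree `[D : kern]`. -/
theorem degree {θ : ↥((Cfsg.sigmaCore T).subgroupOf T) → ℂ} (hθ : IsFixedChar T W₂ θ) :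
    θ 1 = ((kern Q D Q₀).relIndex D : ℂ) := by
  classical
  haveI := Fact.mk h.nt.prime₁
  letI : Fintype T := Fintype.ofFinite T
  revert hθ
  revert θ
  set K' := (Cfsg.sigmaCore T).subgroupOf T with hK'
  intro θ hθ
  letI : Fintype K' := Fintype.ofFinite K'
  set C := kern Q D Q₀ with hC
  have hQCT : Q ⊔ C ≤ T := sup_le h.QT (h.kern_le.trans h.DT)
  have hQCK : Q ⊔ C ≤ Cfsg.sigmaCore T := sup_le h.Q_le_core (h.kern_le.trans h.D_le_core)
  set N : Subgroup K' := ((Q ⊔ C).subgroupOf T).subgroupOf K' with hN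
  have hdec : ∀ g ∈ Q ⊔ C, ∃ a ∈ Q, ∃ c ∈ C, g = a * c := fun g hg => by
    rw [← SetLike.mem_coe, Subgroup.coe_mul_of_right_le_normalizer_left Q C
      ((h.kern_le.trans h.DT).trans h.normQ)] at hg
    obtain ⟨a, ha, c, hc, e⟩ := hg
    exact ⟨a, ha, c, hc, e.symm⟩
  have huniq : ∀ {a a' d d' : G}, a ∈ Q → a' ∈ Q → d ∈ D → d' ∈ D → a * d = a' * d' → a = a' ∧ d = d' := by
    intro a a' d d' ha ha' hd hd' e
    have e1 : a'⁻¹ * a = d' * d⁻¹ := by
      rw [eq_mul_inv_iff_mul_eq, mul_assoc, e, inv_mul_cancel_left]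
    have h1 : a'⁻¹ * a ∈ Q ⊓ D := ⟨Q.mul_mem (Q.inv_mem ha') ha, e1 ▸ D.mul_mem hd' (D.inv_mem hd)⟩
    rw [h.compl.2.2.1, mem_bot, inv_mul_eq_one] at h1
    subst h1
    exact ⟨rfl, mul_left_cancel e⟩
  have hcl : ∀ k : K', ((k : ↥T) : G) ∈ Cfsg.sigmaCore T := fun k => mem_subgroupOf.1 k.2
  have hNn : N.Normal := by
    refine ⟨fun n hn g => ?_⟩
    obtain ⟨a, ha, c, hc, e⟩ := hdec _ (mem_subgroupOf.1 (mem_subgroupOf.1 hn))
    obtain ⟨u, hu, d, hd, eg⟩ := h.compl.2.2.2 _ (hcl g)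
    refine mem_subgroupOf.2 (mem_subgroupOf.2 ?_)
    show ((g : ↥T) : G) * ((n : ↥T) : G) * ((g : ↥T) : G)⁻¹ ∈ Q ⊔ C
    rw [e, eg, show u * d * (a * c) * (u * d)⁻¹ = u * ((d * a * d⁻¹) * (d * c * d⁻¹)) * u⁻¹ by group]
    exact (Q ⊔ C).mul_mem ((Q ⊔ C).mul_mem (mem_sup_left hu) ((Q ⊔ C).mul_mem
      (mem_sup_left (Grp.mem_conj_normalizer (h.normQ (h.DT hd)) ha))
      (mem_sup_right (Grp.mem_conj_normalizer (h.kern_norm_D hd) hc)))) (mem_sup_left (Q.inv_mem hu))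
  -- the index
  have hidx : N.index = C.relIndex D := by
    have h2 : Nat.card N = Nat.card Q * Nat.card C := by
      refine Eq.trans ?_ (complIn_card (A := Q) (B := C) (M := Q ⊔ C) ⟨le_sup_left, le_sup_right, le_bot_iff.1
        ((inf_le_inf_left Q h.kern_le).trans h.compl.2.2.1.le), hdec⟩).symm
      exact (Nat.card_congr (subgroupOfEquivOfLe (Subgroup.comap_mono hQCK)).toEquiv).trans
        (Nat.card_congr (subgroupOfEquivOfLe hQCT).toEquiv)
    have h4 := Subgroup.card_mul_index N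
    have hcK : Nat.card K' = Nat.card (Cfsg.sigmaCore T) :=
      Nat.card_congr (subgroupOfEquivOfLe h.nt.core_le).toEquiv
    rw [h2, hcK, ← complIn_card h.compl,
      ← Grp.card_mul_relIndex h.kern_le, ← mul_assoc] at h4
    exact Nat.eq_of_mul_eq_mul_left (Nat.mul_pos Nat.card_pos Nat.card_pos) h4
  letI : Fintype N := Fintype.ofFinite N
  -- the extension of a fixed linear function to `Q C`
  have hext : ∀ l : G → ℂˣ, IsLinFun Q Q₀ W₂ l → ∃ ψ : ↥K' → ℂ, IsFixedChar T W₂ ψ ∧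
      ψ 1 = (C.relIndex D : ℂ) ∧ ∃ ℓ : N → ℂ, Cfsg.IsIrrCharacter N ℓ ∧ ψ = Cfsg.indFun N ℓ ∧
        ∀ (n : N) (a : G), a ∈ Q → ((n : K') : ↥T) = (⟨_, SetLike.coe_mem ((n : K') : ↥T)⟩ : ↥T) →
          ((((n : K') : ↥T)) : G) = a → ℓ n = (l a : ℂ) := by
    intro l hl
    have hspec : ∀ n : N, ∃ a : Q, ∃ c : C, (((n : K') : ↥T) : G) = (a : G) * c := fun n => by
      obtain ⟨a, ha, c, hc, e⟩ := hdec _ (mem_subgroupOf.1 (mem_subgroupOf.1 n.2))
      exact ⟨⟨a, ha⟩, ⟨c, hc⟩, e⟩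
    choose fa fc hf using hspec
    have hval : ∀ (n : N) (a c : G), a ∈ Q → c ∈ C → (((n : K') : ↥T) : G) = a * c → l (fa n) = l a :=
      fun n a c ha hc e => by
        rw [(huniq (fa n).2 ha (h.kern_le (fc n).2) (h.kern_le hc) ((hf n).symm.trans e)).1]
    have hkc : ∀ c ∈ C, ∀ a ∈ Q, l (c * a * c⁻¹) = l a := fun c hc a ha => by
      have h1 := hl.ker _ (((h.mem_kern).1 hc).2 a ha)
      rw [hl.mul _ (Grp.mem_conj_normalizer (h.normQ (h.DT (h.kern_le hc))) ha) _ (Q.inv_mem ha), hl.inv ha,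
        mul_inv_eq_one] at h1
      exact h1
    let L : N →* ℂˣ :=
      { toFun := fun n => l (fa n)
        map_one' := (hval 1 1 1 (one_mem _) (one_mem _) (by simp)).trans hl.one
        map_mul' := fun n m => by
          show l (fa (n * m)) = l (fa n) * l (fa m)
          have hcx := Grp.mem_conj_normalizer (h.normQ (h.DT (h.kern_le (fc n).2))) (fa m).2
          rw [hval (n * m) ((fa n : G) * ((fc n : G) * (fa m) * (fc n : G)⁻¹)) ((fc n : G) * fc m)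
            (Q.mul_mem (fa n).2 hcx) (C.mul_mem (fc n).2 (fc m).2) (by
              rw [Subgroup.coe_mul, Subgroup.coe_mul, Subgroup.coe_mul, hf n, hf m]; group),
            hl.mul _ (fa n).2 _ hcx, hkc _ (fc n).2 _ (fa m).2] }
    set ℓ : N → ℂ := fun n => (L n : ℂ) with hℓ
    have hirr : Cfsg.IsIrrCharacter N ℓ := isIrr_linear L
    have hI : inertia N ℓ = N := by
      refine le_antisymm (fun k hk => ?_) (le_inertia N (IsIrr.classFun hirr))
      obtain ⟨u, hu, d, hd, eg⟩ := h.compl.2.2.2 _ (hcl k)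
      have hdC : d ∈ C := h.stab hl hd fun a ha => by
        let n : N := ⟨⟨⟨a, h.QT ha⟩, mem_subgroupOf.2 (h.Q_le_core ha)⟩,
          mem_subgroupOf.2 (mem_subgroupOf.2 (mem_sup_left ha))⟩
        have hk' := congrFun ((mem_inertia N).1 hk) n
        rw [conjN_apply] at hk'
        have h1 := Units.val_injective hk'
        have hda : d * a * d⁻¹ ∈ Q := Grp.mem_conj_normalizer (h.normQ (h.DT hd)) ha
        have h2 : L n = l a := hval n a 1 ha (one_mem _) (by simp [n])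
        have h3 : L ⟨k * (n : K') * k⁻¹, hNn.conj_mem _ n.2 k⟩ = l (u * (d * a * d⁻¹) * u⁻¹) :=
          hval _ _ 1 (Q.mul_mem (Q.mul_mem hu hda) (Q.inv_mem hu)) (one_mem _) (by
            simp only [n, Subgroup.coe_mul, Subgroup.coe_inv, eg]; group)
        rw [h2, h3, hl.conj hu hda] at h1
        exact h1
      refine mem_subgroupOf.2 (mem_subgroupOf.2 ?_)
      rw [eg]
      exact mul_mem_sup hu hdC
    have hψ := indFun_irr_of_inertia_eq N hirr hI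
    have hψ1 : Cfsg.indFun N ℓ 1 = (C.relIndex D : ℂ) := by
      rw [indFun_one_eq, hidx]
      show _ * ((L 1 : ℂˣ) : ℂ) = _
      rw [map_one, Units.val_one, mul_one]
    refine ⟨_, ⟨hψ, fun e => ?_, fun x hx => ?_⟩, hψ1, ℓ, hirr, rfl, fun n a ha _ e =>
      congrArg Units.val (hval n a 1 ha (one_mem _) (by rw [e, mul_one]))⟩
    · have h1 : ((C.relIndex D : ℕ) : ℂ) = 1 := by rw [← hψ1, e]
      exact h.one_lt_kern_index.ne' (by exact_mod_cast h1)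
    · -- conjugation by `x` permutes the summands
      have hxN : ∀ k : K', conjEquivN K' x k ∈ N ↔ k ∈ N := fun k => by
        have hnorm : (x : G) ∈ normalizer ((Q ⊔ C : Subgroup G) : Set G) := by
          refine Subgroup.mem_normalizer_iff.2 fun g => ⟨fun hg => ?_, fun hg => ?_⟩
          · obtain ⟨a, ha, c, hc, rfl⟩ := hdec g hg
            rw [show (x : G) * (a * c) * (x : G)⁻¹ = ((x : G) * a * (x : G)⁻¹) * ((x : G) * c * (x : G)⁻¹) by group]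
            exact mul_mem_sup (Grp.mem_conj_normalizer (h.normQ (h.nt.le₂ hx)) ha)
              (Grp.mem_conj_normalizer (h.kern_norm₂ hx) hc)
          · obtain ⟨a, ha, c, hc, e⟩ := hdec _ hg
            rw [show g = ((x : G)⁻¹ * a * (x : G)⁻¹⁻¹) * ((x : G)⁻¹ * c * (x : G)⁻¹⁻¹) by
              rw [show g = (x : G)⁻¹ * ((x : G) * g * (x : G)⁻¹) * x by group, e]; group]
            exact mul_mem_sup (Grp.mem_conj_normalizer (inv_mem (h.normQ (h.nt.le₂ hx))) ha)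
              (Grp.mem_conj_normalizer (inv_mem (h.kern_norm₂ hx)) hc)
        rw [conjEquivN_apply]
        simp only [hN, mem_subgroupOf, Subgroup.coe_mul, Subgroup.coe_inv]
        exact (Subgroup.mem_normalizer_iff.1 hnorm _).symm
      have hxL : ∀ (k : K') (hk : k ∈ N), L ⟨conjEquivN K' x k, (hxN k).2 hk⟩ = L ⟨k, hk⟩ := fun k hk => by
        obtain ⟨a, ha, c, hc, e⟩ := hdec _ (mem_subgroupOf.1 (mem_subgroupOf.1 hk))
        show l (fa _) = l (fa _)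
        rw [hval ⟨k, hk⟩ a c ha hc e, hval _ ((x : G) * a * (x : G)⁻¹) ((x : G) * c * (x : G)⁻¹)
          (Grp.mem_conj_normalizer (h.normQ (h.nt.le₂ hx)) ha) (Grp.mem_conj_normalizer (h.kern_norm₂ hx) hc) (by
            simp only [conjEquivN_apply, Subgroup.coe_mul, Subgroup.coe_inv, e]; group), hl.fixed _ hx _ ha]
      funext g
      rw [conjN_eq_comp]
      simp only [Cfsg.indFun]
      congr 1
      refine (Fintype.sum_equiv (conjEquivN K' x).toEquiv _ _ fun y => ?_).symm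
      rw [show (conjEquivN K' x).toEquiv y = conjEquivN K' x y from rfl, ← map_inv, ← map_mul, ← map_mul]
      by_cases hy : y⁻¹ * g * y ∈ N
      · rw [extendByZero_of_mem _ hy, extendByZero_of_mem _ ((hxN _).2 hy)]
        exact congrArg Units.val (hxL _ hy).symm
      · rw [extendByZero_not_mem _ hy, extendByZero_not_mem _ (fun e => hy ((hxN _).1 e))]
  obtain ⟨l, hl⟩ := h.exists_linFun
  have hpow : ∀ j : Fin (Nat.card W₁ - 1), ¬ Nat.card W₁ ∣ ((j : ℕ) + 1) := fun j hd => by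
    have := Nat.le_of_dvd (by omega) hd
    have := j.2
    omega
  choose ψ hψ hψ1 ℓ hℓirr hψℓ hℓval using fun j : Fin (Nat.card W₁ - 1) => hext _ (h.linFun_pow hl (hpow j))
  let F : Fin (Nat.card W₁ - 1) → {θ : ↥K' → ℂ // IsFixedChar T W₂ θ} := fun j => ⟨ψ j, hψ j⟩
  have hF : Function.Injective F := by
    intro i j hij
    have hij' : Cfsg.indFun N (ℓ i) = Cfsg.indFun N (ℓ j) :=
      (hψℓ i).symm.trans ((congrArg Subtype.val hij).trans (hψℓ j))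
    have h1 := classInner_indFun_indFun_irr N (hℓirr i) (hℓirr j)
    rw [hij', ← hψℓ j, classInner_self_irr (hψ j).1] at h1
    obtain ⟨⟨k, hk⟩⟩ : Nonempty {x : K' // conjN N x (ℓ i) = ℓ j} := by
      by_contra hno
      rw [not_nonempty_iff] at hno
      rw [Nat.card_of_isEmpty (α := {x : K' // conjN N x (ℓ i) = ℓ j}), Nat.cast_zero, mul_zero] at h1
      exact one_ne_zero h1
    obtain ⟨u, hu, d, hd, eg⟩ := h.compl.2.2.2 _ (hcl k)
    have hrel : ∀ a ∈ Q, l (d * a * d⁻¹) ^ ((i : ℕ) + 1) = l a ^ ((j : ℕ) + 1) := fun a ha => by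
      let n : N := ⟨⟨⟨a, h.QT ha⟩, mem_subgroupOf.2 (h.Q_le_core ha)⟩,
        mem_subgroupOf.2 (mem_subgroupOf.2 (mem_sup_left ha))⟩
      have hk' := congrFun hk n
      rw [conjN_apply] at hk'
      have hda : d * a * d⁻¹ ∈ Q := Grp.mem_conj_normalizer (h.normQ (h.DT hd)) ha
      rw [hℓval j n a ha rfl rfl, hℓval i _ (u * (d * a * d⁻¹) * u⁻¹) (Q.mul_mem (Q.mul_mem hu hda) (Q.inv_mem hu))
        rfl (by simp only [n, Subgroup.coe_mul, Subgroup.coe_inv, eg]; group)] at hk'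
      have h2 := Units.val_injective hk'
      rw [hl.conj hu hda] at h2
      exact h2
    obtain ⟨x₀, hx₀, hx₀1⟩ := (bot_or_exists_ne_one W₂).resolve_left h.nt.ne
    have hnQ : ∀ {t a : G}, t ∈ T → a ∈ Q → t * a * t⁻¹ ∈ Q := fun ht ha => Grp.mem_conj_normalizer (h.normQ ht) ha
    have hd' : x₀ * d * x₀⁻¹ ∈ D := Grp.mem_conj_normalizer (h.normD hx₀) hd
    have hrel' : ∀ a ∈ Q, l ((x₀ * d * x₀⁻¹) * a * (x₀ * d * x₀⁻¹)⁻¹) ^ ((i : ℕ) + 1) = l a ^ ((j : ℕ) + 1) :=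
      fun a ha => by
      have hxa : x₀⁻¹ * a * x₀ ∈ Q := by simpa using hnQ (T.inv_mem (h.nt.le₂ hx₀)) ha
      rw [show x₀ * d * x₀⁻¹ * a * (x₀ * d * x₀⁻¹)⁻¹ = x₀ * (d * (x₀⁻¹ * a * x₀) * d⁻¹) * x₀⁻¹ by group,
        hl.fixed x₀ hx₀ _ (hnQ (h.DT hd) hxa), hrel _ hxa, ← hl.fixed x₀ hx₀ _ hxa,
        show x₀ * (x₀⁻¹ * a * x₀) * x₀⁻¹ = a by group]
    have hdd : d⁻¹ * (x₀ * d * x₀⁻¹) ∈ kern Q D Q₀ := by
      refine h.stab (h.linFun_pow hl (hpow i)) (D.mul_mem (D.inv_mem hd) hd') fun a ha => ?_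
      have hb := hnQ (h.DT hd') ha
      have hb' : d⁻¹ * (x₀ * d * x₀⁻¹ * a * (x₀ * d * x₀⁻¹)⁻¹) * d⁻¹⁻¹ ∈ Q := hnQ (T.inv_mem (h.DT hd)) hb
      show l _ ^ ((i : ℕ) + 1) = l a ^ ((i : ℕ) + 1)
      rw [show d⁻¹ * (x₀ * d * x₀⁻¹) * a * (d⁻¹ * (x₀ * d * x₀⁻¹))⁻¹ =
        d⁻¹ * (x₀ * d * x₀⁻¹ * a * (x₀ * d * x₀⁻¹)⁻¹) * d⁻¹⁻¹ by group]
      set b := d⁻¹ * (x₀ * d * x₀⁻¹ * a * (x₀ * d * x₀⁻¹)⁻¹) * d⁻¹⁻¹ with hbdef
      have h1 := hrel b hb'
      rw [show d * b * d⁻¹ = x₀ * d * x₀⁻¹ * a * (x₀ * d * x₀⁻¹)⁻¹ by rw [hbdef]; group, hrel' a ha] at h1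
      -- both sides have the same `(j + 1)`-th power
      have hc : (l b / l a) ^ ((j : ℕ) + 1) = 1 := by rw [div_pow, h1, div_self']
      have hq : (l b / l a) ^ Nat.card W₁ = 1 := by
        rw [div_pow, ← hl.pow hb', ← hl.pow ha, hl.ker _ (h.powQ b hb'), hl.ker _ (h.powQ a ha), div_one]
      have hcop : Nat.Coprime (Nat.card W₁) ((j : ℕ) + 1) := h.nt.prime₁.coprime_iff_not_dvd.2 (hpow j)
      have h3 : l b / l a = 1 := by
        rw [← orderOf_eq_one_iff]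
        exact Nat.eq_one_of_dvd_coprimes hcop (orderOf_dvd_of_pow_eq_one hq) (orderOf_dvd_of_pow_eq_one hc)
      rw [div_eq_one.1 h3]
    have hdC : d⁻¹ ∈ kern Q D Q₀ := by
      refine h.kern_fix hx₀ hx₀1 (D.inv_mem hd) ?_
      have h2 := (kern Q D Q₀).inv_mem hdd
      convert h2 using 1
      group
    obtain ⟨a, ha, hne⟩ := hl.ne_one
    have h1 := hrel a ha
    rw [show l (d * a * d⁻¹) = l a by
      have h5 := hl.ker _ (((h.mem_kern).1 (inv_inv d ▸ inv_mem hdC)).2 a ha)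
      rw [hl.mul _ (hnQ (h.DT hd) ha) _ (Q.inv_mem ha), hl.inv ha, mul_inv_eq_one] at h5
      exact h5] at h1
    have hord : orderOf (l a) = Nat.card W₁ :=
      orderOf_eq_prime (by rw [← hl.pow ha, hl.ker _ (h.powQ a ha)]) hne
    rw [pow_eq_pow_iff_modEq, hord] at h1
    have hi := i.2
    have hj := j.2
    have h2 := Nat.ModEq.eq_of_lt_of_lt h1 (by omega) (by omega)
    exact Fin.ext (by omega)
  haveI : Finite {θ : ↥K' → ℂ // IsFixedChar T W₂ θ} :=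
    Finite.of_injective (fun θ => (⟨θ.1, θ.2.1⟩ : Cfsg.IrrCharacter ↥K'))
      fun a b hab => Subtype.ext (congrArg (fun z : Cfsg.IrrCharacter ↥K' => z.1) hab)
  have hbij : Function.Bijective F := (Nat.bijective_iff_injective_and_card F).2
    ⟨hF, by
      have e : Nat.card {θ : ↥K' → ℂ // IsFixedChar T W₂ θ} + 1 = Nat.card W₁ := h.nt.card_fixed
      rw [Nat.card_fin]; omega⟩
  obtain ⟨j, hj⟩ := hbij.2 ⟨θ, hθ⟩
  rw [← show ψ j = θ from congrArg Subtype.val hj]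
  exact hψ1 j

end Split

end Cfsg.Agent.Grp.FT
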