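import Cfsg.Agent.Lib.Grp.FT.NonTwoChar
import Cfsg.Agent.Lib.Char.Kernel
import Cfsg.Agent.Lib.Block.Covering
import Cfsg.Agent.Lib.Char.KerSets
import Cfsg.Agent.S1511
import Cfsg.Agent.S1513
import Cfsg.Agent.Lib.Char.OneSeen.Values

/-!
The exceptional characters of `T`, indexed by the linear characters of `W₁` and `W₂`, and the `W₂`-fixed
characters of `T'` under them.
-/

set_option autoImplicit false
set_option linter.unusedSectionVars false
set_option linter.style.haveILetI false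

namespace Cfsg.Agent.Grp.FT

open Subgroup Cfsg.Agent.Char Cfsg.Agent.Transfer Cfsg.Agent.Transfer.Loc
open scoped ComplexConjugate

attribute [local instance] _root_.Classical.propDecidable

universe u

variable {G : Type u} [Group G]

/-- `T_σ` as a subgroup of `T`. -/
abbrev core (T : Subgroup G) : Subgroup T := (Cfsg.sigmaCore T).subgroupOf T

/-- The exceptional characters. -/
structure Exc (T W₁ W₂ : Subgroup G) [Fintype T] where
  mu : (↥W₁ →* ℂˣ) → (↥W₂ →* ℂˣ) → ↥T → ℂ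
  sgn : (↥W₁ →* ℂˣ) → ℤ
  irr : ∀ f g, Cfsg.IsIrrCharacter T (mu f g)
  inj : ∀ f g f' g', mu f g = mu f' g' → f = f' ∧ g = g'
  sgn_pm : ∀ f, sgn f = 1 ∨ sgn f = -1
  val : ∀ f g (x : T) (a : W₁) (b : W₂), b ≠ 1 → (x : G) = a * b →
    mu f g x = (sgn f : ℂ) * (f a : ℂ) * (g b : ℂ)
  res : ∀ f g (k : T), (k : G) ∈ Cfsg.sigmaCore T → mu f g k = mu f 1 k
  deg : ∀ f g, ∃ n : ℤ, mu f g 1 - (sgn f : ℂ) = (n : ℂ) * (Nat.card W₂ : ℂ)
  others : ∀ χ : ↥T → ℂ, Cfsg.IsIrrCharacter T χ → (∀ f g, χ ≠ mu f g) → ∀ (x : T) (a : W₁) (b : W₂),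
    b ≠ 1 → (x : G) = a * b → χ x = 0

variable [Fintype G] {T W₁ W₂ : Subgroup G}

theorem NonTwo.exists_exc [Fintype T] (h : NonTwo T W₁ W₂) : Nonempty (Exc T W₁ W₂) := by
  classical
  obtain ⟨-, -, hinf, hcomm, hWc, -⟩ := h.self
  have hle₁T : W₁ ≤ T := h.le₁.trans h.core_le
  have hi₁ : core T ⊓ W₂.subgroupOf T = ⊥ := le_bot_iff.1 fun a ha => mem_bot.2 (Subtype.ext
    (mem_bot.1 (h.compl.2.2.1 ▸ (⟨mem_subgroupOf.1 ha.1, mem_subgroupOf.1 ha.2⟩ : (a : G) ∈ Cfsg.sigmaCore T ⊓ W₂))))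
  have hi₂ : core T ⊔ W₂.subgroupOf T = ⊤ := top_unique fun t _ => by
    obtain ⟨a, ha, b, hb, e⟩ := h.compl.2.2.2 t t.2
    rw [show t = (⟨a, h.core_le ha⟩ : ↥T) * ⟨b, h.le₂ hb⟩ from Subtype.ext e]
    exact mul_mem_sup (mem_subgroupOf.2 ha) (mem_subgroupOf.2 hb)
  have hT₂ := (Nat.card_congr (subgroupOfEquivOfLe h.le₂).toEquiv)
  haveI : IsCyclic W₁ := by haveI := Fact.mk h.prime₁; exact isCyclic_of_prime_card rfl
  haveI := h.cyclic₂
  obtain ⟨μ, δ, hinj, hirr, hpm, hind, hval, hoth, hdeg⟩ := Cfsg.Agent.S1511.result (core T) (W₂.subgroupOf T)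
    (W₁.subgroupOf T) hi₁ hi₂
    (fun e => h.ne (by rw [← Subgroup.map_subgroupOf_eq_of_le h.le₂, e, Subgroup.map_bot]))
    (isCyclic_of_surjective _ (subgroupOfEquivOfLe h.le₂).symm.surjective)
    (by
      rw [hT₂, show (W₂.subgroupOf T).index = Nat.card (Cfsg.sigmaCore T) from (complIn_relIndex h.compl).2]
      exact h.coprime.symm)
    (fun e => h.prime₁.ne_one (by
      rw [← Nat.card_congr (subgroupOfEquivOfLe hle₁T).toEquiv, e, Subgroup.card_bot]))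
    (isCyclic_of_surjective _ (subgroupOfEquivOfLe hle₁T).symm.surjective)
    (Subgroup.comap_mono h.le₁)
    (fun x hx hx1 => by
      ext a
      simp only [mem_inf, mem_subgroupOf, mem_centralizer_singleton_iff, Subtype.ext_iff, Subgroup.coe_mul]
      rw [← h.fix (mem_subgroupOf.1 hx) (fun e => hx1 (Subtype.ext e))]
      simp only [mem_inf, mem_centralizer_singleton_iff])
    ((h.odd T).of_dvd_nat (Subgroup.card_subgroup_dvd_card _))
  let W := W₂.subgroupOf T ⊔ W₁.subgroupOf T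
  let i₁ : ↥W₁ →* ↥W := ((Subgroup.inclusion hle₁T).codRestrict W fun a => mem_sup_right (mem_subgroupOf.2 a.2))
  let i₂ : ↥W₂ →* ↥W := ((Subgroup.inclusion h.le₂).codRestrict W fun a => mem_sup_left (mem_subgroupOf.2 a.2))
  let φ : ↥W₁ × ↥W₂ →* ↥W := MonoidHom.noncommCoprod i₁ i₂ fun a b =>
    Subtype.ext (Subtype.ext (hcomm b b.2 a a.2).symm)
  have hφv : ∀ a b, ((φ (a, b) : ↥T) : G) = (a : G) * b := fun a b => rfl
  have hφ : Function.Bijective φ := by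
    refine ⟨(MonoidHom.ker_eq_bot_iff φ).1 ?_, fun w => ?_⟩
    · rw [Subgroup.eq_bot_iff_forall]
      rintro ⟨a, b⟩ hp
      have h0 : (a : G) * b = 1 := (hφv a b).symm.trans
        (congrArg (fun z : ↥W => ((z : ↥T) : G)) (MonoidHom.mem_ker.1 hp))
      have h1 : (a : G) = (b : G)⁻¹ := eq_inv_of_mul_eq_one_left h0
      have h2 : (a : G) = 1 := Subgroup.mem_bot.1 (hinf.le ⟨h1.symm ▸ W₂.inv_mem b.2, a.2⟩)
      exact Prod.ext (Subtype.ext h2) (Subtype.ext (by simpa [h2] using h0))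
    · have hc : ∀ x ∈ W₂.subgroupOf T, ∀ y ∈ W₁.subgroupOf T, x * y = y * x := fun x hx y hy =>
        Subtype.ext (hcomm _ (mem_subgroupOf.1 hx) _ (mem_subgroupOf.1 hy))
      obtain ⟨b, hb, a, ha, e⟩ := Char.CyclicW.exists_mul_eq _ _ hc w.2
      exact ⟨(⟨a, mem_subgroupOf.1 ha⟩, ⟨b, mem_subgroupOf.1 hb⟩),
        Subtype.ext (Subtype.ext ((congrArg Subtype.val ((hc b hb a ha).symm.trans e))))⟩
  let e := MulEquiv.ofBijective φ hφ
  let E : (↥W₁ →* ℂˣ) → (↥W₂ →* ℂˣ) → (↥W →* ℂˣ) := fun f g => (f.coprod g).comp e.symm.toMonoidHom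
  have hE : ∀ f g a b, E f g (φ (a, b)) = f a * g b := fun f g a b => by
    show (f.coprod g) (e.symm (φ (a, b))) = _
    rw [show φ (a, b) = e (a, b) from rfl, MulEquiv.symm_apply_apply]
    rfl
  have hEinj : ∀ f g f' g', E f g = E f' g' → f = f' ∧ g = g' := fun f g f' g' h =>
    ⟨MonoidHom.ext fun a => by simpa [hE] using DFunLike.congr_fun h (φ (a, 1)),
      MonoidHom.ext fun b => by simpa [hE] using DFunLike.congr_fun h (φ (1, b))⟩
  have hEsurj : ∀ ω : ↥W →* ℂˣ, E (ω.comp i₁) (ω.comp i₂) = ω := fun ω => MonoidHom.ext fun w => by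
    obtain ⟨⟨a, b⟩, rfl⟩ := hφ.2 w
    rw [hE, MonoidHom.comp_apply, MonoidHom.comp_apply, ← map_mul]
    rfl
  have hagree : ∀ f g g', ∀ w : ↥W, (w : ↥T) ∈ W₁.subgroupOf T → E f g w = E f g' w := fun f g g' w hw => by
    rw [show w = φ (⟨_, mem_subgroupOf.1 hw⟩, 1) from Subtype.ext (Subtype.ext (by rw [hφv]; simp)), hE, hE]
    simp
  have hmemV : ∀ (a : W₁) (b : W₂), b ≠ 1 → (φ (a, b) : ↥T) ∉ W₁.subgroupOf T := fun a b hb hm =>
    hb (Subtype.ext (Subgroup.mem_bot.1 (hinf.le ⟨b.2, (W₁.mul_mem_cancel_left a.2).1 (hφv a b ▸ mem_subgroupOf.1 hm)⟩)))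
  let sgn : (↥W₁ →* ℂˣ) → ℤ := fun f => if δ (E f 1) = 1 then 1 else -1
  have hsgn : ∀ f g, δ (E f g) = (sgn f : ℂ) := fun f g => by
    rw [(hind _ _ (hagree f g 1)).1]
    simp only [sgn]
    split_ifs with h1
    · rw [h1]; norm_num
    · rw [(hpm _).resolve_left h1]; norm_num
  have hxφ : ∀ (x : T) (a : W₁) (b : W₂), (x : G) = a * b → x = (φ (a, b) : ↥T) := fun x a b hx => Subtype.ext hx
  refine ⟨⟨fun f g => μ (E f g), sgn, fun f g => hirr _, fun f g f' g' h => hEinj _ _ _ _ (hinj h), fun f => ?_,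
    fun f g x a b hb hx => ?_, fun f g k hk => ?_, fun f g => ?_, fun χ hχ hne x a b hb hx => ?_⟩⟩
  · simp only [sgn]; split_ifs <;> simp
  · rw [hxφ x a b hx, hval _ _ (hmemV a b hb), hsgn, hE, Units.val_mul, mul_assoc]
  · obtain ⟨hd, hi⟩ := hind (E f g) (E f 1) (hagree f g 1)
    have h0 : Cfsg.indFun W (fun w => ((E f g w : ℂˣ) : ℂ) - (E f 1 w : ℂ)) k = 0 := by
      refine indFun_eq_zero_of_not_conj _ _ fun y hy => ?_
      have hyK : y⁻¹ * k * y ∈ core T := by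
        have := (sigmaCore_subgroupOf_normal T).conj_mem k (mem_subgroupOf.2 hk) y⁻¹
        simpa [mul_assoc] using this
      have hy1 : (y⁻¹ * k * y) ∈ W₁.subgroupOf T := by
        obtain ⟨⟨a, b⟩, hab⟩ := hφ.2 ⟨_, hy⟩
        have hv : ((y⁻¹ * k * y : ↥T) : G) = (a : G) * b :=
          (congrArg (fun z : ↥W => ((z : ↥T) : G)) hab).symm.trans (hφv a b)
        have hb : (b : G) ∈ Cfsg.sigmaCore T :=
          ((Cfsg.sigmaCore T).mul_mem_cancel_left (h.le₁ a.2)).1 (hv ▸ mem_subgroupOf.1 hyK)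
        have hb1 : (b : G) = 1 := mem_bot.1 (h.compl.2.2.1 ▸ (⟨hb, b.2⟩ : (b : G) ∈ Cfsg.sigmaCore T ⊓ W₂))
        rw [hb1, mul_one] at hv
        exact mem_subgroupOf.2 (hv ▸ a.2)
      show ((E f g ⟨_, hy⟩ : ℂˣ) : ℂ) - _ = 0
      rw [hagree f g 1 ⟨_, hy⟩ hy1, sub_self]
    rw [hi, Pi.smul_apply, Pi.sub_apply, smul_eq_mul, mul_eq_zero, sub_eq_zero] at h0
    exact h0.resolve_left (by rcases hpm (E f g) with e | e <;> rw [e] <;> norm_num)
  · obtain ⟨n, hn⟩ := hdeg (E f g)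
    rw [hsgn, hT₂] at hn
    exact ⟨n, hn⟩
  · rw [hxφ x a b hx]
    exact hoth χ hχ (fun ω => by rw [← hEsurj ω]; exact hne _ _) _ (hmemV a b hb)

/-- An irreducible character of `T_σ` moved by `W₂` induces irreducibly. -/
theorem NonTwo.irr_ind [Fintype T] (h : NonTwo T W₁ W₂) [Fintype (core T)] {φ : core T → ℂ}
    (hφ : Cfsg.IsIrrCharacter (core T) φ)
    (hx : ∃ x ∈ W₂.subgroupOf T, Char.conjN (core T) x φ ≠ φ) :
    Cfsg.IsIrrCharacter T (Cfsg.indFun (core T) φ) := by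
  have hle₁T : W₁ ≤ T := h.le₁.trans h.core_le
  have hi₁ : core T ⊓ W₂.subgroupOf T = ⊥ := le_bot_iff.1 fun a ha => mem_bot.2 (Subtype.ext
    (mem_bot.1 (h.compl.2.2.1 ▸ (⟨mem_subgroupOf.1 ha.1, mem_subgroupOf.1 ha.2⟩ : (a : G) ∈ Cfsg.sigmaCore T ⊓ W₂))))
  have hi₂ : core T ⊔ W₂.subgroupOf T = ⊤ := top_unique fun t _ => by
    obtain ⟨a, ha, b, hb, e⟩ := h.compl.2.2.2 t t.2
    rw [show t = (⟨a, h.core_le ha⟩ : ↥T) * ⟨b, h.le₂ hb⟩ from Subtype.ext e]
    exact mul_mem_sup (mem_subgroupOf.2 ha) (mem_subgroupOf.2 hb)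
  have hT₂ := (Nat.card_congr (subgroupOfEquivOfLe h.le₂).toEquiv)
  haveI : IsCyclic W₁ := by haveI := Fact.mk h.prime₁; exact isCyclic_of_prime_card rfl
  haveI := h.cyclic₂
  exact (Cfsg.Agent.S1513.result (core T) (W₂.subgroupOf T) (W₁.subgroupOf T) hi₁ hi₂
    (fun e => h.ne (by rw [← Subgroup.map_subgroupOf_eq_of_le h.le₂, e, Subgroup.map_bot]))
    (isCyclic_of_surjective _ (subgroupOfEquivOfLe h.le₂).symm.surjective)
    (by
      rw [hT₂, show (W₂.subgroupOf T).index = Nat.card (Cfsg.sigmaCore T) from (complIn_relIndex h.compl).2]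
      exact h.coprime.symm)
    (fun e => h.prime₁.ne_one (by
      rw [← Nat.card_congr (subgroupOfEquivOfLe hle₁T).toEquiv, e, Subgroup.card_bot]))
    (isCyclic_of_surjective _ (subgroupOfEquivOfLe hle₁T).symm.surjective)
    (Subgroup.comap_mono h.le₁)
    (fun x hx hx1 => by
      ext a
      simp only [mem_inf, mem_subgroupOf, mem_centralizer_singleton_iff, Subtype.ext_iff, Subgroup.coe_mul]
      rw [← h.fix (mem_subgroupOf.1 hx) (fun e => hx1 (Subtype.ext e))]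
      simp only [mem_inf, mem_centralizer_singleton_iff])
    ((h.odd T).of_dvd_nat (Subgroup.card_subgroup_dvd_card _))).1 φ hφ hx

namespace Exc

variable [Fintype T] (X : Exc T W₁ W₂)

/-- An irreducible character with the values of an exceptional one is that one. -/
theorem eq_of_val (h : NonTwo T W₁ W₂) {χ : ↥T → ℂ} (hχ : Cfsg.IsIrrCharacter T χ) {δ : ℤ} (hδ : δ = 1 ∨ δ = -1)
    {f : ↥W₁ →* ℂˣ} {g : ↥W₂ →* ℂˣ}
    (hv : ∀ (x : T) (a : W₁) (b : W₂), b ≠ 1 → (x : G) = a * b → χ x = (δ : ℂ) * (f a : ℂ) * (g b : ℂ)) :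
    χ = X.mu f g ∧ X.sgn f = δ := by
  have hodd := h.odd W₂
  have hsq : ∀ b : W₂, b ≠ 1 → b * b ≠ 1 := fun b hb e => hb (by
    have h1 : orderOf b ∣ 2 := orderOf_dvd_of_pow_eq_one (by rw [pow_two]; exact e)
    rcases (Nat.dvd_prime Nat.prime_two).1 h1 with h2 | h2
    · exact orderOf_eq_one_iff.1 h2
    · exact absurd (hodd.of_dvd_nat (h2 ▸ orderOf_dvd_natCard b)) (by decide))
  have hmem : ∀ (a : W₁) (b : W₂), (a : G) * b ∈ T := fun a b =>
    mul_mem (h.core_le (h.le₁ a.2)) (h.le₂ b.2)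
  obtain ⟨b₀, hb₀⟩ : ∃ b : W₂, b ≠ 1 := by
    obtain ⟨b, hb, hb1⟩ := (bot_or_exists_ne_one W₂).resolve_left h.ne
    exact ⟨⟨b, hb⟩, fun e => hb1 (congrArg Subtype.val e)⟩
  have hδ0 : (δ : ℂ) ≠ 0 := by rcases hδ with rfl | rfl <;> norm_num
  obtain ⟨f', g', rfl⟩ : ∃ f' g', χ = X.mu f' g' := by
    by_contra hno
    push Not at hno
    have h1 := hv ⟨_, hmem 1 b₀⟩ 1 b₀ hb₀ rfl
    rw [X.others χ hχ hno ⟨_, hmem 1 b₀⟩ 1 b₀ hb₀ rfl] at h1
    exact mul_ne_zero (mul_ne_zero hδ0 (f 1).ne_zero) (g b₀).ne_zero h1.symm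
  have key : ∀ (a : W₁) (b : W₂), b ≠ 1 →
      (X.sgn f' : ℂ) * (f' a : ℂ) * (g' b : ℂ) = (δ : ℂ) * (f a : ℂ) * (g b : ℂ) := fun a b hb => by
    rw [← X.val f' g' ⟨_, hmem a b⟩ a b hb rfl, hv ⟨_, hmem a b⟩ a b hb rfl]
  have k1 : ∀ b : W₂, b ≠ 1 → (X.sgn f' : ℂ) * (g' b : ℂ) = (δ : ℂ) * (g b : ℂ) := fun b hb => by
    simpa using key 1 b hb
  have hs : (X.sgn f' : ℂ) = δ := by
    have h1 := k1 b₀ hb₀
    have h2 := k1 (b₀ * b₀) (hsq b₀ hb₀)
    simp only [map_mul, Units.val_mul] at h2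
    have hg : (g b₀ : ℂ) ≠ 0 := (g b₀).ne_zero
    have hs2 : (X.sgn f' : ℂ) * X.sgn f' = 1 := by rcases X.sgn_pm f' with e | e <;> rw [e] <;> norm_num
    have h3 : (δ : ℂ) * ((δ : ℂ) * ((g b₀ : ℂ) * g b₀)) = (X.sgn f' : ℂ) * ((δ : ℂ) * ((g b₀ : ℂ) * g b₀)) := by
      linear_combination (X.sgn f' : ℂ) * h2 - ((X.sgn f' : ℂ) * (g' b₀ : ℂ) + (δ : ℂ) * (g b₀ : ℂ)) * h1
    exact (mul_right_cancel₀ (mul_ne_zero hδ0 (mul_ne_zero hg hg)) h3).symm
  have hg : g' = g := MonoidHom.ext fun b => by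
    by_cases hb : b = 1
    · rw [hb, map_one, map_one]
    · have h1 := k1 b hb
      rw [hs] at h1
      exact Units.ext (mul_left_cancel₀ hδ0 h1)
  have hf : f' = f := MonoidHom.ext fun a => Units.ext (by
    have h1 := key a b₀ hb₀
    rw [hs, hg] at h1
    exact mul_left_cancel₀ hδ0 (mul_right_cancel₀ (g b₀).ne_zero h1))
  subst hg; subst hf
  exact ⟨rfl, by exact_mod_cast hs⟩

theorem one (h : NonTwo T W₁ W₂) : (X.mu 1 1 = fun _ => 1) ∧ X.sgn 1 = 1 := by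
  obtain ⟨h1, h2⟩ := X.eq_of_val h (χ := fun _ => 1) isIrr_one (δ := 1) (Or.inl rfl) (f := 1) (g := 1)
    (fun x a b _ _ => by simp)
  exact ⟨h1.symm, h2⟩

theorem one_res (h : NonTwo T W₁ W₂) (g : ↥W₂ →* ℂˣ) {k : T} (hk : (k : G) ∈ Cfsg.sigmaCore T) :
    X.mu 1 g k = 1 := by
  rw [X.res 1 g k hk, (X.one h).1]

/-- The character of `T_σ` under `mu f g`. -/
def theta (f : ↥W₁ →* ℂˣ) : core T → ℂ := fun k => X.mu f 1 k

theorem res_core (f : ↥W₁ →* ℂˣ) (g : ↥W₂ →* ℂˣ) : (fun k : core T => X.mu f g k) = X.theta f :=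
  funext fun k => X.res f g k (mem_subgroupOf.1 k.2)

theorem index_core (h : NonTwo T W₁ W₂) : (core T).index = Nat.card W₂ :=
  (complIn_relIndex h.compl).1

theorem card_dual₂ (h : NonTwo T W₁ W₂) [Fintype (↥W₂ →* ℂˣ)] : Fintype.card (↥W₂ →* ℂˣ) = Nat.card W₂ := by
  haveI := h.cyclic₂
  letI : CommGroup W₂ := IsCyclic.commGroup
  rw [← Nat.card_eq_fintype_card]
  exact CommGroup.card_monoidHom_of_hasEnoughRootsOfUnity W₂ ℂ

theorem finite_dual₂ (h : NonTwo T W₁ W₂) : Finite (↥W₂ →* ℂˣ) := by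
  haveI := h.cyclic₂
  letI : CommGroup W₂ := IsCyclic.commGroup
  exact Nat.finite_of_card_ne_zero
    (by rw [CommGroup.card_monoidHom_of_hasEnoughRootsOfUnity W₂ ℂ]; exact Nat.card_pos.ne')

theorem inner_mu (f f' : ↥W₁ →* ℂˣ) (g g' : ↥W₂ →* ℂˣ) :
    Cfsg.classInner (X.mu f g) (X.mu f' g') = if f = f' ∧ g = g' then 1 else 0 := by
  split_ifs with e
  · rw [e.1, e.2, classInner_self_irr (X.irr f' g')]
  · exact classInner_irr_ne (X.irr f g) (X.irr f' g') fun e' => e (X.inj _ _ _ _ e')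

/-- The restrictions are irreducible, and induce to the sum of their exceptional characters. -/
theorem theta_spec (h : NonTwo T W₁ W₂) [Fintype (core T)] [Fintype (↥W₂ →* ℂˣ)] (f : ↥W₁ →* ℂˣ) :
    Cfsg.IsIrrCharacter (core T) (X.theta f) ∧ Cfsg.indFun (core T) (X.theta f) = ∑ g, X.mu f g := by
  classical
  obtain ⟨φ, hφ⟩ := Cfsg.Agent.Block.exists_constituent_res (N := core T) (⟨_, X.irr f 1⟩ : Cfsg.IrrCharacter T)
  change Cfsg.classInner (X.theta f) (φ : core T → ℂ) ≠ 0 at hφ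
  have hR : Cfsg.IsCharacter (core T) (X.theta f) := IsChar.res (IsIrr.isCharacter (X.irr f 1)) (core T)
  have hI : Cfsg.IsCharacter T (Cfsg.indFun (core T) (φ : core T → ℂ)) :=
    isCharacter_indFun _ (IsIrr.isCharacter φ.2)
  obtain ⟨c, hc⟩ := IsChar.classInner_nat hR (IsIrr.isCharacter φ.2)
  obtain ⟨a, ha, hda⟩ := IsChar.exists_decomp_inner hR
  obtain ⟨b, hb, hdb⟩ := IsChar.exists_decomp_inner hI
  have hc0 : 0 < c := Nat.pos_of_ne_zero fun e => hφ (by rw [hc, e, Nat.cast_zero])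
  obtain ⟨r, hr0, hr⟩ := IsIrr.one_eq_pos (X.irr f 1)
  obtain ⟨m, hm0, hm⟩ := IsIrr.one_eq_pos φ.2
  have hac : a φ = c := by exact_mod_cast (ha φ).symm.trans hc
  have hR1 : X.theta f 1 = (r : ℂ) := hr
  have hle1 : c * m ≤ r := by
    have e := congrFun hda 1
    simp only [Finset.sum_apply, Pi.smul_apply, smul_eq_mul] at e
    have e' : (r : ℂ) = ((∑ ψ : Cfsg.IrrCharacter (core T), a ψ * KerSets.dg (ψ : core T → ℂ) : ℕ) : ℂ) := by
      rw [← hR1, e]; push_cast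
      exact Finset.sum_congr rfl fun ψ _ => by rw [← KerSets.dg_spec ψ.2]
    rw [Nat.cast_injective e', show c * m = a φ * KerSets.dg (φ : core T → ℂ) by
      rw [hac, show KerSets.dg (φ : core T → ℂ) = m from Nat.cast_injective ((KerSets.dg_spec φ.2).symm.trans hm)]]
    exact Finset.single_le_sum (f := fun ψ => a ψ * KerSets.dg (ψ : core T → ℂ)) (fun _ _ => Nat.zero_le _)
      (Finset.mem_univ φ)
  let M : (↥W₂ →* ℂˣ) → Cfsg.IrrCharacter T := fun g => ⟨X.mu f g, X.irr f g⟩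
  have hM : Function.Injective M := fun g g' e => (X.inj _ _ _ _ (congrArg Subtype.val e)).2
  have hbM : ∀ g, b (M g) = c := fun g => by
    have := hb (M g)
    rw [classInner_indFun _ _ (IsIrr.classFun (X.irr f g)), X.res_core, ← classInner_conj_symm, hc, map_natCast] at this
    exact_mod_cast this.symm
  have hdgM : ∀ g, KerSets.dg (M g : T → ℂ) = r := fun g => by
    refine Nat.cast_injective (R := ℂ) ?_
    rw [← KerSets.dg_spec (M g).2, ← hr]
    exact X.res f g 1 (by simp)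
  have hind1 : ((∑ ψ : Cfsg.IrrCharacter T, b ψ * KerSets.dg (ψ : T → ℂ) : ℕ) : ℂ) = (Nat.card W₂ : ℂ) * m := by
    have e := congrFun hdb 1
    simp only [Finset.sum_apply, Pi.smul_apply, smul_eq_mul, indFun_one_eq, hm, index_core h] at e
    rw [e]; push_cast
    exact Finset.sum_congr rfl fun ψ _ => by rw [← KerSets.dg_spec ψ.2]
  have hsumM : ∑ ψ ∈ Finset.univ.image M, b ψ * KerSets.dg (ψ : T → ℂ) = Nat.card W₂ * (c * r) := by
    rw [Finset.sum_image fun g _ g' _ e => hM e]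
    simp only [hbM, hdgM, Finset.sum_const, Finset.card_univ, smul_eq_mul, card_dual₂ h]
  have hle2 : Nat.card W₂ * (c * r) ≤ Nat.card W₂ * m := by
    rw [← hsumM, show Nat.card W₂ * m = ∑ ψ : Cfsg.IrrCharacter T, b ψ * KerSets.dg (ψ : T → ℂ) from
      (Nat.cast_injective (R := ℂ) (hind1.trans (Nat.cast_mul _ _).symm)).symm]
    exact Finset.sum_le_sum_of_subset (Finset.subset_univ _)
  have hle3 : c * r ≤ m := Nat.le_of_mul_le_mul_left hle2 Nat.card_pos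
  have hc1 : c = 1 := by
    have : c * (c * m) ≤ 1 * m := by rw [one_mul]; exact (Nat.mul_le_mul_left c hle1).trans hle3
    rw [← mul_assoc] at this
    have := Nat.le_of_mul_le_mul_right this hm0
    nlinarith
  subst hc1
  have hrm : r = m := le_antisymm (by simpa using hle3) (by simpa using hle1)
  have hθ : X.theta f = (φ : core T → ℂ) := by
    rw [hda, Finset.sum_eq_single φ]
    · rw [hac, Nat.cast_one, one_smul]
    · intro ψ _ hne
      have e := congrFun hda 1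
      simp only [Finset.sum_apply, Pi.smul_apply, smul_eq_mul] at e
      have e' : ((∑ ψ : Cfsg.IrrCharacter (core T), a ψ * KerSets.dg (ψ : core T → ℂ) : ℕ) : ℂ) = (m : ℂ) := by
        rw [← hrm, ← hR1, e]; push_cast
        exact Finset.sum_congr rfl fun ψ _ => by rw [← KerSets.dg_spec ψ.2]
      have e2 := Nat.cast_injective e'
      rw [← Finset.add_sum_erase _ _ (Finset.mem_univ φ), hac, one_mul,
        show KerSets.dg (φ : core T → ℂ) = m from Nat.cast_injective ((KerSets.dg_spec φ.2).symm.trans hm)] at e2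
      have e3 := (Finset.sum_eq_zero_iff_of_nonneg fun _ _ => Nat.zero_le _).1 (by omega :
        ∑ ψ ∈ Finset.univ.erase φ, a ψ * KerSets.dg (ψ : core T → ℂ) = 0) ψ (Finset.mem_erase.2 ⟨hne, Finset.mem_univ _⟩)
      rw [(mul_eq_zero.1 e3).resolve_right (KerSets.dg_pos ψ.2).ne', Nat.cast_zero, zero_smul]
    · exact fun hh => absurd (Finset.mem_univ _) hh
  refine ⟨hθ ▸ φ.2, ?_⟩
  rw [hθ, hdb]
  rw [← Finset.sum_sdiff (Finset.subset_univ (Finset.univ.image M)), Finset.sum_eq_zero, zero_add,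
    Finset.sum_image fun g _ g' _ e => hM e]
  · exact Finset.sum_congr rfl fun g _ => by rw [hbM, Nat.cast_one, one_smul]
  · intro ψ hψ
    have e2 : ∑ ψ : Cfsg.IrrCharacter T, b ψ * KerSets.dg (ψ : T → ℂ) = Nat.card W₂ * m :=
      Nat.cast_injective (R := ℂ) (hind1.trans (Nat.cast_mul _ _).symm)
    rw [← Finset.sum_sdiff (Finset.subset_univ (Finset.univ.image M)), hsumM, one_mul, hrm] at e2
    have e3 := (Finset.sum_eq_zero_iff_of_nonneg fun _ _ => Nat.zero_le _).1 (by omega :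
      ∑ ψ ∈ Finset.univ \ Finset.univ.image M, b ψ * KerSets.dg (ψ : T → ℂ) = 0) ψ hψ
    rw [(mul_eq_zero.1 e3).resolve_right (KerSets.dg_pos ψ.2).ne', Nat.cast_zero, zero_smul]

theorem theta_norm (h : NonTwo T W₁ W₂) [Fintype (core T)] (f : ↥W₁ →* ℂˣ) :
    Cfsg.classInner (Cfsg.indFun (core T) (X.theta f)) (Cfsg.indFun (core T) (X.theta f)) = (Nat.card W₂ : ℂ) := by
  haveI := finite_dual₂ h
  letI := Fintype.ofFinite (↥W₂ →* ℂˣ)
  rw [(X.theta_spec h f).2, classInner_sum_left, ← card_dual₂ h, ← Finset.card_univ, ← nsmul_one, ← Finset.sum_const]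
  refine Finset.sum_congr rfl fun g _ => ?_
  rw [classInner_sum_right, Finset.sum_eq_single g]
  · rw [X.inner_mu, if_pos ⟨rfl, rfl⟩]
  · exact fun g' _ hne => by rw [X.inner_mu, if_neg fun e => hne e.2.symm]
  · exact fun hh => absurd (Finset.mem_univ _) hh

theorem theta_inj (h : NonTwo T W₁ W₂) [Fintype (core T)] : Function.Injective X.theta := by
  intro f f' e
  haveI := finite_dual₂ h
  letI := Fintype.ofFinite (↥W₂ →* ℂˣ)
  have h1 := (X.theta_spec h f).2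
  rw [e, (X.theta_spec h f').2] at h1
  by_contra hne
  have h2 := congrArg (fun F => Cfsg.classInner F (X.mu f' 1)) h1
  simp only [classInner_sum_left, X.inner_mu] at h2
  rw [Finset.sum_eq_single (1 : ↥W₂ →* ℂˣ) (fun g _ hg => if_neg fun e => hg e.2)
    (fun hh => absurd (Finset.mem_univ _) hh), if_pos (by simp),
    Finset.sum_eq_zero fun g _ => if_neg fun e => hne (by simpa using e.1)] at h2
  exact one_ne_zero h2

theorem theta_one (h : NonTwo T W₁ W₂) : X.theta 1 = fun _ => 1 := funext fun _ => congrFun (X.one h).1 _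

theorem theta_fixed (h : NonTwo T W₁ W₂) [Fintype (core T)] {f : ↥W₁ →* ℂˣ} (hf : f ≠ 1) :
    IsFixedChar T W₂ (X.theta f) := by
  haveI := finite_dual₂ h
  letI := Fintype.ofFinite (↥W₂ →* ℂˣ)
  refine ⟨(X.theta_spec h f).1, fun e => hf (X.theta_inj h (e.trans (X.theta_one h).symm)), fun x _ => ?_⟩
  exact conjN_res (core T) (IsIrr.classFun (X.irr f 1)) x

/-- Every fixed character lies under an exceptional one. -/
theorem exists_theta (h : NonTwo T W₁ W₂) [Fintype (core T)] {θ : core T → ℂ} (hθ : IsFixedChar T W₂ θ) :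
    ∃ f, f ≠ 1 ∧ θ = X.theta f := by
  classical
  haveI : IsCyclic W₁ := by haveI := Fact.mk h.prime₁; exact isCyclic_of_prime_card rfl
  letI : CommGroup W₁ := IsCyclic.commGroup
  have hd : Nat.card (↥W₁ →* ℂˣ) = Nat.card W₁ := CommGroup.card_monoidHom_of_hasEnoughRootsOfUnity W₁ ℂ
  haveI : Finite (↥W₁ →* ℂˣ) := Nat.finite_of_card_ne_zero (by rw [hd]; exact Nat.card_pos.ne')
  letI := Fintype.ofFinite (↥W₁ →* ℂˣ)
  let F : {f : ↥W₁ →* ℂˣ // f ≠ 1} → {θ : core T → ℂ // IsFixedChar T W₂ θ} :=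
    fun f => ⟨X.theta f.1, X.theta_fixed h f.2⟩
  have hF : Function.Injective F := fun a b e => Subtype.ext (X.theta_inj h (congrArg Subtype.val e))
  have hcard : Nat.card {f : ↥W₁ →* ℂˣ // f ≠ 1} = Nat.card {θ : core T → ℂ // IsFixedChar T W₂ θ} := by
    have h1 := h.card_fixed
    have h2 : Nat.card {f : ↥W₁ →* ℂˣ // f ≠ 1} + 1 = Nat.card W₁ := by
      rw [← hd, Nat.card_eq_fintype_card, Nat.card_eq_fintype_card, Fintype.card_subtype_compl,
        Fintype.card_subtype_eq, Nat.sub_add_cancel Fintype.card_pos]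
    exact Nat.succ_injective (h2.trans h1.symm)
  haveI : Finite {θ : core T → ℂ // IsFixedChar T W₂ θ} := Finite.of_injective
    (fun θ => (⟨θ.1, θ.2.1⟩ : Cfsg.IrrCharacter (core T))) fun a b e =>
      Subtype.ext (congrArg (fun z : Cfsg.IrrCharacter (core T) => z.1) e)
  obtain ⟨f, hf⟩ := (hF.bijective_of_nat_card_le hcard.ge).2 ⟨θ, hθ⟩
  exact ⟨f.1, f.2, (congrArg Subtype.val hf).symm⟩

/-- An irreducible character of `T_σ` is fixed or induces irreducibly. -/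
theorem norm_cases (h : NonTwo T W₁ W₂) [Fintype (core T)] {φ : core T → ℂ} (hφ : Cfsg.IsIrrCharacter (core T) φ) :
    Cfsg.classInner (Cfsg.indFun (core T) φ) (Cfsg.indFun (core T) φ) = 1 ∨ ∃ f, φ = X.theta f := by
  classical
  by_cases hfix : ∀ x : ↥T, (x : G) ∈ W₂ → Char.conjN (core T) x φ = φ
  · refine Or.inr ?_
    by_cases h1 : φ = fun _ => 1
    · exact ⟨1, by rw [h1, X.theta_one h]⟩
    · obtain ⟨f, -, hf⟩ := X.exists_theta h ⟨hφ, h1, hfix⟩
      exact ⟨f, hf⟩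
  · push Not at hfix
    obtain ⟨x, hx, hne⟩ := hfix
    refine Or.inl (classInner_self_irr (h.irr_ind hφ ⟨x, mem_subgroupOf.2 hx, ?_⟩))
    exact hne

/-- The degree of a fixed character. -/
theorem theta_deg (h : NonTwo T W₁ W₂) [Fintype (core T)] {f : ↥W₁ →* ℂˣ} (hf : f ≠ 1) :
    ∃ m : ℕ, X.theta f 1 = (m : ℂ) ∧ 3 ≤ m ∧ Odd m ∧ 2 * Nat.card W₂ ≤ m + 1 ∧
      ∃ k : ℤ, (m : ℤ) = X.sgn f + k * Nat.card W₂ := by
  haveI := finite_dual₂ h
  letI := Fintype.ofFinite (↥W₂ →* ℂˣ)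
  have hirr := (X.theta_spec h f).1
  obtain ⟨m, hm0, hm⟩ := IsIrr.one_eq_pos hirr
  have hodd : Odd m := by
    have hd := IsIrr.degree_dvd_card hirr hm
    rw [Nat.card_congr (subgroupOfEquivOfLe h.core_le).toEquiv] at hd
    exact (h.odd (Cfsg.sigmaCore T)).of_dvd_nat hd
  obtain ⟨k, hk⟩ := X.deg f 1
  rw [show X.mu f 1 1 = (m : ℂ) from hm] at hk
  have hk' : (m : ℤ) = X.sgn f + k * Nat.card W₂ := by
    have h1 : ((m : ℤ) : ℂ) = ((X.sgn f + k * Nat.card W₂ : ℤ) : ℂ) := by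
      push_cast; linear_combination hk
    exact_mod_cast h1
  have hm1 : m ≠ 1 := by
    rintro rfl
    obtain ⟨l, hl⟩ := linearHom_of_isCharacter (IsIrr.isCharacter (X.irr f 1))
      (show X.mu f 1 1 = 1 by rw [show X.mu f 1 1 = ((1 : ℕ) : ℂ) from hm, Nat.cast_one])
    obtain ⟨b, hb, hb1⟩ := (bot_or_exists_ne_one W₂).resolve_left h.ne
    have hb' : (⟨b, hb⟩ : W₂) ≠ 1 := fun e => hb1 (congrArg Subtype.val e)
    have key : ∀ a : W₁, (l ⟨(a : G) * b, mul_mem (h.core_le (h.le₁ a.2)) (h.le₂ hb)⟩ : ℂ) =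
        (l ⟨b, h.le₂ hb⟩ : ℂ) := by
      intro a
      have ha : (⟨a, h.core_le (h.le₁ a.2)⟩ : T) ∈ commutator T := by
        have h1 : (a : G) ∈ (⁅core T, core T⁆ : Subgroup T).map T.subtype := by
          rw [Subgroup.map_commutator, Subgroup.map_subgroupOf_eq_of_le h.core_le]
          exact h.le₁_derived a.2
        obtain ⟨y, hy, e⟩ := h1
        rw [show (⟨a, h.core_le (h.le₁ a.2)⟩ : T) = y from Subtype.ext e.symm]
        exact Subgroup.commutator_mono le_top le_top hy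
      rw [show (⟨(a : G) * b, mul_mem (h.core_le (h.le₁ a.2)) (h.le₂ hb)⟩ : T) =
        ⟨a, h.core_le (h.le₁ a.2)⟩ * ⟨b, h.le₂ hb⟩ from rfl, map_mul, OneSeen.lin_eq_one l ha, one_mul]
    refine hf (MonoidHom.ext fun a => Units.ext ?_)
    have v1 := X.val f 1 ⟨(a : G) * b, mul_mem (h.core_le (h.le₁ a.2)) (h.le₂ hb)⟩ a ⟨b, hb⟩ hb' rfl
    have v2 := X.val f 1 ⟨((1 : W₁) : G) * b, mul_mem (h.core_le (h.le₁ (1 : W₁).2)) (h.le₂ hb)⟩ 1 ⟨b, hb⟩ hb' rfl
    simp only [congrFun hl, key, map_one, Units.val_one, mul_one, MonoidHom.one_apply] at v1 v2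
    have hs : (X.sgn f : ℂ) ≠ 0 := by rcases X.sgn_pm f with e | e <;> rw [e] <;> norm_num
    exact mul_left_cancel₀ hs (by rw [← v1, v2, MonoidHom.one_apply, Units.val_one, mul_one])
  obtain ⟨j, hj⟩ := hodd
  have hw3 : 3 ≤ Nat.card W₂ := by
    have h1 := h.card₂_ne_one
    obtain ⟨i, hi⟩ := h.odd W₂
    omega
  refine ⟨m, hm, by omega, ⟨j, hj⟩, ?_, k, hk'⟩
  by_contra hlt
  push Not at hlt
  have hw : (3 : ℤ) ≤ Nat.card W₂ := by exact_mod_cast hw3
  have hlt' : (m : ℤ) + 1 < 2 * Nat.card W₂ := by exact_mod_cast hlt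
  have hm3 : (3 : ℤ) ≤ m := by
    have : 3 ≤ m := by omega
    exact_mod_cast this
  have hk0 : 0 < k := by
    rcases X.sgn_pm f with e | e <;> rw [e] at hk' <;>
    · by_contra hk0; push Not at hk0; nlinarith
  have hk2 : k < 2 := by
    rcases X.sgn_pm f with e | e <;> rw [e] at hk' <;>
    · by_contra hk2; push Not at hk2; nlinarith
  obtain rfl : k = 1 := by omega
  obtain ⟨i, hi⟩ := h.odd W₂
  rcases X.sgn_pm f with e | e <;> rw [e, one_mul] at hk' <;> omega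

end Exc

end Cfsg.Agent.Grp.FT
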