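import Cfsg.Agent.Lib.Grp.FT.NonTwoChar
import Cfsg.Agent.Lib.Char.TypeICoherence
import Cfsg.Agent.Lib.Char.CohDescent
import Cfsg.Agent.Lib.Char.ExtendMain
import Cfsg.Agent.Lib.Block.Covering
import Cfsg.Agent.Lib.Grp.Cores
import Cfsg.Agent.Lib.Grp.Frattini
import Cfsg.Agent.S1383

/-!
`T` of type V: the three possibilities.
-/

set_option autoImplicit false
set_option linter.unusedSectionVars false
set_option linter.style.haveILetI false
set_option maxHeartbeats 1000000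

namespace Cfsg.Agent.Grp.FT

open Subgroup Cfsg.Agent.Transfer Cfsg.Agent.Transfer.Loc Cfsg.Agent.Char
open scoped commutatorElement

universe u

/-- A finite nilpotent group whose `r'`-core is cyclic. -/
theorem pCore_facts {X : Type u} [Group X] [Finite X] (hX : Group.IsNilpotent X) {r : ℕ} [hr : Fact r.Prime]
    (hc : IsCyclic (Cfsg.pPrimeCore r X)) :
    commutator X ≤ Cfsg.pCore r X ∧ commutator X = ⁅Cfsg.pCore r X, Cfsg.pCore r X⁆ ∧
      Cfsg.pPrimeCore r X ≤ center X ∧ Cfsg.pCore r X ⊔ Cfsg.pPrimeCore r X = ⊤ := by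
  haveI := Grp.pCore_isNormal (p := r) (G := X)
  haveI := Grp.pPrimeCore_isNormal (p := r) (G := X)
  set R := Cfsg.pCore r X with hR
  set Y := Cfsg.pPrimeCore r X with hY
  have htop : R ⊔ Y = ⊤ := by
    haveI := hX
    have hF : Cfsg.fittingSubgroup X = ⊤ :=
      top_unique (Grp.le_fittingSubgroup inferInstance (Grp.isNilpotent_of_le le_rfl inferInstance))
    refine top_unique ?_
    rw [← hF, Grp.fittingSubgroup_eq_iSup_pCore]
    refine iSup_le fun p => ?_
    haveI := Fact.mk p.2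
    by_cases hpr : (p : ℕ) = r
    · rw [hpr]; exact le_sup_left
    · refine le_trans (Grp.le_pPrimeCore Grp.pCore_isNormal ?_) le_sup_right
      obtain ⟨i, hi⟩ := IsPGroup.iff_card.1 (Grp.pCore_isPGroup (p := (p : ℕ)) (G := X))
      rw [hi]
      exact ((Nat.coprime_primes p.2 hr.out).2 hpr).pow_left i
  have hcop : (Nat.card R).Coprime (Nat.card Y) := by
    obtain ⟨i, hi⟩ := IsPGroup.iff_card.1 (Grp.pCore_isPGroup (p := r) (G := X))
    rw [hi]
    exact (Grp.pPrimeCore_coprime (p := r) (G := X)).symm.pow_left i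
  have hRY : R ≤ centralizer (Y : Set X) := Grp.commute_of_coprime_normal hcop
  have hYc : ∀ a ∈ Y, ∀ b ∈ Y, a * b = b * a := fun a ha b hb => by
    haveI := hc
    letI := IsCyclic.commGroup (α := Y)
    exact congrArg Subtype.val (mul_comm (⟨a, ha⟩ : Y) ⟨b, hb⟩)
  have hdec : ∀ x : X, ∃ a ∈ R, ∃ b ∈ Y, x = a * b := fun x => by
    have h1 : x ∈ R ⊔ Y := htop ▸ mem_top x
    rw [← SetLike.mem_coe, Subgroup.coe_mul_of_left_le_normalizer_right R Y (le_normalizer_of_normal)] at h1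
    obtain ⟨a, ha, b, hb, e⟩ := h1
    exact ⟨a, ha, b, hb, e.symm⟩
  have hYz : Y ≤ center X := fun y hy => mem_center_iff.2 fun x => by
    obtain ⟨a, ha, b, hb, rfl⟩ := hdec x
    rw [mul_assoc, hYc b hb y hy, ← mul_assoc, ← mem_centralizer_iff.1 (hRY ha) y hy, mul_assoc]
  have heq : commutator X = ⁅R, R⁆ := by
    refine le_antisymm ?_ (by rw [commutator_def]; exact commutator_mono le_top le_top)
    rw [commutator_def, commutator_le]
    intro x _ y _
    obtain ⟨a, ha, b, hb, rfl⟩ := hdec x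
    obtain ⟨c, hc', d, hd, rfl⟩ := hdec y
    have hb' : b ∈ center X := hYz hb
    have hd' : d ∈ center X := hYz hd
    rw [show ⁅a * b, c * d⁆ = ⁅a, c⁆ by
      simp only [commutatorElement_def]
      rw [show a * b * (c * d) = a * c * (b * d) by
        rw [mul_assoc, ← mul_assoc b c, ← mem_center_iff.1 hb' c, mul_assoc, ← mul_assoc],
        mul_inv_rev, mul_inv_rev]
      have e1 : ∀ z, b * d * z = z * (b * d) := fun z => (mem_center_iff.1 (mul_mem hb' hd') z).symm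
      calc a * c * (b * d) * (b⁻¹ * a⁻¹) * (d⁻¹ * c⁻¹)
          = a * c * ((b * d) * (b⁻¹ * a⁻¹ * d⁻¹)) * c⁻¹ := by group
        _ = a * c * (b⁻¹ * a⁻¹ * d⁻¹ * (b * d)) * c⁻¹ := by rw [e1]
        _ = a * c * (b⁻¹ * (a⁻¹ * (d⁻¹ * b * d))) * c⁻¹ := by group
        _ = a * c * (b⁻¹ * (a⁻¹ * b)) * c⁻¹ := by
          rw [show d⁻¹ * b * d = b by rw [mul_assoc, mem_center_iff.1 hd' b, inv_mul_cancel_left]]
        _ = a * c * a⁻¹ * c⁻¹ := by rw [mem_center_iff.1 hb' a⁻¹, inv_mul_cancel_left]]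
    exact commutator_mem_commutator ha hc'
  exact ⟨heq.le.trans R.commutator_le_self, heq, hYz, htop⟩

variable {G : Type u} [Group G] [Finite G]

namespace NonTwo

variable {T W₁ W₂ : Subgroup G} (h : NonTwo T W₁ W₂)
include h

/-- A fixed character is not linear when `T'' = W₁`. -/
theorem fixed_ne_linear (hder : ⁅Cfsg.sigmaCore T, Cfsg.sigmaCore T⁆ = W₁)
    {θ : ↥((Cfsg.sigmaCore T).subgroupOf T) → ℂ} (hθ : IsFixedChar T W₂ θ) : θ 1 ≠ 1 := by
  intro h1
  obtain ⟨l, hl⟩ := linearHom_of_isCharacter (IsIrr.isCharacter hθ.1) h1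
  let K' := (Cfsg.sigmaCore T).subgroupOf T
  obtain ⟨x₀, hx₀, hx₀1⟩ := (bot_or_exists_ne_one W₂).resolve_left h.ne
  -- the kernel, as a subgroup of `G`
  let N : Subgroup G := (l.ker.map K'.subtype).map T.subtype
  have hmemN : ∀ {g : G} (hg : g ∈ Cfsg.sigmaCore T),
      l ⟨⟨g, h.core_le hg⟩, mem_subgroupOf.2 hg⟩ = 1 → g ∈ N := fun hg he =>
    ⟨_, ⟨_, MonoidHom.mem_ker.2 he, rfl⟩, rfl⟩
  have hW : W₁ ≤ N := by
    rw [← hder, commutator_le]
    intro a ha b hb
    refine hmemN (mul_mem (mul_mem (mul_mem ha hb) (inv_mem ha)) (inv_mem hb)) ?_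
    have e : (⟨⟨⁅a, b⁆, h.core_le (mul_mem (mul_mem (mul_mem ha hb) (inv_mem ha)) (inv_mem hb))⟩,
        mem_subgroupOf.2 (mul_mem (mul_mem (mul_mem ha hb) (inv_mem ha)) (inv_mem hb))⟩ : K') =
        ⁅(⟨⟨a, h.core_le ha⟩, mem_subgroupOf.2 ha⟩ : K'), (⟨⟨b, h.core_le hb⟩, mem_subgroupOf.2 hb⟩ : K')⁆ := by
      apply Subtype.ext; apply Subtype.ext; simp [commutatorElement_def]
    rw [e, map_commutatorElement]
    exact commutatorElement_eq_one_iff_mul_comm.2 (mul_comm _ _)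
  have hcW : Cfsg.sigmaCore T ⊓ centralizer (W₂ : Set G) ≤ N := by
    refine le_trans ?_ hW
    exact h.star.le
  have hcom : ⁅Cfsg.sigmaCore T, W₂⁆ ≤ N := by
    rw [commutator_le]
    intro a ha x hx
    have hxa : x * a⁻¹ * x⁻¹ ∈ Cfsg.sigmaCore T :=
      Grp.mem_conj_normalizer (h.le_normalizer_core (h.le₂ hx)) (inv_mem ha)
    have hmem : ⁅a, x⁆ ∈ Cfsg.sigmaCore T := by
      have := mul_mem ha hxa
      simpa [commutatorElement_def, mul_assoc] using this
    refine hmemN hmem ?_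
    let a' : K' := ⟨⟨a, h.core_le ha⟩, mem_subgroupOf.2 ha⟩
    have h3 := congrFun (hθ.2.2 ⟨x, h.le₂ hx⟩ hx) a'⁻¹
    rw [conjN_apply, hl] at h3
    have h4 := Units.val_injective h3
    rw [show (⟨⟨⁅a, x⁆, h.core_le hmem⟩, mem_subgroupOf.2 hmem⟩ : K') =
      a' * ⟨(⟨x, h.le₂ hx⟩ : ↥T) * (a'⁻¹ : K') * (⟨x, h.le₂ hx⟩ : ↥T)⁻¹,
        (sigmaCore_subgroupOf_normal T).conj_mem _ (a'⁻¹).2 _⟩ by
      apply Subtype.ext; apply Subtype.ext; simp [a', commutatorElement_def, mul_assoc],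
      map_mul, h4, map_inv, mul_inv_cancel]
  refine hθ.2.1 (funext fun k => ?_)
  have hk : ((k : ↥T) : G) ∈ N := by
    haveI := h.cyclic₂
    haveI : Group.IsSolvable W₂ := by
      letI := IsCyclic.commGroup (α := W₂)
      infer_instance
    refine sup_le hcom hcW ?_
    rw [Grp.commutator_sup_fixed W₂ (Cfsg.sigmaCore T) (h.le₂.trans h.le_normalizer_core) h.coprime.symm
      (Or.inl inferInstance)]
    exact mem_subgroupOf.1 k.2
  obtain ⟨_, ⟨y, hy, rfl⟩, e⟩ := hk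
  obtain rfl : y = k := Subtype.ext (Subtype.ext e)
  rw [hl]
  show ((l y : ℂˣ) : ℂ) = 1
  rw [MonoidHom.mem_ker.1 hy, Units.val_one]

/-- A fixed character has degree `q` when `T'' = W₁` and the centre of `T'` has index dividing `q²`. -/
theorem fixed_degree (hder : ⁅Cfsg.sigmaCore T, Cfsg.sigmaCore T⁆ = W₁)
    (hZ : (center ↥(Cfsg.sigmaCore T)).index ∣ Nat.card W₁ ^ 2)
    {θ : ↥((Cfsg.sigmaCore T).subgroupOf T) → ℂ} (hθ : IsFixedChar T W₂ θ) : θ 1 = (Nat.card W₁ : ℂ) := by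
  classical
  set X := ↥(Cfsg.sigmaCore T)
  letI : Fintype X := Fintype.ofFinite X
  let e : X ≃* ↥((Cfsg.sigmaCore T).subgroupOf T) := (subgroupOfEquivOfLe h.core_le).symm
  set φ : X → ℂ := fun x => θ (e x) with hφdef
  have hφ : Cfsg.IsIrrCharacter X φ := IsIrr.comp_mulEquiv e hθ.1
  have hφ1 : φ 1 = θ 1 := by simp [hφdef]
  letI : Fintype (center X) := Fintype.ofFinite _
  obtain ⟨η, hη⟩ := Cfsg.Agent.Block.exists_constituent_res (N := center X) (⟨φ, hφ⟩ : Cfsg.IrrCharacter X)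
  obtain ⟨k, hk, hkd⟩ := Ext.ratio_dvd_index' hφ η.2 hη
  rw [IsIrr.one_of_comm (fun a b => Subtype.ext (mem_center_iff.1 b.2 a)) η.2, mul_one, hφ1] at hk
  have hk2 := Cfsg.Agent.Char.Descent.sq_le_index (center X) hφ (n := k) (hφ1.trans hk) fun z hz g => by
    rw [show z * g * z⁻¹ * g⁻¹ = 1 by rw [← mem_center_iff.1 hz g, mul_inv_cancel_right, mul_inv_cancel]]
  have hq := h.prime₁
  have hle : (center X).index ≤ Nat.card W₁ ^ 2 := Nat.le_of_dvd (pow_pos hq.pos 2) hZ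
  obtain ⟨i, -, rfl⟩ := (Nat.dvd_prime_pow hq).1 (hkd.trans hZ)
  have hi : i ≤ 1 := by
    by_contra hi
    have h1 : (Nat.card W₁ ^ 2) ^ 2 ≤ (Nat.card W₁ ^ i) ^ 2 :=
      Nat.pow_le_pow_left (Nat.pow_le_pow_right hq.pos (by omega)) 2
    have h2 : Nat.card W₁ ^ 2 < (Nat.card W₁ ^ 2) ^ 2 := by
      rw [← pow_mul]; exact Nat.pow_lt_pow_right hq.one_lt (by norm_num)
    omega
  interval_cases i
  · exact absurd (by simpa using hk) (h.fixed_ne_linear hder hθ)
  · simpa using hk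

/-- The three possibilities in type V. -/
theorem five (heq : Cfsg.fittingHallOf T = Cfsg.sigmaCore T) :
    Cfsg.IsTISubset (Cfsg.sigmaCore T : Set G) ∨
    (Nat.card W₂ ∣ Nat.card W₁ - 1 ∧
      Nat.card W₁ ^ 2 ≤ ⁅Cfsg.sigmaCore T, Cfsg.sigmaCore T⁆.relIndex (Cfsg.sigmaCore T)) ∨
    (5 ≤ Nat.card W₁ ∧ Nat.card W₂ ∣ Nat.card W₁ + 1 ∧
      Nat.card W₁ ^ 2 ∣ ⁅Cfsg.sigmaCore T, Cfsg.sigmaCore T⁆.relIndex (Cfsg.sigmaCore T) ∧
      ⁅Cfsg.sigmaCore T, Cfsg.sigmaCore T⁆ = W₁ ∧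
      ∀ θ, IsFixedChar T W₂ θ → θ 1 = (Nat.card W₁ : ℂ)) := by
  classical
  obtain ⟨V₁, V, V₂, hP, -, hcases⟩ :=
    (Cfsg.Agent.S1383.result h.hG T h.hT W₂ ⊥ h.dec).2 ⟨h.ne, rfl, heq⟩
  have hcard : Nat.card V₁ = Nat.card W₂ := by
    rw [← (complIn_relIndex hP.W₁_compl).1, h.derived]
    exact (complIn_relIndex h.compl).1
  rcases hcases with hTI | hrest
  · exact Or.inl (heq ▸ hTI)
  refine Or.inr ?_
  rw [hcard] at hrest
  set X := ↥(Cfsg.sigmaCore T)
  have hnil : Group.IsNilpotent X := by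
    have := fittingHallOf_nilpotent T
    rwa [heq] at this
  have hcomm : (commutator X).map (Cfsg.sigmaCore T).subtype = ⁅Cfsg.sigmaCore T, Cfsg.sigmaCore T⁆ :=
    Subgroup.map_subtype_commutator _
  have hkn : ⁅Cfsg.sigmaCore T, Cfsg.sigmaCore T⁆.relIndex (Cfsg.sigmaCore T) = (commutator X).index := by
    rw [← hcomm, Subgroup.relIndex, Subgroup.subgroupOf,
      Subgroup.comap_map_eq_self_of_injective (Cfsg.sigmaCore T).subtype_injective]
  have hW1X : (W₁.subgroupOf (Cfsg.sigmaCore T)) ≤ commutator X := by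
    intro a ha
    obtain ⟨b, hb, e⟩ := (hcomm.symm ▸ h.le₁_derived (mem_subgroupOf.1 ha) :
      (a : G) ∈ (commutator X).map (Cfsg.sigmaCore T).subtype)
    obtain rfl : b = a := Subtype.ext e
    exact hb
  have hcard₁ : Nat.card (W₁.subgroupOf (Cfsg.sigmaCore T)) = Nat.card W₁ :=
    Nat.card_congr (subgroupOfEquivOfLe h.le₁).toEquiv
  -- the common part
  have main : ∀ r : ℕ, r.Prime → IsCyclic (Cfsg.pPrimeCore r X) →
      r = Nat.card W₁ ∧ Nat.card W₁ ^ 2 ≤ (commutator X).index ∧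
      (Nat.card (Cfsg.pCore r X) = r ^ 3 → Nat.card W₁ ^ 2 ∣ (commutator X).index ∧
        commutator X = W₁.subgroupOf (Cfsg.sigmaCore T) ∧ (center X).index ∣ Nat.card W₁ ^ 2) := by
    intro r hr hc
    haveI := Fact.mk hr
    obtain ⟨hle, hceq, hYz, htop⟩ := pCore_facts hnil hc
    haveI := Grp.pCore_isNormal (p := r) (G := X)
    haveI := Grp.pPrimeCore_isNormal (p := r) (G := X)
    have hrq : r = Nat.card W₁ := by
      obtain ⟨i, hi⟩ := IsPGroup.iff_card.1 ((Grp.pCore_isPGroup (p := r) (G := X)).to_le (hW1X.trans hle))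
      rw [hcard₁] at hi
      exact ((Nat.prime_dvd_prime_iff_eq h.prime₁ hr).1 (h.prime₁.dvd_of_dvd_pow (dvd_of_eq hi))).symm
    subst hrq
    set R := Cfsg.pCore (Nat.card W₁) X
    have hne : commutator X ≠ ⊥ := fun e => h.prime₁.ne_one (by
      rw [← hcard₁, le_bot_iff.1 (hW1X.trans e.le), Subgroup.card_bot])
    have hna : ¬ IsMulCommutative R := fun hab => hne (hceq.trans (Subgroup.commutator_eq_bot_iff_le_centralizer.2
      fun a ha => mem_centralizer_iff.2 fun b hb => congrArg Subtype.val (hab.is_comm.comm ⟨b, hb⟩ ⟨a, ha⟩)))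
    have hsq := Cfsg.Agent.Char.TypeICoh.sq_le_commutator_index (Grp.pCore_isPGroup (p := Nat.card W₁) (G := X)) hna
    have hRc : (commutator X).relIndex R = (commutator R).index := by
      rw [hceq, ← Subgroup.map_subtype_commutator, Subgroup.relIndex, Subgroup.subgroupOf,
        Subgroup.comap_map_eq_self_of_injective R.subtype_injective]
    have hidx : (commutator X).index = (commutator R).index * R.index := by
      rw [← hRc, Subgroup.relIndex_mul_index hle]
    refine ⟨rfl, ?_, fun hR => ?_⟩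
    · rw [hidx]
      exact hsq.trans (Nat.le_mul_of_pos_right _ (Nat.pos_of_ne_zero Subgroup.index_ne_zero_of_finite))
    -- order `q³`
    have hWR : W₁.subgroupOf (Cfsg.sigmaCore T) ≤ R := hW1X.trans hle
    have hcR : Nat.card (commutator R) = Nat.card W₁ ∧ commutator X = W₁.subgroupOf (Cfsg.sigmaCore T) ∧
        (commutator R).index = Nat.card W₁ ^ 2 := by
      have h1 := Subgroup.card_mul_index (commutator R)
      rw [hR] at h1
      have h2 : Nat.card (commutator R) = Nat.card (commutator X) := by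
        rw [hceq, ← Subgroup.map_subtype_commutator, Subgroup.card_map_of_injective R.subtype_injective]
      have h3 : Nat.card W₁ ∣ Nat.card (commutator R) := h2 ▸ hcard₁ ▸ card_dvd_of_le hW1X
      obtain ⟨i, -, hi⟩ := (Nat.dvd_prime_pow h.prime₁).1 (Dvd.intro _ h1)
      obtain ⟨j, -, hj⟩ := (Nat.dvd_prime_pow h.prime₁).1 (Dvd.intro_left _ h1)
      rw [hi, hj, ← pow_add] at h1
      have hij := Nat.pow_right_injective h.prime₁.two_le h1
      have hj2 : 2 ≤ j := by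
        rw [hj] at hsq
        exact (Nat.pow_le_pow_iff_right h.prime₁.one_lt).1 hsq
      have hi1 : 1 ≤ i := by
        rcases Nat.eq_zero_or_pos i with rfl | hi'
        · rw [hi, pow_zero, Nat.dvd_one] at h3
          exact absurd h3 h.prime₁.ne_one
        · exact hi'
      obtain rfl : i = 1 := by omega
      obtain rfl : j = 2 := by omega
      rw [pow_one] at hi
      refine ⟨hi, (Subgroup.eq_of_le_of_card_ge hW1X ?_).symm, hj⟩
      rw [← h2, hi, hcard₁]
    obtain ⟨hc1, hc2, hc3⟩ := hcR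
    refine ⟨by rw [hidx, hc3]; exact dvd_mul_right _ _, hc2, ?_⟩
    -- the centre contains `W₁` and the `q'`-core
    have hW1Z : W₁.subgroupOf (Cfsg.sigmaCore T) ≤ center X := by
      haveI : (commutator X).Normal := inferInstance
      haveI := hnil
      have h4 : commutator X ⊓ center X ≠ ⊥ := Grp.inf_center_ne_bot _ hne
      rw [← hc2]
      have h5 : Nat.card ↥(commutator X ⊓ center X) = Nat.card (commutator X) := by
        have h6 : Nat.card (commutator X) = Nat.card W₁ := by rw [hc2, hcard₁]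
        rcases (Nat.dvd_prime h.prime₁).1 (h6 ▸ card_dvd_of_le (inf_le_left : commutator X ⊓ center X ≤ _)) with h7 | h7
        · exact absurd (Subgroup.card_eq_one.1 h7) h4
        · rw [h7, h6]
      exact inf_eq_left.1 (Subgroup.eq_of_le_of_card_ge inf_le_left h5.ge)
    have h8 : (W₁.subgroupOf (Cfsg.sigmaCore T) ⊔ Cfsg.pPrimeCore (Nat.card W₁) X).index ∣ Nat.card W₁ ^ 2 := by
      set Y := Cfsg.pPrimeCore (Nat.card W₁) X
      have hcop : (Nat.card R).Coprime (Nat.card Y) := by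
        rw [hR]; exact (Grp.pPrimeCore_coprime (p := Nat.card W₁) (G := X)).symm.pow_left 3
      have e1 : Nat.card ↥(W₁.subgroupOf (Cfsg.sigmaCore T) ⊔ Y) = Nat.card W₁ * Nat.card Y := by
        rw [Grp.card_sup_coprime le_normalizer_of_normal (hcop.coprime_dvd_left (card_dvd_of_le hWR)), hcard₁]
      have e2 : Nat.card X = Nat.card W₁ ^ 3 * Nat.card Y := by
        rw [← hR, ← Grp.card_sup_coprime le_normalizer_of_normal hcop, htop, Subgroup.card_top]
      have h9 := Subgroup.card_mul_index (W₁.subgroupOf (Cfsg.sigmaCore T) ⊔ Y)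
      rw [e1, e2, show Nat.card W₁ ^ 3 * Nat.card Y = Nat.card W₁ * Nat.card Y * Nat.card W₁ ^ 2 by ring] at h9
      exact dvd_of_eq (Nat.eq_of_mul_eq_mul_left (Nat.mul_pos Nat.card_pos Nat.card_pos) h9)
    exact (Subgroup.index_dvd_of_le (sup_le hW1Z hYz)).trans h8
  rcases hrest with ⟨r, hr, -, hw, hc⟩ | ⟨r, hr, -, hR, hw, hc⟩
  · rw [heq] at hc
    obtain ⟨rfl, h1, -⟩ := main r hr hc
    exact Or.inl ⟨hw, hkn ▸ h1⟩
  · rw [heq] at hR hc
    obtain ⟨rfl, -, h2⟩ := main r hr hc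
    obtain ⟨h3, h4, h5⟩ := h2 hR
    have hder : ⁅Cfsg.sigmaCore T, Cfsg.sigmaCore T⁆ = W₁ := by
      rw [← hcomm, h4, Subgroup.map_subgroupOf_eq_of_le h.le₁]
    refine Or.inr ⟨?_, hw, hkn ▸ h3, hder, fun θ hθ => h.fixed_degree hder h5 hθ⟩
    have hq2 : Nat.card W₁ ≠ 2 := h.ne_two W₁ dvd_rfl
    have hq4 : Nat.card W₁ ≠ 4 := fun e => absurd (e ▸ h.prime₁) (by norm_num)
    have hq3 : Nat.card W₁ ≠ 3 := fun e => by
      rw [e] at hw
      obtain ⟨i, hi, hi'⟩ := (Nat.dvd_prime_pow Nat.prime_two).1 (show Nat.card W₂ ∣ 2 ^ 2 from hw)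
      have hodd := h.odd W₂
      interval_cases i
      · exact h.card₂_ne_one hi'
      · rw [hi'] at hodd; exact absurd hodd (by decide)
      · rw [hi'] at hodd; exact absurd hodd (by decide)
    have := h.prime₁.two_le
    omega

end NonTwo

end Cfsg.Agent.Grp.FT
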