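import Cfsg.Agent.Lib.Grp.FT.SetupOver
import Cfsg.Agent.Lib.Grp.FT.LinInd

/-!
The group `P × C` of a side, the decomposition of `M`, and the trivial intersection set `A₀` made of
`(P × C) \ 1` and the conjugates of the mixed elements of `W₁ × W₂`.
-/

set_option autoImplicit false
set_option linter.unusedSectionVars false
set_option linter.style.haveILetI false
set_option maxHeartbeats 1000000

namespace Cfsg.Agent.Grp.FT

open Subgroup Cfsg.Agent.Transfer Cfsg.Agent.Transfer.Loc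
open scoped Pointwise

attribute [local instance] _root_.Classical.propDecidable

universe u

variable {G : Type u} [Group G] [Fintype G]

namespace Side

variable {M P U C A B : Subgroup G} {p q : ℕ} (hs : Side M P U C A B p q)
include hs

theorem A_le : A ≤ M := hs.compl₁.2.1

theorem U_le : U ≤ M := hs.compl.2.1.trans M.commutator_le_self

theorem P_le_derived : P ≤ ⁅M, M⁆ := hs.compl.1

theorem C_le_centralizer : C ≤ centralizer (P : Set G) := hs.C_eq.ge.trans inf_le_right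

theorem comm_PC {y z : G} (hy : y ∈ P) (hz : z ∈ C) : y * z = z * y :=
  mem_centralizer_iff.1 (hs.C_le_centralizer hz) y hy

theorem P_inf_C : P ⊓ C = ⊥ := le_bot_iff.1 ((inf_le_inf_left P hs.C_lt.le).trans hs.compl.2.2.1.le)

theorem PC_le_derived : P ⊔ C ≤ ⁅M, M⁆ := sup_le hs.compl.1 (hs.C_lt.le.trans hs.compl.2.1)

theorem PC_le : P ⊔ C ≤ M := hs.PC_le_derived.trans M.commutator_le_self

theorem mem_PC {x : G} (hx : x ∈ P ⊔ C) : ∃ y ∈ P, ∃ z ∈ C, x = y * z := by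
  have hn : C ≤ normalizer (P : Set G) := (hs.C_lt.le.trans hs.U_le).trans hs.norm_P
  rw [← SetLike.mem_coe, Subgroup.coe_mul_of_right_le_normalizer_left P C hn] at hx
  obtain ⟨y, hy, z, hz, e⟩ := hx
  exact ⟨y, hy, z, hz, e.symm⟩

theorem U_inf_PC {u : G} (hu : u ∈ U) (h : u ∈ P ⊔ C) : u ∈ C := by
  obtain ⟨y, hy, z, hz, rfl⟩ := hs.mem_PC h
  have h1 : y ∈ P ⊓ U := Subgroup.mem_inf.2 ⟨hy, (U.mul_mem_cancel_right (hs.C_lt.le hz)).1 hu⟩
  rw [hs.compl.2.2.1, mem_bot] at h1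
  rwa [h1, one_mul]

theorem A_inf_PC : (P ⊔ C) ⊓ A = ⊥ :=
  le_bot_iff.1 ((inf_le_inf_right A hs.PC_le_derived).trans hs.compl₁.2.2.1.le)

theorem decomp {m : G} (hm : m ∈ M) : ∃ y ∈ P, ∃ u ∈ U, ∃ a ∈ A, m = y * u * a := by
  obtain ⟨d, hd, a, ha, rfl⟩ := hs.compl₁.2.2.2 m hm
  obtain ⟨y, hy, u, hu, rfl⟩ := hs.compl.2.2.2 d hd
  exact ⟨y, hy, u, hu, a, ha, rfl⟩

theorem A_norm_P : A ≤ normalizer (P : Set G) := hs.A_le.trans hs.norm_P

theorem A_norm_PC : A ≤ normalizer ((P ⊔ C : Subgroup G) : Set G) := by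
  rw [← hs.fit]; exact hs.A_le.trans (le_normalizer_fittingOf M)

theorem M_norm_PC : M ≤ normalizer ((P ⊔ C : Subgroup G) : Set G) := by
  rw [← hs.fit]; exact le_normalizer_fittingOf M

theorem normalizer_PC : normalizer ((P ⊔ C : Subgroup G) : Set G) = M := by
  rw [← hs.fit]
  refine normalizer_eq_of_coatom hs.hG hs.hM (fun e => ?_)
    (fun e => hs.hM.1 (top_le_iff.1 (e ▸ fittingOf_le M))) (le_normalizer_fittingOf M)
  have h1 : P ≤ ⊥ := by rw [← e, hs.fit]; exact le_sup_left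
  have h2 := congrArg (fun X : Subgroup G => Nat.card X) (le_bot_iff.1 h1)
  simp only [hs.card_P, Subgroup.card_bot] at h2
  exact hs.hp.ne_one ((pow_eq_one_iff.1 h2).resolve_right hs.hq.ne_zero)

theorem card_PC : Nat.card ↥(P ⊔ C) = p ^ q * Nat.card C := by
  have h := Grp.card_sup_mul_card_inf ((hs.C_lt.le.trans hs.U_le).trans hs.norm_P : C ≤ normalizer (P : Set G))
  rw [inf_comm, hs.P_inf_C, Subgroup.card_bot, mul_one, sup_comm, hs.card_P, mul_comm] at h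
  exact h

/-- An element of `U` fixed by an element of `A` modulo `C` lies in `C`. -/
theorem free_mod {a u : G} (ha : a ∈ A) (ha1 : a ≠ 1) (hu : u ∈ U) (h : u⁻¹ * (a * u * a⁻¹) ∈ C) : u ∈ C := by
  have hinjU : ∀ v ∈ U, ∀ v' ∈ U, v⁻¹ * (a * v * a⁻¹) = v'⁻¹ * (a * v' * a⁻¹) → v = v' := fun v hv v' hv' e => by
    have h1 : v * v'⁻¹ ∈ U ⊓ centralizer ({a} : Set G) := ⟨U.mul_mem hv (U.inv_mem hv'),
      mem_centralizer_singleton_iff.2 <| calc
        v * v'⁻¹ * a = v * (v'⁻¹ * (a * v' * a⁻¹)) * a * v'⁻¹ := by group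
        _ = v * (v⁻¹ * (a * v * a⁻¹)) * a * v'⁻¹ := by rw [e]
        _ = a * (v * v'⁻¹) := by group⟩
    rwa [hs.free₁ a ha ha1, mem_bot, mul_inv_eq_one] at h1
  let φ : C → C := fun c => ⟨(c : G)⁻¹ * (a * c * a⁻¹),
    C.mul_mem (C.inv_mem c.2) (Grp.mem_conj_normalizer (hs.A_le_normalizer_C ha) c.2)⟩
  have hinj : Function.Injective φ := fun c c' e =>
    Subtype.ext (hinjU c (hs.C_lt.le c.2) c' (hs.C_lt.le c'.2) (congrArg Subtype.val e))
  obtain ⟨d, hd⟩ := Finite.injective_iff_surjective.1 hinj ⟨_, h⟩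
  rw [← hinjU d (hs.C_lt.le d.2) u hu (congrArg Subtype.val hd)]
  exact d.2

theorem W_le : A ⊔ B ≤ M := sup_le hs.A_le (hs.W₂_le.trans (hs.compl.1.trans M.commutator_le_self))

end Side

/-- The trivial intersection set of a side. -/
def sideA0 (M P C A B : Subgroup G) : Set G :=
  {x | x ∈ P ⊔ C ∧ x ≠ 1} ∪
    {x | ∃ m ∈ M, ∃ z ∈ ((↑(A ⊔ B) : Set G) \ ((A : Set G) ∪ ↑B)), x = m * z * m⁻¹}

section selfNorm

variable {W₁ W₂ : Subgroup G} (hW : Cfsg.IsSelfNormalizingCyclic W₁ W₂)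
include hW

theorem centralizer_mixed {z : G} (hz : z ∈ ((↑(W₁ ⊔ W₂) : Set G) \ ((W₁ : Set G) ∪ ↑W₂))) :
    centralizer ({z} : Set G) ≤ W₁ ⊔ W₂ := by
  intro c hc
  rw [← hW.2.2.2.2.2 {z} (Set.singleton_subset_iff.2 hz) (Set.singleton_nonempty z),
    Subgroup.mem_set_normalizer_iff]
  intro x
  have h1 : c * z = z * c := mem_centralizer_singleton_iff.1 hc
  constructor
  · rintro rfl
    rw [h1, mul_inv_cancel_right]; rfl
  · intro hx
    rw [Set.mem_singleton_iff] at hx ⊢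
    rw [mul_inv_eq_iff_eq_mul, ← h1] at hx
    exact mul_left_cancel hx

/-- A conjugation carrying one mixed element into `W` lies in `W`. -/
theorem mem_W_of_conj {z g : G} (hz : z ∈ ((↑(W₁ ⊔ W₂) : Set G) \ ((W₁ : Set G) ∪ ↑W₂)))
    (hgz : g * z * g⁻¹ ∈ ((↑(W₁ ⊔ W₂) : Set G) \ ((W₁ : Set G) ∪ ↑W₂))) : g ∈ W₁ ⊔ W₂ := by
  haveI := hW.2.2.2.2.1
  letI : CommGroup ↥(W₁ ⊔ W₂) := IsCyclic.commGroup
  have hab : ∀ a ∈ W₁ ⊔ W₂, ∀ b ∈ W₁ ⊔ W₂, a * b = b * a := fun a ha b hb =>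
    congrArg Subtype.val (mul_comm (⟨a, ha⟩ : ↥(W₁ ⊔ W₂)) ⟨b, hb⟩)
  have hWz : W₁ ⊔ W₂ ≤ centralizer ({z} : Set G) := fun a ha =>
    mem_centralizer_singleton_iff.2 (hab a ha z hz.1)
  have hN : ∀ x ∈ W₁ ⊔ W₂, g * x * g⁻¹ ∈ W₁ ⊔ W₂ := fun x hx => by
    refine centralizer_mixed hW hgz (mem_centralizer_singleton_iff.2 ?_)
    have := mem_centralizer_singleton_iff.1 (hWz hx)
    calc g * x * g⁻¹ * (g * z * g⁻¹) = g * (x * z) * g⁻¹ := by group
      _ = g * z * g⁻¹ * (g * x * g⁻¹) := by rw [this]; group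
  have hNU : ∀ U : Subgroup G, U ≤ W₁ ⊔ W₂ → ∀ x, x ∈ U ↔ g * x * g⁻¹ ∈ U ∧ x ∈ W₁ ⊔ W₂ := by
    intro U hU
    let φ : ↥(W₁ ⊔ W₂) →* ↥(W₁ ⊔ W₂) := MonoidHom.mk' (fun x => ⟨g * x * g⁻¹, hN x x.2⟩) fun a b =>
      Subtype.ext (by simp [mul_assoc])
    obtain ⟨m, hm⟩ := MonoidHom.map_cyclic φ
    have hfwd : ∀ x ∈ U, g * x * g⁻¹ ∈ U := fun x hx => by
      rw [show g * x * g⁻¹ = x ^ m from congrArg Subtype.val (hm ⟨x, hU hx⟩)]
      exact U.zpow_mem hx m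
    intro x
    refine ⟨fun hx => ⟨hfwd x hx, hU hx⟩, fun ⟨hx, _⟩ => ?_⟩
    let ψ : U → U := fun y => ⟨g * y * g⁻¹, hfwd y y.2⟩
    obtain ⟨y, hy⟩ := Finite.injective_iff_surjective.1
      (fun a b e => Subtype.ext (conj_injective (congrArg Subtype.val e)) : Function.Injective ψ) ⟨_, hx⟩
    rw [← conj_injective (congrArg Subtype.val hy)]
    exact y.2
  have hgW : g ∈ normalizer (((↑(W₁ ⊔ W₂) : Set G) \ ((W₁ : Set G) ∪ ↑W₂))) := by
    rw [Subgroup.mem_set_normalizer_iff]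
    intro x
    have h0 := hNU _ le_rfl x
    constructor
    · rintro ⟨hx, hn⟩
      refine ⟨hN x hx, fun h => hn ?_⟩
      rcases h with h | h
      · exact Or.inl ((hNU W₁ le_sup_left x).2 ⟨h, hx⟩)
      · exact Or.inr ((hNU W₂ le_sup_right x).2 ⟨h, hx⟩)
    · rintro ⟨hx, hn⟩
      have hxW : x ∈ W₁ ⊔ W₂ := by
        have hV : MulAut.conj g • (W₁ ⊔ W₂) = W₁ ⊔ W₂ := Subgroup.eq_of_le_of_card_ge
          (by rintro _ ⟨y, hy, rfl⟩; exact hN y hy)
          (Nat.card_congr (Subgroup.equivMapOfInjective _ _ (MulAut.conj g).injective).toEquiv).le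
        have hx' : g * x * g⁻¹ ∈ MulAut.conj g • (W₁ ⊔ W₂) := hV.symm ▸ hx
        obtain ⟨y, hy, e⟩ := hx'
        rwa [← conj_injective (show g * y * g⁻¹ = g * x * g⁻¹ from e)]
      refine ⟨hxW, fun h => hn ?_⟩
      rcases h with h | h
      · exact Or.inl ((hNU W₁ le_sup_left x).1 h).1
      · exact Or.inr ((hNU W₂ le_sup_right x).1 h).1
  rwa [hW.2.2.2.2.2 _ Set.Subset.rfl ⟨z, hz⟩] at hgW
where
  conj_injective {x y : G} (h : g * x * g⁻¹ = g * y * g⁻¹) : x = y := mul_left_cancel (mul_right_cancel h)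

end selfNorm

namespace Side

variable {M P U C A B : Subgroup G} {p q : ℕ} (hs : Side M P U C A B p q)
include hs

/-- A conjugate of a mixed element does not lie in `P × C`. -/
theorem mixed_not_PC {g : G} (hg : g ∈ mixed A B) : g ∉ P ⊔ C := by
  intro hPC
  obtain ⟨t, z, hz, rfl⟩ := hg
  have hP : P ≤ MulAut.conj t • (A ⊔ B) := by
    intro y hy
    have hyc : y * (t * z * t⁻¹) = t * z * t⁻¹ * y := by
      obtain ⟨a, ha, c, hc, e⟩ := hs.mem_PC hPC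
      rw [e, ← mul_assoc, hs.comm_P hy ha, mul_assoc, hs.comm_PC hy hc, mul_assoc]
    refine ⟨t⁻¹ * y * t, centralizer_mixed hs.self hz (mem_centralizer_singleton_iff.2 ?_), ?_⟩
    · calc t⁻¹ * y * t * z = t⁻¹ * (y * (t * z * t⁻¹)) * t := by group
        _ = t⁻¹ * (t * z * t⁻¹ * y) * t := by rw [hyc]
        _ = z * (t⁻¹ * y * t) := by group
    · show t * (t⁻¹ * y * t) * t⁻¹ = y
      group
  have h1 := card_dvd_of_le hP
  rw [show Nat.card ↥(MulAut.conj t • (A ⊔ B)) = Nat.card ↥(A ⊔ B) from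
    (Nat.card_congr (Subgroup.equivMapOfInjective _ _ (MulAut.conj t).injective).toEquiv).symm, hs.card_P] at h1
  have h2 : Nat.card ↥(A ⊔ B) ∣ q * p := by
    refine hs.card₁ ▸ hs.card₂ ▸ Grp.card_sup_dvd_mul (?_ : A ≤ normalizer (B : Set G))
    exact Grp.PiHall.le_normalizer_of_conj_mem fun a ha b hb => by
      rwa [(hs.commute_lines ha hb).eq, mul_inv_cancel_right]
  have h3 : p * p ∣ q * p := (pow_two p ▸ pow_dvd_pow p hs.hq.two_le).trans (h1.trans h2)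
  exact hs.hpq ((Nat.prime_dvd_prime_iff_eq hs.hp hs.hq).1 (Nat.dvd_of_mul_dvd_mul_right hs.hp.pos h3))

/-- The set `A₀` has trivial intersections and normaliser `M`. -/
theorem dade_A0 : Cfsg.DadeHypothesis (sideA0 M P C A B) M (fun _ => ⊥) := by
  refine ti_dade ?_ ?_ ?_ ?_
  · rintro (⟨-, h⟩ | ⟨m, -, z, hz, h⟩)
    · exact h rfl
    · exact one_not_mixed A B ⟨m, z, hz, h⟩
  · rintro x (⟨hx, -⟩ | ⟨m, hm, z, hz, rfl⟩)
    · exact hs.PC_le hx
    · exact mul_mem (mul_mem hm (hs.W_le hz.1)) (inv_mem hm)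
  · rintro x hx a (⟨ha, ha1⟩ | ⟨m, hm, z, hz, rfl⟩)
    · refine Or.inl ⟨Grp.mem_conj_normalizer (hs.M_norm_PC hx) ha, fun e => ha1 ?_⟩
      exact conj_eq_one_iff.1 e
    · exact Or.inr ⟨x * m, mul_mem hx hm, z, hz, by group⟩
  · rintro a (⟨ha, ha1⟩ | ⟨m, hm, z, hz, rfl⟩) g hg
    · rcases hg with ⟨hga, -⟩ | ⟨m, -, z, hz, e⟩
      · by_contra hgM
        have hti := hs.ti
        rw [hs.fit] at hti
        exact ha1 (hti g (fun h => hgM (hs.normalizer_PC ▸ h)) a ha hga)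
      · refine absurd ha (hs.mixed_not_PC ⟨g⁻¹ * m, z, hz, ?_⟩)
        calc a = g⁻¹ * (g * a * g⁻¹) * g := by group
          _ = g⁻¹ * m * z * (g⁻¹ * m)⁻¹ := by rw [e]; group
    · rcases hg with ⟨hga, -⟩ | ⟨m', hm', z', hz', e⟩
      · exact absurd hga (hs.mixed_not_PC ⟨g * m, z, hz, by group⟩)
      · have h1 : m'⁻¹ * g * m * z * (m'⁻¹ * g * m)⁻¹ = z' := by
          calc m'⁻¹ * g * m * z * (m'⁻¹ * g * m)⁻¹ = m'⁻¹ * (g * (m * z * m⁻¹) * g⁻¹) * m' := by group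
            _ = z' := by rw [e]; group
        have h2 := hs.W_le (mem_W_of_conj hs.self hz (h1.symm ▸ hz'))
        have h3 := mul_mem (mul_mem hm' h2) (inv_mem hm)
        rwa [show m' * (m'⁻¹ * g * m) * m⁻¹ = g by group] at h3

end Side

end Cfsg.Agent.Grp.FT
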