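import Cfsg.Agent.Lib.Grp.FT.NonTwoLayer
import Cfsg.Agent.Lib.Grp.FT.Pattern
import Cfsg.Agent.Lib.Grp.FT.SideBasic

/-!
The Dade images on `T_σ#` enlarged by the mixed elements of the differences `μ(f,g) - δ μ(1,g) - k ξ`: their
relations with the grid and with the basic function.
-/

set_option autoImplicit false
set_option linter.unusedSectionVars false
set_option linter.style.haveILetI false

namespace Cfsg.Agent.Grp.FT

open Subgroup Cfsg.Agent.Char Cfsg.Agent.Transfer Cfsg.Agent.Transfer.Loc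
open scoped ComplexConjugate commutatorElement

attribute [local instance] _root_.Classical.propDecidable

universe u

section comb

variable {I J : Type*} [Fintype I] [Fintype J] [DecidableEq I] [DecidableEq J]

/-- An additive array disturbed by the difference of one entry and the corner. -/
theorem pattern_one (hI : 3 ≤ Fintype.card I) (hJ : 3 ≤ Fintype.card J) (i₀ : I) (j₀ : J) {a : I} (ha : a ≠ i₀)
    (e : I → J → ℤ) (hadd : ∀ i j, e i j = e i j₀ + e i₀ j) (h0 : e i₀ j₀ = 0) (t : ℤ) (ht : t ^ 2 = 1) :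
    (1 ≤ ∑ j, ∑ i, (e i j + if j = j₀ then (if i = a then t else if i = i₀ then -t else 0) else 0) ^ 2) ∧
    (∑ j, ∑ i, (e i j + if j = j₀ then (if i = a then t else if i = i₀ then -t else 0) else 0) ^ 2 ≤ 2 →
      ∀ i j, e i j = 0) := by
  set tt : I → ℤ := fun i => if i = a then t else if i = i₀ then -t else 0 with htt
  rw [← Finset.add_sum_erase _ _ (Finset.mem_univ j₀)]
  simp only [if_true]
  rw [Finset.sum_congr rfl fun j hj => Finset.sum_congr rfl fun i _ => by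
    rw [if_neg (Finset.ne_of_mem_erase hj), add_zero]]
  have hnn : ∀ j ∈ Finset.univ.erase j₀, (0 : ℤ) ≤ ∑ i, e i j ^ 2 := fun j _ => Finset.sum_nonneg fun i _ => sq_nonneg _
  have hti : tt i₀ = -t := by simp [tt, ha.symm]
  have hta : tt a = t := by simp [tt]
  have hcorner : 1 ≤ ∑ i, (e i j₀ + tt i) ^ 2 := by
    refine le_trans ?_ (Finset.single_le_sum (f := fun i => (e i j₀ + tt i) ^ 2) (fun i _ => sq_nonneg _)
      (Finset.mem_univ i₀))
    show 1 ≤ (e i₀ j₀ + tt i₀) ^ 2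
    rw [h0, hti, zero_add, neg_sq, ht]
  refine ⟨le_add_of_le_of_nonneg hcorner (Finset.sum_nonneg hnn), fun h => ?_⟩
  have hcardJ : ((Finset.univ.erase j₀).card : ℤ) = (Fintype.card J : ℤ) - 1 := by
    rw [Finset.card_erase_of_mem (Finset.mem_univ j₀), Finset.card_univ, Nat.cast_sub (by omega)]; simp
  have hJ' : (3 : ℤ) ≤ Fintype.card J := by exact_mod_cast hJ
  have hI' : (3 : ℤ) ≤ Fintype.card I := by exact_mod_cast hI
  change ∑ i, (e i j₀ + tt i) ^ 2 + ∑ j ∈ Finset.univ.erase j₀, ∑ i, e i j ^ 2 ≤ 2 at h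
  by_cases hu : ∀ i, e i j₀ = 0
  · have he : ∀ i j, e i j = e i₀ j := fun i j => by rw [hadd, hu, zero_add]
    have h2 : 2 ≤ ∑ i, (e i j₀ + tt i) ^ 2 := by
      refine le_trans ?_ (Finset.sum_le_sum_of_subset_of_nonneg (Finset.subset_univ {a, i₀})
        fun i _ _ => sq_nonneg (e i j₀ + tt i))
      rw [Finset.sum_pair ha, hu a, hu i₀, hta, hti, zero_add, zero_add, neg_sq, ht]
      norm_num
    have hz := (Finset.sum_eq_zero_iff_of_nonneg hnn).1 (le_antisymm (by linarith) (Finset.sum_nonneg hnn))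
    intro i j
    by_cases hj : j = j₀
    · rw [hj, hu]
    · have h3 := hz j (Finset.mem_erase.2 ⟨hj, Finset.mem_univ j⟩)
      exact (pow_eq_zero_iff two_ne_zero).1
        ((Finset.sum_eq_zero_iff_of_nonneg fun i _ => sq_nonneg _).1 h3 i (Finset.mem_univ i))
  · exfalso
    push Not at hu
    obtain ⟨i, hi⟩ := hu
    have h1 : ∀ j, 1 ≤ ∑ x, e x j ^ 2 := fun j => by
      rw [Finset.sum_congr rfl fun x _ => show e x j ^ 2 = (e x j₀ + e i₀ j) ^ 2 by rw [← hadd]]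
      exact column_pos (fun x => e x j₀) h0 hi _
    have h2 := Finset.sum_le_sum (s := Finset.univ.erase j₀) fun j _ => h1 j
    simp only [Finset.sum_const, nsmul_eq_mul, mul_one] at h2
    linarith

end comb

variable {G : Type u} [Group G] [Fintype G] {T W₁ W₂ : Subgroup G}

/-- `T_σ#` with the `T`-conjugates of the mixed elements. -/
def tiSet (T W₁ W₂ : Subgroup G) : Set G :=
  ((Cfsg.sigmaCore T : Set G) \ {1}) ∪
    {x | ∃ m ∈ T, ∃ z ∈ ((↑(W₁ ⊔ W₂) : Set G) \ ((W₁ : Set G) ∪ ↑W₂)), x = m * z * m⁻¹}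

/-- The multiple of `ξ` in the difference. -/
noncomputable def Exc.kap [Fintype T] (X : Exc T W₁ W₂) (f : ↥W₁ →* ℂˣ) : ℤ := (X.deg f 1).choose

/-- The difference. -/
noncomputable def Exc.alpha [Fintype T] (X : Exc T W₁ W₂) (ξ : T → ℂ) (f : ↥W₁ →* ℂˣ) (g : ↥W₂ →* ℂˣ) : T → ℂ :=
  X.mu f g - (X.sgn f : ℂ) • X.mu 1 g - (X.kap f : ℂ) • ξ

/-- Its image. -/
noncomputable def Exc.image [Fintype T] (X : Exc T W₁ W₂) (ξ : T → ℂ) (f : ↥W₁ →* ℂˣ) (g : ↥W₂ →* ℂˣ) : G → ℂ :=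
  Cfsg.dadeIsometry (tiSet T W₁ W₂) T (fun _ => ⊥) (X.alpha ξ f g)

/-- What the images need. -/
structure Img (T W₁ W₂ : Subgroup G) [Fintype T] [Fintype (core T)] (E : Grid W₁ W₂) {ι : Type u} [Fintype ι]
    [DecidableEq ι] (xi : ι → T → ℂ) (Z : ι → G → ℂ) (i₀ : ι) : Prop where
  nt : NonTwo T W₁ W₂
  fam : LinFam (core T) ((Cfsg.sigmaCore T : Set G) \ {1}) xi Z i₀
  irr : ∀ i, Cfsg.IsIrrCharacter T (xi i)
  perp : ∀ i f g, Cfsg.classInner (Z i) (E.eta f g) = 0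
  perp_one : ∀ i, Cfsg.classInner (Z i) (fun _ => 1) = 0

namespace Img

variable [Fintype T] [Fintype (core T)] {E : Grid W₁ W₂} {ι : Type u} [Fintype ι] [DecidableEq ι] {xi : ι → T → ℂ}
  {Z : ι → G → ℂ} {i₀ : ι} (hi : Img T W₁ W₂ E xi Z i₀) (X : Exc T W₁ W₂)
include hi

theorem W_le : W₁ ⊔ W₂ ≤ T := sup_le (hi.nt.le₁.trans hi.nt.core_le) hi.nt.le₂

theorem coprime₁₂ : (Nat.card W₁).Coprime (Nat.card W₂) :=
  hi.nt.coprime.coprime_dvd_left (card_dvd_of_le hi.nt.le₁)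

/-- A mixed element is no conjugate of an element of `T_σ`. -/
theorem mixed_not_core {t z : G} (hz : z ∈ ((↑(W₁ ⊔ W₂) : Set G) \ ((W₁ : Set G) ∪ ↑W₂))) :
    t * z * t⁻¹ ∉ Cfsg.sigmaCore T := by
  intro hmem
  obtain ⟨a, b, ha, hb, e⟩ := exists_of_mem_V E.self hz
  have hzT : z ∈ T := hi.W_le hz.1
  have hzσ : z ∈ Cfsg.sigmaCore T := by
    refine mem_subgroupOf.1 (hi.nt.mem_core_of_coprime (t := ⟨z, hzT⟩) ?_)
    rw [Subgroup.orderOf_mk]
    have h1 : orderOf z ∣ Nat.card (Cfsg.sigmaCore T) := by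
      have h0 := Subgroup.orderOf_dvd_natCard (Cfsg.sigmaCore T) hmem
      rwa [show t * z * t⁻¹ = MulAut.conj t z from rfl, MulEquiv.orderOf_eq] at h0
    exact hi.nt.coprime.coprime_dvd_left h1
  have hbσ : (b : G) ∈ Cfsg.sigmaCore T := by
    rw [← e] at hzσ
    exact ((Cfsg.sigmaCore T).mul_mem_cancel_left (hi.nt.le₁ a.2)).1 hzσ
  exact hb (Subtype.ext (mem_bot.1 (hi.nt.compl.2.2.1 ▸ (⟨hbσ, b.2⟩ : (b : G) ∈ Cfsg.sigmaCore T ⊓ W₂))))

theorem dade : Cfsg.DadeHypothesis (tiSet T W₁ W₂) T (fun _ => ⊥) := by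
  have hD := hi.fam.hD
  refine ti_dade ?_ ?_ ?_ ?_
  · rintro (⟨-, h⟩ | ⟨m, -, z, hz, h⟩)
    · exact h rfl
    · exact one_not_mixed W₁ W₂ ⟨m, z, hz, h⟩
  · rintro x (⟨hx, -⟩ | ⟨m, hm, z, hz, rfl⟩)
    · exact hi.nt.core_le hx
    · exact mul_mem (mul_mem hm (hi.W_le hz.1)) (inv_mem hm)
  · rintro x hx a (⟨ha, ha1⟩ | ⟨m, hm, z, hz, rfl⟩)
    · exact Or.inl ⟨Grp.mem_conj_normalizer (hi.nt.le_normalizer_core hx) ha, fun e => ha1 (conj_eq_one_iff.1 e)⟩
    · exact Or.inr ⟨x * m, mul_mem hx hm, z, hz, by group⟩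
  · rintro a (⟨ha, ha1⟩ | ⟨m, hm, z, hz, rfl⟩) g hg
    · rcases hg with ⟨hga, hga1⟩ | ⟨m, -, z, hz, e⟩
      · obtain ⟨l, hl, e⟩ := hD.fusion a ⟨ha, ha1⟩ g ⟨hga, hga1⟩
        have hc : l⁻¹ * g ∈ centralizer ({a} : Set G) := mem_centralizer_singleton_iff.2 (by
          calc l⁻¹ * g * a = l⁻¹ * (g * a * g⁻¹) * g := by group
            _ = a * (l⁻¹ * g) := by rw [← e]; group)
        have hcT : centralizer ({a} : Set G) ≤ T := by
          have h := hD.sup_eq a ⟨ha, ha1⟩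
          rw [bot_sup_eq] at h
          exact h ▸ inf_le_left
        simpa using mul_mem hl (hcT hc)
      · refine absurd ?_ (hi.mixed_not_core (t := g⁻¹ * m) hz)
        rw [show g⁻¹ * m * z * (g⁻¹ * m)⁻¹ = g⁻¹ * (m * z * m⁻¹) * g by group, ← e]
        simpa [mul_assoc] using ha
    · rcases hg with ⟨hga, -⟩ | ⟨m', hm', z', hz', e⟩
      · refine absurd ?_ (hi.mixed_not_core (t := g * m) hz)
        rw [show g * m * z * (g * m)⁻¹ = g * (m * z * m⁻¹) * g⁻¹ by group]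
        exact hga
      · have h1 : m'⁻¹ * g * m * z * (m'⁻¹ * g * m)⁻¹ = z' := by
          calc m'⁻¹ * g * m * z * (m'⁻¹ * g * m)⁻¹ = m'⁻¹ * (g * (m * z * m⁻¹) * g⁻¹) * m' := by group
            _ = z' := by rw [e]; group
        have h2 := hi.W_le (mem_W_of_conj E.self hz (h1.symm ▸ hz'))
        have h3 := mul_mem (mul_mem hm' h2) (inv_mem hm)
        rwa [show m' * (m'⁻¹ * g * m) * m⁻¹ = g by group] at h3

theorem supp_lift {α : T → ℂ} (hα : Supp ((Cfsg.sigmaCore T : Set G) \ {1}) T α) : Supp (tiSet T W₁ W₂) T α :=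
  ⟨hα.1, fun x hx => hα.2 x fun h => hx (Or.inl h)⟩

/-- On functions supported by `T_σ#` the two Dade maps agree. -/
theorem dade_eq {α : T → ℂ} (hα : Supp ((Cfsg.sigmaCore T : Set G) \ {1}) T α) :
    Cfsg.dadeIsometry (tiSet T W₁ W₂) T (fun _ => ⊥) α =
      Cfsg.dadeIsometry ((Cfsg.sigmaCore T : Set G) \ {1}) T (fun _ => ⊥) α := by
  funext g
  by_cases hg : g ∈ Dade.supp (tiSet T W₁ W₂) (fun _ : G => (⊥ : Subgroup G))
  · rw [ti_supp] at hg
    obtain ⟨a, ha, x, rfl⟩ := hg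
    have haT : a ∈ T := hi.dade.subset ha
    rw [dade_cf hi.dade (hi.supp_lift hα) a x, dade_cf hi.fam.hD hα a x,
      ti_apply hi.dade (hi.supp_lift hα) (a := ⟨a, haT⟩) ha]
    by_cases haσ : a ∈ ((Cfsg.sigmaCore T : Set G) \ {1})
    · rw [ti_apply hi.fam.hD hα (a := ⟨a, haT⟩) haσ]
    · rw [hα.2 ⟨a, haT⟩ haσ, Dade.dade_eq_zero]
      rw [ti_supp]
      rintro ⟨b, hb, y, e⟩
      rcases ha with ha | ⟨m, hm, z, hz, rfl⟩
      · exact haσ ha
      · refine hi.mixed_not_core (t := y⁻¹ * m) hz ?_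
        rw [show y⁻¹ * m * z * (y⁻¹ * m)⁻¹ = y⁻¹ * (m * z * m⁻¹) * y by group, e]
        simpa [mul_assoc] using hb.1
  · rw [Dade.dade_eq_zero hg, Dade.dade_eq_zero]
    intro h
    refine hg ?_
    rw [ti_supp] at h ⊢
    obtain ⟨a, ha, x, e⟩ := h
    exact ⟨a, Or.inl ha, x, e⟩

theorem supp_diff (i : ι) : Supp ((Cfsg.sigmaCore T : Set G) \ {1}) T (xi i - xi i₀) := by
  refine ⟨classFunction_sub (hi.fam.xi_classFun _) (hi.fam.xi_classFun _), fun x hx => ?_⟩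
  by_cases hxK : x ∈ core T
  · have hx1 : x = 1 := by_contra fun h => hx ((hi.fam.hA x).2 ⟨hxK, h⟩)
    subst hx1
    rw [Pi.sub_apply, hi.fam.xi_one, hi.fam.xi_one, sub_self]
  · rw [Pi.sub_apply, hi.fam.xi_off _ hxK, hi.fam.xi_off _ hxK, sub_self]

theorem supp_base : Supp ((Cfsg.sigmaCore T : Set G) \ {1}) T (Cfsg.indFun (core T) (fun _ => 1) - xi i₀) := by
  have h := hi.fam.supp (f := fun _ : core T => (1 : ℂ))
  rwa [one_smul] at h

omit hi in
theorem kap_spec (f : ↥W₁ →* ℂˣ) :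
    X.theta f 1 = (X.sgn f : ℂ) + (X.kap f : ℂ) * (Nat.card W₂ : ℂ) := by
  have h := (X.deg f 1).choose_spec
  show X.mu f 1 1 = _
  rw [← sub_add_cancel (X.mu f 1 1) (X.sgn f : ℂ), h, Exc.kap]
  ring

theorem alpha_V (f : ↥W₁ →* ℂˣ) (g : ↥W₂ →* ℂˣ) (x : T) (a : W₁) (b : W₂) (hb : b ≠ 1) (hx : (x : G) = a * b) :
    X.alpha (xi i₀) f g x = (X.sgn f : ℂ) * ((f a : ℂ) - 1) * (g b : ℂ) := by
  have hxK : x ∉ core T := fun h => hb (Subtype.ext (mem_bot.1 (hi.nt.compl.2.2.1 ▸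
    (⟨((Cfsg.sigmaCore T).mul_mem_cancel_left (hi.nt.le₁ a.2)).1 (hx ▸ mem_subgroupOf.1 h), b.2⟩ :
      (b : G) ∈ Cfsg.sigmaCore T ⊓ W₂))))
  simp only [Exc.alpha, Pi.sub_apply, Pi.smul_apply, smul_eq_mul, X.val f g x a b hb hx, X.val 1 g x a b hb hx,
    hi.fam.xi_off _ hxK, (X.one hi.nt).2, MonoidHom.one_apply, Units.val_one, Int.cast_one]
  ring

theorem supp_alpha (f : ↥W₁ →* ℂˣ) (g : ↥W₂ →* ℂˣ) : Supp (tiSet T W₁ W₂) T (X.alpha (xi i₀) f g) := by
  have hcl : Cfsg.IsClassFunction T (X.alpha (xi i₀) f g) :=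
    classFunction_sub (classFunction_sub (IsIrr.classFun (X.irr f g))
      (classFunction_smul _ (IsIrr.classFun (X.irr 1 g)))) (classFunction_smul _ (hi.fam.xi_classFun _))
  refine ⟨hcl, fun x hx => ?_⟩
  by_cases hxK : x ∈ core T
  · have hx1 : x = 1 := by_contra fun h => hx (Or.inl ((hi.fam.hA x).2 ⟨hxK, h⟩))
    subst hx1
    have h1 : ((1 : T) : G) ∈ Cfsg.sigmaCore T := by simp
    simp only [Exc.alpha, Pi.sub_apply, Pi.smul_apply, smul_eq_mul, X.res f g 1 h1, X.one_res hi.nt g h1,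
      hi.fam.xi_one, hi.nt.index_eq]
    rw [show X.mu f 1 1 = X.theta f 1 from rfl, kap_spec X f]
    ring
  obtain ⟨k, hk, b, hb, e⟩ := hi.nt.compl.2.2.2 x x.2
  have hb1 : b ≠ 1 := fun e' => hxK (mem_subgroupOf.2 (by rw [e, e', mul_one]; exact hk))
  obtain ⟨y, hy, c, hc, hcb, hconj⟩ := exists_conj_centralizer_coset (Cfsg.sigmaCore T) b
    (hi.nt.le_normalizer_core (hi.nt.le₂ hb))
    (hi.nt.coprime.symm.coprime_dvd_left (Subgroup.orderOf_dvd_natCard _ hb)) k hk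
  have hcW : c ∈ W₁ := hi.nt.mem₁_of_comm hb hb1 hc hcb
  have hxc : x = (⟨y, hi.nt.core_le hy⟩ : T)⁻¹ * ⟨c * b, mul_mem (hi.nt.core_le hc) (hi.nt.le₂ hb)⟩ *
      ((⟨y, hi.nt.core_le hy⟩ : T)⁻¹)⁻¹ := by
    refine Subtype.ext ?_
    show (x : G) = y⁻¹ * (c * b) * (y⁻¹)⁻¹
    rw [← hconj, e]; group
  by_cases hc1 : c = 1
  · rw [hxc, hcl, hi.alpha_V X f g _ ⟨c, hcW⟩ ⟨b, hb⟩ (fun e' => hb1 (congrArg Subtype.val e')) rfl,
      show (⟨c, hcW⟩ : W₁) = 1 from Subtype.ext hc1, map_one, Units.val_one, sub_self, mul_zero, zero_mul]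
  · refine absurd (Or.inr ⟨y⁻¹, inv_mem (hi.nt.core_le hy), c * b, ⟨mul_mem (mem_sup_left hcW) (mem_sup_right hb), ?_⟩, ?_⟩) hx
    · rintro (h | h)
      · exact hb1 (mem_bot.1 (E.self.2.2.1.le ⟨(W₁.mul_mem_cancel_left hcW).1 h, hb⟩))
      · exact hc1 (mem_bot.1 (E.self.2.2.1.le ⟨hcW, (W₂.mul_mem_cancel_right hb).1 h⟩))
    · rw [← hconj, e]; group

theorem alpha_gen (f : ↥W₁ →* ℂˣ) (g : ↥W₂ →* ℂˣ) : Cfsg.IsGeneralizedCharacter T (X.alpha (xi i₀) f g) :=
  IsGenChar.sub (IsGenChar.sub (gen_irr (X.irr f g)) (IsGenChar.zsmul (gen_irr (X.irr 1 g)) _))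
    (IsGenChar.zsmul (hi.fam.xi_gen _) _)

theorem image_gen (f : ↥W₁ →* ℂˣ) (g : ↥W₂ →* ℂˣ) : Cfsg.IsGeneralizedCharacter G (X.image (xi i₀) f g) :=
  dade_gen hi.dade (hi.supp_alpha X f g) (hi.alpha_gen X f g)

theorem image_V (f : ↥W₁ →* ℂˣ) (g : ↥W₂ →* ℂˣ) (a : W₁) (b : W₂) (ha : a ≠ 1) (hb : b ≠ 1) :
    X.image (xi i₀) f g ((a : G) * b) = (X.sgn f : ℂ) * ((f a : ℂ) - 1) * (g b : ℂ) := by
  have hT : (a : G) * b ∈ T := hi.W_le (mul_mem (mem_sup_left a.2) (mem_sup_right b.2))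
  have hA : (a : G) * b ∈ tiSet T W₁ W₂ := by
    refine Or.inr ⟨1, one_mem _, (a : G) * b, ⟨mul_mem (mem_sup_left a.2) (mem_sup_right b.2), ?_⟩, by group⟩
    rintro (h | h)
    · exact hb (Subtype.ext (mem_bot.1 (E.self.2.2.1.le ⟨(W₁.mul_mem_cancel_left a.2).1 h, b.2⟩)))
    · exact ha (Subtype.ext (mem_bot.1 (E.self.2.2.1.le ⟨a.2, (W₂.mul_mem_cancel_right b.2).1 h⟩)))
  exact (ti_apply hi.dade (hi.supp_alpha X f g) (a := ⟨(a : G) * b, hT⟩) hA).trans (hi.alpha_V X f g _ a b hb rfl)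

/-- A member of the family is no exceptional character. -/
theorem inner_mu_xi (i : ι) (f : ↥W₁ →* ℂˣ) (g : ↥W₂ →* ℂˣ) :
    Cfsg.classInner (X.mu f g) (xi i) = 0 ∧ Cfsg.classInner (xi i) (X.mu f g) = 0 := by
  have hne : X.mu f g ≠ xi i := fun e => by
    obtain ⟨b, hb, hb1⟩ := (bot_or_exists_ne_one W₂).resolve_left hi.nt.ne
    have h1 := X.val f g ⟨(1 : W₁) * b, mul_mem (hi.nt.core_le (hi.nt.le₁ (1 : W₁).2)) (hi.nt.le₂ hb)⟩ 1 ⟨b, hb⟩
      (fun e' => hb1 (congrArg Subtype.val e')) rfl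
    rw [e, hi.fam.xi_off _ fun h => hb1 ?_] at h1
    · have hg : (g ⟨b, hb⟩ : ℂ) ≠ 0 := (g ⟨b, hb⟩).ne_zero
      rcases X.sgn_pm f with e' | e' <;> simp [e'] at h1 <;> exact hg h1.symm
    · have : b ∈ Cfsg.sigmaCore T := by simpa using mem_subgroupOf.1 h
      exact mem_bot.1 (hi.nt.compl.2.2.1 ▸ (⟨this, hb⟩ : b ∈ Cfsg.sigmaCore T ⊓ W₂))
  exact ⟨classInner_irr_ne (X.irr f g) (hi.irr i) hne, classInner_irr_ne (hi.irr i) (X.irr f g) hne.symm⟩

/-- The norm of an image. -/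
theorem image_norm {f : ↥W₁ →* ℂˣ} (hf : f ≠ 1) (g : ↥W₂ →* ℂˣ) :
    Cfsg.classInner (X.image (xi i₀) f g) (X.image (xi i₀) f g) = ((2 + X.kap f ^ 2 : ℤ) : ℂ) := by
  rw [Exc.image, dade_iso hi.dade (hi.supp_alpha X f g) (hi.supp_alpha X f g)]
  simp only [Exc.alpha, classInner_sub_left, classInner_sub_right, classInner_smul_left, classInner_smul_right,
    Exc.inner_mu, (hi.inner_mu_xi X i₀ _ _).1, (hi.inner_mu_xi X i₀ _ _).2, hi.fam.norm₀, map_intCast]
  simp only [hf, Ne.symm hf, and_self, false_and, if_true, if_false]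
  rcases X.sgn_pm f with e | e <;> rw [e] <;> push_cast <;> ring

/-- The principal part. -/
theorem image_one {f : ↥W₁ →* ℂˣ} (hf : f ≠ 1) :
    Cfsg.classInner (X.image (xi i₀) f 1) (fun _ => 1) = -(X.sgn f : ℂ) := by
  rw [Exc.image, ti_inner hi.dade (hi.supp_alpha X f 1) (IsGenChar.classFun gen_one),
    show (fun x : T => (fun _ : G => (1 : ℂ)) (x : G)) = X.mu 1 1 from (X.one hi.nt).1.symm]
  simp only [Exc.alpha, classInner_sub_left, classInner_smul_left, Exc.inner_mu, (hi.inner_mu_xi X i₀ _ _).2]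
  simp [hf]

/-- The coordinates on the family. -/
theorem image_Z (f : ↥W₁ →* ℂˣ) (g : ↥W₂ →* ℂˣ) (i : ι) : Cfsg.classInner (X.image (xi i₀) f g) (Z i) =
    Cfsg.classInner (X.image (xi i₀) f g) (Z i₀) + (if i = i₀ then 0 else (X.kap f : ℂ)) := by
  have h := dade_iso hi.dade (hi.supp_alpha X f g) (hi.supp_lift (hi.supp_diff i))
  rw [hi.dade_eq (hi.supp_diff i), hi.fam.Z_diff, classInner_sub_right,
    show Cfsg.dadeIsometry (tiSet T W₁ W₂) T (fun _ => ⊥) (X.alpha (xi i₀) f g) = X.image (xi i₀) f g from rfl] at h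
  rw [sub_eq_iff_eq_add'] at h
  rw [h]
  congr 1
  simp only [Exc.alpha, classInner_sub_left, classInner_sub_right, classInner_smul_left,
    (hi.inner_mu_xi X _ _ _).1, hi.fam.orth, eq_comm (a := i₀) (b := i)]
  by_cases hii : i = i₀ <;> simp [hii]

/-- The basic function of the family. -/
theorem base_eq [Fintype (↥W₂ →* ℂˣ)] : Cfsg.indFun (core T) (fun _ => 1) = ∑ g, X.mu 1 g := by
  rw [← X.theta_one hi.nt, (X.theta_spec hi.nt 1).2]

/-- The pairing with the basic function. -/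
theorem image_beta {f : ↥W₁ →* ℂˣ} (hf : f ≠ 1) :
    Cfsg.classInner (X.image (xi i₀) f 1)
      (Cfsg.dadeIsometry ((Cfsg.sigmaCore T : Set G) \ {1}) T (fun _ => ⊥)
        (Cfsg.indFun (core T) (fun _ => 1) - xi i₀)) = ((X.kap f - X.sgn f : ℤ) : ℂ) := by
  haveI := Exc.finite_dual₂ hi.nt
  letI := Fintype.ofFinite (↥W₂ →* ℂˣ)
  rw [← hi.dade_eq hi.supp_base, Exc.image, dade_iso hi.dade (hi.supp_alpha X f 1) (hi.supp_lift hi.supp_base),
    hi.base_eq X]
  simp only [Exc.alpha, classInner_sub_left, classInner_sub_right, classInner_smul_left,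
    classInner_sum_right, Exc.inner_mu, (hi.inner_mu_xi X i₀ _ _).1, (hi.inner_mu_xi X i₀ _ _).2, hi.fam.norm₀]
  simp [hf]
  ring

/-- The images along a row differ by grid members. -/
theorem image_row (f : ↥W₁ →* ℂˣ) (g : ↥W₂ →* ℂˣ) :
    X.image (xi i₀) f g - X.image (xi i₀) f 1 =
      (X.sgn f : ℂ) • (E.eta f g - E.eta f 1 - E.eta 1 g + fun _ => (1 : ℂ)) := by
  funext x
  have hs := (hi.supp_alpha X f g).sub (hi.supp_alpha X f 1)
  have hsub : X.image (xi i₀) f g - X.image (xi i₀) f 1 =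
      Cfsg.dadeIsometry (tiSet T W₁ W₂) T (fun _ => ⊥) (X.alpha (xi i₀) f g - X.alpha (xi i₀) f 1) :=
    (dade_sub _ _).symm
  by_cases hx : x ∈ mixed W₁ W₂
  · obtain ⟨y, z, hz, rfl⟩ := hx
    obtain ⟨a, b, ha, hb, rfl⟩ := exists_of_mem_V E.self hz
    simp only [Pi.sub_apply, Pi.smul_apply, Pi.add_apply, IsGenChar.classFun (hi.image_gen X f g) _ y,
      IsGenChar.classFun (hi.image_gen X f 1) _ y, E.classFun _ _ _ y, hi.image_V X f g a b ha hb,
      hi.image_V X f 1 a b ha hb, E.val _ _ a b ha hb, MonoidHom.one_apply, Units.val_one, smul_eq_mul]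
    ring
  · have h0 := E.outside f g x hx
    have hr : (X.sgn f : ℂ) • (E.eta f g - E.eta f 1 - E.eta 1 g + fun _ => (1 : ℂ)) = fun y =>
        (X.sgn f : ℂ) * (1 - E.eta f 1 y - E.eta 1 g y + E.eta f g y) := by
      funext y; simp only [Pi.smul_apply, Pi.add_apply, Pi.sub_apply, smul_eq_mul]; ring
    rw [hr, hsub]
    show _ = (X.sgn f : ℂ) * (1 - E.eta f 1 x - E.eta 1 g x + E.eta f g x)
    rw [h0, mul_zero]
    by_cases hsx : x ∈ Dade.supp (tiSet T W₁ W₂) (fun _ : G => (⊥ : Subgroup G))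
    · rw [ti_supp] at hsx
      obtain ⟨a, ha, y, rfl⟩ := hsx
      rw [dade_cf hi.dade hs a y, ti_apply hi.dade hs (a := ⟨a, hi.dade.subset ha⟩) ha]
      rcases ha with ⟨haσ, -⟩ | ⟨m, hm, z, hz, rfl⟩
      · simp only [Exc.alpha, Pi.sub_apply, Pi.smul_apply, X.res f g ⟨a, hi.nt.core_le haσ⟩ haσ,
          X.one_res hi.nt g (k := ⟨a, hi.nt.core_le haσ⟩) haσ, X.one_res hi.nt 1 (k := ⟨a, hi.nt.core_le haσ⟩) haσ,
          sub_self]
      · exact absurd ⟨y * m, z, hz, by group⟩ hx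
    · exact Dade.dade_eq_zero hsx

/-- The shifted image of the sum of a row. -/
theorem sum_alpha [Fintype (↥W₂ →* ℂˣ)] (f : ↥W₁ →* ℂˣ) :
    Cfsg.indFun (core T) (X.theta f) - X.theta f 1 • xi i₀ =
      (∑ g, X.alpha (xi i₀) f g) + (X.sgn f : ℂ) • (Cfsg.indFun (core T) (fun _ => 1) - xi i₀) := by
  rw [(X.theta_spec hi.nt f).2, hi.base_eq X, kap_spec X f]
  simp only [Exc.alpha, Finset.sum_sub_distrib, Finset.sum_const, ← Finset.smul_sum, Finset.card_univ,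
    Exc.card_dual₂ hi.nt, ← Nat.cast_smul_eq_nsmul ℂ]
  module

/-- The defect of a fixed character in terms of the image. -/
theorem defect_theta {f : ↥W₁ →* ℂˣ} :
    defect (core T) ((Cfsg.sigmaCore T : Set G) \ {1}) (xi i₀) (Z i₀) (X.theta f) =
      (Nat.card W₂ : ℂ) * (Cfsg.classInner (X.image (xi i₀) f 1) (Z i₀) + (X.kap f : ℂ)) +
        (X.sgn f : ℂ) * (Cfsg.classInner (Cfsg.dadeIsometry ((Cfsg.sigmaCore T : Set G) \ {1}) T (fun _ => ⊥)
          (Cfsg.indFun (core T) (fun _ => 1) - xi i₀)) (Z i₀) + 1) := by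
  classical
  haveI := Exc.finite_dual₂ hi.nt
  letI := Fintype.ofFinite (↥W₂ →* ℂˣ)
  have h0 : Cfsg.classInner (Cfsg.indFun (core T) (X.theta f)) (xi i₀) = 0 := by
    rw [(X.theta_spec hi.nt f).2, classInner_sum_left]
    exact Finset.sum_eq_zero fun g _ => (hi.inner_mu_xi X i₀ f g).1
  have hrow : ∀ g, Cfsg.classInner (X.image (xi i₀) f g) (Z i₀) = Cfsg.classInner (X.image (xi i₀) f 1) (Z i₀) := by
    intro g
    rw [← sub_eq_zero, ← classInner_sub_left, hi.image_row X f g]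
    have hp : ∀ f g, Cfsg.classInner (E.eta f g) (Z i₀) = 0 := fun f g => by
      rw [← classInner_conj_symm, hi.perp, map_zero]
    simp only [classInner_smul_left, classInner_add_left, classInner_sub_left, hp, ← E.one]
    ring
  rw [defect, sig, ← hi.dade_eq hi.fam.supp, hi.sum_alpha X f, dade_add, dade_sum, dade_smul, hi.dade_eq hi.supp_base,
    h0, classInner_add_left, classInner_add_left, classInner_sum_left, classInner_smul_left, classInner_smul_left,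
    hi.fam.Z_norm₀, kap_spec X f]
  rw [Finset.sum_congr rfl fun g _ => (show Cfsg.classInner (Cfsg.dadeIsometry (tiSet T W₁ W₂) T (fun _ => ⊥)
    (X.alpha (xi i₀) f g)) (Z i₀) = _ from hrow g), Finset.sum_const, Finset.card_univ, Exc.card_dual₂ hi.nt,
    nsmul_eq_mul]
  ring

/-- The grid coordinates of the first image of a row: an additive array, and the bound. -/
theorem image_bound {f : ↥W₁ →* ℂˣ} (hf : f ≠ 1) :
    ∃ g : ℤ, Cfsg.classInner (X.image (xi i₀) f 1) (Z i₀) = ((g - X.kap f : ℤ) : ℂ) ∧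
      (Fintype.card ι : ℤ) * g ^ 2 - 2 * X.kap f * g ≤ 1 ∧
      ((Fintype.card ι : ℤ) * g ^ 2 - 2 * X.kap f * g = 0 →
        ∀ f' g', Cfsg.classInner (X.image (xi i₀) f 1) (E.eta f' g') =
          if g' = 1 then (if f' = f then (X.sgn f : ℂ) else if f' = 1 then -(X.sgn f : ℂ) else 0) else 0) := by
  classical
  haveI := E.finite_left; haveI := E.swap.finite_left
  letI := Fintype.ofFinite (↥W₁ →* ℂˣ); letI := Fintype.ofFinite (↥W₂ →* ℂˣ)
  set F := X.image (xi i₀) f 1 with hF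
  have hFgen := hi.image_gen X f 1
  obtain ⟨g₀, hg₀⟩ := IsGenChar.classInner_int hFgen (hi.fam.gen i₀)
  refine ⟨g₀ + X.kap f, by rw [hg₀, add_sub_cancel_right], ?_⟩
  set t := X.sgn f with ht
  set R : G → ℂ := F - (t : ℂ) • (E.eta f 1 - E.eta 1 1) with hR
  have hRgen : Cfsg.IsGeneralizedCharacter G R :=
    IsGenChar.sub hFgen (IsGenChar.zsmul (IsGenChar.sub (E.gen _ _) (E.gen _ _)) _)
  have hV : ∀ (a : ↥W₁) (b : ↥W₂), a ≠ 1 → b ≠ 1 → R ((a : G) * b) = 0 := fun a b ha hb => by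
    simp only [R, F, Pi.sub_apply, Pi.smul_apply, hi.image_V X f 1 a b ha hb, E.val _ _ a b ha hb,
      MonoidHom.one_apply, Units.val_one, smul_eq_mul, t]
    ring
  have hcoef : ∀ f' g', E.coef F f' g' = E.coef R f' g' +
      if g' = 1 then (if f' = f then t else if f' = 1 then -t else 0) else 0 := by
    intro f' g'
    have e : classInner F (E.eta f' g') = classInner R (E.eta f' g') +
        (t : ℂ) * (classInner (E.eta f 1) (E.eta f' g') - classInner (E.eta 1 1) (E.eta f' g')) := by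
      simp only [R, classInner_sub_left, classInner_smul_left]; ring
    rw [E.coef_spec hFgen, E.coef_spec hRgen, E.eta_inner (f, 1) (f', g'), E.eta_inner (1, 1) (f', g')] at e
    apply Int.cast_injective (α := ℂ)
    rw [e, Int.cast_add]
    congr 1
    by_cases hg' : g' = 1
    · subst hg'
      by_cases h1 : f' = f
      · subst h1; simp [Ne.symm hf]
      · by_cases h2 : f' = 1
        · subst h2; simp [hf, h1]
        · simp [h1, h2, Ne.symm h1, Ne.symm h2]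
    · simp [hg', Ne.symm hg']
  have h00 : E.coef R 1 1 = 0 := by
    have h := hcoef 1 1
    rw [if_pos rfl, if_neg (Ne.symm hf), if_pos rfl] at h
    have h' : E.coef F 1 1 = -t := zInner_eq (by rw [E.one, hi.image_one X hf]; push_cast; rfl)
    omega
  obtain ⟨hlow, hzero⟩ := pattern_one (E.three_le (hi.nt.hG.1)) (E.swap.three_le (hi.nt.hG.1)) (1 : ↥W₁ →* ℂˣ)
    (1 : ↥W₂ →* ℂˣ) hf (E.coef R) (fun i j => by rw [E.coef_add hRgen hV i j, h00, sub_zero]) h00 t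
    (by rcases X.sgn_pm f with e | e <;> rw [ht, e] <;> norm_num)
  -- Bessel on the grid and the family
  let v : ((↥W₁ →* ℂˣ) × (↥W₂ →* ℂˣ)) ⊕ ι → G → ℂ := Sum.elim (fun p => E.eta p.1 p.2) Z
  let c : ((↥W₁ →* ℂˣ) × (↥W₂ →* ℂˣ)) ⊕ ι → ℤ :=
    Sum.elim (fun p => E.coef F p.1 p.2) (fun i => g₀ + if i = i₀ then 0 else X.kap f)
  have hv : ∀ x y, Cfsg.classInner (v x) (v y) = if x = y then 1 else 0 := by
    rintro (p | i) (p' | i') <;> simp only [v, Sum.elim_inl, Sum.elim_inr, reduceCtorEq, if_false]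
    · rw [E.eta_inner]; exact if_congr (by simp) rfl rfl
    · rw [← classInner_conj_symm, hi.perp, map_zero]
    · exact hi.perp _ _ _
    · rw [hi.fam.Z_orth]; exact if_congr (by simp) rfl rfl
  have hc : ∀ x, Cfsg.classInner F (v x) = c x := by
    rintro (p | i) <;> simp only [v, c, Sum.elim_inl, Sum.elim_inr]
    · exact E.coef_spec hFgen _ _
    · rw [hF, hi.image_Z X f 1 i, hg₀]; push_cast; split_ifs <;> simp
  have hb := (bessel_int v (fun x y => by convert hv x y) F c hc (hi.image_norm X hf 1)).1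
  simp only [c, Fintype.sum_sum_type, Sum.elim_inl, Sum.elim_inr, Fintype.sum_prod_type] at hb
  rw [Finset.sum_comm] at hb
  have h1 : ∑ i : ι, (g₀ + if i = i₀ then 0 else X.kap f) ^ 2 =
      (Fintype.card ι : ℤ) * (g₀ + X.kap f) ^ 2 - 2 * X.kap f * (g₀ + X.kap f) + X.kap f ^ 2 := by
    rw [Finset.sum_congr rfl (g := fun i => (g₀ + X.kap f) ^ 2 + if i = i₀ then g₀ ^ 2 - (g₀ + X.kap f) ^ 2 else 0)
      fun i _ => by split_ifs <;> ring, Finset.sum_add_distrib, Finset.sum_const, Finset.card_univ,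
      Finset.sum_ite_eq', if_pos (Finset.mem_univ _), nsmul_eq_mul]
    ring
  rw [h1] at hb
  simp only [hcoef] at hb
  refine ⟨by linarith, fun h0 f' g' => ?_⟩
  rw [E.coef_spec hFgen, hcoef, hzero (by linarith) f' g', zero_add]
  split_ifs <;> simp [t]

/-- Without a shift the first image of a row is exact. -/
theorem image_exact {f : ↥W₁ →* ℂˣ} (hf : f ≠ 1)
    (hg : Cfsg.classInner (X.image (xi i₀) f 1) (Z i₀) = -(X.kap f : ℂ)) :
    X.image (xi i₀) f 1 = (X.sgn f : ℂ) • (E.eta f 1 - E.eta 1 1) - (X.kap f : ℂ) • Z i₀ := by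
  classical
  obtain ⟨g, hg', -, hz⟩ := hi.image_bound X hf
  have hg0 : g = 0 := by
    rw [hg] at hg'
    have : ((-X.kap f : ℤ) : ℂ) = ((g - X.kap f : ℤ) : ℂ) := by rw [← hg']; push_cast; rfl
    have := Int.cast_injective this
    omega
  subst hg0
  have hc := hz (by ring)
  set F := X.image (xi i₀) f 1
  have h1 : Cfsg.classInner F (E.eta f 1) = (X.sgn f : ℂ) := by rw [hc, if_pos rfl, if_pos rfl]
  have h2 : Cfsg.classInner F (E.eta 1 1) = -(X.sgn f : ℂ) := by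
    rw [hc, if_pos rfl, if_neg (Ne.symm hf), if_pos rfl]
  have h1' : Cfsg.classInner (E.eta f 1) F = (X.sgn f : ℂ) := by rw [← classInner_conj_symm, h1, map_intCast]
  have h2' : Cfsg.classInner (E.eta 1 1) F = -(X.sgn f : ℂ) := by
    rw [← classInner_conj_symm, h2, map_neg, map_intCast]
  have h3' : Cfsg.classInner (Z i₀) F = -(X.kap f : ℂ) := by rw [← classInner_conj_symm, hg, map_neg, map_intCast]
  have hp : ∀ f g, Cfsg.classInner (E.eta f g) (Z i₀) = 0 := fun f g => by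
    rw [← classInner_conj_symm, hi.perp, map_zero]
  refine sub_eq_zero.1 ((classInner_self_eq_zero _).1 ?_)
  simp only [classInner_sub_left, classInner_sub_right, classInner_smul_left, classInner_smul_right, map_intCast,
    hi.image_norm X hf 1, h1, h2, h1', h2', h3', hg, hi.perp, hp, E.norm_one, hi.fam.Z_norm₀,
    E.orth f 1 1 1 (fun e => hf e.1), E.orth 1 1 f 1 (fun e => hf e.1.symm), F]
  rcases X.sgn_pm f with e | e <;> rw [e] <;> push_cast <;> ring

/-- The images of two rows of equal sign and degree differ by grid members. -/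
theorem image_diff {f f' : ↥W₁ →* ℂˣ} (hf : f ≠ 1) (hf' : f' ≠ 1) (hne : f ≠ f') (hs : X.sgn f = X.sgn f')
    (hk : X.kap f = X.kap f') : X.image (xi i₀) f 1 - X.image (xi i₀) f' 1 =
      (X.sgn f : ℂ) • (E.eta f 1 - E.eta f' 1) := by
  have hd : X.image (xi i₀) f 1 - X.image (xi i₀) f' 1 =
      Cfsg.dadeIsometry (tiSet T W₁ W₂) T (fun _ => ⊥) (X.alpha (xi i₀) f 1 - X.alpha (xi i₀) f' 1) :=
    (dade_sub _ _).symm
  refine E.eq_diff hi.nt.hG.1 (IsGenChar.sub (hi.image_gen X f 1) (hi.image_gen X f' 1)) hf hf' hne 1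
    (X.sgn_pm f) ?_ ?_ fun a b ha hb => ?_
  · rw [classInner_sub_left, hi.image_one X hf, hi.image_one X hf', hs, sub_self]
  · rw [hd, dade_iso hi.dade ((hi.supp_alpha X f 1).sub (hi.supp_alpha X f' 1))
      ((hi.supp_alpha X f 1).sub (hi.supp_alpha X f' 1))]
    have e : X.alpha (xi i₀) f 1 - X.alpha (xi i₀) f' 1 = X.mu f 1 - X.mu f' 1 := by
      simp only [Exc.alpha, hs, hk]; abel
    rw [e]
    simp only [classInner_sub_left, classInner_sub_right, Exc.inner_mu]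
    simp [hne, Ne.symm hne]
    norm_num
  · rw [Pi.sub_apply, hi.image_V X f 1 a b ha hb, hi.image_V X f' 1 a b ha hb, hs]
    simp only [MonoidHom.one_apply, Units.val_one]
    ring

end Img

end Cfsg.Agent.Grp.FT
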