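import Cfsg.Agent.Lib.Grp.FT.NonTwoExc
import Cfsg.Agent.Lib.Grp.FT.NonTwoDefect
import Cfsg.Agent.Lib.Char.CohKernel
import Cfsg.Agent.Lib.Char.CentralCongr
import Cfsg.Agent.Lib.Char.OneSeen.Values

/-!
`T` of type V: the defects of the fixed characters when `[T' : T'']` is not a prime power.
-/

set_option autoImplicit false
set_option linter.unusedSectionVars false
set_option linter.style.haveILetI false

namespace Cfsg.Agent.Grp.FT

open Subgroup Cfsg.Agent.Char Cfsg.Agent.Transfer Cfsg.Agent.Transfer.Loc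
open scoped ComplexConjugate commutatorElement

attribute [local instance] _root_.Classical.propDecidable

universe u

variable {G : Type u} [Group G]

/-- A group acting freely on the nonidentity elements of a normal section has order dividing their number. -/
theorem free_dvd {Γ : Type u} [Group Γ] [Finite Γ] (W : Subgroup Γ) {M N : Subgroup Γ} [M.Normal] [N.Normal]
    (hfree : ∀ x ∈ W, x ≠ 1 → ∀ k ∈ M, x * k * x⁻¹ * k⁻¹ ∈ N → k ∈ N) :
    Nat.card W ∣ N.relIndex M - 1 := by
  classical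
  letI : Fintype W := Fintype.ofFinite _
  letI : Fintype (Γ ⧸ N) := Fintype.ofFinite _
  letI : MulAction W (Γ ⧸ N) :=
    MulAction.compHom _ (MulAut.conj.comp ((QuotientGroup.mk' N).comp W.subtype))
  have hsmul : ∀ (x : W) (k : Γ), x • (QuotientGroup.mk' N k) =
      QuotientGroup.mk' N ((x : Γ) * k * (x : Γ)⁻¹) := fun x k => by
    show MulAut.conj (QuotientGroup.mk' N (x : Γ)) (QuotientGroup.mk' N k) = _
    simp [MulAut.conj_apply]
  set S : Finset (Γ ⧸ N) := Finset.univ.filter fun v => v ∈ M.map (QuotientGroup.mk' N) ∧ v ≠ 1 with hS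
  obtain ⟨γ, hγ, he⟩ := CentralCongr.sum_free (P := W) (fun _ : Γ ⧸ N => (1 : ℂ)) (fun _ => isIntegral_one)
    (fun _ _ => rfl) S
    (fun x v hv => by
      obtain ⟨⟨k, hk, rfl⟩, hne⟩ := (Finset.mem_filter.1 hv).2
      refine Finset.mem_filter.2 ⟨Finset.mem_univ _, ?_, fun e => hne ?_⟩
      · rw [hsmul]; exact mem_map_of_mem _ ((inferInstance : M.Normal).conj_mem k hk _)
      · rw [hsmul, map_mul, map_mul, map_inv, conj_eq_one_iff] at e
        exact e)
    (fun x v hv hfix => by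
      obtain ⟨⟨k, hk, rfl⟩, hne⟩ := (Finset.mem_filter.1 hv).2
      by_contra hx
      refine hne ((QuotientGroup.eq_one_iff k).2 (hfree x x.2 (fun e => hx (Subtype.ext e)) k hk ?_))
      rw [hsmul] at hfix
      rw [← QuotientGroup.eq_one_iff]
      show QuotientGroup.mk' N ((x : Γ) * k * (x : Γ)⁻¹ * k⁻¹) = 1
      rw [map_mul, hfix, map_inv, mul_inv_cancel])
  have hS1 : S.card = N.relIndex M - 1 := by
    have h1 : Nat.card (M.map (QuotientGroup.mk' N)) = N.relIndex M := by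
      rw [← Subgroup.relIndex_bot_left, ← Subgroup.relIndex_comap, MonoidHom.comap_bot, QuotientGroup.ker_mk']
    rw [← h1, show S = (Finset.univ.filter fun v => v ∈ M.map (QuotientGroup.mk' N)).erase 1 from
      Finset.ext fun v => by simp [S, and_comm], Finset.card_erase_of_mem (Finset.mem_filter.2 ⟨Finset.mem_univ _, one_mem _⟩),
      Nat.card_eq_fintype_card, Fintype.card_subtype]
  have hw : (Nat.card W : ℂ) ≠ 0 := Nat.cast_ne_zero.2 Nat.card_pos.ne'
  rw [Finset.sum_const, nsmul_eq_mul, mul_one, hS1] at he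
  have e : γ = ((((N.relIndex M - 1 : ℕ) : ℚ) / (Nat.card W : ℚ) : ℚ) : ℂ) := by
    push_cast
    rw [he, mul_div_cancel_left₀ _ hw]
  obtain ⟨z, hz⟩ := Cfsg.Agent.Char.int_of_isIntegral_rat (e ▸ hγ)
  rw [← e] at hz
  rw [hz] at he
  have he' : ((N.relIndex M - 1 : ℕ) : ℤ) = (Nat.card W : ℤ) * z := by exact_mod_cast he
  exact_mod_cast Dvd.intro z he'.symm

variable [Fintype G] {T W₁ W₂ : Subgroup G}

/-- The derived subgroup of `T'`, inside `T`. -/
abbrev core' (T : Subgroup G) : Subgroup T := ⁅core T, core T⁆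

namespace NonTwo

variable (h : NonTwo T W₁ W₂)
include h

theorem core'_le : core' T ≤ core T := Subgroup.commutator_le_self _

theorem map_core : (core T).map T.subtype = Cfsg.sigmaCore T := Subgroup.map_subgroupOf_eq_of_le h.core_le

theorem map_core' : (core' T).map T.subtype = ⁅Cfsg.sigmaCore T, Cfsg.sigmaCore T⁆ := by
  rw [Subgroup.map_commutator, h.map_core]

theorem mem_core' {k : T} : k ∈ core' T ↔ (k : G) ∈ ⁅Cfsg.sigmaCore T, Cfsg.sigmaCore T⁆ := by
  rw [← h.map_core']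
  exact (Subgroup.mem_map_iff_mem T.subtype_injective).symm

theorem le₁_core' {k : T} (hk : (k : G) ∈ W₁) : k ∈ core' T := h.mem_core'.2 (h.le₁_derived hk)

theorem subgroupOf_core' : (core' T).subgroupOf (core T) = commutator (core T) := by
  rw [Subgroup.subgroupOf, ← Subgroup.comap_map_eq_self_of_injective (core T).subtype_injective (commutator (core T)),
    Subgroup.map_subtype_commutator]

theorem card_core : Nat.card (core T) = Nat.card (Cfsg.sigmaCore T) :=
  Nat.card_congr (subgroupOfEquivOfLe h.core_le).toEquiv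

theorem index_eq : (core T).index = Nat.card W₂ := (complIn_relIndex h.compl).1

theorem mem_core_of_coprime {t : T} (ht : (orderOf t).Coprime (Nat.card W₂)) : t ∈ core T := by
  rw [← QuotientGroup.eq_one_iff, ← orderOf_eq_one_iff]
  refine Nat.eq_one_of_dvd_coprimes ht (orderOf_map_dvd (QuotientGroup.mk' (core T)) t) ?_
  rw [← h.index_eq, Subgroup.index_eq_card]
  exact orderOf_dvd_natCard _

theorem card₂_three : 3 ≤ Nat.card W₂ := by
  have h1 := h.card₂_ne_one
  obtain ⟨j, hj⟩ := h.odd W₂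
  omega

/-- `W₂` acts without fixed points on the abelianised `T'`. -/
theorem fix_quot {x k : T} (hx : (x : G) ∈ W₂) (hx1 : x ≠ 1) (hk : k ∈ core T)
    (hc : x * k * x⁻¹ * k⁻¹ ∈ core' T) : k ∈ core' T := by
  have hn : T ≤ normalizer (⁅Cfsg.sigmaCore T, Cfsg.sigmaCore T⁆ : Subgroup G) :=
    normal_subgroupOf_iff_le_normalizer (Subgroup.commutator_le_self _ |>.trans h.core_le) |>.1 (by
      rw [← h.map_core', Subgroup.subgroupOf, Subgroup.comap_map_eq_self_of_injective T.subtype_injective]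
      infer_instance)
  obtain ⟨c, hc1, hcN⟩ := h.fix_section hx (fun e => hx1 (Subtype.ext e)) le_rfl (Subgroup.commutator_le_self _)
    (h.core_le.trans hn) (h.le₂.trans h.le_normalizer_core) (h.le₂.trans hn) (mem_subgroupOf.1 hk)
    (by simpa using h.mem_core'.1 hc)
  refine h.mem_core'.2 ?_
  have h2 := h.le₁_derived hc1.1
  simpa using mul_mem h2 (inv_mem hcN)

end NonTwo

/-- The hypotheses in type V: `T'` nilpotent with a family of induced linear characters. -/
structure Five (T W₁ W₂ : Subgroup G) [Fintype T] [Fintype (core T)] {ι : Type u} [Fintype ι] [DecidableEq ι]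
    (xi : ι → T → ℂ) (Z : ι → G → ℂ) (i₀ : ι) : Prop where
  nt : NonTwo T W₁ W₂
  nil : Group.IsNilpotent (core T)
  fam : LinFam (core T) ((Cfsg.sigmaCore T : Set G) \ {1}) xi Z i₀
  card : Fintype.card ι * Nat.card W₂ + 1 = (core' T).relIndex (core T)

namespace Five

variable [Fintype T] [Fintype (core T)] {ι : Type u} [Fintype ι] [DecidableEq ι] {xi : ι → T → ℂ} {Z : ι → G → ℂ}
  {i₀ : ι} (hv : Five T W₁ W₂ xi Z i₀)
include hv

theorem odd_dvd {a : ℕ} (ha : a ∣ Nat.card (core T)) : Odd a :=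
  ((hv.nt.card_core.symm ▸ hv.nt.odd (Cfsg.sigmaCore T) : Odd (Nat.card (core T)))).of_dvd_nat ha

theorem two_le : 2 ≤ Fintype.card ι := by
  obtain ⟨j, hj, -⟩ := hv.fam.bar i₀
  exact Fintype.one_lt_card_iff.2 ⟨j, i₀, hj⟩

theorem even_card : Even (Fintype.card ι) := by
  have h1 : Odd ((core' T).relIndex (core T)) := hv.odd_dvd (Subgroup.index_dvd_card _)
  rw [← hv.card] at h1
  rcases Nat.even_or_odd (Fintype.card ι) with he | ho
  · exact he
  · exact absurd h1 (Nat.not_odd_iff_even.2 ((ho.mul (hv.nt.odd W₂)).add_odd odd_one))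

theorem kn_ge : 2 * Nat.card W₂ + 1 ≤ (core' T).relIndex (core T) := by
  rw [← hv.card]
  exact Nat.add_le_add_right (Nat.mul_le_mul_right _ hv.two_le) _

/-- Characters of `T'` are linear exactly when trivial on the derived subgroup. -/
theorem linear_iff {φ : core T → ℂ} (hφ : Cfsg.IsIrrCharacter (core T) φ) :
    (∀ k : core T, (k : T) ∈ core' T → φ k = φ 1) ↔ φ 1 = 1 := by
  constructor
  · intro hh
    refine Descent.one_of_commutator hφ fun k hk => hh k ?_
    rw [← hv.nt.subgroupOf_core'] at hk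
    exact mem_subgroupOf.1 hk
  · intro h1 k hk
    obtain ⟨l, rfl⟩ := linearHom_of_isCharacter (IsIrr.isCharacter hφ) h1
    have hk' : k ∈ commutator (core T) := hv.nt.subgroupOf_core' ▸ mem_subgroupOf.2 hk
    simp [OneSeen.lin_eq_one l hk']

/-- The degree of a nonlinear character. -/
theorem degree {φ : core T → ℂ} (hφ : Cfsg.IsIrrCharacter (core T) φ) (hl : φ 1 ≠ 1) :
    ∃ m : ℕ, φ 1 = (m : ℂ) ∧ 3 ≤ m ∧ Odd m ∧ m ∣ Nat.card (core T) := by
  obtain ⟨m, hm0, hm⟩ := IsIrr.one_eq_pos hφ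
  have hd := IsIrr.degree_dvd_card hφ hm
  obtain ⟨j, hj⟩ := hv.odd_dvd hd
  have hm1 : m ≠ 1 := fun e => hl (by rw [hm, e, Nat.cast_one])
  exact ⟨m, hm, by omega, ⟨j, hj⟩, hd⟩

/-- The norm of an induced character. -/
theorem norm_le (X : Exc T W₁ W₂) {φ : core T → ℂ} (hφ : Cfsg.IsIrrCharacter (core T) φ) :
    ∃ c : ℤ, Cfsg.classInner (Cfsg.indFun (core T) φ) (Cfsg.indFun (core T) φ) = (c : ℂ) ∧ 1 ≤ c ∧
      c ≤ Nat.card W₂ ∧ (c = 1 ∨ (c = Nat.card W₂ ∧ ∃ f, φ = X.theta f)) := by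
  have hw : (1 : ℤ) ≤ Nat.card W₂ := by exact_mod_cast Nat.card_pos
  rcases X.norm_cases hv.nt hφ with e | ⟨f, rfl⟩
  · exact ⟨1, by rw [e, Int.cast_one], le_rfl, hw, Or.inl rfl⟩
  · exact ⟨Nat.card W₂, by rw [X.theta_norm hv.nt, Int.cast_natCast], hw, le_rfl, Or.inr ⟨rfl, f, rfl⟩⟩

/-- The inequality from the linear characters. -/
theorem basic {φ : core T → ℂ} (hφ : Cfsg.IsIrrCharacter (core T) φ) (hl : φ 1 ≠ 1) {m : ℕ} {c z : ℤ}
    (hm : φ 1 = (m : ℂ)) (hc : Cfsg.classInner (Cfsg.indFun (core T) φ) (Cfsg.indFun (core T) φ) = (c : ℂ))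
    (hz : defect (core T) ((Cfsg.sigmaCore T : Set G) \ {1}) (xi i₀) (Z i₀) φ = (z : ℂ)) :
    (Fintype.card ι : ℤ) * z ^ 2 ≤ c + 2 * m * z := by
  have hne : (core' T).relIndex (core T) ≠ 1 := by have := hv.kn_ge; have := hv.nt.card₂_three; omega
  have hlt : core' T < core T :=
    lt_of_le_not_ge hv.nt.core'_le fun hle => hne (Subgroup.relIndex_eq_one.2 hle)
  have h1 := hv.fam.layer hlt le_rfl (fun ψ hψ hB hC => hv.fam.defect_linear hψ ((hv.linear_iff hψ).1 hB)
      fun e => hC fun k _ => by rw [e])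
    hφ (Or.inr fun hh => hl ((hv.linear_iff hφ).1 hh)) hm hc hz
  rw [Subgroup.relIndex_self, hv.nt.index_eq, ← hv.card] at h1
  push_cast at h1
  have hw : (0 : ℤ) < Nat.card W₂ := by exact_mod_cast Nat.card_pos
  exact le_of_mul_le_mul_left (by linarith) hw

/-- When `[T' : T'']` is not a prime power it is large. -/
theorem kn_big (hnp : ∀ r j : ℕ, r.Prime → (core' T).relIndex (core T) ≠ r ^ j) :
    (2 * Nat.card W₂ + 1) * (4 * Nat.card W₂ + 1) ≤ (core' T).relIndex (core T) := by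
  classical
  set kn := (core' T).relIndex (core T) with hkn
  have hk1 : kn ≠ 1 := fun e => hnp 2 0 Nat.prime_two (by rw [e, pow_zero])
  obtain ⟨r, hr, hrk⟩ := Nat.exists_prime_and_dvd hk1
  haveI := Fact.mk hr
  haveI := hv.nil
  obtain ⟨R⟩ : Nonempty (Sylow r (core T)) := inferInstance
  haveI : R.Normal := Sylow.normal_of_normalizerCondition Group.normalizerCondition_of_isNilpotent R
  haveI : (R : Subgroup (core T)).Characteristic := Sylow.characteristic_of_normal R inferInstance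
  set R₀ := (R : Subgroup (core T)).map (core T).subtype with hR₀
  haveI : R₀.Normal := ConjAct.normal_of_characteristic_of_normal
  set M := core' T ⊔ R₀ with hM
  have hR₀K : R₀ ≤ core T := Subgroup.map_subtype_le _
  have hMK : M ≤ core T := sup_le hv.nt.core'_le hR₀K
  set s := (core' T).relIndex M with hs
  set t := M.relIndex (core T) with ht
  have hst : s * t = kn := Subgroup.relIndex_mul_relIndex _ _ _ le_sup_left hMK
  have htr : ¬ r ∣ t := fun hd => by
    refine R.not_dvd_index ?_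
    rw [show (R : Subgroup (core T)).index = R₀.relIndex (core T) by
      rw [hR₀, Subgroup.relIndex, Subgroup.subgroupOf, Subgroup.comap_map_eq_self_of_injective (core T).subtype_injective]]
    exact hd.trans (Subgroup.relIndex_dvd_of_le_left (core T) le_sup_right)
  obtain ⟨i, hi⟩ : ∃ i, s = r ^ i := by
    have h1 : s ∣ Nat.card R₀ := by
      rw [hs, hM, sup_comm, Subgroup.relIndex_sup_right]
      exact Subgroup.index_dvd_card _
    rw [hR₀, Subgroup.card_subtype] at h1
    obtain ⟨j, hj⟩ := IsPGroup.iff_card.1 R.isPGroup'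
    obtain ⟨i, -, hi⟩ := (Nat.dvd_prime_pow hr).1 (hj ▸ h1)
    exact ⟨i, hi⟩
  have hs1 : s ≠ 1 := fun e => htr (by rw [← hst, e, one_mul] at hrk; exact hrk)
  have ht1 : t ≠ 1 := fun e => hnp r i hr (by rw [← hst, e, mul_one, hi])
  have hcop : s.Coprime t := hi ▸ ((hr.coprime_iff_not_dvd.2 htr).pow_left i)
  have hw : Nat.card W₂ ∣ s - 1 := by
    rw [← Nat.card_congr (subgroupOfEquivOfLe hv.nt.le₂).toEquiv]
    exact free_dvd (W₂.subgroupOf T) fun x hx hx1 k hk hc =>
      hv.nt.fix_quot (mem_subgroupOf.1 hx) hx1 (hMK hk) hc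
  have hkn' : kn = Fintype.card ι * Nat.card W₂ + 1 := hv.card.symm
  have hkdvd : kn ∣ Nat.card (core T) := Subgroup.index_dvd_card _
  have hso : Odd s := hv.odd_dvd ((hst ▸ dvd_mul_right s t).trans hkdvd)
  have hto : Odd t := hv.odd_dvd ((hst ▸ dvd_mul_left t s).trans hkdvd)
  have hs0 : 0 < s := hso.pos
  have ht0 : 0 < t := hto.pos
  have hwt : Nat.card W₂ ∣ t - 1 := by
    have h1 : Nat.card W₂ ∣ s * t - 1 := by rw [hst, hkn', Nat.add_sub_cancel]; exact dvd_mul_left _ _
    have h2 : Nat.card W₂ ∣ (s - 1) * t := hw.mul_right t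
    have h3 : s * t - 1 - (s - 1) * t = t - 1 := by
      have : s * t = (s - 1) * t + t := by rw [← Nat.succ_mul]; congr; omega
      omega
    exact h3 ▸ Nat.dvd_sub h1 h2
  have two : ∀ a : ℕ, Odd a → Nat.card W₂ ∣ a - 1 → 2 * Nat.card W₂ ∣ a - 1 := fun a ha hd =>
    Nat.Coprime.mul_dvd_of_dvd_of_dvd (Nat.coprime_two_left.2 (hv.nt.odd W₂))
      (by obtain ⟨b, rfl⟩ := ha; exact ⟨b, by omega⟩) hd
  obtain ⟨a, ha⟩ := two s hso hw
  obtain ⟨b, hb⟩ := two t hto hwt
  have hne : s ≠ t := fun e => hs1 (by rw [← e, Nat.coprime_self] at hcop; exact hcop)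
  have ha1 : 1 ≤ a := by rcases Nat.eq_zero_or_pos a with rfl | h0 <;> omega
  have hb1 : 1 ≤ b := by rcases Nat.eq_zero_or_pos b with rfl | h0 <;> omega
  have hs' : s = 2 * Nat.card W₂ * a + 1 := by omega
  have ht' : t = 2 * Nat.card W₂ * b + 1 := by omega
  rw [← hst, hs', ht']
  rcases (show 2 ≤ a ∨ 2 ≤ b by by_contra hh; push Not at hh; exact hne (by rw [hs', ht', show a = b by omega])) with h2 | h2
  · calc (2 * Nat.card W₂ + 1) * (4 * Nat.card W₂ + 1) = (4 * Nat.card W₂ + 1) * (2 * Nat.card W₂ + 1) := mul_comm _ _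
      _ ≤ _ := Nat.mul_le_mul (by nlinarith) (by nlinarith)
  · exact Nat.mul_le_mul (by nlinarith) (by nlinarith)

/-- Above every proper step of a descending central series a layer without defect. -/
theorem exists_step {M : Subgroup T} [M.Normal] (hM : M < core' T) :
    ∃ M₁ : Subgroup T, M₁.Normal ∧ M < M₁ ∧ M₁ ≤ core' T ∧
      ∀ z ∈ M₁, ∀ k ∈ core T, z * k * z⁻¹ * k⁻¹ ∈ M := by
  haveI := hv.nil
  set π := QuotientGroup.mk' M
  haveI : ((core T).map π).Normal := Subgroup.Normal.map inferInstance _ (QuotientGroup.mk'_surjective M)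
  set M₁ := core' T ⊓ (centralizer ((core T).map π : Set (T ⧸ M))).comap π with hM₁
  refine ⟨M₁, inferInstance, ?_, inf_le_left, fun z hz k hk => ?_⟩
  · refine lt_of_le_not_ge (le_inf hM.le fun z hz => ?_) ?_
    · rw [mem_comap, show π z = 1 from (QuotientGroup.eq_one_iff z).2 hz]
      exact one_mem _
    · intro hle
      set ρ := QuotientGroup.mk' (M.subgroupOf (core T))
      haveI : ((core' T).subgroupOf (core T) |>.map ρ).Normal :=
        Subgroup.Normal.map inferInstance _ (QuotientGroup.mk'_surjective _)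
      have hne : ((core' T).subgroupOf (core T)).map ρ ≠ ⊥ := fun e => hM.not_ge fun z hz => by
        have h1 := e ▸ mem_map_of_mem ρ (mem_subgroupOf.2 hz : (⟨z, hv.nt.core'_le hz⟩ : core T) ∈ (core' T).subgroupOf _)
        exact mem_subgroupOf.1 ((QuotientGroup.eq_one_iff _).1 (mem_bot.1 h1))
      obtain ⟨v, hv', hv1⟩ := (bot_or_exists_ne_one _).resolve_left (Grp.inf_center_ne_bot _ hne)
      obtain ⟨⟨z, hz, rfl⟩, hc⟩ := mem_inf.1 hv'
      refine hv1 ((QuotientGroup.eq_one_iff _).2 (mem_subgroupOf.2 (hle ⟨mem_subgroupOf.1 hz, ?_⟩)))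
      show π (z : T) ∈ centralizer ((core T).map π : Set (T ⧸ M))
      rw [mem_centralizer_iff]
      rintro _ ⟨k, hk, rfl⟩
      have h2 := Subgroup.mem_center_iff.1 hc (ρ ⟨k, hk⟩)
      rw [← map_mul, ← map_mul] at h2 ⊢
      exact QuotientGroup.eq.2 (mem_subgroupOf.1 (QuotientGroup.eq.1 h2))
  · have h2 := mem_centralizer_iff.1 (mem_comap.1 hz.2) (π k) (mem_map_of_mem π hk)
    refine (QuotientGroup.eq_one_iff (N := M) _).1 ?_
    show π (z * k * z⁻¹ * k⁻¹) = 1
    rw [map_mul, map_mul, map_mul, ← h2, map_inv, map_inv]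
    group

/-- The case in which `[T' : T'']` is not a prime power. -/
theorem defect_big (X : Exc T W₁ W₂) (hnp : ∀ r j : ℕ, r.Prime → (core' T).relIndex (core T) ≠ r ^ j) :
    ∀ φ : core T → ℂ, Cfsg.IsIrrCharacter (core T) φ → φ ≠ (fun _ => 1) →
      defect (core T) ((Cfsg.sigmaCore T : Set G) \ {1}) (xi i₀) (Z i₀) φ = 0 := by
  classical
  suffices H : ∀ N : ℕ, ∀ M : Subgroup T, M.Normal → M ≤ core' T → M.relIndex (core T) = N →
      ∀ φ : core T → ℂ, Cfsg.IsIrrCharacter (core T) φ → φ ≠ (fun _ => 1) →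
      (∀ k : core T, (k : T) ∈ M → φ k = φ 1) →
      defect (core T) ((Cfsg.sigmaCore T : Set G) \ {1}) (xi i₀) (Z i₀) φ = 0 from fun φ hφ hne =>
    H _ ⊥ inferInstance bot_le rfl φ hφ hne fun k hk => congrArg φ (Subtype.ext (mem_bot.1 hk) : k = 1)
  intro N
  induction N using Nat.strong_induction_on with
  | _ N ih =>
    intro M hMn hM hN φ hφ hne htriv
    by_cases hl : φ 1 = 1
    · exact hv.fam.defect_linear hφ hl hne
    haveI := hMn
    have hlt : M < core' T := lt_of_le_of_ne hM fun e => hl ((hv.linear_iff hφ).1 (e ▸ htriv))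
    obtain ⟨M₁, hM₁n, hlt₁, hM₁, hcen⟩ := hv.exists_step hlt
    haveI := hM₁n
    have hM₁K : M₁ ≤ core T := hM₁.trans hv.nt.core'_le
    have hdec : M₁.relIndex (core T) < N := by
      rw [← hN, ← Subgroup.relIndex_mul_relIndex M M₁ _ hlt₁.le hM₁K]
      refine (Nat.lt_mul_iff_one_lt_left (Nat.pos_of_ne_zero (M₁.subgroupOf _).index_ne_zero_of_finite)).2 ?_
      have h1 : M.relIndex M₁ ≠ 1 := fun e => hlt₁.not_ge (Subgroup.relIndex_eq_one.1 e)
      have h2 : M.relIndex M₁ ≠ 0 := (M.subgroupOf M₁).index_ne_zero_of_finite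
      omega
    by_cases htriv₁ : ∀ k : core T, (k : T) ∈ M₁ → φ k = φ 1
    · exact ih _ hdec M₁ hM₁n hM₁ rfl φ hφ hne htriv₁
    have hM₁lt : M₁ < core T := lt_of_le_of_ne hM₁K fun e => by
      have := hv.kn_ge
      have h0 := Subgroup.relIndex_eq_one.2 (e ▸ hM₁ : core T ≤ core' T)
      have := hv.nt.card₂_three
      omega
    obtain ⟨m, hm, hm3, -, -⟩ := hv.degree hφ hl
    obtain ⟨c, hc, hc1, hcw, -⟩ := hv.norm_le X hφ
    obtain ⟨z, hz⟩ := hv.fam.defect_int (IsGenChar.of_isCharacter (IsIrr.isCharacter hφ))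
    have hl1 := hv.fam.layer hM₁lt le_rfl
      (fun ψ hψ hB hC => ih _ hdec M₁ hM₁n hM₁ rfl ψ hψ (fun e => hC fun k _ => by rw [e]) hB)
      hφ (Or.inr htriv₁) hm hc hz
    rw [Subgroup.relIndex_self, hv.nt.index_eq] at hl1
    have hsq : m ^ 2 ≤ M₁.relIndex (core T) := Descent.sq_le_index (M₁.subgroupOf (core T)) hφ hm fun a ha g =>
      htriv _ (by simpa using hcen a (mem_subgroupOf.1 ha) g g.2)
    have hP : (2 * Nat.card W₂ + 1) * (4 * Nat.card W₂ + 1) ≤ M₁.relIndex (core T) :=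
      (hv.kn_big hnp).trans (Nat.le_of_dvd (Nat.pos_of_ne_zero (M₁.subgroupOf _).index_ne_zero_of_finite)
        (Subgroup.relIndex_dvd_of_le_left (core T) hM₁))
    rw [hz, Int.cast_eq_zero]
    by_contra hz0
    set w : ℤ := (Nat.card W₂ : ℤ)
    set P : ℤ := (M₁.relIndex (core T) : ℤ)
    have hw3 : (3 : ℤ) ≤ w := by simpa [w] using (show (3 : ℤ) ≤ Nat.card W₂ by exact_mod_cast hv.nt.card₂_three)
    have hP' : (2 * w + 1) * (4 * w + 1) ≤ P := by simp only [w, P]; exact_mod_cast hP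
    have hsq' : (m : ℤ) ^ 2 ≤ P := by simp only [P]; exact_mod_cast hsq
    push_cast at hl1
    have ha : 1 ≤ |z| := Int.one_le_abs hz0
    have hza := le_abs_self z
    have h4 : (P - 1) * |z| ^ 2 ≤ w * (w + 2 * m) * |z| ^ 2 := by
      have hm0 : (0 : ℤ) ≤ m := by positivity
      have h5 : c + 2 * m * z ≤ (w + 2 * m) * |z| ^ 2 := by
        nlinarith [mul_le_mul_of_nonneg_left hza hm0, sq_nonneg (|z| - 1)]
      rw [sq_abs] at h5 ⊢
      calc (P - 1) * z ^ 2 ≤ w * (c + 2 * m * z) := hl1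
        _ ≤ _ := (mul_le_mul_of_nonneg_left h5 (by linarith)).trans_eq (by ring)
    have h6 : P - 1 ≤ w * (w + 2 * m) := le_of_mul_le_mul_right h4 (by positivity)
    nlinarith [sq_nonneg ((m : ℤ) - 4 * w)]

end Five

end Cfsg.Agent.Grp.FT
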