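import Cfsg.Agent.Lib.Grp.FT.NonTwoLayer
import Cfsg.Agent.Lib.Char.Kernel

/-!
`T` of type V: common facts for the two central cases and the passage from them to the fixed characters.
-/

set_option autoImplicit false
set_option linter.unusedSectionVars false
set_option linter.style.haveILetI false

namespace Cfsg.Agent.Grp.FT

open Subgroup Cfsg.Agent.Char Cfsg.Agent.Transfer Cfsg.Agent.Transfer.Loc
open scoped ComplexConjugate commutatorElement

attribute [local instance] _root_.Classical.propDecidable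

universe u

variable {G : Type u} [Group G] [Fintype G] {T W₁ W₂ : Subgroup G}

namespace Five

variable [Fintype T] [Fintype (core T)] {ι : Type u} [Fintype ι] [DecidableEq ι] {xi : ι → T → ℂ} {Z : ι → G → ℂ}
  {i₀ : ι} (hv : Five T W₁ W₂ xi Z i₀)
include hv

theorem centralizer_le {a : G} (ha : a ∈ Cfsg.sigmaCore T) (ha1 : a ≠ 1) :
    centralizer ({a} : Set G) ≤ T := by
  have h := hv.fam.hD.sup_eq a ⟨ha, ha1⟩
  rw [bot_sup_eq] at h
  exact h ▸ inf_le_left

/-- An element conjugating a nonidentity element of `T'` into `T'` lies in `T`. -/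
theorem mem_of_conj {a g : G} (ha : a ∈ Cfsg.sigmaCore T) (ha1 : a ≠ 1) (hg : g * a * g⁻¹ ∈ Cfsg.sigmaCore T) :
    g ∈ T := by
  obtain ⟨l, hl, e⟩ := hv.fam.hD.fusion a ⟨ha, ha1⟩ g ⟨hg, fun e => ha1 (conj_eq_one_iff.1 e)⟩
  have hc : l⁻¹ * g ∈ centralizer ({a} : Set G) := mem_centralizer_singleton_iff.2 (by
    calc l⁻¹ * g * a = l⁻¹ * (g * a * g⁻¹) * g := by group
      _ = a * (l⁻¹ * g) := by rw [← e]; group)
  simpa using mul_mem hl (hv.centralizer_le ha ha1 hc)

/-- An element of `T` whose order is that of an element of `T'` lies in `T'`. -/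
theorem mem_core_of_orderOf {a t : G} (ha : a ∈ Cfsg.sigmaCore T) (ht : t ∈ T) (he : orderOf t = orderOf a) :
    t ∈ Cfsg.sigmaCore T := by
  refine mem_subgroupOf.1 (hv.nt.mem_core_of_coprime (t := ⟨t, ht⟩) ?_)
  rw [Subgroup.orderOf_mk, he]
  exact hv.nt.coprime.coprime_dvd_left (Subgroup.orderOf_dvd_natCard _ ha)

/-- An element commuting with a nonidentity element of `T'` and conjugate to one comes from `T`. -/
theorem mem_of_comm {a g k : G} (ha : a ∈ Cfsg.sigmaCore T) (ha1 : a ≠ 1) (hk : k ∈ Cfsg.sigmaCore T) (hk1 : k ≠ 1)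
    (hc : k * (g * a * g⁻¹) = g * a * g⁻¹ * k) : g ∈ T := by
  have hT : g * a * g⁻¹ ∈ T := hv.centralizer_le hk hk1 (mem_centralizer_singleton_iff.2 hc.symm)
  exact hv.mem_of_conj ha ha1 (hv.mem_core_of_orderOf ha hT
    ((MulAut.conj g).orderOf_eq a ▸ rfl))

/-- The members restricted to the derived subgroup are constant. -/
theorem xi_core' (i : ι) {k : T} (hk : k ∈ core' T) : xi i k = (Nat.card W₂ : ℂ) := by
  obtain ⟨φ, hφ, h1, -, e⟩ := hv.fam.src i
  have hkK := hv.nt.core'_le hk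
  have hr := congrFun (res_indFun (N := core T) φ) ⟨k, hkK⟩
  simp only [Pi.smul_apply, Finset.sum_apply, smul_eq_mul] at hr
  rw [e, hr, Finset.sum_congr rfl (g := fun _ => (1 : ℂ)) fun x _ => ?_, Finset.sum_const, nsmul_eq_mul, mul_one,
    Finset.card_univ, ← Nat.card_eq_fintype_card, ← (core T).card_mul_index, hv.nt.index_eq, Nat.cast_mul,
    inv_mul_cancel_left₀ (Nat.cast_ne_zero.2 Nat.card_pos.ne')]
  rw [conjN_apply, (hv.linear_iff hφ).2 h1 _ ((inferInstance : (core' T).Normal).conj_mem k hk x), h1]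

/-- The first image is real on the derived subgroup. -/
theorem Z_real {k : T} (hk : k ∈ core' T) (hk1 : k ≠ 1) : conj (Z i₀ (k : G)) = Z i₀ (k : G) := by
  obtain ⟨j, hj, -, hjc⟩ := hv.fam.bar i₀
  have hA : (k : G) ∈ ((Cfsg.sigmaCore T : Set G) \ {1}) :=
    ⟨mem_subgroupOf.1 (hv.nt.core'_le hk), fun e => hk1 (Subtype.ext e)⟩
  have hs : Supp ((Cfsg.sigmaCore T : Set G) \ {1}) T (xi j - xi i₀) := by
    refine ⟨classFunction_sub (hv.fam.xi_classFun _) (hv.fam.xi_classFun _), fun x hx => ?_⟩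
    by_cases hxK : x ∈ core T
    · have hx1 : x = 1 := by_contra fun h => hx ((hv.fam.hA x).2 ⟨hxK, h⟩)
      subst hx1
      rw [Pi.sub_apply, hv.fam.xi_one, hv.fam.xi_one, sub_self]
    · rw [Pi.sub_apply, hv.fam.xi_off _ hxK, hv.fam.xi_off _ hxK, sub_self]
  have h := ti_apply hv.fam.hD hs hA
  rw [hv.fam.Z_diff, Pi.sub_apply, Pi.sub_apply, hv.xi_core' j hk, hv.xi_core' i₀ hk, sub_self, sub_eq_zero, hjc] at h
  exact h

theorem Z_irr : Cfsg.IsIrrCharacter G (Z i₀) ∨ Cfsg.IsIrrCharacter G (-Z i₀) :=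
  IsGenChar.norm_one (hv.fam.gen i₀) hv.fam.Z_norm₀

/-- A nonlinear character induces orthogonally to the family. -/
theorem ind_orth {φ : core T → ℂ} (hφ : Cfsg.IsIrrCharacter (core T) φ) (hl : φ 1 ≠ 1) (i : ι) :
    Cfsg.classInner (Cfsg.indFun (core T) φ) (xi i) = 0 := by
  obtain ⟨ψ, hψ, h1, -, e⟩ := hv.fam.src i
  rw [e, classInner_indFun (core T) φ (indFun_classFun (core T) ψ), res_indFun, classInner_smul_right,
    classInner_sum_right, Finset.sum_eq_zero fun x _ => ?_, mul_zero]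
  refine classInner_irr_ne hφ (IsIrr.conjN _ hψ x) fun e => hl ?_
  rw [e, conjN_apply]
  exact (congrArg ψ (Subtype.ext (by simp))).trans h1

/-- The pairing of a nonlinear character with the restriction of the first image. -/
theorem pair_nonlinear {φ : core T → ℂ} (hφ : Cfsg.IsIrrCharacter (core T) φ) (hl : φ 1 ≠ 1) :
    Cfsg.classInner φ (fun x : core T => Z i₀ (x : G)) =
      defect (core T) ((Cfsg.sigmaCore T : Set G) \ {1}) (xi i₀) (Z i₀) φ +
        φ 1 * (Cfsg.classInner (xi i₀) (fun x : T => Z i₀ x) - 1) := by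
  rw [hv.fam.pair, hv.ind_orth hφ hl, add_zero]

theorem pair_const_int : ∃ a : ℤ, Cfsg.classInner (xi i₀) (fun x : T => Z i₀ x) - 1 = (a : ℂ) := by
  obtain ⟨a, ha⟩ := IsGenChar.classInner_int (hv.fam.xi_gen i₀) (IsGenChar.comp T.subtype (hv.fam.gen i₀))
  exact ⟨a - 1, by rw [show (fun x : T => Z i₀ (x : G)) = fun x => Z i₀ (T.subtype x) from rfl, ha]; push_cast; ring⟩

/-- With two members. -/
theorem exists_pair_of_two (hn : Fintype.card ι = 2) : ∃ j, j ≠ i₀ ∧ ∀ i, i = i₀ ∨ i = j := by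
  obtain ⟨j, hj, -⟩ := hv.fam.bar i₀
  refine ⟨j, hj, fun i => ?_⟩
  by_contra hh
  push Not at hh
  have h3 : ({i₀, j, i} : Finset ι).card = 3 := by
    rw [Finset.card_insert_of_notMem (by simp [hj.symm, hh.1.symm]), Finset.card_insert_of_notMem (by simp [hh.2.symm]),
      Finset.card_singleton]
  have := Finset.card_le_univ ({i₀, j, i} : Finset ι)
  omega

/-- The flipped hypotheses. -/
theorem flip {j : ι} (hj : j ≠ i₀) (hall : ∀ i, i = i₀ ∨ i = j) :
    Five T W₁ W₂ xi (fun i => -Cfsg.conjFun (Z i)) i₀ :=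
  { hv with fam := hv.fam.flip hj hall }

/-- A layer above the identity without defect clears the fixed characters. -/
theorem finish (X : Exc T W₁ W₂) {C : Subgroup T} [C.Normal] (hne : C ≠ ⊥) (hCK : C ≤ core T)
    (hcen : ∀ z ∈ C, ∀ k ∈ core T, z * k = k * z)
    (h0 : ∀ φ : core T → ℂ, Cfsg.IsIrrCharacter (core T) φ → ¬ (∀ k : core T, (k : T) ∈ C → φ k = φ 1) →
      defect (core T) ((Cfsg.sigmaCore T : Set G) \ {1}) (xi i₀) (Z i₀) φ = 0)
    {f : ↥W₁ →* ℂˣ} (hf : f ≠ 1) :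
    defect (core T) ((Cfsg.sigmaCore T : Set G) \ {1}) (xi i₀) (Z i₀) (X.theta f) = 0 := by
  haveI := Exc.finite_dual₂ hv.nt
  letI := Fintype.ofFinite (↥W₂ →* ℂˣ)
  have hirr := (X.theta_spec hv.nt f).1
  by_cases htriv : ∀ k : core T, (k : T) ∈ C → X.theta f k = X.theta f 1
  swap
  · exact h0 _ hirr htriv
  obtain ⟨m, hm, hm3, -, hmw, -⟩ := X.theta_deg hv.nt hf
  obtain ⟨z, hz⟩ := hv.fam.defect_int (IsGenChar.of_isCharacter (IsIrr.isCharacter hirr))
  have hc : Cfsg.classInner (Cfsg.indFun (core T) (X.theta f)) (Cfsg.indFun (core T) (X.theta f)) =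
      ((Nat.card W₂ : ℤ) : ℂ) := by rw [X.theta_norm hv.nt, Int.cast_natCast]
  have h1 := hv.fam.layer (B := ⊥) (bot_lt_iff_ne_bot.2 hne) hCK (fun φ hφ _ hC => h0 φ hφ hC) hirr (Or.inl htriv)
    hm hc hz
  have hsq : m ^ 2 ≤ C.relIndex (core T) := Descent.sq_le_index (C.subgroupOf (core T)) hirr hm fun a ha g => by
    rw [show a * g * a⁻¹ * g⁻¹ = 1 from Subtype.ext (by
      show (a : T) * g * (a : T)⁻¹ * (g : T)⁻¹ = 1
      rw [hcen a (mem_subgroupOf.1 ha) g g.2]; group)]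
  have hrel : (⊥ : Subgroup T).relIndex (core T) = Nat.card C * C.relIndex (core T) := by
    have e := Subgroup.relIndex_mul_relIndex ⊥ C (core T) bot_le hCK
    rw [Subgroup.relIndex_bot_left, Subgroup.relIndex_bot_left] at e
    rw [Subgroup.relIndex_bot_left, e]
  have hC3 : 3 ≤ Nat.card C := by
    obtain ⟨j, hj⟩ := hv.odd_dvd (Subgroup.card_dvd_of_le hCK)
    have : Nat.card C ≠ 1 := fun e => hne (Subgroup.card_eq_one.1 e)
    omega
  rw [hrel, hv.nt.index_eq] at h1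
  rw [hz, Int.cast_eq_zero]
  by_contra hz0
  have hw3 : (3 : ℤ) ≤ Nat.card W₂ := by exact_mod_cast hv.nt.card₂_three
  have hm' : 2 * (Nat.card W₂ : ℤ) ≤ m + 1 := by exact_mod_cast hmw
  have hC' : (3 : ℤ) ≤ Nat.card C := by exact_mod_cast hC3
  have hsq' : (m : ℤ) ^ 2 ≤ C.relIndex (core T) := by exact_mod_cast hsq
  have ha : 1 ≤ |z| := Int.one_le_abs hz0
  have hza := le_abs_self z
  have hm0 : (0 : ℤ) ≤ m := by positivity
  push_cast at h1
  set w : ℤ := (Nat.card W₂ : ℤ)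
  set P : ℤ := (C.relIndex (core T) : ℤ)
  set c : ℤ := (Nat.card C : ℤ)
  have h2 : (2 * P) * |z| ^ 2 ≤ w * (w + 2 * m) * |z| ^ 2 := by
    rw [sq_abs]
    calc 2 * P * z ^ 2 ≤ (c * P - P) * z ^ 2 :=
          mul_le_mul_of_nonneg_right (by nlinarith [sq_nonneg (m : ℤ)]) (sq_nonneg z)
      _ ≤ w * (w + 2 * m * z) := h1
      _ ≤ w * ((w + 2 * m) * z ^ 2) := mul_le_mul_of_nonneg_left (by
          have h5 : z ≤ z ^ 2 := Int.le_self_sq z
          have h6 : 1 ≤ z ^ 2 := by rw [← sq_abs]; exact one_le_pow₀ ha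
          nlinarith [mul_le_mul_of_nonneg_left h5 hm0, mul_le_mul_of_nonneg_left h6 (show 0 ≤ w by linarith)]) (by linarith)
      _ = _ := by ring
  have h3 : 2 * P ≤ w * (w + 2 * m) := le_of_mul_le_mul_right h2 (by positivity)
  nlinarith

end Five

end Cfsg.Agent.Grp.FT
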