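import Cfsg.Agent.Lib.Grp.FT.Instances
import Cfsg.Agent.Lib.Grp.FT.NonTwoImage
import Cfsg.Agent.Lib.Grp.FT.NonTwoVBase

/-!
The member of `T` with an arbitrary choice of images: the hypotheses for the defects and the images, and the
restrictions coming from the norm of the basic function.
-/

set_option autoImplicit false
set_option linter.unusedSectionVars false
set_option linter.style.haveILetI false
set_option maxHeartbeats 1000000

namespace Cfsg.Agent.Grp.FT

open Subgroup Cfsg.Agent.Char Cfsg.Agent.Transfer Cfsg.Agent.Transfer.Loc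
open scoped ComplexConjugate commutatorElement

attribute [local instance] _root_.Classical.propDecidable

universe u

variable {G : Type u} [Group G] [Fintype G]

/-- Admissible images for a member. -/
structure Member.ZOK (M : Member G) (Z : M.ι → G → ℂ) : Prop where
  gen : ∀ i, Cfsg.IsGeneralizedCharacter G (Z i)
  orth : ∀ i j, Cfsg.classInner (Z i) (Z j) = if i = j then 1 else 0
  diff : ∀ i, Cfsg.dadeIsometry M.A M.L M.R (M.xi i - (M.d i : ℂ) • M.xi M.i₀) = Z i - (M.d i : ℂ) • Z M.i₀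

/-- The member with other images. -/
def Member.withZ (M : Member G) (Z : M.ι → G → ℂ) (hZ : M.ZOK Z) : Member G :=
  { M with Z := Z, Z_gen := hZ.gen, Z_orth := hZ.orth, Z_diff := hZ.diff }

theorem Member.zok (M : Member G) : M.ZOK M.Z := ⟨M.Z_gen, M.Z_orth, M.Z_diff⟩

/-- The coordinate of the basic function on the first image. -/
theorem Member.g_self (M : Member G) : Cfsg.classInner M.beta (M.Z M.i₀) + 1 = (M.g M : ℂ) := by
  have h1 : Cfsg.classInner (fun _ : G => (1 : ℂ)) (M.Z M.i₀) = 0 := by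
    rw [← classInner_conj_symm, M.Z_one, map_zero]
  rw [Member.g, ← zInner_spec M.delta_gen (M.Z_gen _), Member.delta, classInner_add_left, classInner_sub_left, h1,
    M.Z_norm, sub_zero]

noncomputable local instance (priority := high) subFintype (H : Subgroup G) : Fintype H := Fintype.ofFinite _

noncomputable local instance (priority := high) subSubFintype (H : Subgroup G) (K : Subgroup H) : Fintype K :=
  Fintype.ofFinite _

namespace Pair

variable {S T W₁ W₂ : Subgroup G} (h : Pair S T W₁ W₂) (hT2 : Cfsg.IsSigmaDecomposition T W₂ ⊥)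
include h hT2

theorem core_eq : core T = commutator T := by
  rw [core, h.sigmaCore_T hT2, ← h.map_commutator_T hT2, Subgroup.subgroupOf,
    Subgroup.comap_map_eq_self_of_injective T.subtype_injective]

theorem linFam {Z : (h.memberT hT2).ι → G → ℂ} (hZ : (h.memberT hT2).ZOK Z) :
    LinFam (core T) ((Cfsg.sigmaCore T : Set G) \ {1}) (h.memberT hT2).xi Z (h.memberT hT2).i₀ := by
  obtain ⟨K, hK⟩ : ∃ K : Subgroup T, K = core T := ⟨_, rfl⟩
  rw [← hK]
  have hK' : K = commutator T := hK.trans (h.core_eq hT2)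
  clear hK
  subst hK'
  refine
    { hD := h.dade_T hT2
      hA := (h.famT hT2).hA
      src := fun i => ⟨((h.famT hT2).src i).1, ((h.famT hT2).src i).2,
        ((h.mem_famT hT2).1 ((h.famT hT2).src_mem i)).1, ((h.mem_famT hT2).1 ((h.famT hT2).src_mem i)).2,
        ((h.famT hT2).src_eq i).symm⟩
      lin := fun φ hφ h1 hne => ⟨⟨Cfsg.indFun (commutator T) φ, ⟨φ, hφ⟩, (h.mem_famT hT2).2 ⟨h1, hne⟩, rfl⟩, rfl⟩
      orth := (h.memberT hT2).xi_orth
      gen := hZ.gen
      Z_orth := hZ.orth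
      Z_diff := fun i => ?_
      bar := fun i => ⟨(h.memberT hT2).bar i, (h.memberT hT2).bar_ne i, ((h.memberT hT2).xi_conj i).symm,
        (((h.memberT hT2).withZ Z hZ).Z_conj i).symm⟩ }
  have e := hZ.diff i
  rw [h.memberT_deg hT2, Nat.cast_one, one_smul, one_smul] at e
  exact e

theorem memberT_n : (h.memberT hT2).n = Fintype.card (h.memberT hT2).ι := by
  rw [← (h.memberT hT2).sum_d, Finset.sum_congr rfl fun i _ => by rw [h.memberT_deg hT2, one_pow],
    Finset.sum_const, Finset.card_univ, smul_eq_mul, mul_one]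

theorem card_linear : Fintype.card (h.memberT hT2).ι * Nat.card W₂ + 1 = (core' T).relIndex (core T) := by
  obtain ⟨he, hn⟩ := h.memberT_card hT2
  rw [← h.memberT_n hT2, mul_comm, ← he, hn, ← h.sigmaCore_T hT2, ← (h.nonTwo hT2).map_core',
    ← (h.nonTwo hT2).map_core]
  exact Subgroup.relIndex_map_map_of_injective _ _ T.subtype_injective

theorem five {Z : (h.memberT hT2).ι → G → ℂ} (hZ : (h.memberT hT2).ZOK Z)
    (heq : Cfsg.fittingHallOf T = Cfsg.sigmaCore T) :
    Five T W₁ W₂ (h.memberT hT2).xi Z (h.memberT hT2).i₀ where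
  nt := h.nonTwo hT2
  nil := by
    haveI : Group.IsNilpotent (Cfsg.sigmaCore T) := heq ▸ fittingHallOf_nilpotent T
    exact Group.nilpotent_of_mulEquiv (subgroupOfEquivOfLe (h.nonTwo hT2).core_le).symm
  fam := h.linFam hT2 hZ
  card := h.card_linear hT2

variable {𝓛 : Finset (Subgroup G)} (hc : Cover S T W₁ W₂ 𝓛)
include hc

theorem disj_mixed : Disjoint (h.memberT hT2).reg (mixed W₁ W₂) := by
  rw [h.memberT_reg hT2]
  exact hc.disjoint_mixed T (by simp)

theorem img (E : Grid W₁ W₂) {Z : (h.memberT hT2).ι → G → ℂ} (hZ : (h.memberT hT2).ZOK Z) :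
    Img T W₁ W₂ E (h.memberT hT2).xi Z (h.memberT hT2).i₀ where
  nt := h.nonTwo hT2
  fam := h.linFam hT2 hZ
  irr := fun i => (h.famT hT2).mem_irr i
  perp := fun i f g => ((h.memberT hT2).withZ Z hZ).Z_grid E h.hG.1 (h.disj_mixed hT2 hc) i f g
  perp_one := fun i => ((h.memberT hT2).withZ Z hZ).Z_one i

omit hc in
theorem beta_eq : (h.memberT hT2).beta = Cfsg.dadeIsometry ((Cfsg.sigmaCore T : Set G) \ {1}) T (fun _ => ⊥)
    (@HSub.hSub (T → ℂ) (T → ℂ) (T → ℂ) _ (Cfsg.indFun (core T) (fun _ => 1))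
      ((h.memberT hT2).xi (h.memberT hT2).i₀)) := by
  obtain ⟨K, hK⟩ : ∃ K : Subgroup T, K = core T := ⟨_, rfl⟩
  rw [← hK]
  have hK' : K = commutator T := hK.trans (h.core_eq hT2)
  clear hK
  subst hK'
  rfl

omit hc in
/-- The flipped images when there are only two. -/
theorem flip_ok (hn : Fintype.card (h.memberT hT2).ι = 2) {Z : (h.memberT hT2).ι → G → ℂ}
    (hZ : (h.memberT hT2).ZOK Z) :
    (h.memberT hT2).ZOK (fun i => -Cfsg.conjFun (Z i)) := by
  classical
  have hF := h.linFam hT2 hZ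
  obtain ⟨j, hj, -⟩ := hF.bar (h.memberT hT2).i₀
  have hall : ∀ i, i = (h.memberT hT2).i₀ ∨ i = j := fun i => by
    by_contra hh
    push Not at hh
    have h3 : ({(h.memberT hT2).i₀, j, i} : Finset (h.memberT hT2).ι).card = 3 := by
      rw [Finset.card_insert_of_notMem (by simp [hj.symm, hh.1.symm]),
        Finset.card_insert_of_notMem (by simp [hh.2.symm]), Finset.card_singleton]
    have := Finset.card_le_univ ({(h.memberT hT2).i₀, j, i} : Finset (h.memberT hT2).ι)
    omega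
  have hF' := hF.flip hj hall
  refine ⟨hF'.gen, hF'.Z_orth, fun i => ?_⟩
  rw [h.memberT_deg hT2, Nat.cast_one, one_smul, one_smul]
  exact hF'.Z_diff i

/-- The coordinates of the basic function of `T`: the restrictions from its norm. -/
theorem coords (E : Grid W₁ W₂) {Z : (h.memberT hT2).ι → G → ℂ} (hZ : (h.memberT hT2).ZOK Z) :
    ∃ a g₀ : ℤ, (∀ f : ↥W₁ →* ℂˣ, f ≠ 1 → E.coef (h.memberT hT2).beta f 1 = a) ∧
      Cfsg.classInner (h.memberT hT2).beta (Z (h.memberT hT2).i₀) + 1 = (g₀ : ℂ) ∧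
      -(Nat.card W₂ : ℤ) < g₀ ∧ g₀ < Nat.card W₂ ∧
      (a = 0 ∨ (a = 1 ∧ ∀ [Fintype (↥W₂ →* ℂˣ)], (Nat.card W₁ : ℤ) - 1 + (Nat.card W₁ : ℤ) *
        ∑ g ∈ Finset.univ.erase (1 : ↥W₂ →* ℂˣ), E.coef (h.memberT hT2).beta 1 g ^ 2 ≤ Nat.card W₂ - 1)) ∧
      (a = 0 → (Fintype.card (h.memberT hT2).ι : ℤ) * g₀ ^ 2 = 2 * g₀ ∧
        (∀ g : ↥W₂ →* ℂˣ, g ≠ 1 → E.coef (h.memberT hT2).beta 1 g = 1) ∧
        ∀ L (hL : L ∈ 𝓛), ((h.memberT hT2).withZ Z hZ).g (memberI h.hG (hc.coatom L hL) (hc.typeI L hL)) = 0) := by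
  classical
  set M := (h.memberT hT2).withZ Z hZ with hM
  haveI := E.finite_left; haveI := E.swap.finite_left
  letI := Fintype.ofFinite (↥W₁ →* ℂˣ); letI := Fintype.ofFinite (↥W₂ →* ℂˣ)
  obtain ⟨f₀, hf₀⟩ : ∃ f : ↥W₁ →* ℂˣ, f ≠ 1 :=
    Fintype.exists_ne_of_one_lt_card (lt_of_lt_of_le (by norm_num) (E.three_le h.hG.1)) 1
  set β := (h.memberT hT2).beta
  set a := E.coef β f₀ 1 with ha
  have hdis : Disjoint M.reg (mixed W₁ W₂) := h.disj_mixed hT2 hc
  have hconst : ∀ f : ↥W₁ →* ℂˣ, f ≠ 1 → E.coef β f 1 = a := fun f hf =>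
    M.coef_left_const E h.hG.1 hdis h.prime₁ hf hf₀
  have hg₀ : Cfsg.classInner β (Z (h.memberT hT2).i₀) + 1 = (M.g M : ℂ) := M.g_self
  -- the budget
  let N : {L // L ∈ 𝓛} → Member G := fun L => memberI h.hG (hc.coatom L.1 L.2) (hc.typeI L.1 L.2)
  have hreg : ∀ L, (N L).reg = reg L.1 := fun L => memberI_reg h.hG (hc.coatom L.1 L.2) (hc.typeI L.1 L.2)
  have hT : M.reg = reg T := h.memberT_reg hT2
  have hb := M.budget E h.hG.1 hdis N
    (fun L => by
      rw [hT, hreg]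
      exact hc.disjoint T (by simp) L.1 (by simp) fun e => h.T_not_mem hc (e ▸ L.2))
    (fun L L' hne => by
      rw [hreg, hreg]
      exact hc.disjoint L.1 (by simp) L'.1 (by simp) fun e => hne (Subtype.ext e))
    (fun L => by rw [hreg]; exact hc.disjoint_mixed L.1 (by simp))
  have hMe : (M.e : ℤ) = Nat.card W₂ := by exact_mod_cast (h.memberT_card hT2).1
  have hMn : (M.n : ℤ) = Fintype.card (h.memberT hT2).ι := by exact_mod_cast h.memberT_n hT2
  have hMb : M.beta = β := rfl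
  rw [hMe, hMn, hMb] at hb
  have hN0 : ∀ L, (0 : ℤ) ≤ ((N L).n : ℤ) * M.g (N L) ^ 2 := fun L => mul_nonneg (Int.natCast_nonneg _) (sq_nonneg _)
  have hsN := Finset.sum_nonneg (s := Finset.univ) fun L _ => hN0 L
  set q : ℤ := (Nat.card W₁ : ℤ) with hq
  set w : ℤ := (Nat.card W₂ : ℤ) with hw
  set n : ℤ := (Fintype.card (h.memberT hT2).ι : ℤ) with hn
  have hn2 : 2 ≤ n := by
    have h2 := (h.memberT hT2).two_le_n
    rw [h.memberT_n hT2] at h2
    rw [hn]; exact_mod_cast h2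
  have hq3 : 3 ≤ q := by rw [hq, ← E.card_left]; exact_mod_cast E.three_le h.hG.1
  have hw3 : 3 ≤ w := by rw [hw, ← E.swap.card_left]; exact_mod_cast E.swap.three_le h.hG.1
  -- the squares on the grid
  set b : (↥W₂ →* ℂˣ) → ℤ := fun g => E.coef β 1 g with hb'
  have h11 : b 1 = 1 := M.coef_one E
  have hcol : ∀ g, ∑ f, E.coef β f g ^ 2 =
      b g ^ 2 + (q - 1) * (if g = 1 then a else a + b g - 1) ^ 2 := fun g => by
    rw [← Finset.add_sum_erase _ _ (Finset.mem_univ (1 : ↥W₁ →* ℂˣ))]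
    congr 1
    rw [Finset.sum_congr rfl (g := fun _ => (if g = 1 then a else a + b g - 1) ^ 2) fun f hf => ?_, Finset.sum_const,
      Finset.card_erase_of_mem (Finset.mem_univ _), Finset.card_univ, E.card_left, nsmul_eq_mul,
      Nat.cast_sub Nat.card_pos, Nat.cast_one]
    split_ifs with hg
    · rw [hg, hconst f (Finset.ne_of_mem_erase hf)]
    · rw [show E.coef β f g = _ from M.coef_add E hdis f g]
      rw [show E.coef M.beta f 1 = a from hconst f (Finset.ne_of_mem_erase hf)]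
      rfl
  rw [Finset.sum_congr rfl fun g _ => hcol g, ← Finset.add_sum_erase _ _ (Finset.mem_univ (1 : ↥W₂ →* ℂˣ)),
    h11, if_pos rfl, one_pow] at hb
  set R := ∑ g ∈ Finset.univ.erase (1 : ↥W₂ →* ℂˣ), (b g ^ 2 + (q - 1) * (if g = 1 then a else a + b g - 1) ^ 2)
  have hR : R = ∑ g ∈ Finset.univ.erase (1 : ↥W₂ →* ℂˣ), (b g ^ 2 + (q - 1) * (a + b g - 1) ^ 2) :=
    Finset.sum_congr rfl fun g hg => by rw [if_neg (Finset.ne_of_mem_erase hg)]
  have hcard : ((Finset.univ.erase (1 : ↥W₂ →* ℂˣ)).card : ℤ) = w - 1 := by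
    rw [Finset.card_erase_of_mem (Finset.mem_univ _), Finset.card_univ, E.swap.card_left, Nat.cast_sub Nat.card_pos,
      hw, Nat.cast_one]
  have hR0 : 0 ≤ R := hR ▸ Finset.sum_nonneg fun g _ =>
    add_nonneg (sq_nonneg _) (mul_nonneg (by linarith) (sq_nonneg _))
  set G₀ := M.g M
  have hG0 : 0 ≤ n * G₀ ^ 2 - 2 * G₀ := by
    by_cases h0 : G₀ ≤ 0
    · nlinarith [sq_nonneg G₀]
    · nlinarith [mul_le_mul_of_nonneg_right hn2 (sq_nonneg G₀)]
  refine ⟨a, G₀, hconst, hg₀, ?_, ?_, ?_, fun ha0 => ?_⟩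
  · by_contra hlt
    push Not at hlt
    nlinarith [mul_le_mul_of_nonneg_right hn2 (sq_nonneg G₀), sq_nonneg a]
  · by_contra hlt
    push Not at hlt
    nlinarith [mul_le_mul_of_nonneg_right hn2 (sq_nonneg G₀), sq_nonneg a]
  · by_cases ha1 : a = 1
    · refine Or.inr ⟨ha1, fun {inst} => ?_⟩
      obtain rfl : inst = Fintype.ofFinite (↥W₂ →* ℂˣ) := Subsingleton.elim _ _
      rw [ha1, Finset.sum_congr rfl (g := fun g => q * b g ^ 2) fun g _ => by ring, ← Finset.mul_sum] at hR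
      rw [hR, ha1] at hb
      simp only [one_pow, mul_one] at hb
      convert (show q - 1 + q * (∑ g ∈ Finset.univ.erase (1 : ↥W₂ →* ℂˣ), b g ^ 2) ≤ w - 1 by linarith)
    · refine Or.inl ?_
      have h1 : w - 1 ≤ R := by
        rw [hR, ← hcard, Finset.card_eq_sum_ones]
        push_cast
        refine Finset.sum_le_sum fun g _ => ?_
        by_cases hb0 : b g = 0
        · have : (1 : ℤ) ≤ (a + b g - 1) ^ 2 := by
            rw [hb0, add_zero, ← sq_abs]
            exact one_le_pow₀ (Int.one_le_abs (sub_ne_zero.2 ha1))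
          nlinarith [sq_nonneg (b g)]
        · have : (1 : ℤ) ≤ b g ^ 2 := by rw [← sq_abs]; exact one_le_pow₀ (Int.one_le_abs hb0)
          nlinarith [sq_nonneg (a + b g - 1)]
      by_contra h0
      have : (1 : ℤ) ≤ a ^ 2 := by rw [← sq_abs]; exact one_le_pow₀ (Int.one_le_abs h0)
      nlinarith
  · rw [ha0, Finset.sum_congr rfl (g := fun g => b g ^ 2 + (q - 1) * (b g - 1) ^ 2) fun g _ => by rw [zero_add]] at hR
    have hge : ∀ g, 1 ≤ b g ^ 2 + (q - 1) * (b g - 1) ^ 2 := fun g => by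
      by_cases hb0 : b g = 0
      · rw [hb0]; linarith
      · have : (1 : ℤ) ≤ b g ^ 2 := by rw [← sq_abs]; exact one_le_pow₀ (Int.one_le_abs hb0)
        nlinarith [sq_nonneg (b g - 1)]
    have hd : ∀ g ∈ Finset.univ.erase (1 : ↥W₂ →* ℂˣ), (0 : ℤ) ≤ b g ^ 2 + (q - 1) * (b g - 1) ^ 2 - 1 :=
      fun g _ => by linarith [hge g]
    have hs : ∑ g ∈ Finset.univ.erase (1 : ↥W₂ →* ℂˣ), (b g ^ 2 + (q - 1) * (b g - 1) ^ 2 - 1) = R - (w - 1) := by
      rw [Finset.sum_sub_distrib, ← hR, Finset.sum_const, nsmul_eq_mul, mul_one, hcard]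
    have hs0 := Finset.sum_nonneg hd
    rw [hs] at hs0
    rw [ha0] at hb
    refine ⟨by linarith, fun g hg => ?_, fun L hL => ?_⟩
    · have h1 := (Finset.sum_eq_zero_iff_of_nonneg hd).1 (by rw [hs]; linarith) g
        (Finset.mem_erase.2 ⟨hg, Finset.mem_univ _⟩)
      by_contra hne
      have h2 : (1 : ℤ) ≤ (b g - 1) ^ 2 := by
        rw [← sq_abs]
        exact one_le_pow₀ (Int.one_le_abs (sub_ne_zero.2 hne))
      nlinarith [sq_nonneg (b g)]
    · have h1 := (Finset.sum_eq_zero_iff_of_nonneg fun L _ => hN0 L).1 (by linarith) ⟨L, hL⟩ (Finset.mem_univ _)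
      rcases mul_eq_zero.1 h1 with h2 | h2
      · exfalso
        have h3 := (N ⟨L, hL⟩).two_le_n
        omega
      · exact (pow_eq_zero_iff two_ne_zero).1 h2

end Pair

end Cfsg.Agent.Grp.FT
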