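import Cfsg.Agent.Lib.Grp.FT.NonTwoSplit
import Cfsg.Agent.Lib.Grp.CoprimeAbelian
import Cfsg.Agent.Lib.Char.Basic
import Mathlib.GroupTheory.FiniteAbelian.Duality
import Mathlib.RingTheory.RootsOfUnity.AlgebraicallyClosed

/-!
The section `Q / Q₀`: the derived subgroup of `D` centralises it and there is a nontrivial linear function on it
fixed by `W₂`.
-/

set_option autoImplicit false
set_option linter.unusedSectionVars false
set_option linter.style.haveILetI false

namespace Cfsg.Agent.Grp.FT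

open Subgroup Cfsg.Agent.Transfer Cfsg.Agent.Transfer.Loc
open scoped commutatorElement

universe u

variable {G : Type u} [Group G] [Finite G]

/-- A linear function on `Q` trivial on `Q₀` and fixed by `W`. -/
structure IsLinFun (Q Q₀ W : Subgroup G) (l : G → ℂˣ) : Prop where
  mul : ∀ a ∈ Q, ∀ b ∈ Q, l (a * b) = l a * l b
  ker : ∀ a ∈ Q₀, l a = 1
  fixed : ∀ x ∈ W, ∀ a ∈ Q, l (x * a * x⁻¹) = l a
  ne_one : ∃ a ∈ Q, l a ≠ 1

namespace IsLinFun

variable {Q Q₀ W : Subgroup G} {l : G → ℂˣ} (hl : IsLinFun Q Q₀ W l)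
include hl

theorem one : l 1 = 1 := by
  have h1 := hl.mul 1 (one_mem _) 1 (one_mem _)
  rw [one_mul] at h1
  exact left_eq_mul.1 h1

theorem inv {a : G} (ha : a ∈ Q) : l a⁻¹ = (l a)⁻¹ := by
  rw [eq_inv_iff_mul_eq_one, ← hl.mul _ (inv_mem ha) _ ha, inv_mul_cancel, hl.one]

/-- Conjugation by an element of `Q` does not change the values. -/
theorem conj {a b : G} (ha : a ∈ Q) (hb : b ∈ Q) : l (a * b * a⁻¹) = l b := by
  rw [hl.mul _ (mul_mem ha hb) _ (inv_mem ha), hl.mul _ ha _ hb, hl.inv ha, mul_comm (l a) (l b), mul_inv_cancel_right]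

theorem pow {a : G} (ha : a ∈ Q) (n : ℕ) : l (a ^ n) = l a ^ n := by
  induction n with
  | zero => simp [hl.one]
  | succ n ih => rw [pow_succ, hl.mul _ (pow_mem ha n) _ ha, ih, pow_succ]

end IsLinFun

namespace Split

variable {T W₁ W₂ Q D Q₀ : Subgroup G} (h : Split T W₁ W₂ Q D Q₀)
include h

theorem quot_facts : ⁅D, D⁆ ≤ kern Q D Q₀ ∧ ¬ W₁ ≤ ⁅Q, W₂⁆ ⊔ Q₀ := by
  classical
  haveI := Fact.mk h.nt.prime₁
  haveI := solvable_of_ne_top h.nt.hG h.nt.hT.1
  have hQ₀T : Q₀ ≤ T := h.le₀.trans h.QT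
  set N := Q₀.subgroupOf T with hN
  haveI : N.Normal := (normal_subgroupOf_iff_le_normalizer hQ₀T).2 h.norm₀
  let π := QuotientGroup.mk' N
  let img : Subgroup G → Subgroup (↥T ⧸ N) := fun Y => (Y.subgroupOf T).map π
  have hmem : ∀ {Y : Subgroup G} {g : G} (hg : g ∈ T), g ∈ Y → π ⟨g, hg⟩ ∈ img Y :=
    fun hg hy => ⟨_, mem_subgroupOf.2 hy, rfl⟩
  have hπ1 : ∀ g : ↥T, π g = 1 ↔ (g : G) ∈ Q₀ := fun g =>
    (QuotientGroup.eq_one_iff g).trans mem_subgroupOf
  have hcardQ : Nat.card (img Q) = Nat.card W₁ ^ Nat.card W₂ := by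
    have h1 : Nat.card (img Q) * Nat.card Q₀ = Nat.card Q := by
      have e := Subgroup.card_mul_index ((π.comp (Q.subgroupOf T).subtype).ker)
      rw [Subgroup.index_ker, MonoidHom.range_comp, Subgroup.range_subtype] at e
      have e2 : Nat.card (π.comp (Q.subgroupOf T).subtype).ker = Nat.card Q₀ := by
        refine Nat.card_congr ⟨fun a => ⟨((a.1 : ↥T) : G), (hπ1 _).1 (MonoidHom.mem_ker.1 a.2)⟩,
          fun b => ⟨⟨⟨b, hQ₀T b.2⟩, mem_subgroupOf.2 (h.le₀ b.2)⟩, MonoidHom.mem_ker.2 ((hπ1 _).2 b.2)⟩,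
          fun a => by ext; rfl, fun b => by ext; rfl⟩
      rw [e2, Nat.card_congr (subgroupOfEquivOfLe h.QT).toEquiv] at e
      rw [mul_comm]; exact e
    refine Nat.eq_of_mul_eq_mul_right (Nat.card_pos (α := Q₀)) ?_
    rw [h1, h.card_Q, mul_comm]
  have hnorm : ∀ {A Y : Subgroup G}, A ≤ T → A ≤ normalizer (Y : Set G) → img A ≤ normalizer (img Y : Set _) := by
    intro A Y hAT hAY
    refine le_trans (Subgroup.map_mono ?_) ((Y.subgroupOf T).le_normalizer_map π)
    intro a ha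
    refine Subgroup.mem_normalizer_iff.2 fun y => ?_
    simp only [mem_subgroupOf, Subgroup.coe_mul, Subgroup.coe_inv]
    exact Subgroup.mem_normalizer_iff.1 (hAY (mem_subgroupOf.1 ha)) y
  have hcommQ : IsMulCommutative (img Q) := by
    refine ⟨⟨?_⟩⟩
    rintro ⟨_, a, ha, rfl⟩ ⟨_, b, hb, rfl⟩
    refine Subtype.ext ?_
    show π a * π b = π b * π a
    rw [← mul_inv_eq_one, ← map_mul, ← map_mul, ← map_inv, ← map_mul, hπ1]
    have := h.commQ a (mem_subgroupOf.1 ha) b (mem_subgroupOf.1 hb)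
    convert this using 1
    simp [mul_assoc]
  have hD₀ : ∀ {d : G}, d ∈ D → d ∈ Q₀ → d = 1 := fun {d} hd hd₀ => by
    have h1 : d ∈ Q ⊓ D := ⟨h.le₀ hd₀, hd⟩
    rwa [h.compl.2.2.1, mem_bot] at h1
  have hcardQD : (Nat.card D * Nat.card W₂).Coprime (Nat.card W₁) :=
    Nat.Coprime.mul_left h.coprime.symm (h.nt.coprime.symm.coprime_dvd_right (card_dvd_of_le h.nt.le₁))
  obtain ⟨x₀, hx₀, hx₀1⟩ := (bot_or_exists_ne_one W₂).resolve_left h.nt.ne
  have hgenW : ∀ r ∈ W₂, r ≠ 1 → zpowers r = W₂ := fun r hr hr1 => by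
    refine Subgroup.eq_of_le_of_card_ge (zpowers_le.2 hr) (le_of_eq ?_)
    rw [Nat.card_zpowers]
    exact (((Nat.dvd_prime h.prime₂).1 (Subgroup.orderOf_dvd_natCard _ hr)).resolve_left
      (fun e => hr1 (orderOf_eq_one_iff.1 e))).symm
  have hS := Cfsg.Agent.S1446.result (img D) (img W₂) (img Q) ?_ ?_ ?_ (hnorm h.nt.le₂ h.normD) ?_ ?_ ?_ ?_ ?_
    (hnorm h.DT (h.DT.trans h.normQ)) (hnorm h.nt.le₂ (h.nt.le₂.trans h.normQ)) ?_ ?_ ?_
  · obtain ⟨-, hcard, hder⟩ := hS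
    -- the fixed points of `W₂` on `Q / Q₀` come from `W₁`
    have hfixW : img Q ⊓ centralizer (img W₂ : Set (↥T ⧸ N)) ≤ img W₁ := by
      rintro _ ⟨⟨a, ha, rfl⟩, hc⟩
      have h1 : x₀ * a * x₀⁻¹ * (a : G)⁻¹ ∈ Q₀ := by
        have h2 : π ⟨x₀, h.nt.le₂ hx₀⟩ * π a = π a * π ⟨x₀, h.nt.le₂ hx₀⟩ :=
          mem_centralizer_iff.1 hc _ (hmem _ hx₀)
        rw [← mul_inv_eq_one, ← map_mul, ← map_mul, ← map_inv, ← map_mul, hπ1] at h2
        convert h2 using 1
        simp [mul_assoc]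
      obtain ⟨c, hc', hcN⟩ := h.nt.fix_section hx₀ hx₀1 h.Q_le_core h.le₀ (h.QT.trans h.norm₀)
        (h.nt.le₂.trans h.normQ) (h.nt.le₂.trans h.norm₀) (mem_subgroupOf.1 ha) h1
      refine ⟨⟨c, h.QT hc'.2⟩, mem_subgroupOf.2 hc'.1, ?_⟩
      rw [← inv_mul_eq_one, ← map_inv, ← map_mul, hπ1]
      have := inv_mem hcN
      convert this using 1
      simp
    have hc1 : img Q ⊓ centralizer (img W₂ : Set (↥T ⧸ N)) ≠ ⊥ := by
      intro e
      rw [e, Subgroup.card_bot, one_pow, hcardQ] at hcard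
      exact absurd hcard (Nat.one_lt_pow h.prime₂.ne_zero h.nt.prime₁.one_lt).ne'
    constructor
    · have hcyc : IsCyclic ↥(img Q ⊓ centralizer (img W₂ : Set (↥T ⧸ N))) := by
        haveI : IsCyclic W₁ := isCyclic_of_prime_card rfl
        haveI : IsCyclic (W₁.subgroupOf T) :=
          isCyclic_of_surjective _ (subgroupOfEquivOfLe (h.le₁Q.trans h.QT)).symm.surjective
        haveI : IsCyclic (img W₁) :=
          isCyclic_of_surjective _ (π.subgroupMap_surjective (W₁.subgroupOf T))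
        exact Subgroup.isCyclic_of_le hfixW
      have hd := hder hcyc
      rw [commutator_le]
      intro a ha b hb
      refine h.mem_kern.2 ⟨D.mul_mem (D.mul_mem (D.mul_mem ha hb) (D.inv_mem ha)) (D.inv_mem hb), fun x hx => ?_⟩
      have h2 := mem_centralizer_iff.1 (hd (commutator_mem_commutator (hmem (h.DT ha) ha) (hmem (h.DT hb) hb))) _
        (hmem (h.QT hx) hx)
      rw [← map_commutatorElement, eq_comm, ← mul_inv_eq_one, ← map_mul, ← map_mul, ← map_inv, ← map_mul, hπ1] at h2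
      convert h2 using 1
      simp [commutatorElement_def, mul_assoc]
    · intro hle
      refine hc1 (le_bot_iff.1 ?_)
      haveI := hcommQ
      have hcop : (Nat.card (img W₂)).Coprime (Nat.card (img Q)) := by
        rw [hcardQ]
        refine ((Nat.Coprime.coprime_mul_left hcardQD).coprime_dvd_left ?_).pow_right _
        exact ((W₂.subgroupOf T).card_map_dvd π).trans (dvd_of_eq (Nat.card_congr (subgroupOfEquivOfLe h.nt.le₂).toEquiv))
      rw [← Grp.abelian_commutator_inf_fixed (img W₂) (img Q) (hnorm h.nt.le₂ (h.nt.le₂.trans h.normQ)) hcop]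
      refine le_inf le_rfl (hfixW.trans ?_)
      rintro _ ⟨a, ha, rfl⟩
      have h1 : (a : G) ∈ ⁅Q, W₂⁆ ⊔ Q₀ := hle (mem_subgroupOf.1 ha)
      have hcom : ⁅Q, W₂⁆ ≤ (((⁅img Q, img W₂⁆).comap π).map T.subtype) := by
        rw [commutator_le]
        intro u hu v hv
        refine ⟨⁅(⟨u, h.QT hu⟩ : ↥T), ⟨v, h.nt.le₂ hv⟩⁆, ?_, by simp [commutatorElement_def]⟩
        rw [SetLike.mem_coe, mem_comap, map_commutatorElement]
        exact commutator_mem_commutator (hmem _ hu) (hmem _ hv)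
      have hQ₀ : Q₀ ≤ (((⁅img Q, img W₂⁆).comap π).map T.subtype) := fun u hu =>
        ⟨⟨u, hQ₀T hu⟩, by rw [SetLike.mem_coe, mem_comap, (hπ1 _).2 hu]; exact one_mem _, rfl⟩
      obtain ⟨b, hb, e⟩ := sup_le hcom hQ₀ h1
      obtain rfl : b = a := Subtype.ext e
      exact hb
  · intro e
    refine h.D_ne (le_bot_iff.1 fun d hd => ?_)
    have h1 := hmem (h.DT hd) hd
    rw [e, mem_bot, hπ1] at h1
    exact mem_bot.2 (hD₀ hd h1)
  · intro e
    have h1 := hmem (h.nt.le₂ hx₀) hx₀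
    rw [e, mem_bot, hπ1] at h1
    have h2 : x₀ ∈ Cfsg.sigmaCore T ⊓ W₂ := ⟨h.Q_le_core (h.le₀ h1), hx₀⟩
    rw [h.nt.compl.2.2.1, mem_bot] at h2
    exact hx₀1 h2
  · refine Grp.inf_eq_bot_of_coprime ?_
    refine ((h.nt.coprime.coprime_dvd_left (card_dvd_of_le h.D_le_core)).coprime_dvd_left ?_).coprime_dvd_right ?_
    · exact ((D.subgroupOf T).card_map_dvd π).trans (dvd_of_eq (Nat.card_congr (subgroupOfEquivOfLe h.DT).toEquiv))
    · exact ((W₂.subgroupOf T).card_map_dvd π).trans (dvd_of_eq (Nat.card_congr (subgroupOfEquivOfLe h.nt.le₂).toEquiv))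
  · rintro _ ⟨x, hx, rfl⟩ hx1
    refine le_bot_iff.1 ?_
    rintro _ ⟨⟨d, hd, rfl⟩, hc⟩
    have h2 := mem_centralizer_singleton_iff.1 hc
    rw [← mul_inv_eq_one, ← map_mul, ← map_mul, ← map_inv, ← map_mul, hπ1] at h2
    simp only [Subgroup.coe_mul, Subgroup.coe_inv, _root_.mul_inv_rev] at h2
    have hxW : (x : G) ∈ W₂ := mem_subgroupOf.1 hx
    have hdD : (d : G) ∈ D := mem_subgroupOf.1 hd
    have h3 := hD₀ (d := (d : G) * (x : G) * ((d : G)⁻¹ * (x : G)⁻¹))
      (by rw [mul_assoc]; refine D.mul_mem hdD ?_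
          rw [← mul_assoc]
          exact Grp.mem_conj_normalizer (h.normD hxW) (D.inv_mem hdD)) h2
    have hdx : (d : G) * x = x * d := by
      rw [← mul_assoc, mul_inv_eq_one, mul_inv_eq_iff_eq_mul] at h3
      exact h3
    have := h.free hxW (fun e => hx1 (by rw [show x = 1 from Subtype.ext e, map_one])) hdD hdx
    rw [mem_bot, show d = 1 from Subtype.ext this, map_one]
  · exact Grp.isSolvable_of_le le_top inferInstance
  · exact ((h.nt.odd T).of_dvd_nat ((Subgroup.card_subgroup_dvd_card _).trans (Subgroup.card_quotient_dvd_card N)))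
  · intro e
    rw [e, Subgroup.card_bot] at hcardQ
    exact absurd hcardQ (Nat.one_lt_pow h.prime₂.ne_zero h.nt.prime₁.one_lt).ne
  · exact (IsPGroup.of_card hcardQ).isNilpotent
  · rw [hcardQ]
    refine (hcardQD.coprime_dvd_left ?_).pow_right _
    refine (Grp.card_sup_dvd_mul (H := img W₂) (N := img D) (hnorm h.nt.le₂ h.normD) |> fun e => ?_)
    rw [sup_comm]
    refine e.trans ?_
    rw [mul_comm (Nat.card D)]
    exact mul_dvd_mul
      (((W₂.subgroupOf T).card_map_dvd π).trans (dvd_of_eq (Nat.card_congr (subgroupOfEquivOfLe h.nt.le₂).toEquiv)))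
      (((D.subgroupOf T).card_map_dvd π).trans (dvd_of_eq (Nat.card_congr (subgroupOfEquivOfLe h.DT).toEquiv)))
  · refine le_bot_iff.1 ?_
    rintro _ ⟨⟨a, ha, rfl⟩, hc⟩
    rw [mem_bot, hπ1]
    refine h.fixed_D (mem_subgroupOf.1 ha) fun d hd => ?_
    have h2 := mem_centralizer_iff.1 hc _ (hmem (h.DT hd) hd)
    rw [← mul_inv_eq_one, ← map_mul, ← map_mul, ← map_inv, ← map_mul, hπ1] at h2
    convert h2 using 1
    simp [mul_assoc]
  · rintro _ ⟨x, hx, rfl⟩ hx1
    congr 1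
    have hx1' : (x : G) ≠ 1 := fun e => hx1 (by rw [show x = 1 from Subtype.ext e, map_one])
    refine le_antisymm (fun y hy => mem_centralizer_iff.2 ?_)
      (centralizer_le (Set.singleton_subset_iff.2 ⟨x, hx, rfl⟩))
    rintro _ ⟨r, hr, rfl⟩
    have hr' : (r : G) ∈ zpowers (x : G) := (hgenW _ (mem_subgroupOf.1 hx) hx1').symm ▸ mem_subgroupOf.1 hr
    obtain ⟨n, hn⟩ := mem_zpowers_iff.1 hr'
    rw [show r = x ^ n from Subtype.ext (by rw [← hn]; simp), map_zpow]
    exact (Commute.zpow_right (mem_centralizer_singleton_iff.1 hy : Commute y (π x)) n).eq.symm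

/-- There is a nontrivial fixed linear function. -/
theorem exists_linFun : ∃ l : G → ℂˣ, IsLinFun Q Q₀ W₂ l := by
  classical
  haveI := Fact.mk h.nt.prime₁
  set R := ⁅Q, W₂⁆ ⊔ Q₀ with hR
  have hcomQ : ⁅Q, W₂⁆ ≤ Q := Grp.commutator_le_left_of_le_normalizer (h.nt.le₂.trans h.normQ)
  have hRQ : R ≤ Q := sup_le hcomQ h.le₀
  have hQR : Q ≤ normalizer (R : Set G) := fun a ha => by
    refine Subgroup.mem_normalizer_iff.2 fun b => ⟨fun hb => ?_, fun hb => ?_⟩
    · have h1 := R.mul_mem ((show Q₀ ≤ R from le_sup_right) (h.commQ a ha b (hRQ hb))) hb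
      convert h1 using 1
      group
    · have hb' : b ∈ Q := by
        have := Q.mul_mem (Q.mul_mem (Q.inv_mem ha) (hRQ hb)) ha
        convert this using 1
        group
      have h1 := R.mul_mem (R.inv_mem ((show Q₀ ≤ R from le_sup_right) (h.commQ a ha b hb'))) hb
      convert h1 using 1
      group
  haveI : (R.subgroupOf Q).Normal := (normal_subgroupOf_iff_le_normalizer hRQ).2 hQR
  have hne : ∃ a : Q, (QuotientGroup.mk' (R.subgroupOf Q)) a ≠ 1 := by
    by_contra! hall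
    exact h.quot_facts.2 fun x hx => mem_subgroupOf.1 ((QuotientGroup.eq_one_iff _).1 (hall ⟨x, h.le₁Q hx⟩))
  letI : CommGroup (↥Q ⧸ R.subgroupOf Q) :=
    { (inferInstance : Group (↥Q ⧸ R.subgroupOf Q)) with
      mul_comm := fun a b => by
        induction a using QuotientGroup.induction_on with
        | H x =>
          induction b using QuotientGroup.induction_on with
          | H y =>
            rw [← QuotientGroup.mk_mul, ← QuotientGroup.mk_mul, QuotientGroup.eq, mem_subgroupOf]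
            have := (show Q₀ ≤ R from le_sup_right) (h.commQ (y : G)⁻¹ (inv_mem y.2) (x : G)⁻¹ (inv_mem x.2))
            convert this using 1
            simp [mul_assoc] }
  obtain ⟨a, ha⟩ := hne
  obtain ⟨φ, hφ⟩ := CommGroup.exists_apply_ne_one_of_hasEnoughRootsOfUnity (↥Q ⧸ R.subgroupOf Q) ℂ ha
  refine ⟨fun g => if hg : g ∈ Q then φ (QuotientGroup.mk' (R.subgroupOf Q) ⟨g, hg⟩) else 1,
    ⟨fun x hx y hy => ?_, fun x hx => ?_, fun x hx y hy => ?_, ⟨a, a.2, by simpa using hφ⟩⟩⟩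
  · rw [dif_pos (Q.mul_mem hx hy), dif_pos hx, dif_pos hy, ← map_mul, ← map_mul]
    rfl
  · rw [dif_pos (h.le₀ hx), show (QuotientGroup.mk' (R.subgroupOf Q)) ⟨x, h.le₀ hx⟩ = 1 from
      (QuotientGroup.eq_one_iff _).2 (mem_subgroupOf.2 ((show Q₀ ≤ R from le_sup_right) hx)), map_one]
  · rw [dif_pos (Grp.mem_conj_normalizer ((h.nt.le₂.trans h.normQ) hx) hy), dif_pos hy]
    congr 1
    refine QuotientGroup.eq.2 (mem_subgroupOf.2 ((show ⁅Q, W₂⁆ ≤ R from le_sup_left) ?_))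
    -- the quotient is a commutator of `Q` with `W₂`
    have h1 := inv_mem (commutator_mem_commutator (Q.inv_mem hy) hx : ⁅y⁻¹, x⁆ ∈ ⁅Q, W₂⁆)
    convert h1 using 1
    simp [commutatorElement_def, mul_assoc]

end Split

end Cfsg.Agent.Grp.FT
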