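import Cfsg.Agent.Lib.Grp.FT.NonTwo
import Cfsg.Agent.S1437
import Cfsg.Agent.S1446

/-!
`T` of type III or IV: `T' = Q ⋊ D` with `Q` the normal Sylow subgroup for the prime `q = |W₁|` and `D` nilpotent
and normalised by `W₂`.
-/

set_option autoImplicit false
set_option linter.unusedSectionVars false
set_option linter.style.haveILetI false

namespace Cfsg.Agent.Grp.FT

open Subgroup Cfsg.Agent.Transfer Cfsg.Agent.Transfer.Loc
open scoped commutatorElement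

universe u

variable {G : Type u} [Group G] [Finite G]

/-- The data `Q ⋊ D` and `Q₀ = C_Q(D)` in types III and IV. -/
structure Split (T W₁ W₂ Q D Q₀ : Subgroup G) : Prop where
  nt : NonTwo T W₁ W₂
  prime₂ : (Nat.card W₂).Prime
  pGroup : IsPGroup (Nat.card W₁) Q
  Q_le : Q ≤ Cfsg.fittingHallOf T
  normQ : T ≤ normalizer (Q : Set G)
  compl : Cfsg.IsComplIn Q D (Cfsg.sigmaCore T)
  nilD : Group.IsNilpotent D
  D_ne : D ≠ ⊥
  coprime : (Nat.card W₁).Coprime (Nat.card D)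
  normD : W₂ ≤ normalizer (D : Set G)
  eq₀ : Q₀ = Q ⊓ centralizer (D : Set G)
  norm₀ : T ≤ normalizer (Q₀ : Set G)
  lt₀ : Q₀ < Q
  card_Q : Nat.card Q = Nat.card Q₀ * Nat.card W₁ ^ Nat.card W₂
  powQ : ∀ a ∈ Q, a ^ Nat.card W₁ ∈ Q₀
  commQ : ∀ a ∈ Q, ∀ b ∈ Q, a * b * a⁻¹ * b⁻¹ ∈ Q₀
  minQ : ∀ N : Subgroup G, Q₀ < N → N < Q → ¬ T ≤ normalizer (N : Set G)

/-- Types III and IV have such data. -/
theorem NonTwo.exists_split {T W₁ W₂ : Subgroup G} (h : NonTwo T W₁ W₂)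
    (hne : Cfsg.fittingHallOf T ≠ Cfsg.sigmaCore T) : ∃ Q D Q₀, Split T W₁ W₂ Q D Q₀ := by
  obtain ⟨-, -, hwp, hqp, hqH, -, Q, hQF, hTQ, hQp, hQi, hQD⟩ :=
    Cfsg.Agent.S1437.result h.hG T h.hT W₂ ⊥ h.dec hne
  rw [show Cfsg.sigmaCore T ⊓ centralizer (W₂ : Set G) = W₁ from h.star] at hqp hqH hQp hQi hQD
  haveI := solvable_of_ne_top h.hG h.hT.1
  haveI := Fact.mk hqp
  have hQS : Q ≤ Cfsg.sigmaCore T := hQF.trans (fittingHallOf_le_sigmaCore h.hG h.hT)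
  haveI : Group.IsSolvable (Cfsg.sigmaCore T) := Grp.isSolvable_of_le h.core_le inferInstance
  obtain ⟨D, hD, hWD, -⟩ := Grp.PiHall.exists_ge (π := ({Nat.card W₁} : Set ℕ)ᶜ) _ G W₂ (Cfsg.sigmaCore T) ⊥ rfl
    (h.le₂.trans h.le_normalizer_core) h.coprime.symm inferInstance bot_le
    (fun g _ => Grp.mem_normalizer_iff_smul.2 (Subgroup.smul_bot _))
    (fun t ht hd => by rw [Subgroup.card_bot, Nat.dvd_one] at hd; exact absurd hd ht.ne_one)
  have hcopD : (Nat.card W₁).Coprime (Nat.card D) :=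
    hqp.coprime_iff_not_dvd.2 fun hd => hD.2.1 _ hqp hd rfl
  have hcopQD : (Nat.card Q).Coprime (Nat.card D) := by
    obtain ⟨i, hi⟩ := IsPGroup.iff_card.1 hQp
    rw [hi]
    exact hcopD.pow_left i
  have hsup : Cfsg.sigmaCore T ≤ Q ⊔ D := by
    refine Grp.le_of_forall_sylow (sup_le hQS hD.1) fun t ht => ?_
    by_cases htr : t = Nat.card W₁
    · subst htr
      exact ⟨Q, ⟨hQS, hQp, hQi⟩, le_sup_left⟩
    · obtain ⟨V, hV⟩ := Grp.exists_isSylowIn t D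
      exact ⟨V, sylowIn_trans hV hD.1 (hD.2.2 t ht.out htr), hV.1.trans le_sup_right⟩
  have hc : Cfsg.IsComplIn Q D (Cfsg.sigmaCore T) := ⟨hQS, hD.1, Grp.inf_eq_bot_of_coprime hcopQD, fun m hm => by
    have h1 := hsup hm
    rw [← SetLike.mem_coe, Subgroup.coe_mul_of_right_le_normalizer_left Q D
      ((hD.1.trans h.core_le).trans hTQ)] at h1
    obtain ⟨a, ha, b, hb, e⟩ := h1
    exact ⟨a, ha, b, hb, e.symm⟩⟩
  obtain ⟨hDn, hN₀, hlt, hcard, hab, hmin⟩ := hQD D hc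
  refine ⟨Q, D, _, h, hwp, hQp, hQF, hTQ, hc, hDn, fun e => hne ?_, hcopD, hWD, rfl, hN₀, hlt, hcard,
    fun a ha => (hab a ha a ha).1, fun a ha b hb => (hab a ha b hb).2, hmin⟩
  subst e
  exact le_antisymm (fittingHallOf_le_sigmaCore h.hG h.hT) (hsup.trans (by rwa [sup_bot_eq]))

/-- The elements of `D` centralising `Q` modulo `Q₀`. -/
def kern (Q D Q₀ : Subgroup G) : Subgroup G where
  carrier := {d | (d ∈ D ∧ d ∈ normalizer (Q : Set G) ∧ d ∈ normalizer (Q₀ : Set G)) ∧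
    ∀ a ∈ Q, d * a * d⁻¹ * a⁻¹ ∈ Q₀}
  one_mem' := ⟨⟨one_mem _, one_mem _, one_mem _⟩, fun a _ => by simp⟩
  mul_mem' := fun {x y} hx hy => ⟨⟨mul_mem hx.1.1 hy.1.1, mul_mem hx.1.2.1 hy.1.2.1, mul_mem hx.1.2.2 hy.1.2.2⟩,
    fun a ha => by
      have h1 := mul_mem (Grp.mem_conj_normalizer hx.1.2.2 (hy.2 a ha)) (hx.2 a ha)
      convert h1 using 1
      group⟩
  inv_mem' := fun {x} hx => ⟨⟨inv_mem hx.1.1, inv_mem hx.1.2.1, inv_mem hx.1.2.2⟩, fun a ha => by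
    have h1 := inv_mem (Grp.mem_conj_normalizer (inv_mem hx.1.2.2) (hx.2 a ha))
    convert h1 using 1
    group⟩

/-- A subgroup invariant under a group of prime power order acting without nontrivial fixed points. -/
theorem card_modEq_one {p : ℕ} [Fact p.Prime] {A H : Subgroup G} (hA : IsPGroup p A)
    (hAH : A ≤ normalizer (H : Set G)) (hfix : ∀ y ∈ H, (∀ a ∈ A, a * y = y * a) → y = 1) :
    Nat.card H ≡ 1 [MOD p] := by
  letI : MulAction A H :=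
    { smul := fun a y => ⟨(a : G) * y * (a : G)⁻¹, Grp.mem_conj_normalizer (hAH a.2) y.2⟩
      one_smul := fun y => Subtype.ext (show ((1 : A) : G) * y * ((1 : A) : G)⁻¹ = _ by simp)
      mul_smul := fun a b y => Subtype.ext (show ((a * b : A) : G) * y * ((a * b : A) : G)⁻¹ =
        (a : G) * ((b : G) * y * (b : G)⁻¹) * (a : G)⁻¹ by simp [mul_assoc]) }
  have h1 := hA.card_modEq_card_fixedPoints H
  have h2 : MulAction.fixedPoints A H = {(1 : H)} := by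
    refine Set.eq_singleton_iff_unique_mem.2 ⟨fun a => Subtype.ext (show (a : G) * 1 * (a : G)⁻¹ = 1 by simp),
      fun y hy => Subtype.ext (hfix y y.2 fun a ha => ?_)⟩
    have h3 : a * (y : G) * a⁻¹ = y := congrArg Subtype.val (hy ⟨a, ha⟩)
    rwa [mul_inv_eq_iff_eq_mul] at h3
  rw [h2] at h1
  simpa using h1

namespace Split

variable {T W₁ W₂ Q D Q₀ : Subgroup G} (h : Split T W₁ W₂ Q D Q₀)
include h

theorem Q_le_core : Q ≤ Cfsg.sigmaCore T := h.compl.1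

theorem D_le_core : D ≤ Cfsg.sigmaCore T := h.compl.2.1

theorem QT : Q ≤ T := h.Q_le_core.trans h.nt.core_le

theorem DT : D ≤ T := h.D_le_core.trans h.nt.core_le

theorem le₁Q : W₁ ≤ Q := by
  haveI := Fact.mk h.nt.prime₁
  intro x hx
  obtain ⟨a, ha, d, hd, e⟩ := h.compl.2.2.2 x (h.nt.le₁ hx)
  -- `x` has order dividing `q`, prime to the index of the normal subgroup `Q`
  haveI : (Q.subgroupOf (Cfsg.sigmaCore T)).Normal :=
    (normal_subgroupOf_iff_le_normalizer h.Q_le_core).2 (h.nt.core_le.trans h.normQ)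
  refine (mem_subgroupOf.1 (mem_of_coprime_index (Q.subgroupOf (Cfsg.sigmaCore T))
    (u := ⟨x, h.nt.le₁ hx⟩) ?_) : _)
  rw [Subgroup.orderOf_mk, show (Q.subgroupOf (Cfsg.sigmaCore T)).index = Nat.card D from (complIn_relIndex h.compl).1]
  exact h.coprime.coprime_dvd_left (Subgroup.orderOf_dvd_natCard _ hx)

theorem free {x d : G} (hx : x ∈ W₂) (hx1 : x ≠ 1) (hd : d ∈ D) (hc : d * x = x * d) : d = 1 := by
  have h1 : d ∈ Q ⊓ D := ⟨h.le₁Q (h.nt.mem₁_of_comm hx hx1 (h.D_le_core hd) hc), hd⟩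
  rwa [h.compl.2.2.1, mem_bot] at h1

theorem kern_le : kern Q D Q₀ ≤ D := fun _ hd => hd.1.1

theorem mem_kern {d : G} : d ∈ kern Q D Q₀ ↔ d ∈ D ∧ ∀ a ∈ Q, d * a * d⁻¹ * a⁻¹ ∈ Q₀ :=
  ⟨fun hd => ⟨hd.1.1, hd.2⟩, fun hd => ⟨⟨hd.1, h.normQ (h.DT hd.1), h.norm₀ (h.DT hd.1)⟩, hd.2⟩⟩

theorem le₀ : Q₀ ≤ Q := h.lt₀.le

theorem kern_norm {t : G} (ht : t ∈ T) (htD : t ∈ normalizer (D : Set G)) :
    t ∈ normalizer (kern Q D Q₀ : Set G) := by
  have key : ∀ t : G, t ∈ T → t ∈ normalizer (D : Set G) → ∀ d ∈ kern Q D Q₀, t * d * t⁻¹ ∈ kern Q D Q₀ := by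
    intro t ht htD d hd
    refine h.mem_kern.2 ⟨Grp.mem_conj_normalizer htD hd.1.1, fun a ha => ?_⟩
    have h1 := Grp.mem_conj_normalizer (h.norm₀ ht)
      (hd.2 _ (Grp.mem_conj_normalizer (inv_mem (h.normQ ht)) ha))
    convert h1 using 1
    group
  refine Subgroup.mem_normalizer_iff.2 fun d => ⟨key t ht htD d, fun hd => ?_⟩
  have h1 := key t⁻¹ (inv_mem ht) (inv_mem htD) _ hd
  convert h1 using 1
  group

theorem kern_norm_D : D ≤ normalizer (kern Q D Q₀ : Set G) := fun _ hd => h.kern_norm (h.DT hd) (le_normalizer hd)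

theorem kern_norm₂ : W₂ ≤ normalizer (kern Q D Q₀ : Set G) := fun _ hx =>
  h.kern_norm (h.nt.le₂ hx) (h.normD hx)

/-- Fixed points of `D` modulo `Q₀`. -/
theorem fixed_D {a : G} (ha : a ∈ Q) (hfix : ∀ d ∈ D, d * a * d⁻¹ * a⁻¹ ∈ Q₀) : a ∈ Q₀ := by
  haveI := Fact.mk h.nt.prime₁
  have hcop : (Nat.card D).Coprime (Nat.card Q) := by
    obtain ⟨i, hi⟩ := IsPGroup.iff_card.1 h.pGroup
    rw [hi]
    exact h.coprime.symm.pow_right i
  haveI := h.pGroup.isNilpotent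
  obtain ⟨c, hc, hcN⟩ := Grp.exists_fixed_rep D Q Q₀ (h.DT.trans h.normQ) (Grp.inf_eq_bot_of_coprime hcop)
    (hcop.coprime_dvd_right (card_dvd_of_le h.le₀))
    (Or.inr (Grp.isSolvable_of_le h.le₀ inferInstance)) h.le₀
    (h.QT.trans h.norm₀) (h.DT.trans h.norm₀) ha hfix
  rw [← h.eq₀] at hc
  have h1 := mul_mem hc (inv_mem hcN)
  convert h1 using 1
  group

theorem kern_lt : kern Q D Q₀ < D := by
  refine lt_of_le_of_ne h.kern_le fun e => h.lt₀.not_ge fun a ha => h.fixed_D ha fun d hd => ?_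
  exact (h.mem_kern.1 (e.symm ▸ hd)).2 a ha

/-- `W₂` acts without fixed points on `D` modulo `kern`. -/
theorem kern_fix {x d : G} (hx : x ∈ W₂) (hx1 : x ≠ 1) (hd : d ∈ D)
    (hc : x * d * x⁻¹ * d⁻¹ ∈ kern Q D Q₀) : d ∈ kern Q D Q₀ := by
  obtain ⟨c, hc', hcK⟩ := h.nt.fix_section hx hx1 h.D_le_core h.kern_le h.kern_norm_D h.normD h.kern_norm₂ hd hc
  have h1 : c ∈ Q ⊓ D := ⟨h.le₁Q hc'.1, hc'.2⟩
  rw [h.compl.2.2.1, mem_bot] at h1
  subst h1
  simpa using inv_mem hcK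

theorem isPGroup₂ : IsPGroup (Nat.card W₂) W₂ := IsPGroup.of_card (n := 1) (pow_one _).symm

/-- The index of `kern` in `D` is one modulo twice the order of `W₂`. -/
theorem kern_index_modEq : (kern Q D Q₀).relIndex D ≡ 1 [MOD 2 * Nat.card W₂] := by
  haveI := Fact.mk h.prime₂
  obtain ⟨x, hx, hx1⟩ := (bot_or_exists_ne_one W₂).resolve_left h.nt.ne
  have hH : ∀ H : Subgroup G, H ≤ D → W₂ ≤ normalizer (H : Set G) → Nat.card H ≡ 1 [MOD Nat.card W₂] :=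
    fun H hH hN => card_modEq_one h.isPGroup₂ hN fun y hy hc => h.free hx hx1 (hH hy) (hc x hx).symm
  have h1 := hH D le_rfl h.normD
  have h2 := hH _ h.kern_le h.kern_norm₂
  have e := Grp.card_mul_relIndex h.kern_le
  have h3 : (kern Q D Q₀).relIndex D ≡ 1 [MOD Nat.card W₂] := by
    have h4 := h2.mul_right ((kern Q D Q₀).relIndex D)
    rw [e, one_mul] at h4
    exact h4.symm.trans h1
  have hodd : (kern Q D Q₀).relIndex D ≡ 1 [MOD 2] :=
    Nat.odd_iff.1 ((h.nt.odd D).of_dvd_nat (Dvd.intro_left _ e))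
  have hcop : Nat.Coprime 2 (Nat.card W₂) := Nat.coprime_two_left.2 (h.nt.odd W₂)
  exact (Nat.modEq_and_modEq_iff_modEq_mul hcop).1 ⟨hodd, h3⟩

theorem one_lt_kern_index : 1 < (kern Q D Q₀).relIndex D := by
  have h1 : (kern Q D Q₀).relIndex D ≠ 1 := fun e => h.kern_lt.not_ge (Subgroup.relIndex_eq_one.1 e)
  have h2 : (kern Q D Q₀).relIndex D ≠ 0 := fun e => (Nat.card_pos (α := D)).ne' (by
    rw [← Grp.card_mul_relIndex h.kern_le, e, mul_zero])
  omega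

end Split

end Cfsg.Agent.Grp.FT
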