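import Cfsg.Agent.Lib.Grp.FT.NonTwoVBase
import Cfsg.Agent.Lib.Char.CentralCoherenceGen
import Cfsg.Agent.Lib.Char.CentralCongr
import Cfsg.Agent.S1509

/-!
`T` of type V with `T'` a `p`-group having a central subgroup in `T''` on which `W₂` acts freely: the characters
nontrivial on it are coherent, and their defects vanish, possibly after the flip.
-/

set_option autoImplicit false
set_option linter.unusedSectionVars false
set_option linter.style.haveILetI false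

namespace Cfsg.Agent.Grp.FT

open Subgroup Cfsg.Agent.Char Cfsg.Agent.Transfer Cfsg.Agent.Transfer.Loc
open scoped ComplexConjugate commutatorElement

attribute [local instance] _root_.Classical.propDecidable

universe u

variable {G : Type u} [Group G] [Fintype G] {T W₁ W₂ : Subgroup G}

namespace Five

variable [Fintype T] [Fintype (core T)] {ι : Type u} [Fintype ι] [DecidableEq ι] {xi : ι → T → ℂ} {Z : ι → G → ℂ}
  {i₀ : ι} (hv : Five T W₁ W₂ xi Z i₀)
include hv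

/-- An induced character off the kernel. -/
theorem ind_off (φ : core T → ℂ) {x : T} (hx : x ∉ core T) : Cfsg.indFun (core T) φ x = 0 :=
  indFun_eq_zero_of_not_conj _ _ fun g hg => (hx (by
    simpa [mul_assoc] using (inferInstance : (core T).Normal).conj_mem _ hg g)).elim

/-- A character induced from one trivial on a normal subgroup is constant there. -/
theorem ind_triv {C : Subgroup T} [C.Normal] (hCK : C ≤ core T) {φ : core T → ℂ}
    (hφ : ∀ k : core T, (k : T) ∈ C → φ k = φ 1) {z : T} (hz : z ∈ C) :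
    Cfsg.indFun (core T) φ z = Cfsg.indFun (core T) φ 1 := by
  have hr := congrFun (res_indFun (N := core T) φ) ⟨z, hCK hz⟩
  have h1 := congrFun (res_indFun (N := core T) φ) 1
  simp only [Pi.smul_apply, Finset.sum_apply, smul_eq_mul] at hr h1
  rw [hr, show Cfsg.indFun (core T) φ 1 = Cfsg.indFun (core T) φ ((1 : core T) : T) from rfl, h1]
  congr 1
  refine Finset.sum_congr rfl fun x _ => ?_
  rw [conjN_apply, conjN_apply, hφ _ ((inferInstance : C.Normal).conj_mem z hz x)]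
  exact congrArg φ (Subtype.ext (by simp))

/-- The fixed characters are trivial on a central subgroup with free action. -/
theorem theta_triv (X : Exc T W₁ W₂) {C : Subgroup T} [C.Normal] (hCK : C ≤ core T)
    (hcen : ∀ z ∈ C, ∀ k ∈ core T, z * k = k * z)
    (hfree : ∀ x : T, (x : G) ∈ W₂ → x ≠ 1 → ∀ z ∈ C, x * z = z * x → z = 1)
    (f : ↥W₁ →* ℂˣ) : ∀ k : core T, (k : T) ∈ C → X.theta f k = X.theta f 1 := by
  classical
  haveI := Exc.finite_dual₂ hv.nt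
  letI := Fintype.ofFinite (↥W₂ →* ℂˣ)
  intro k hk
  have hirr := (X.theta_spec hv.nt f).1
  obtain ⟨b, hb, hb1⟩ := (bot_or_exists_ne_one W₂).resolve_left hv.nt.ne
  set x : T := ⟨b, hv.nt.le₂ hb⟩
  let φ : C → C := fun z => ⟨x * z * x⁻¹ * (z : T)⁻¹,
    mul_mem ((inferInstance : C.Normal).conj_mem _ z.2 x) (inv_mem z.2)⟩
  have hinj : Function.Injective φ := fun a c e => by
    have e' : x * a * x⁻¹ * (a : T)⁻¹ = x * c * x⁻¹ * (c : T)⁻¹ := congrArg Subtype.val e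
    have hcom : (c : T)⁻¹ * a = (a : T) * (c : T)⁻¹ := (hcen _ (inv_mem c.2) _ (hCK a.2))
    have h1 : x * ((c : T)⁻¹ * a) = (c : T)⁻¹ * a * x := by
      have h2 : x * (c : T)⁻¹ * x⁻¹ * (x * a * x⁻¹ * (a : T)⁻¹) = (c : T)⁻¹ := by rw [e']; group
      calc x * ((c : T)⁻¹ * a) = (x * (c : T)⁻¹ * x⁻¹ * (x * a * x⁻¹ * (a : T)⁻¹)) * a * x := by group
        _ = _ := by rw [h2]
    have h3 := hfree x hb (fun e => hb1 (congrArg Subtype.val e)) _ (mul_mem (inv_mem c.2) a.2) h1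
    exact Subtype.ext (inv_mul_eq_one.1 h3).symm
  obtain ⟨⟨z, hz⟩, e⟩ := (Finite.injective_iff_surjective.1 hinj) ⟨k, hk⟩
  have e' : x * z * x⁻¹ * z⁻¹ = (k : T) := congrArg Subtype.val e
  set z' : core T := ⟨z, hCK hz⟩
  obtain ⟨c, -, hc⟩ := IsIrr.exists_scalar hirr (z := z') fun g => by
    rw [show z' * g * z'⁻¹ * g⁻¹ = 1 from Subtype.ext (by
      show z * (g : T) * z⁻¹ * (g : T)⁻¹ = 1
      rw [hcen z hz g g.2]; group)]
  have hinv : X.theta f ⟨x * z * x⁻¹, (inferInstance : (core T).Normal).conj_mem z (hCK hz) x⟩ = X.theta f z' := by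
    have h := congrFun (conjN_res (core T) (IsIrr.classFun (X.irr f 1)) x) z'
    rw [conjN_apply] at h
    exact h
  have hk' : z' * k = ⟨x * z * x⁻¹, (inferInstance : (core T).Normal).conj_mem z (hCK hz) x⟩ := Subtype.ext (by
    show z * (k : T) = x * z * x⁻¹
    rw [hcen z hz _ k.2, ← e', inv_mul_cancel_right])
  have h1 := hc k
  rw [hk', hinv, show X.theta f z' = c * X.theta f 1 by simpa using hc 1] at h1
  refine (mul_left_cancel₀ (fun hc0 => ?_) h1).symm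
  have h2 := hc z'⁻¹
  rw [mul_inv_cancel, hc0, zero_mul] at h2
  exact IsIrr.one_ne_zero hirr h2

/-- The characters of `T` nontrivial on `C` are induced irreducibly. -/
theorem exists_ind (X : Exc T W₁ W₂) {C : Subgroup T} [C.Normal] (hCK : C ≤ core T)
    (hcen : ∀ z ∈ C, ∀ k ∈ core T, z * k = k * z)
    (hfree : ∀ x : T, (x : G) ∈ W₂ → x ≠ 1 → ∀ z ∈ C, x * z = z * x → z = 1)
    {χ : T → ℂ} (hχ : χ ∈ KerSets.TT C ⊥) :
    ∃ φ : core T → ℂ, Cfsg.IsIrrCharacter (core T) φ ∧ ¬ (∀ k : core T, (k : T) ∈ C → φ k = φ 1) ∧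
      χ = Cfsg.indFun (core T) φ := by
  obtain ⟨hirr, ⟨z, hz, hzne⟩, -⟩ := KerSets.mem_TT.1 hχ
  obtain ⟨φ, hφ⟩ := Cfsg.Agent.Block.exists_constituent_res (N := core T) (⟨χ, hirr⟩ : Cfsg.IrrCharacter T)
  change Cfsg.classInner (fun k : core T => χ k) (φ : core T → ℂ) ≠ 0 at hφ
  have hne : Cfsg.classInner (Cfsg.indFun (core T) (φ : core T → ℂ)) χ ≠ 0 := by
    rw [classInner_indFun _ _ (IsIrr.classFun hirr), ← classInner_conj_symm]
    simpa using hφ
  haveI := Exc.finite_dual₂ hv.nt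
  letI := Fintype.ofFinite (↥W₂ →* ℂˣ)
  rcases X.norm_cases hv.nt φ.2 with h1 | ⟨f, hf⟩
  · have hI := IsChar.irr_of_norm_one (isCharacter_indFun (core T) (IsIrr.isCharacter φ.2)) h1
    have e : Cfsg.indFun (core T) (φ : core T → ℂ) = χ := by_contra fun e => hne (classInner_irr_ne hI hirr e)
    refine ⟨φ, φ.2, fun hh => hzne ?_, e.symm⟩
    rw [← e]
    exact hv.ind_triv hCK hh hz
  · exfalso
    rw [hf, (X.theta_spec hv.nt f).2, classInner_sum_left] at hne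
    obtain ⟨g, -, hg⟩ := Finset.exists_ne_zero_of_sum_ne_zero hne
    have e : X.mu f g = χ := by_contra fun e => hg (classInner_irr_ne (X.irr f g) hirr e)
    refine hzne ?_
    rw [← e, X.res f g z (mem_subgroupOf.1 (hCK hz)), X.res f g 1 (by simp)]
    exact hv.theta_triv X hCK hcen hfree f ⟨z, hCK hz⟩ hz

/-- A character nontrivial on `C` induces a member of the set. -/
theorem ind_mem (X : Exc T W₁ W₂) {C : Subgroup T} [C.Normal] (hCK : C ≤ core T)
    (hcen : ∀ z ∈ C, ∀ k ∈ core T, z * k = k * z)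
    (hfree : ∀ x : T, (x : G) ∈ W₂ → x ≠ 1 → ∀ z ∈ C, x * z = z * x → z = 1)
    {φ : core T → ℂ} (hφ : Cfsg.IsIrrCharacter (core T) φ) (hne : ¬ (∀ k : core T, (k : T) ∈ C → φ k = φ 1)) :
    Cfsg.indFun (core T) φ ∈ KerSets.TT C ⊥ ∧
      Cfsg.classInner (Cfsg.indFun (core T) φ) (Cfsg.indFun (core T) φ) = 1 := by
  have h1 : Cfsg.classInner (Cfsg.indFun (core T) φ) (Cfsg.indFun (core T) φ) = 1 := by
    rcases X.norm_cases hv.nt hφ with h1 | ⟨f, rfl⟩
    · exact h1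
    · exact absurd (hv.theta_triv X hCK hcen hfree f) hne
  have hI := IsChar.irr_of_norm_one (isCharacter_indFun (core T) (IsIrr.isCharacter hφ)) h1
  refine ⟨KerSets.mem_TT.2 ⟨hI, ?_, KerSets.not_nonTriv_bot _⟩, h1⟩
  by_contra hh
  simp only [FrobTI.NonTriv, not_exists, not_and, not_not] at hh
  -- then every conjugate of `φ` is trivial on `C`
  refine hne fun k hk => ?_
  obtain ⟨c, hc1, hc⟩ := IsIrr.exists_scalar hφ (z := k) fun g => by
    rw [show k * g * k⁻¹ * g⁻¹ = 1 from Subtype.ext (by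
      show (k : T) * (g : T) * (k : T)⁻¹ * (g : T)⁻¹ = 1
      rw [hcen k hk g g.2]; group)]
  have hk1 : φ k = c * φ 1 := by simpa using hc 1
  have hsum := hh k hk
  rw [show Cfsg.indFun (core T) φ (k : T) = (fun n : core T => Cfsg.indFun (core T) φ n) k from rfl,
    show Cfsg.indFun (core T) φ 1 = (fun n : core T => Cfsg.indFun (core T) φ n) 1 from rfl, res_indFun] at hsum
  simp only [Pi.smul_apply, Finset.sum_apply, smul_eq_mul] at hsum
  have hsum' := mul_left_cancel₀ (inv_ne_zero (Nat.cast_ne_zero.2 Nat.card_pos.ne')) hsum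
  obtain ⟨m, hm0, hm⟩ := IsIrr.one_eq_pos hφ
  have hm' : ∀ y : T, (Char.conjN (core T) y φ k).re ≤ (m : ℝ) := fun y => by
    have h := IsIrr.conjN (core T) hφ y
    have h2 := IsChar.norm_le (IsIrr.isCharacter h) k
    have h3 : Char.conjN (core T) y φ 1 = (m : ℂ) := by
      rw [conjN_apply, ← hm]; exact congrArg φ (Subtype.ext (by simp))
    rw [h3, Complex.norm_natCast] at h2
    exact (Complex.re_le_norm _).trans h2
  have hone : ∀ y : T, (Char.conjN (core T) y φ 1).re = (m : ℝ) := fun y => by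
    rw [conjN_apply, show φ _ = φ 1 from congrArg φ (Subtype.ext (by simp)), hm, Complex.natCast_re]
  have heq := (Finset.sum_eq_sum_iff_of_le (s := Finset.univ) fun y _ => (hm' y).trans (hone y).ge).1 (by
    simpa [Complex.re_sum] using congrArg Complex.re hsum') 1 (Finset.mem_univ _)
  rw [hone, conjN_apply, show φ _ = φ k from congrArg φ (Subtype.ext (by simp))] at heq
  have hnorm : ‖φ k‖ ≤ (m : ℝ) := by
    have h := IsChar.norm_le (IsIrr.isCharacter hφ) k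
    rwa [hm, Complex.norm_natCast] at h
  rw [hm]
  refine Complex.ext ?_ ?_
  · rw [heq, Complex.natCast_re]
  · rw [Complex.natCast_im]
    have h4 := Complex.sq_norm_sub_sq_re (φ k)
    nlinarith [norm_nonneg (φ k), sq_nonneg (φ k).im]

/-- The characters nontrivial on `C`, possibly after the flip, have no defect. -/
theorem free (X : Exc T W₁ W₂) {r : ℕ} (hr : r.Prime) (hrK : IsPGroup r (core T)) {C : Subgroup T} [C.Normal]
    (hCne : C ≠ ⊥) (hC' : C ≤ core' T) (hcen : ∀ z ∈ C, ∀ k ∈ core T, z * k = k * z)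
    (hfree : ∀ x : T, (x : G) ∈ W₂ → x ≠ 1 → ∀ z ∈ C, x * z = z * x → z = 1) :
    (∀ φ : core T → ℂ, Cfsg.IsIrrCharacter (core T) φ → ¬ (∀ k : core T, (k : T) ∈ C → φ k = φ 1) →
      defect (core T) ((Cfsg.sigmaCore T : Set G) \ {1}) (xi i₀) (Z i₀) φ = 0) ∨
    (Fintype.card ι = 2 ∧ ∀ φ : core T → ℂ, Cfsg.IsIrrCharacter (core T) φ →
      ¬ (∀ k : core T, (k : T) ∈ C → φ k = φ 1) →
      defect (core T) ((Cfsg.sigmaCore T : Set G) \ {1}) (xi i₀) (Z i₀) φ = φ 1) := by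
  classical
  haveI := Fact.mk hr
  have hCK : C ≤ core T := hC'.trans hv.nt.core'_le
  set A := (Cfsg.sigmaCore T : Set G) \ {1} with hA
  set S : Set (T → ℂ) := ↑(KerSets.TT C ⊥) with hS
  have hodd : Odd (Nat.card T) := hv.nt.odd T
  -- the hypotheses of coherence
  have hgen : ∀ α ∈ Cfsg.zspan S, Cfsg.IsGeneralizedCharacter T α ∧ ∀ x ∉ core T, α x = 0 := by
    intro α hα
    induction hα using Submodule.span_induction with
    | mem x hx =>
      obtain ⟨φ, hφ, -, rfl⟩ := hv.exists_ind X hCK hcen hfree (Finset.mem_coe.1 hx)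
      exact ⟨IsGenChar.ind _ (IsGenChar.of_isCharacter (IsIrr.isCharacter hφ)), fun y hy => hv.ind_off φ hy⟩
    | zero => exact ⟨IsGenChar.zero, fun _ _ => rfl⟩
    | add x y _ _ hx hy => exact ⟨IsGenChar.add hx.1 hy.1, fun z hz => by simp [hx.2 z hz, hy.2 z hz]⟩
    | smul c x _ hx =>
      exact ⟨by rw [← Int.cast_smul_eq_zsmul ℂ]; exact IsGenChar.zsmul hx.1 c, fun z hz => by simp [hx.2 z hz]⟩
  have hsupp : ∀ α ∈ Cfsg.zspanOn S {1}ᶜ, Supp A T α := fun α hα =>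
    ⟨IsGenChar.classFun (hgen α hα.1).1, fun x hx => by
      by_cases hxK : x ∈ core T
      · exact hα.2 x (fun h => h (by_contra fun hne => hx ((hv.fam.hA x).2 ⟨hxK, hne⟩)))
      · exact (hgen α hα.1).2 x hxK⟩
  have hD := hv.fam.hD
  have hyp : Coh.Hyp S (Cfsg.dadeIsometry A T fun _ => ⊥) :=
    ⟨fun χ hχ => (KerSets.mem_TT.1 (Finset.mem_coe.1 hχ)).1, ⟨fun α _ β _ => dade_add α β,
      fun α _ n => by rw [← Int.cast_smul_eq_zsmul ℂ, dade_smul, ← Int.cast_smul_eq_zsmul ℂ],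
      fun α hα β hβ => dade_iso hD (hsupp α hα) (hsupp β hβ),
      fun α hα => dade_gen hD (hsupp α hα) (hgen α hα.1).1⟩, fun α _ => dade_at_one hD α⟩
  have hcop : ¬ r ∣ (core T).index := fun hd => by
    obtain ⟨J, hJ⟩ := IsPGroup.iff_card.1 hrK
    have hK1 : core T ≠ ⊥ := fun e => hCne (le_bot_iff.1 (hCK.trans e.le))
    have hJ0 : J ≠ 0 := fun e => hK1 (Subgroup.card_eq_one.1 (by rw [hJ, e, pow_zero]))
    have h1 : r ∣ Nat.card (core T) := hJ ▸ dvd_pow_self r hJ0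
    rw [hv.nt.card_core] at h1
    rw [hv.nt.index_eq] at hd
    exact hr.not_dvd_one (hv.nt.coprime.gcd_eq_one ▸ Nat.dvd_gcd h1 hd)
  have hdg : ∀ χ ∈ KerSets.TT C ⊥, ∃ i : ℕ, KerSets.dg χ = (core T).index * r ^ i ∧ r ^ (2 * i) ∣ C.relIndex (core T) := by
    intro χ hχ
    obtain ⟨φ, hφ, -, rfl⟩ := hv.exists_ind X hCK hcen hfree hχ
    obtain ⟨m, -, hm⟩ := IsIrr.one_eq_pos hφ
    obtain ⟨J, hJ⟩ := IsPGroup.iff_card.1 hrK
    obtain ⟨i, -, hi⟩ := (Nat.dvd_prime_pow hr).1 (hJ ▸ IsIrr.degree_dvd_card hφ hm)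
    obtain ⟨j, -, hj⟩ := (Nat.dvd_prime_pow hr).1
      (hJ ▸ ((C.subgroupOf (core T)).index_dvd_card : C.relIndex (core T) ∣ Nat.card (core T)))
    change C.relIndex (core T) = r ^ j at hj
    refine ⟨i, Nat.cast_injective (R := ℂ) ?_, ?_⟩
    · rw [← KerSets.dg_spec (KerSets.mem_TT.1 hχ).1, indFun_one_eq, hm, hi]; push_cast; rfl
    · have hsq : m ^ 2 ≤ C.relIndex (core T) := Descent.sq_le_index (C.subgroupOf (core T)) hφ hm fun a ha g => by
        rw [show a * g * a⁻¹ * g⁻¹ = 1 from Subtype.ext (by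
          show (a : T) * g * (a : T)⁻¹ * (g : T)⁻¹ = 1
          rw [hcen a (mem_subgroupOf.1 ha) g g.2]; group)]
      rw [hi, hj, ← pow_mul, mul_comm i 2] at hsq
      rw [hj]
      exact pow_dvd_pow r ((Nat.pow_le_pow_iff_right hr.one_lt).1 hsq)
  obtain ⟨-, σ, hσ, hσe⟩ := KerSets.central_coherent_of_degrees (core T) hodd hr hrK hCK hCne hcop hdg hyp
  -- the images are orthogonal to the first image
  have lin2 : ∀ χ ∈ KerSets.TT C ⊥, ∀ χ' ∈ KerSets.TT C ⊥, ∀ a b : ℤ, (a • χ + b • χ' ∈ Cfsg.zspan S) ∧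
      σ (a • χ + b • χ') = a • σ χ + b • σ χ' := fun χ hχ χ' hχ' a b => by
    have h1 : χ ∈ Cfsg.zspan S := Submodule.subset_span (Finset.mem_coe.2 hχ)
    have h2 : χ' ∈ Cfsg.zspan S := Submodule.subset_span (Finset.mem_coe.2 hχ')
    have h3 : a • χ ∈ Cfsg.zspan S := Submodule.smul_mem _ a h1
    have h4 : b • χ' ∈ Cfsg.zspan S := Submodule.smul_mem _ b h2
    exact ⟨Submodule.add_mem _ h3 h4, by rw [hσ.1 _ h3 _ h4, hσ.2.1 _ h1, hσ.2.1 _ h2]⟩
  have hperp : ∀ χ ∈ KerSets.TT C ⊥, Cfsg.classInner (σ χ) (Z i₀) = 0 := by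
    intro χ hχ
    have hirr := (KerSets.mem_TT.1 hχ).1
    have hbar := KerSets.conjFun_mem hχ
    have hne := KerSets.conjFun_ne hodd hχ
    obtain ⟨j, hj, -, -⟩ := hv.fam.bar i₀
    obtain ⟨φ, hφ, hφC, hχe⟩ := hv.exists_ind X hCK hcen hfree hχ
    obtain ⟨φ', hφ', hφC', hχe'⟩ := hv.exists_ind X hCK hcen hfree hbar
    have hnl : ∀ ψ : core T → ℂ, Cfsg.IsIrrCharacter (core T) ψ →
        ¬ (∀ k : core T, (k : T) ∈ C → ψ k = ψ 1) → ψ 1 ≠ 1 := fun ψ hψ hne h1 =>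
      hne fun k hk => (hv.linear_iff hψ).2 h1 k (hC' hk)
    have h1 : χ 1 = Cfsg.conjFun χ 1 := by
      show χ 1 = conj (χ 1)
      rw [KerSets.dg_spec hirr, map_natCast]
    have hd : χ - Cfsg.conjFun χ ∈ Cfsg.zspanOn S {1}ᶜ ∧ σ (χ - Cfsg.conjFun χ) = σ χ - σ (Cfsg.conjFun χ) := by
      have e : χ - Cfsg.conjFun χ = (1 : ℤ) • χ + (-1 : ℤ) • Cfsg.conjFun χ := by
        rw [one_smul, neg_one_smul, sub_eq_add_neg]
      obtain ⟨m1, m2⟩ := lin2 χ hχ _ hbar 1 (-1)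
      refine ⟨⟨e ▸ m1, fun x hx => ?_⟩, by rw [e, m2, one_smul, neg_one_smul, sub_eq_add_neg]⟩
      rw [Set.mem_compl_iff, not_not, Set.mem_singleton_iff] at hx
      rw [hx, Pi.sub_apply, h1, sub_self]
    have hτ : σ χ - σ (Cfsg.conjFun χ) = Cfsg.dadeIsometry A T (fun _ => ⊥) (χ - Cfsg.conjFun χ) := by
      rw [← hd.2, hσe _ hd.1]
    have hgenσ : ∀ ψ ∈ KerSets.TT C ⊥, Cfsg.IsIrrCharacter G (σ ψ) ∨ Cfsg.IsIrrCharacter G (-σ ψ) := fun ψ hψ => by
      have hm : ψ ∈ Cfsg.zspan S := Submodule.subset_span (Finset.mem_coe.2 hψ)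
      exact IsGenChar.norm_one (hσ.2.2.2 _ hm)
        (by rw [hσ.2.2.1 _ hm _ hm, classInner_self_irr (KerSets.mem_TT.1 hψ).1])
    have hj' : Cfsg.IsIrrCharacter G (Z j) ∨ Cfsg.IsIrrCharacter G (-Z j) :=
      IsGenChar.norm_one (hv.fam.gen j) (by rw [hv.fam.Z_orth, if_pos rfl])
    have hval : ∀ α : T → ℂ, Cfsg.dadeIsometry A T (fun _ => ⊥) α 1 = 0 := dade_at_one hD
    have hd1 := congrFun (hv.fam.Z_diff j) 1
    rw [hval, Pi.sub_apply] at hd1
    have hd2 := congrFun hτ 1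
    rw [hval, Pi.sub_apply] at hd2
    have hs : Supp A T (xi j - xi i₀) := by
      refine ⟨classFunction_sub (hv.fam.xi_classFun _) (hv.fam.xi_classFun _), fun x hx => ?_⟩
      by_cases hxK : x ∈ core T
      · have hx1 : x = 1 := by_contra fun h => hx ((hv.fam.hA x).2 ⟨hxK, h⟩)
        subst hx1
        rw [Pi.sub_apply, hv.fam.xi_one, hv.fam.xi_one, sub_self]
      · rw [Pi.sub_apply, hv.fam.xi_off _ hxK, hv.fam.xi_off _ hxK, sub_self]
    have hmix : Cfsg.classInner (Z i₀ - Z j)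
        (((1 : ℝ) : ℂ) • σ χ - ((1 : ℝ) : ℂ) • σ (Cfsg.conjFun χ)) = 0 := by
      simp only [Complex.ofReal_one, one_smul]
      rw [show Z i₀ - Z j = (-1 : ℂ) • (Z j - Z i₀) by rw [neg_one_smul, neg_sub], ← hv.fam.Z_diff j, hτ,
        classInner_smul_left, dade_iso hD hs (hsupp _ hd.1), ← classInner_conj_symm, classInner_sub_left,
        classInner_sub_right, classInner_sub_right, hχe', hχe, hv.ind_orth hφ (hnl _ hφ hφC),
        hv.ind_orth hφ (hnl _ hφ hφC), hv.ind_orth hφ' (hnl _ hφ' hφC'), hv.ind_orth hφ' (hnl _ hφ' hφC')]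
      simp
    have h := Cfsg.Agent.S1509.result (Z i₀) (Z j) (σ χ) (σ (Cfsg.conjFun χ)) hv.Z_irr hj' (hgenσ _ hχ)
      (hgenσ _ hbar) 1 1 one_ne_zero one_ne_zero (by rw [hv.fam.Z_orth, if_neg hj.symm])
      (by
        rw [hσ.2.2.1 _ (Submodule.subset_span (Finset.mem_coe.2 hχ)) _ (Submodule.subset_span (Finset.mem_coe.2 hbar)),
          classInner_irr_ne hirr (KerSets.mem_TT.1 hbar).1 hne.symm])
      hmix (sub_eq_zero.1 hd1.symm).symm (by rw [Complex.ofReal_one, one_mul, one_mul]; exact sub_eq_zero.1 hd2)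
    rw [← classInner_conj_symm, h.1, map_zero]
  -- the defects are proportional to the degrees
  have hnl : ∀ ψ : core T → ℂ, Cfsg.IsIrrCharacter (core T) ψ →
      ¬ (∀ k : core T, (k : T) ∈ C → ψ k = ψ 1) → ψ 1 ≠ 1 := fun ψ hψ hne h1 =>
    hne fun k hk => (hv.linear_iff hψ).2 h1 k (hC' hk)
  have hprop : ∀ φ : core T → ℂ, Cfsg.IsIrrCharacter (core T) φ → ¬ (∀ k : core T, (k : T) ∈ C → φ k = φ 1) →
      ∀ φ' : core T → ℂ, Cfsg.IsIrrCharacter (core T) φ' → ¬ (∀ k : core T, (k : T) ∈ C → φ' k = φ' 1) →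
      φ' 1 * defect (core T) A (xi i₀) (Z i₀) φ = φ 1 * defect (core T) A (xi i₀) (Z i₀) φ' := by
    intro φ hφ hne φ' hφ' hne'
    obtain ⟨m, -, hm⟩ := IsIrr.one_eq_pos hφ
    obtain ⟨m', -, hm'⟩ := IsIrr.one_eq_pos hφ'
    set f := (m' : ℂ) • φ - (m : ℂ) • φ' with hf
    have hf1 : f 1 = 0 := by
      rw [hf, Pi.sub_apply, Pi.smul_apply, Pi.smul_apply, hm, hm', smul_eq_mul, smul_eq_mul]; ring
    have hDf : defect (core T) A (xi i₀) (Z i₀) f = 0 := by
      have hχ := (hv.ind_mem X hCK hcen hfree hφ hne).1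
      have hχ' := (hv.ind_mem X hCK hcen hfree hφ' hne').1
      obtain ⟨m1, m2⟩ := lin2 _ hχ _ hχ' (m' : ℤ) (-(m : ℤ))
      have e : Cfsg.indFun (core T) f = (m' : ℤ) • Cfsg.indFun (core T) φ + (-(m : ℤ)) • Cfsg.indFun (core T) φ' := by
        rw [hf, sub_eq_add_neg, ← neg_smul, indFun_add, indFun_smul, indFun_smul,
          ← Int.cast_smul_eq_zsmul ℂ (m' : ℤ), ← Int.cast_smul_eq_zsmul ℂ (-(m : ℤ))]
        simp
      have hon : Cfsg.indFun (core T) f ∈ Cfsg.zspanOn S {1}ᶜ := ⟨e ▸ m1, fun x hx => by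
        rw [Set.mem_compl_iff, not_not, Set.mem_singleton_iff] at hx
        rw [hx, indFun_one_eq, hf1, mul_zero]⟩
      rw [defect, sig, hf1, zero_smul, zero_smul, sub_zero, add_zero, ← hσe _ hon, e, m2,
        ← Int.cast_smul_eq_zsmul ℂ (m' : ℤ), ← Int.cast_smul_eq_zsmul ℂ (-(m : ℤ)),
        ← Int.cast_smul_eq_zsmul ℂ (m' : ℤ), ← Int.cast_smul_eq_zsmul ℂ (-(m : ℤ))]
      simp only [classInner_add_left, classInner_smul_left, hperp _ hχ, hperp _ hχ', hv.ind_orth hφ (hnl _ hφ hne),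
        hv.ind_orth hφ' (hnl _ hφ' hne'), mul_zero, add_zero, sub_self]
    rw [hf, hv.fam.defect_sub, hv.fam.defect_smul, hv.fam.defect_smul, sub_eq_zero] at hDf
    rw [hm, hm']
    exact hDf
  by_cases hex : ∃ φ : core T → ℂ, Cfsg.IsIrrCharacter (core T) φ ∧ ¬ (∀ k : core T, (k : T) ∈ C → φ k = φ 1)
  swap
  · exact Or.inl fun φ hφ hne => absurd ⟨φ, hφ, hne⟩ hex
  obtain ⟨φ₀, hφ₀, hne₀⟩ := hex
  obtain ⟨m₀, hm₀0, hm₀⟩ := IsIrr.one_eq_pos hφ₀
  obtain ⟨z₀, hz₀⟩ := hv.fam.defect_int (IsGenChar.of_isCharacter (IsIrr.isCharacter hφ₀))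
  set t : ℂ := (z₀ : ℂ) / (m₀ : ℂ) with ht
  have hm₀C : (m₀ : ℂ) ≠ 0 := Nat.cast_ne_zero.2 hm₀0.ne'
  have hD : ∀ φ : core T → ℂ, Cfsg.IsIrrCharacter (core T) φ → ¬ (∀ k : core T, (k : T) ∈ C → φ k = φ 1) →
      defect (core T) A (xi i₀) (Z i₀) φ = φ 1 * t := fun φ hφ hne => by
    have h := hprop φ hφ hne φ₀ hφ₀ hne₀
    rw [hm₀, hz₀] at h
    rw [ht, mul_div, eq_div_iff hm₀C]
    linear_combination h
  obtain ⟨c₀, hc₀⟩ := hv.pair_const_int
  have htconj : conj t = t := by rw [ht, map_div₀, map_intCast, map_natCast]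
  -- the first image on `C`
  set F : core T → ℂ := fun x => Z i₀ (x : G) with hFdef
  have hFc : Cfsg.IsClassFunction (core T) F :=
    IsGenChar.classFun (IsGenChar.comp (core T).subtype (IsGenChar.comp T.subtype (hv.fam.gen i₀)))
  have hFz : ∀ z : core T, (z : T) ∈ C → z ≠ 1 → F 1 - F z = (t + c₀) * (Nat.card (core T) : ℂ) := by
    intro z hz hz1
    have hcoef : ∀ φ : Cfsg.IrrCharacter (core T), ¬ (∀ k : core T, (k : T) ∈ C → φ.1 k = φ.1 1) →
        Cfsg.classInner F φ.1 = φ.1 1 * (t + c₀) := fun φ hne => by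
      obtain ⟨m, -, hm⟩ := IsIrr.one_eq_pos φ.2
      rw [← classInner_conj_symm, hFdef, hv.pair_nonlinear φ.2 (hnl _ φ.2 hne), hD _ φ.2 hne, hc₀, hm, map_add,
        map_mul, map_mul, map_natCast, map_intCast, htconj]
      ring
    conv_lhs => rw [classFunction_expansion hFc]
    simp only [Finset.sum_apply, Pi.smul_apply, smul_eq_mul]
    rw [← Finset.sum_sub_distrib,
      Finset.sum_congr rfl (g := fun φ : Cfsg.IrrCharacter (core T) => (t + c₀) * (φ.1 1 * φ.1 1 - φ.1 1 * φ.1 z))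
        fun φ _ => ?_, ← Finset.mul_sum, Finset.sum_sub_distrib, regular_expansion, regular_expansion, if_pos rfl,
      if_neg hz1, sub_zero]
    by_cases hne : ∀ k : core T, (k : T) ∈ C → φ.1 k = φ.1 1
    · rw [hne z hz]; ring
    · rw [hcoef φ hne]; ring
  obtain ⟨zC, hzC, hzC1⟩ := (bot_or_exists_ne_one C).resolve_left hCne
  -- integrality
  obtain ⟨j, hj⟩ : ∃ j : ℤ, t = (j : ℂ) := by
    set Cg := C.map T.subtype with hCg
    have hP : Cfsg.sigmaCore T ≤ T := hv.nt.core_le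
    have hmemC : ∀ z ∈ Cg, ∃ hzT : z ∈ T, (⟨z, hzT⟩ : T) ∈ C := by
      rintro _ ⟨c, hc, rfl⟩; exact ⟨c.2, hc⟩
    have hne1 : ∀ z ∈ Cg, z ≠ 1 → ∀ g : G, g * z * g⁻¹ ∈ Cfsg.sigmaCore T → g ∈ T := fun z hz hz1 g hg => by
      obtain ⟨hzT, hzC⟩ := hmemC z hz
      exact hv.mem_of_conj (mem_subgroupOf.1 (hCK hzC)) hz1 hg
    have hconst : ∀ z ∈ Cg, z ≠ 1 → Z i₀ z = Z i₀ 1 - (t + c₀) * (Nat.card (core T) : ℂ) := fun z hz hz1 => by
      obtain ⟨hzT, hzC⟩ := hmemC z hz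
      have h := hFz ⟨⟨z, hzT⟩, hCK hzC⟩ hzC fun e => hz1 (congrArg (fun k : core T => ((k : T) : G)) e)
      simp only [hFdef] at h
      rw [← h]
      simp
    have hzg : (zC : G) ∈ Cg := mem_map_of_mem _ hzC
    have hzg1 : (zC : G) ≠ 1 := fun e => hzC1 (Subtype.ext e)
    have hcong : ∀ ψ : G → ℂ, Cfsg.IsIrrCharacter G ψ →
        (∀ z ∈ Cg, ∀ z' ∈ Cg, z ≠ 1 → z' ≠ 1 → ψ z = ψ z') →
        ∃ a : ℤ, ψ 1 - ψ (zC : G) = (Nat.card (core T) : ℂ) * a := fun ψ hψ hc => by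
      obtain ⟨a, d, ha, hd, ⟨e, he⟩⟩ := CentralCongr.congr_central (Cfsg.sigmaCore T) T Cg hP hodd
        (by rw [hCg, ← hv.nt.map_core]; exact map_mono hCK)
        (fun x hx z hz => by
          obtain ⟨hzT, hzC⟩ := hmemC z hz
          exact ⟨⟨x, hx⟩ * ⟨z, hzT⟩ * ⟨x, hx⟩⁻¹, (inferInstance : C.Normal).conj_mem _ hzC _, rfl⟩)
        (fun z hz y hy => by
          obtain ⟨hzT, hzC⟩ := hmemC z hz
          exact congrArg Subtype.val (hcen _ hzC ⟨y, hP hy⟩ (mem_subgroupOf.2 hy)))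
        (by rw [(complIn_relIndex hv.nt.compl).1]; exact hv.nt.coprime)
        (fun g z hz hz1 hg => by
          obtain ⟨hzT, hzC⟩ := hmemC _ hg
          exact hne1 z hz hz1 g (mem_subgroupOf.1 (hCK hzC)))
        (fun g k hk hk1 z hz hz1 hc => by
          obtain ⟨hzT, hzC⟩ := hmemC z hz
          exact hv.mem_of_comm (mem_subgroupOf.1 (hCK hzC)) hz1 hk hk1 hc)
        hψ hc (zC : G) hzg hzg1
      rw [← hv.nt.card_core] at he
      refine ⟨e, ?_⟩
      rw [ha, hd, ← Int.cast_sub, he]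
      push_cast; rfl
    have hN0 : (Nat.card (core T) : ℂ) ≠ 0 := Nat.cast_ne_zero.2 Nat.card_pos.ne'
    rcases hv.Z_irr with h | h
    · obtain ⟨a, ha⟩ := hcong _ h fun z hz z' hz' h1 h1' => by rw [hconst z hz h1, hconst z' hz' h1']
      refine ⟨a - c₀, mul_right_cancel₀ hN0 ?_⟩
      rw [hconst _ hzg hzg1] at ha
      push_cast; linear_combination ha
    · obtain ⟨a, ha⟩ := hcong _ h fun z hz z' hz' h1 h1' => by
        rw [Pi.neg_apply, Pi.neg_apply, hconst z hz h1, hconst z' hz' h1']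
      refine ⟨-a - c₀, mul_right_cancel₀ hN0 ?_⟩
      rw [Pi.neg_apply, Pi.neg_apply, hconst _ hzg hzg1] at ha
      push_cast; linear_combination -ha
  -- the basic inequality
  obtain ⟨m', hm', hm3, -, -⟩ := hv.degree hφ₀ (hnl _ hφ₀ hne₀)
  obtain rfl : m₀ = m' := Nat.cast_injective (hm₀.symm.trans hm')
  have hb := hv.basic hφ₀ (hnl _ hφ₀ hne₀) hm₀ (c := 1)
    (by rw [(hv.ind_mem X hCK hcen hfree hφ₀ hne₀).2, Int.cast_one]) (z := j * m₀)
    (by rw [hD _ hφ₀ hne₀, hj, hm₀]; push_cast; ring)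
  set n : ℤ := (Fintype.card ι : ℤ) with hn
  have hn2 : 2 ≤ n := by rw [hn]; exact_mod_cast hv.two_le
  have hm1 : (3 : ℤ) ≤ m₀ := by exact_mod_cast hm3
  have h0 : j = 0 ∨ (n = 2 ∧ j = 1) := by
    have h1 : (m₀ : ℤ) ^ 2 * (n * j ^ 2 - 2 * j) ≤ 1 := by linarith
    have h2 : n * j ^ 2 - 2 * j ≤ 0 := by
      by_contra h2; push Not at h2
      nlinarith
    by_cases hj0 : j = 0
    · exact Or.inl hj0
    refine Or.inr ?_
    have h3 : 0 < j := by
      by_contra h3; push Not at h3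
      have : j ≤ -1 := by omega
      nlinarith [sq_nonneg j]
    have h4 : j = 1 := by
      by_contra h5; have : 2 ≤ j := by omega
      nlinarith
    subst h4
    exact ⟨by omega, rfl⟩
  rcases h0 with rfl | ⟨hn', rfl⟩
  · exact Or.inl fun φ hφ hne => by rw [hD φ hφ hne, hj, Int.cast_zero, mul_zero]
  · exact Or.inr ⟨by rw [hn] at hn'; exact_mod_cast hn',
      fun φ hφ hne => by rw [hD φ hφ hne, hj, Int.cast_one, mul_one]⟩

end Five

end Cfsg.Agent.Grp.FT
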