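import Cfsg.Agent.Lib.Grp.FT.NonTwoVCentral
import Cfsg.Agent.Lib.Grp.FT.NonTwoVFree

/-!
`T` of type V: the fixed characters have no defect, possibly after the flip.
-/

set_option autoImplicit false
set_option linter.unusedSectionVars false
set_option linter.style.haveILetI false

namespace Cfsg.Agent.Grp.FT

open Subgroup Cfsg.Agent.Char Cfsg.Agent.Transfer Cfsg.Agent.Transfer.Loc
open scoped ComplexConjugate commutatorElement

attribute [local instance] _root_.Classical.propDecidable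

universe u

variable {G : Type u} [Group G] [Fintype G] {T W₁ W₂ : Subgroup G}

namespace Five

variable [Fintype T] [Fintype (core T)] {ι : Type u} [Fintype ι] [DecidableEq ι] {xi : ι → T → ℂ} {Z : ι → G → ℂ}
  {i₀ : ι} (hv : Five T W₁ W₂ xi Z i₀)
include hv

/-- From the characters nontrivial on a central subgroup to the fixed ones. -/
theorem of_layer (X : Exc T W₁ W₂) {C : Subgroup T} [C.Normal] (hne : C ≠ ⊥) (hC : C ≤ core' T)
    (hcen : ∀ z ∈ C, ∀ k ∈ core T, z * k = k * z)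
    (h : (∀ φ : core T → ℂ, Cfsg.IsIrrCharacter (core T) φ → ¬ (∀ k : core T, (k : T) ∈ C → φ k = φ 1) →
        defect (core T) ((Cfsg.sigmaCore T : Set G) \ {1}) (xi i₀) (Z i₀) φ = 0) ∨
      (Fintype.card ι = 2 ∧ ∀ φ : core T → ℂ, Cfsg.IsIrrCharacter (core T) φ →
        ¬ (∀ k : core T, (k : T) ∈ C → φ k = φ 1) →
        defect (core T) ((Cfsg.sigmaCore T : Set G) \ {1}) (xi i₀) (Z i₀) φ = φ 1)) :
    (∀ f : ↥W₁ →* ℂˣ, f ≠ 1 → defect (core T) ((Cfsg.sigmaCore T : Set G) \ {1}) (xi i₀) (Z i₀) (X.theta f) = 0) ∨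
    (Fintype.card ι = 2 ∧ ∀ f : ↥W₁ →* ℂˣ, f ≠ 1 →
      defect (core T) ((Cfsg.sigmaCore T : Set G) \ {1}) (xi i₀) (Z i₀) (X.theta f) = X.theta f 1) := by
  have hCK : C ≤ core T := hC.trans hv.nt.core'_le
  rcases h with h | ⟨hn, h⟩
  · exact Or.inl fun f hf => hv.finish X hne hCK hcen h hf
  obtain ⟨j, hj, hall⟩ := hv.exists_pair_of_two hn
  refine Or.inr ⟨hn, fun f hf => ?_⟩
  have hnl : ∀ φ : core T → ℂ, Cfsg.IsIrrCharacter (core T) φ →
      ¬ (∀ k : core T, (k : T) ∈ C → φ k = φ 1) → φ 1 ≠ 1 := fun φ hφ hne' h1 =>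
    hne' fun k hk => (hv.linear_iff hφ).2 h1 k (hC hk)
  have hfl := (hv.flip hj hall).finish X hne hCK hcen (fun φ hφ hne' => by
    rw [hv.fam.defect_flip hj hall (hv.ind_orth hφ (hnl φ hφ hne')), h φ hφ hne', sub_self]) hf
  haveI := Exc.finite_dual₂ hv.nt
  letI := Fintype.ofFinite (↥W₂ →* ℂˣ)
  obtain ⟨m, hm, hm3, -⟩ := X.theta_deg hv.nt hf
  rw [hv.fam.defect_flip hj hall (hv.ind_orth (X.theta_spec hv.nt f).1 fun e => by
    rw [hm] at e
    exact absurd (Nat.cast_injective (R := ℂ) (e.trans Nat.cast_one.symm)) (by omega)), sub_eq_zero] at hfl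
  exact hfl.symm

/-- Type V: the defects of the fixed characters vanish, possibly after the flip. -/
theorem defects (X : Exc T W₁ W₂) :
    (∀ f : ↥W₁ →* ℂˣ, f ≠ 1 → defect (core T) ((Cfsg.sigmaCore T : Set G) \ {1}) (xi i₀) (Z i₀) (X.theta f) = 0) ∨
    (Fintype.card ι = 2 ∧ ∀ f : ↥W₁ →* ℂˣ, f ≠ 1 →
      defect (core T) ((Cfsg.sigmaCore T : Set G) \ {1}) (xi i₀) (Z i₀) (X.theta f) = X.theta f 1) := by
  classical
  haveI := Exc.finite_dual₂ hv.nt
  letI := Fintype.ofFinite (↥W₂ →* ℂˣ)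
  by_cases hnp : ∀ r j : ℕ, r.Prime → (core' T).relIndex (core T) ≠ r ^ j
  · exact Or.inl fun f hf => hv.defect_big X hnp _ (X.theta_spec hv.nt f).1 (X.theta_fixed hv.nt hf).2.1
  push Not at hnp
  obtain ⟨r, j, hr, hkn⟩ := hnp
  haveI := hv.nil
  have hidx : (commutator (core T)).index = r ^ j := by rw [← hv.nt.subgroupOf_core']; exact hkn
  have hrK : IsPGroup r (core T) := Descent.isPGroup_of_commutator_index hr hidx
  by_cases hcen : ∀ z ∈ W₁, ∀ k ∈ Cfsg.sigmaCore T, k * z = z * k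
  · have hcenT : ∀ z ∈ W₁, ∀ t ∈ T, t * z = z * t := fun z hz t ht => by
      obtain ⟨k, hk, x, hx, rfl⟩ := hv.nt.compl.2.2.2 t ht
      by_cases hx1 : x = 1
      · rw [hx1, mul_one]; exact hcen z hz k hk
      have hzx : z * x = x * z :=
        mem_centralizer_singleton_iff.1 ((hv.nt.fix hx hx1).ge hz).2
      rw [mul_assoc, ← hzx, ← mul_assoc, hcen z hz k hk, mul_assoc]
    haveI : (W₁.subgroupOf T).Normal := ⟨fun z hz t => by
      rw [mem_subgroupOf] at hz ⊢
      rw [Subgroup.coe_mul, Subgroup.coe_mul, Subgroup.coe_inv, hcenT _ hz _ t.2, mul_inv_cancel_right]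
      exact hz⟩
    refine hv.of_layer X (C := W₁.subgroupOf T) ?_ (fun k hk => hv.nt.le₁_core' (mem_subgroupOf.1 hk))
      (fun z hz k _ => Subtype.ext (hcenT _ (mem_subgroupOf.1 hz) _ k.2).symm) (hv.central X hcenT)
    intro e
    refine hv.nt.prime₁.ne_one ?_
    rw [← Nat.card_congr (subgroupOfEquivOfLe (hv.nt.le₁.trans hv.nt.core_le)).toEquiv, e, Subgroup.card_bot]
  set C := core' T ⊓ centralizer (core T : Set T) with hC
  have hCc : ∀ z ∈ C, ∀ k ∈ core T, z * k = k * z := fun z hz k hk => (mem_centralizer_iff.1 hz.2 k hk).symm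
  have hfree : ∀ x : T, (x : G) ∈ W₂ → x ≠ 1 → ∀ z ∈ C, x * z = z * x → z = 1 := by
    intro x hx hx1 z hz hc
    have hzσ : (z : G) ∈ Cfsg.sigmaCore T := mem_subgroupOf.1 (hv.nt.core'_le hz.1)
    have hz1 : (z : G) ∈ W₁ := hv.nt.mem₁_of_comm hx (fun e => hx1 (Subtype.ext e)) hzσ (congrArg Subtype.val hc.symm)
    by_contra hne
    refine hcen fun a ha k hk => ?_
    haveI := Fact.mk hv.nt.prime₁
    obtain ⟨i, hi⟩ := mem_zpowers_iff.1 (show (⟨a, ha⟩ : W₁) ∈ zpowers (⟨z, hz1⟩ : W₁) from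
      mem_zpowers_of_prime_card (p := Nat.card W₁) rfl fun e => hne (Subtype.ext (congrArg (fun b : W₁ => (b : G)) e)))
    have hi' : (z : G) ^ i = a := by
      have := congrArg (fun b : W₁ => (b : G)) hi
      simpa using this
    have hzk : Commute k (z : G) := (congrArg Subtype.val
      (hCc z hz ⟨k, hv.nt.core_le hk⟩ (mem_subgroupOf.2 hk))).symm
    rw [← hi']
    exact hzk.zpow_right i
  have hne : C ≠ ⊥ := by
    intro e
    have hK : (core' T).subgroupOf (core T) ≠ ⊥ := fun e' => by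
      obtain ⟨a, ha, ha1⟩ := (bot_or_exists_ne_one W₁).resolve_left fun e => hv.nt.prime₁.ne_one (by
        rw [e, Subgroup.card_bot])
      have h0 : (⟨⟨a, hv.nt.core_le (hv.nt.le₁ ha)⟩, mem_subgroupOf.2 (hv.nt.le₁ ha)⟩ : core T) ∈
          (core' T).subgroupOf (core T) := mem_subgroupOf.2 (hv.nt.le₁_core' ha)
      rw [e', mem_bot] at h0
      exact ha1 (congrArg (fun k : core T => ((k : T) : G)) h0)
    obtain ⟨v, hv', hv1⟩ := (bot_or_exists_ne_one _).resolve_left (Grp.inf_center_ne_bot _ hK)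
    refine hv1 (Subtype.ext ?_)
    have hmem : (v : T) ∈ C := ⟨mem_subgroupOf.1 hv'.1, fun k hk =>
      congrArg Subtype.val (Subgroup.mem_center_iff.1 hv'.2 ⟨k, hk⟩)⟩
    exact mem_bot.1 (e ▸ hmem)
  exact hv.of_layer X hne inf_le_left hCc (hv.free X hr hrK hne inf_le_left hCc hfree)

end Five

end Cfsg.Agent.Grp.FT
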