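import Cfsg.Agent.Lib.Grp.FT.NonTwoVBase
import Cfsg.Agent.Lib.Grp.FT.NonTwoCongr

/-!
`T` of type V with `W₁` central in `T'`: the defects of the characters nontrivial on `W₁`.
-/

set_option autoImplicit false
set_option linter.unusedSectionVars false
set_option linter.style.haveILetI false

namespace Cfsg.Agent.Grp.FT

open Subgroup Cfsg.Agent.Char Cfsg.Agent.Transfer Cfsg.Agent.Transfer.Loc
open scoped ComplexConjugate commutatorElement

attribute [local instance] _root_.Classical.propDecidable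

universe u

variable {G : Type u} [Group G] [Fintype G] {T W₁ W₂ : Subgroup G}

/-- `[T' : W₁]` times the extension by zero of a linear character of `W₁`. -/
noncomputable def gl (T W₁ : Subgroup G) (l : ↥W₁ →* ℂˣ) : core T → ℂ := fun k =>
  if hk : ((k : T) : G) ∈ W₁ then ((W₁.subgroupOf T).relIndex (core T) : ℂ) * (l ⟨_, hk⟩ : ℂ) else 0

namespace Five

variable [Fintype T] [Fintype (core T)] {ι : Type u} [Fintype ι] [DecidableEq ι] {xi : ι → T → ℂ} {Z : ι → G → ℂ}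
  {i₀ : ι} (hv : Five T W₁ W₂ xi Z i₀)
include hv

/-- An element of `W₁` in `T'`. -/
def inc (_hv : Five T W₁ W₂ xi Z i₀) (z : W₁) : core T :=
  ⟨⟨z, _hv.nt.core_le (_hv.nt.le₁ z.2)⟩, mem_subgroupOf.2 (_hv.nt.le₁ z.2)⟩

theorem inner_gl [Fintype W₁] (φ : core T → ℂ) (l : ↥W₁ →* ℂˣ) :
    Cfsg.classInner φ (gl T W₁ l) = Cfsg.classInner (fun z : W₁ => φ (hv.inc z)) (fun z : W₁ => (l z : ℂ)) := by
  classical
  have hN : (W₁.subgroupOf T).relIndex (core T) * Nat.card W₁ = Nat.card (core T) := by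
    have e := Subgroup.relIndex_mul_relIndex ⊥ (W₁.subgroupOf T) (core T) bot_le (Subgroup.comap_mono hv.nt.le₁)
    rw [Subgroup.relIndex_bot_left, Subgroup.relIndex_bot_left,
      Nat.card_congr (subgroupOfEquivOfLe (hv.nt.le₁.trans hv.nt.core_le)).toEquiv] at e
    rw [mul_comm]; exact e
  have hN' : ((W₁.subgroupOf T).relIndex (core T) : ℂ) * (Nat.card W₁ : ℂ) = (Nat.card (core T) : ℂ) := by
    exact_mod_cast hN
  rw [Cfsg.classInner, Cfsg.classInner]
  have hinj : Function.Injective hv.inc := fun a b e =>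
    Subtype.ext (congrArg (fun k : core T => ((k : T) : G)) e)
  rw [← Finset.sum_subset (Finset.subset_univ (Finset.univ.image hv.inc)) fun k _ hk => ?_,
    Finset.sum_image fun a _ b _ e => hinj e, Finset.mul_sum, Finset.mul_sum]
  · refine Finset.sum_congr rfl fun z _ => ?_
    rw [gl, dif_pos (show ((hv.inc z : T) : G) ∈ W₁ from z.2), map_mul, map_natCast,
      show (⟨_, show ((hv.inc z : T) : G) ∈ W₁ from z.2⟩ : W₁) = z from Subtype.ext rfl]
    have h1 : (Nat.card W₁ : ℂ) ≠ 0 := Nat.cast_ne_zero.2 Nat.card_pos.ne'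
    have h2 : (Nat.card (core T) : ℂ) ≠ 0 := Nat.cast_ne_zero.2 Nat.card_pos.ne'
    rw [show ((W₁.subgroupOf T).relIndex (core T) : ℂ) = (Nat.card (core T) : ℂ) * (Nat.card W₁ : ℂ)⁻¹ by
      rw [← hN', mul_inv_cancel_right₀ h1]]
    field_simp
  · rw [gl, dif_neg fun hk' => hk (Finset.mem_image.2 ⟨⟨_, hk'⟩, Finset.mem_univ _, Subtype.ext (Subtype.ext rfl)⟩),
      map_zero, mul_zero]

theorem inner_lin [Fintype W₁] (a b : ↥W₁ →* ℂˣ) :
    Cfsg.classInner (fun z : W₁ => (a z : ℂ)) (fun z : W₁ => (b z : ℂ)) = if a = b then 1 else 0 := by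
  split_ifs with e
  · rw [e, classInner_self_irr (isIrr_linear b)]
  · exact classInner_irr_ne (isIrr_linear a) (isIrr_linear b) fun e' =>
      e (MonoidHom.ext fun z => Units.ext (congrFun e' z))

theorem gl_inner [Fintype W₁] (a b : ↥W₁ →* ℂˣ) : Cfsg.classInner (gl T W₁ a) (gl T W₁ b) =
    if a = b then ((W₁.subgroupOf T).relIndex (core T) : ℂ) else 0 := by
  rw [hv.inner_gl, show (fun z : W₁ => gl T W₁ a (hv.inc z)) =
    ((W₁.subgroupOf T).relIndex (core T) : ℂ) • (fun z : W₁ => (a z : ℂ)) from funext fun z => by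
      rw [gl, dif_pos (show ((hv.inc z : T) : G) ∈ W₁ from z.2)]; rfl, classInner_smul_left, hv.inner_lin]
  split_ifs <;> simp

theorem gl_one (a : ↥W₁ →* ℂˣ) : gl T W₁ a 1 = ((W₁.subgroupOf T).relIndex (core T) : ℂ) := by
  rw [gl, dif_pos (show (((1 : core T) : T) : G) ∈ W₁ from one_mem _),
    show (⟨(((1 : core T) : T) : G), _⟩ : W₁) = 1 from Subtype.ext rfl, map_one, Units.val_one, mul_one]

theorem gl_invariant (hcen : ∀ z ∈ W₁, ∀ t ∈ T, t * z = z * t) (a : ↥W₁ →* ℂˣ) (x : T) :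
    Char.conjN (core T) x (gl T W₁ a) = gl T W₁ a := by
  funext k
  rw [conjN_apply]
  by_cases hk : ((k : T) : G) ∈ W₁
  · refine congrArg (gl T W₁ a) (Subtype.ext (Subtype.ext ?_))
    simp only [Subgroup.coe_mul, Subgroup.coe_inv, hcen _ hk _ x.2, mul_inv_cancel_right]
  · simp only [gl]
    rw [dif_neg hk, dif_neg fun h' => hk ?_]
    replace h' : (x : G) * ((k : T) : G) * (x : G)⁻¹ ∈ W₁ := h'
    have e : (x : G)⁻¹ * ((x : G) * ((k : T) : G) * (x : G)⁻¹) * (x : G) = ((k : T) : G) := by group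
    rw [← e, hcen _ h' _ (T.inv_mem x.2), inv_mul_cancel_right]
    exact h'

theorem gl_classFun (hcen : ∀ z ∈ W₁, ∀ t ∈ T, t * z = z * t) (a : ↥W₁ →* ℂˣ) :
    Cfsg.IsClassFunction (core T) (gl T W₁ a) := fun y z => by
  have h := congrFun (hv.gl_invariant hcen a (z : T)) y
  rw [conjN_apply] at h
  exact h

/-- The restriction of an irreducible character to the central `W₁`. -/
theorem exists_central (hcen : ∀ z ∈ W₁, ∀ t ∈ T, t * z = z * t) {φ : core T → ℂ}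
    (hφ : Cfsg.IsIrrCharacter (core T) φ) : ∃ μ : ↥W₁ →* ℂˣ, ∀ z, φ (hv.inc z) = φ 1 * (μ z : ℂ) := by
  have h1 := IsIrr.one_ne_zero hφ
  have hc : ∀ z : W₁, ∀ g, φ (hv.inc z * g) = φ (hv.inc z) / φ 1 * φ g := fun z g => by
    obtain ⟨c, -, hc⟩ := IsIrr.exists_scalar hφ (z := hv.inc z) fun g => by
      rw [show hv.inc z * g * (hv.inc z)⁻¹ * g⁻¹ = 1 from Subtype.ext (Subtype.ext (by
        show (z : G) * ((g : T) : G) * (z : G)⁻¹ * ((g : T) : G)⁻¹ = 1
        rw [← hcen z z.2 _ (g : T).2]; group))]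
    rw [hc g]
    have e := hc 1
    rw [mul_one] at e
    rw [e, mul_div_cancel_right₀ _ h1]
  let M : ↥W₁ →* ℂ :=
    { toFun := fun z => φ (hv.inc z) / φ 1
      map_one' := by
        rw [show hv.inc 1 = 1 from rfl, div_self h1]
      map_mul' := fun a b => by
        rw [show hv.inc (a * b) = hv.inc a * hv.inc b from rfl, hc, mul_div_assoc] }
  refine ⟨M.toHomUnits, fun z => ?_⟩
  rw [MonoidHom.coe_toHomUnits]
  show φ (hv.inc z) = φ 1 * (φ (hv.inc z) / φ 1)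
  rw [mul_div_cancel₀ _ h1]

theorem coef_gl (_hcen : ∀ z ∈ W₁, ∀ t ∈ T, t * z = z * t) [Fintype W₁] {φ : core T → ℂ}
    (hφ : Cfsg.IsIrrCharacter (core T) φ) {μ : ↥W₁ →* ℂˣ} (hμ : ∀ z, φ (hv.inc z) = φ 1 * (μ z : ℂ))
    (l : ↥W₁ →* ℂˣ) :
    Cfsg.classInner φ (gl T W₁ l) = (if μ = l then φ 1 else 0) ∧
      Cfsg.classInner (gl T W₁ l) φ = if μ = l then φ 1 else 0 := by
  have e : Cfsg.classInner φ (gl T W₁ l) = if μ = l then φ 1 else 0 := by
    rw [hv.inner_gl, show (fun z : W₁ => φ (hv.inc z)) = φ 1 • fun z : W₁ => (μ z : ℂ) from funext hμ,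
      classInner_smul_left, hv.inner_lin]
    split_ifs <;> simp
  refine ⟨e, ?_⟩
  obtain ⟨n, -, hn⟩ := IsIrr.one_eq_pos hφ
  rw [← classInner_conj_symm, e]
  split_ifs
  · rw [hn, map_natCast]
  · rw [map_zero]

/-- The congruence at the elements of `W₁`. -/
theorem congr_W₁ (hcen : ∀ z ∈ W₁, ∀ t ∈ T, t * z = z * t) (z : W₁) :
    ∃ γ : ℂ, IsIntegral ℤ γ ∧ Z i₀ (z : G) - Z i₀ 1 = (Nat.card (core T) : ℂ) * γ := by
  obtain ⟨j, hj⟩ := hv.nt.odd W₁
  set y : W₁ := z ^ (j + 1) with hy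
  have hyz : y * y = z := by
    rw [hy, ← pow_add, show j + 1 + (j + 1) = Nat.card W₁ + 1 by omega, pow_succ, pow_card_eq_one', one_mul]
  by_cases hy1 : y = 1
  · refine ⟨0, isIntegral_zero, ?_⟩
    rw [show (z : G) = 1 by rw [← hyz, hy1, one_mul]; rfl, sub_self, mul_zero]
  have hyσ : (y : G) ∈ Cfsg.sigmaCore T := hv.nt.le₁ y.2
  have hyne : (y : G) ≠ 1 := fun e => hy1 (Subtype.ext e)
  have hyT : (y : G) ∈ T := hv.nt.core_le hyσ
  have hreal : conj (Z i₀ (y : G)) = Z i₀ (y : G) :=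
    hv.Z_real (k := ⟨y, hyT⟩) (hv.nt.le₁_core' y.2) fun e => hyne (congrArg Subtype.val e)
  have key : ∀ g : G, ∀ k ∈ Cfsg.sigmaCore T, k ≠ 1 →
      k * (g * (y : G) * g⁻¹) = g * (y : G) * g⁻¹ * k → g * (y : G) * g⁻¹ = y := fun g k hk hk1 hc => by
    rw [hcen _ y.2 _ (hv.mem_of_comm hyσ hyne hk hk1 hc), mul_inv_cancel_right]
  have hz : (y : G) * (y : G) = z := by exact_mod_cast congrArg (fun a : W₁ => (a : G)) hyz
  have hcore : Nat.card (core T) = Nat.card (Cfsg.sigmaCore T) := hv.nt.card_core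
  rcases hv.Z_irr with h | h
  · obtain ⟨γ, hγ, e⟩ := congr_one (Cfsg.sigmaCore T) (fun k hk => hcen _ y.2 _ (hv.nt.core_le hk)) key h
      (by rw [IsIrr.apply_inv h, hreal])
    exact ⟨γ, hγ, by rw [hcore, ← e, hz]⟩
  · obtain ⟨γ, hγ, e⟩ := congr_one (Cfsg.sigmaCore T) (fun k hk => hcen _ y.2 _ (hv.nt.core_le hk)) key h
      (by rw [IsIrr.apply_inv h, Pi.neg_apply, map_neg, hreal])
    refine ⟨-γ, hγ.neg, ?_⟩
    rw [hcore, mul_neg, ← e, hz, Pi.neg_apply, Pi.neg_apply]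
    ring

/-- The defect of an extended linear character of `W₁` is divisible by `[T' : W₁]`. -/
theorem gl_defect_dvd (hcen : ∀ z ∈ W₁, ∀ t ∈ T, t * z = z * t) {l : ↥W₁ →* ℂˣ} (hl : l ≠ 1) {S : ℤ}
    (hS : defect (core T) ((Cfsg.sigmaCore T : Set G) \ {1}) (xi i₀) (Z i₀) (gl T W₁ l) = (S : ℂ)) :
    ∃ k : ℤ, S = ((W₁.subgroupOf T).relIndex (core T) : ℤ) * k := by
  classical
  letI : Fintype W₁ := Fintype.ofFinite _
  set N := (W₁.subgroupOf T).relIndex (core T) with hN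
  choose γ hγ hγe using hv.congr_W₁ hcen
  set J : ℂ := ∑ z : W₁, γ z * conj (l z : ℂ)
  have hJ : IsIntegral ℤ J := IsIntegral.sum _ fun z _ => (hγ z).mul (by
    have h1 : IsIntegral ℤ ((l z : ℂ)) := IsIntegral.of_pow (n := Nat.card W₁) Nat.card_pos (by
      rw [← Units.val_pow_eq_pow_val, ← map_pow, pow_card_eq_one', map_one, Units.val_one]
      exact isIntegral_one)
    exact IsIntegral.map (starRingEnd ℂ).toIntAlgHom h1)
  have hsum : ∑ z : W₁, conj (l z : ℂ) = 0 := by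
    have h1 := hv.inner_lin (1 : ↥W₁ →* ℂˣ) l
    rw [if_neg (Ne.symm hl), Cfsg.classInner] at h1
    simp only [MonoidHom.one_apply, Units.val_one, one_mul] at h1
    exact (mul_eq_zero.1 h1).resolve_left (inv_ne_zero (Nat.cast_ne_zero.2 Nat.card_pos.ne'))
  have hN' : (N : ℂ) * (Nat.card W₁ : ℂ) = (Nat.card (core T) : ℂ) := by
    have e := Subgroup.relIndex_mul_relIndex ⊥ (W₁.subgroupOf T) (core T) bot_le (Subgroup.comap_mono hv.nt.le₁)
    rw [Subgroup.relIndex_bot_left, Subgroup.relIndex_bot_left,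
      Nat.card_congr (subgroupOfEquivOfLe (hv.nt.le₁.trans hv.nt.core_le)).toEquiv] at e
    rw [mul_comm, hN]; exact_mod_cast e
  have hpair : Cfsg.classInner (fun x : core T => Z i₀ (x : G)) (gl T W₁ l) = (N : ℂ) * J := by
    rw [hv.inner_gl, Cfsg.classInner]
    have e : ∀ z : W₁, Z i₀ ((hv.inc z : T) : G) * conj (l z : ℂ) =
        Z i₀ 1 * conj (l z : ℂ) + (Nat.card (core T) : ℂ) * (γ z * conj (l z : ℂ)) := fun z => by
      rw [show ((hv.inc z : T) : G) = z from rfl, ← mul_assoc, ← hγe z]; ring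
    rw [Finset.sum_congr rfl fun z _ => e z, Finset.sum_add_distrib, ← Finset.mul_sum, hsum, mul_zero, zero_add,
      ← Finset.mul_sum, ← hN', mul_comm (N : ℂ) (Nat.card W₁ : ℂ), mul_assoc,
      inv_mul_cancel_left₀ (Nat.cast_ne_zero.2 Nat.card_pos.ne')]
  have hind : Cfsg.classInner (Cfsg.indFun (core T) (gl T W₁ l)) (xi i₀) = 0 := by
    rw [classInner_indFun _ _ (hv.fam.xi_classFun _), ← classInner_conj_symm, hv.inner_gl,
      show (fun z : W₁ => (fun k : core T => xi i₀ k) (hv.inc z)) =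
        (Nat.card W₂ : ℂ) • fun z : W₁ => ((1 : ↥W₁ →* ℂˣ) z : ℂ) from funext fun z => by
          rw [Pi.smul_apply, MonoidHom.one_apply, Units.val_one, smul_eq_mul, mul_one]
          exact hv.xi_core' i₀ (hv.nt.le₁_core' z.2),
      classInner_smul_left, hv.inner_lin, if_neg (Ne.symm hl), mul_zero, map_zero]
  obtain ⟨c₀, hc₀⟩ := hv.pair_const_int
  have hp := hv.fam.pair (gl T W₁ l)
  rw [← classInner_conj_symm, hpair, hind, hS, hv.gl_one, ← hN, hc₀, map_mul, map_natCast, add_zero] at hp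
  have hN0 : (N : ℂ) ≠ 0 := Nat.cast_ne_zero.2 (Subgroup.index_ne_zero_of_finite)
  have e1 : conj J - (c₀ : ℂ) = (((S : ℚ) / (N : ℚ) : ℚ) : ℂ) := by
    push_cast
    field_simp
    linear_combination hp
  have hint : IsIntegral ℤ (conj J - (c₀ : ℂ)) :=
    (IsIntegral.map (starRingEnd ℂ).toIntAlgHom hJ).sub (isIntegral_algebraMap (R := ℤ) (x := c₀))
  obtain ⟨k, hk⟩ := Cfsg.Agent.Char.int_of_isIntegral_rat (e1 ▸ hint)
  refine ⟨k, ?_⟩
  push_cast at hk
  rw [div_eq_iff hN0] at hk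
  exact_mod_cast (show (S : ℂ) = ((N * k : ℤ) : ℂ) by push_cast; linear_combination hk)

/-- The defects over one linear character of `W₁`. -/
theorem gl_cases (X : Exc T W₁ W₂) (hcen : ∀ z ∈ W₁, ∀ t ∈ T, t * z = z * t) {l : ↥W₁ →* ℂˣ} (hl : l ≠ 1) :
    (defect (core T) ((Cfsg.sigmaCore T : Set G) \ {1}) (xi i₀) (Z i₀) (gl T W₁ l) = 0 ∧
      ∀ φ : core T → ℂ, Cfsg.IsIrrCharacter (core T) φ → (∀ z, φ (hv.inc z) = φ 1 * (l z : ℂ)) →
        defect (core T) ((Cfsg.sigmaCore T : Set G) \ {1}) (xi i₀) (Z i₀) φ = 0) ∨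
    (Fintype.card ι = 2 ∧ defect (core T) ((Cfsg.sigmaCore T : Set G) \ {1}) (xi i₀) (Z i₀) (gl T W₁ l) =
        ((W₁.subgroupOf T).relIndex (core T) : ℂ) ∧
      ∀ φ : core T → ℂ, Cfsg.IsIrrCharacter (core T) φ → (∀ z, φ (hv.inc z) = φ 1 * (l z : ℂ)) →
        defect (core T) ((Cfsg.sigmaCore T : Set G) \ {1}) (xi i₀) (Z i₀) φ = φ 1) := by
  classical
  letI : Fintype W₁ := Fintype.ofFinite _
  set N := (W₁.subgroupOf T).relIndex (core T) with hN
  choose μ hμ using fun φ : Cfsg.IrrCharacter (core T) => hv.exists_central hcen φ.2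
  have hmem : ∀ φ : Cfsg.IrrCharacter (core T), (∀ z, φ.1 (hv.inc z) = φ.1 1 * (l z : ℂ)) → μ φ = l := fun φ hh =>
    MonoidHom.ext fun z => Units.ext (mul_left_cancel₀ (IsIrr.one_ne_zero φ.2) ((hμ φ z).symm.trans (hh z)))
  set O : Finset (Cfsg.IrrCharacter (core T)) := Finset.univ.filter fun φ => μ φ = l with hO
  have hnl : ∀ φ ∈ O, φ.1 1 ≠ 1 := fun φ hφ h1 => hl (by
    rw [← (Finset.mem_filter.1 hφ).2]
    refine MonoidHom.ext fun z => Units.ext ?_
    have e := (hv.linear_iff φ.2).2 h1 (hv.inc z) (hv.nt.le₁_core' z.2)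
    rw [hμ φ z, h1, one_mul] at e
    rw [MonoidHom.one_apply, Units.val_one]
    exact e)
  choose z hz using fun φ : Cfsg.IrrCharacter (core T) =>
    hv.fam.defect_int (IsGenChar.of_isCharacter (IsIrr.isCharacter φ.2))
  choose m hm0 hm using fun φ : Cfsg.IrrCharacter (core T) => IsIrr.one_eq_pos φ.2
  choose c hc hc1 hcw hcases using fun φ : Cfsg.IrrCharacter (core T) => hv.norm_le X φ.2
  have hcf := hv.gl_classFun hcen l
  have hS : defect (core T) ((Cfsg.sigmaCore T : Set G) \ {1}) (xi i₀) (Z i₀) (gl T W₁ l) =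
      ((∑ φ ∈ O, (m φ : ℤ) * z φ : ℤ) : ℂ) := by
    rw [hv.fam.defect_expand hcf, hO, Finset.sum_filter]
    push_cast
    refine Finset.sum_congr rfl fun φ _ => ?_
    rw [(hv.coef_gl hcen φ.2 (hμ φ) l).2, hz φ, hm φ]
    split_ifs <;> simp
  have hN1 : (N : ℤ) = ∑ φ ∈ O, (m φ : ℤ) ^ 2 := by
    have e := congrFun (classFunction_expansion hcf) 1
    rw [hv.gl_one, Finset.sum_apply] at e
    have e2 : ((N : ℤ) : ℂ) = ((∑ φ ∈ O, (m φ : ℤ) ^ 2 : ℤ) : ℂ) := by
      rw [hO, Finset.sum_filter]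
      push_cast
      rw [← hN] at e
      rw [e]
      refine Finset.sum_congr rfl fun φ _ => ?_
      rw [Pi.smul_apply, smul_eq_mul, (hv.coef_gl hcen φ.2 (hμ φ) l).2, hm φ]
      split_ifs <;> simp [sq]
    exact_mod_cast e2
  obtain ⟨k, hk⟩ := hv.gl_defect_dvd hcen hl hS
  rw [← hN] at hk
  have hNpos : (0 : ℤ) < N := by
    exact_mod_cast (Nat.pos_of_ne_zero Subgroup.index_ne_zero_of_finite : 0 < N)
  have hper : ∀ φ ∈ O, c φ < (m φ : ℤ) ^ 2 ∧ c φ < 2 * (m φ : ℤ) ∧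
      (Fintype.card ι : ℤ) * z φ ^ 2 ≤ c φ + 2 * m φ * z φ := fun φ hφ => by
    obtain ⟨m', hm', hm3, -, -⟩ := hv.degree φ.2 (hnl φ hφ)
    obtain rfl : m' = m φ := Nat.cast_injective (hm'.symm.trans (hm φ))
    have hm3' : (3 : ℤ) ≤ m φ := by exact_mod_cast hm3
    refine ⟨?_, ?_, hv.basic φ.2 (hnl φ hφ) (hm φ) (hc φ) (hz φ)⟩ <;>
      rcases hcases φ with e | ⟨e, f, hf⟩
    · nlinarith
    · obtain ⟨m'', hm'', -, -, hw2, -⟩ := X.theta_deg hv.nt (f := f) fun e' => hnl φ hφ (by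
        rw [hf, e', X.theta_one hv.nt])
      rw [← hf] at hm''
      obtain rfl : m'' = m φ := Nat.cast_injective (hm''.symm.trans (hm φ))
      have hw2' : 2 * (Nat.card W₂ : ℤ) ≤ m φ + 1 := by exact_mod_cast hw2
      rw [e]; nlinarith
    · omega
    · obtain ⟨m'', hm'', -, -, hw2, -⟩ := X.theta_deg hv.nt (f := f) fun e' => hnl φ hφ (by
        rw [hf, e', X.theta_one hv.nt])
      rw [← hf] at hm''
      obtain rfl : m'' = m φ := Nat.cast_injective (hm''.symm.trans (hm φ))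
      omega
  set n : ℤ := (Fintype.card ι : ℤ) with hn
  have hn2 : 2 ≤ n := by rw [hn]; exact_mod_cast hv.two_le
  have hne : O.Nonempty := Finset.nonempty_iff_ne_empty.2 fun e => hNpos.ne' (by rw [hN1, e, Finset.sum_empty])
  have hk0 : n * k ^ 2 - 2 * k < 1 := by
    have hcs := Finset.sum_mul_sq_le_sq_mul_sq O (fun φ => (m φ : ℤ)) z
    rw [hk, ← hN1] at hcs
    have hsum : n * ∑ φ ∈ O, z φ ^ 2 < (N : ℤ) + 2 * ((N : ℤ) * k) := by
      rw [Finset.mul_sum, ← hk, hN1, Finset.mul_sum, ← Finset.sum_add_distrib]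
      refine Finset.sum_lt_sum_of_nonempty hne fun φ hφ => ?_
      obtain ⟨h1, -, h3⟩ := hper φ hφ
      linarith
    have h1 : (N : ℤ) * k ^ 2 ≤ ∑ φ ∈ O, z φ ^ 2 := by
      refine le_of_mul_le_mul_left ?_ hNpos
      calc (N : ℤ) * (N * k ^ 2) = (N * k) ^ 2 := by ring
        _ ≤ _ := hcs
    have h2 : n * ((N : ℤ) * k ^ 2) ≤ n * ∑ φ ∈ O, z φ ^ 2 := mul_le_mul_of_nonneg_left h1 (by linarith)
    by_contra h4
    push Not at h4
    have h5 := mul_le_mul_of_nonneg_left h4 hNpos.le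
    linarith
  obtain ⟨e, he⟩ := hv.even_card
  have he' : n = 2 * (e : ℤ) := by rw [hn, he]; push_cast; ring
  have hz0 : ∀ φ ∈ O, 0 ≤ z φ := fun φ hφ => by
    obtain ⟨-, h2, h3⟩ := hper φ hφ
    by_contra hlt
    push Not at hlt
    have hmp : (0 : ℤ) ≤ m φ := by positivity
    nlinarith [sq_nonneg (z φ), mul_le_mul_of_nonneg_left (show z φ ≤ -1 by omega) hmp]
  by_cases hk1 : k = 0
  · refine Or.inl ⟨by rw [hS, hk, hk1, mul_zero, Int.cast_zero], fun φ hφ hh => ?_⟩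
    have hmemO : (⟨φ, hφ⟩ : Cfsg.IrrCharacter (core T)) ∈ O := Finset.mem_filter.2 ⟨Finset.mem_univ _, hmem _ hh⟩
    have hall := (Finset.sum_eq_zero_iff_of_nonneg (f := fun ψ => (m ψ : ℤ) * z ψ)
      fun ψ hψ => mul_nonneg (Int.natCast_nonneg _) (hz0 ψ hψ)).1
      (by rw [hk, hk1, mul_zero]) _ hmemO
    rw [show defect (core T) ((Cfsg.sigmaCore T : Set G) \ {1}) (xi i₀) (Z i₀) φ = (z ⟨φ, hφ⟩ : ℂ) from hz ⟨φ, hφ⟩,
      (mul_eq_zero.1 hall).resolve_left (Int.natCast_ne_zero.2 (hm0 _).ne'), Int.cast_zero]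
  · have hk2 : n = 2 ∧ k = 1 := by
      have h1 : n * k ^ 2 - 2 * k ≤ 0 := by omega
      have h2 : 0 < k := by
        by_contra h3; push Not at h3
        nlinarith [Int.one_le_abs hk1, sq_abs k, sq_nonneg k]
      have h3 : n * k ≤ 2 := by
        by_contra h4; push Not at h4
        nlinarith
      have h4 : k = 1 := by
        by_contra h5; have : 2 ≤ k := by omega
        nlinarith
      subst h4
      exact ⟨by omega, rfl⟩
    obtain ⟨hn', rfl⟩ := hk2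
    refine Or.inr ⟨by rw [hn] at hn'; exact_mod_cast hn', by rw [hS, hk, mul_one, Int.cast_natCast], fun φ hφ hh => ?_⟩
    have hmemO : (⟨φ, hφ⟩ : Cfsg.IrrCharacter (core T)) ∈ O := Finset.mem_filter.2 ⟨Finset.mem_univ _, hmem _ hh⟩
    have hle : ∀ ψ ∈ O, 0 ≤ (m ψ : ℤ) * ((m ψ : ℤ) - z ψ) := fun ψ hψ => by
      refine mul_nonneg (by positivity) ?_
      obtain ⟨-, h2, h3⟩ := hper ψ hψ
      rw [hn'] at h3
      by_contra hlt
      push Not at hlt
      nlinarith [hz0 ψ hψ, mul_le_mul_of_nonneg_left (show (1 : ℤ) ≤ z ψ - m ψ by omega) (hz0 ψ hψ)]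
    have hall := (Finset.sum_eq_zero_iff_of_nonneg hle).1 (by
      have e3 : ∀ ψ : Cfsg.IrrCharacter (core T), (m ψ : ℤ) * ((m ψ : ℤ) - z ψ) = (m ψ : ℤ) ^ 2 - m ψ * z ψ :=
        fun ψ => by ring
      rw [Finset.sum_congr rfl fun ψ _ => e3 ψ, Finset.sum_sub_distrib, ← hN1, hk, mul_one, sub_self]) _ hmemO
    rw [show defect (core T) ((Cfsg.sigmaCore T : Set G) \ {1}) (xi i₀) (Z i₀) φ = (z ⟨φ, hφ⟩ : ℂ) from hz ⟨φ, hφ⟩,
      ← sub_eq_zero.1 ((mul_eq_zero.1 hall).resolve_left (Int.natCast_ne_zero.2 (hm0 _).ne')), Int.cast_natCast]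
    exact (hm ⟨φ, hφ⟩).symm

/-- The linear characters of the whole: defect zero and norm `[T' : T''] - 1`. -/
theorem lin_layer [Fintype W₁] (hcen : ∀ z ∈ W₁, ∀ t ∈ T, t * z = z * t) {a b : ↥W₁ →* ℂˣ} (ha : a ≠ 1) (hb : b ≠ 1)
    (hab : a ≠ b) (hn : Fintype.card ι = 2)
    (hDa : defect (core T) ((Cfsg.sigmaCore T : Set G) \ {1}) (xi i₀) (Z i₀) (gl T W₁ a) = 0)
    (hDb : defect (core T) ((Cfsg.sigmaCore T : Set G) \ {1}) (xi i₀) (Z i₀) (gl T W₁ b) =
      ((W₁.subgroupOf T).relIndex (core T) : ℂ)) : False := by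
  classical
  set N := (W₁.subgroupOf T).relIndex (core T) with hN
  set P := (core' T).relIndex (core T) with hP
  have hP1 : 1 ≤ P := by have := hv.kn_ge; omega
  set r := rho (core T) (core' T) - rho (core T) (core T) with hr
  have hrD : defect (core T) ((Cfsg.sigmaCore T : Set G) \ {1}) (xi i₀) (Z i₀) r = 0 := by
    rw [hv.fam.defect_expand (classFunction_sub (hv.fam.rho_classFun _) (hv.fam.rho_classFun _))]
    refine Finset.sum_eq_zero fun φ _ => ?_
    rw [classInner_sub_left, ← classInner_conj_symm (φ : core T → ℂ), ← classInner_conj_symm (φ : core T → ℂ)]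
    obtain ⟨hB1, hB2⟩ := hv.fam.rho_coef (core' T) hv.nt.core'_le φ.2
    obtain ⟨hC1, hC2⟩ := hv.fam.rho_coef (core T) le_rfl φ.2
    by_cases hC : ∀ k : core T, (k : T) ∈ core T → (φ : core T → ℂ) k = (φ : core T → ℂ) 1
    · rw [hB1 fun k _ => hC k k.2, hC1 hC, sub_self, zero_mul]
    · by_cases hB : ∀ k : core T, (k : T) ∈ core' T → (φ : core T → ℂ) k = (φ : core T → ℂ) 1
      · rw [hv.fam.defect_linear φ.2 ((hv.linear_iff φ.2).1 hB) (fun e => hC fun k _ => by rw [e]), mul_zero]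
      · rw [hB2 hB, hC2 hC, sub_self, zero_mul]
  have hr1 : r 1 = ((P - 1 : ℕ) : ℂ) := by
    rw [hr, Pi.sub_apply, hv.fam.rho_one, hv.fam.rho_one, Subgroup.relIndex_self, Nat.cast_sub hP1]
  have hrr : Cfsg.classInner r r = ((P - 1 : ℕ) : ℂ) := by
    rw [hr]
    simp only [classInner_sub_left, classInner_sub_right, (hv.fam.rho_rho le_rfl hv.nt.core'_le).1,
      (hv.fam.rho_rho (le_refl (core T)) le_rfl).1, (hv.fam.rho_rho hv.nt.core'_le le_rfl).1,
      (hv.fam.rho_rho hv.nt.core'_le le_rfl).2, Subgroup.relIndex_self]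
    rw [Nat.cast_sub hP1, ← hP, Nat.cast_one]; ring
  have hrg : ∀ l : ↥W₁ →* ℂˣ, l ≠ 1 → Cfsg.classInner r (gl T W₁ l) = 0 ∧ Cfsg.classInner (gl T W₁ l) r = 0 := by
    intro l hl
    have e : Cfsg.classInner r (gl T W₁ l) = 0 := by
      rw [hv.inner_gl, show (fun z : W₁ => r (hv.inc z)) = ((P : ℂ) - 1) • fun z : W₁ => ((1 : ↥W₁ →* ℂˣ) z : ℂ)
        from funext fun z => by
          rw [hr, Pi.sub_apply, hv.fam.rho_apply, hv.fam.rho_apply,
            if_pos (show (hv.inc z : T) ∈ core' T from hv.nt.le₁_core' z.2), if_pos (hv.inc z).2,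
            Subgroup.relIndex_self, Pi.smul_apply, MonoidHom.one_apply, Units.val_one, smul_eq_mul, mul_one,
            Nat.cast_one, hP],
        classInner_smul_left, hv.inner_lin, if_neg (Ne.symm hl), mul_zero]
    exact ⟨e, by rw [← classInner_conj_symm, e, map_zero]⟩
  have h1 := hv.fam.cauchy (f := gl T W₁ b) (g := r + gl T W₁ a) (P := P - 1 + N) (m := N)
    (c := (Nat.card W₂ : ℤ) * N) (z := (N : ℤ))
    (fun x => by
      funext k
      have h1 := congrFun (hv.fam.rho_invariant (core' T) x) k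
      have h2 := congrFun (hv.fam.rho_invariant (core T) x) k
      have h3 := congrFun (hv.gl_invariant hcen a x) k
      rw [conjN_apply] at h1 h2 h3 ⊢
      simp only [hr, Pi.add_apply, Pi.sub_apply, h1, h2, h3])
    (by rw [hv.fam.defect_add, hrD, hDa, add_zero])
    (by rw [Pi.add_apply, hr1, hv.gl_one, Nat.cast_add, hN])
    (by
      simp only [classInner_add_left, classInner_add_right, hrr, (hrg a ha).1, (hrg a ha).2, hv.gl_inner a a, if_true,
        Nat.cast_add]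
      ring)
    (by have : 0 < N := Nat.pos_of_ne_zero Subgroup.index_ne_zero_of_finite; omega)
    (by rw [classInner_add_right, (hrg b hb).2, hv.gl_inner, if_neg hab.symm, add_zero])
    (hv.gl_one b)
    (by
      rw [hv.fam.inner_ind_invariant _ (hv.gl_invariant hcen b), hv.gl_inner, if_pos rfl, hv.nt.index_eq]
      push_cast; rfl)
    (by rw [hDb]; push_cast; rfl)
  rw [hv.nt.index_eq] at h1
  have hPw : P = 2 * Nat.card W₂ + 1 := by rw [hP, ← hv.card, hn]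
  have hle : P ≤ N := Nat.le_of_dvd (Nat.pos_of_ne_zero Subgroup.index_ne_zero_of_finite)
    (Subgroup.relIndex_dvd_of_le_left (core T) fun k hk => hv.nt.le₁_core' (mem_subgroupOf.1 hk))
  rw [hPw] at h1 hle
  have hle' : 2 * (Nat.card W₂ : ℤ) + 1 ≤ N := by exact_mod_cast hle
  have hw : (0 : ℤ) < Nat.card W₂ := by exact_mod_cast Nat.card_pos
  simp only [Nat.add_sub_cancel] at h1
  push_cast at h1
  have h2 : (Nat.card W₂ : ℤ) ^ 2 < (N : ℤ) ^ 2 := pow_lt_pow_left₀ (by linarith) hw.le (by norm_num)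
  nlinarith [mul_lt_mul_of_pos_left h2 (show (0 : ℤ) < N by linarith)]

/-- `W₁` central: no defect on the characters nontrivial on `W₁`, possibly after the flip. -/
theorem central (X : Exc T W₁ W₂) (hcen : ∀ z ∈ W₁, ∀ t ∈ T, t * z = z * t) :
    (∀ φ : core T → ℂ, Cfsg.IsIrrCharacter (core T) φ →
      ¬ (∀ k : core T, (k : T) ∈ W₁.subgroupOf T → φ k = φ 1) →
      defect (core T) ((Cfsg.sigmaCore T : Set G) \ {1}) (xi i₀) (Z i₀) φ = 0) ∨
    (Fintype.card ι = 2 ∧ ∀ φ : core T → ℂ, Cfsg.IsIrrCharacter (core T) φ →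
      ¬ (∀ k : core T, (k : T) ∈ W₁.subgroupOf T → φ k = φ 1) →
      defect (core T) ((Cfsg.sigmaCore T : Set G) \ {1}) (xi i₀) (Z i₀) φ = φ 1) := by
  classical
  letI : Fintype W₁ := Fintype.ofFinite _
  have key : ∀ φ : core T → ℂ, Cfsg.IsIrrCharacter (core T) φ →
      ¬ (∀ k : core T, (k : T) ∈ W₁.subgroupOf T → φ k = φ 1) →
      ∃ l : ↥W₁ →* ℂˣ, l ≠ 1 ∧ ∀ z, φ (hv.inc z) = φ 1 * (l z : ℂ) := by
    intro φ hφ hne
    obtain ⟨μ, hμ⟩ := hv.exists_central hcen hφ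
    refine ⟨μ, fun e => hne fun k hk => ?_, hμ⟩
    rw [show k = hv.inc ⟨_, mem_subgroupOf.1 hk⟩ from Subtype.ext (Subtype.ext rfl), hμ, e, MonoidHom.one_apply,
      Units.val_one, mul_one]
  by_cases hall : ∀ l : ↥W₁ →* ℂˣ, l ≠ 1 →
      defect (core T) ((Cfsg.sigmaCore T : Set G) \ {1}) (xi i₀) (Z i₀) (gl T W₁ l) = 0
  · refine Or.inl fun φ hφ hne => ?_
    obtain ⟨l, hl, hh⟩ := key φ hφ hne
    rcases hv.gl_cases X hcen hl with ⟨-, h⟩ | ⟨-, h0, -⟩
    · exact h φ hφ hh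
    · rw [hall l hl] at h0
      exact absurd h0.symm (Nat.cast_ne_zero.2 Subgroup.index_ne_zero_of_finite)
  · push Not at hall
    obtain ⟨b, hb, hDb⟩ := hall
    rcases hv.gl_cases X hcen hb with ⟨h0, -⟩ | ⟨hn, hDb', -⟩
    · exact absurd h0 hDb
    refine Or.inr ⟨hn, fun φ hφ hne => ?_⟩
    obtain ⟨l, hl, hh⟩ := key φ hφ hne
    rcases hv.gl_cases X hcen hl with ⟨h0, -⟩ | ⟨-, -, h⟩
    · exact (hv.lin_layer hcen hl hb (fun e => hDb (e ▸ h0)) hn h0 hDb').elim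
    · exact h φ hφ hh

end Five

end Cfsg.Agent.Grp.FT
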