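import Cfsg.Agent.Lib.Grp.FT.SetupOver
import Cfsg.Agent.Lib.Transfer.SchmidtModule
import Cfsg.Agent.S1472

/-!
The end of the argument: two sides with `U` of the full order and a translate of `W₂` normalising `U` are
impossible for `q < p`.
-/

set_option autoImplicit false
set_option maxHeartbeats 1000000

namespace Cfsg.Agent.Grp.FT

open Subgroup Cfsg.Agent.Transfer Cfsg.Agent.Transfer.Loc

universe u

variable {G : Type u} [Group G] [Finite G]

/-- A group of prime order without fixed points on `Y`. -/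
theorem dvd_card_sub_one {W Y : Subgroup G} {r : ℕ} [hr : Fact r.Prime] (hW : Nat.card W = r)
    (hN : W ≤ normalizer (Y : Set G)) (hfix : Y ⊓ centralizer (W : Set G) = ⊥) : r ∣ Nat.card Y - 1 := by
  letI : MulAction W Y := MulAction.compHom Y (Y.normalizerMonoidHom.comp (Subgroup.inclusion hN))
  have hfp : MulAction.fixedPoints W Y = {1} := by
    refine Set.eq_singleton_iff_unique_mem.2 ⟨fun w => map_one (Y.normalizerMonoidHom (Subgroup.inclusion hN w)),
      fun y hy => Subtype.ext (mem_bot.1 (hfix.le ⟨y.2, mem_centralizer_iff.2 fun w hw => ?_⟩))⟩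
    have h1 : w * (y : G) * w⁻¹ = y := congrArg Subtype.val (hy ⟨w, hw⟩)
    exact mul_inv_eq_iff_eq_mul.1 h1
  have h := (IsPGroup.of_card (n := 1) (hW.trans (pow_one r).symm) : IsPGroup r W).card_modEq_card_fixedPoints (α := Y)
  rw [hfp, Nat.card_eq_fintype_card (α := ({1} : Set Y)), Set.card_singleton] at h
  exact (Nat.modEq_iff_dvd' Nat.card_pos).1 h.symm

namespace Side

variable {M P U W₁ W₂ : Subgroup G} {p q : ℕ}
  (hs : Side M P U ⊥ W₁ W₂ p q) (hcard : Nat.card U * (p - 1) = p ^ q - 1)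
include hs hcard

/-- `|U|` is prime to `p - 1`. -/
theorem coprime_sub_one : (Nat.card U).Coprime (p - 1) := by
  have hp2 := hs.hp.two_le
  refine Nat.coprime_of_dvd fun r hr h1 h2 => ?_
  haveI := Fact.mk hr
  have hS : (∑ i ∈ Finset.range q, p ^ i) = Nat.card U := by
    refine Nat.eq_of_mul_eq_mul_right (show 0 < p - 1 by omega) ?_
    rw [hcard]
    zify [show 1 ≤ p by omega, Nat.one_le_pow q p hs.hp.pos]
    exact geom_sum_mul (p : ℤ) q
  have hp1 : (p : ZMod r) = 1 := by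
    have := (ZMod.natCast_eq_zero_iff (p - 1) r).2 h2
    rwa [Nat.cast_sub (by omega), Nat.cast_one, sub_eq_zero] at this
  have hq0 : (q : ZMod r) = 0 := by
    rw [← (ZMod.natCast_eq_zero_iff (Nat.card U) r).2 h1, ← hS]
    simp [hp1]
  have hrq := (Nat.prime_dvd_prime_iff_eq hr hs.hq).1 ((ZMod.natCast_eq_zero_iff _ _).1 hq0)
  exact hr.ne_one (Nat.eq_one_of_dvd_coprimes hs.coprime₁ h1 hrq.dvd)

/-- An element of prime order of `U` is irreducible and fixed-point-free on `P`. -/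
theorem prime_elt {z : G} (hz : z ∈ U) {r : ℕ} [hr : Fact r.Prime] (hzo : orderOf z = r) :
    P ⊓ centralizer ({z} : Set G) = ⊥ ∧
      ∀ X : Subgroup G, X ≤ P → X ≠ ⊥ → zpowers z ≤ normalizer (X : Set G) →
        X ⊓ centralizer ({z} : Set G) = ⊥ → X = P := by
  haveI := Fact.mk hs.hp
  haveI := Fact.mk hs.hq
  have hp2 := hs.hp.two_le
  have hz1 : z ≠ 1 := fun e => hr.out.ne_one (by rw [← hzo, e, orderOf_one])
  have hrU : r ∣ Nat.card U := hzo ▸ Subgroup.orderOf_dvd_natCard _ hz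
  have hrp : (p : ℕ) ≠ r := fun e => hr.out.ne_one (Nat.eq_one_of_dvd_coprimes hs.coprime (hrU) e.symm.dvd)
  have hord : orderOf (p : ZMod r) = q := by
    refine ((Nat.dvd_prime hs.hq).1 ((Schmidt.orderOf_dvd_iff_dvd_sub p r q).2 (hrU.trans ⟨_, hcard.symm⟩))).resolve_left
      fun e => ?_
    have h1 := (Schmidt.orderOf_dvd_iff_dvd_sub p r 1).1 e.dvd
    rw [pow_one] at h1
    exact hr.out.ne_one (Nat.eq_one_of_dvd_coprimes (hs.coprime_sub_one hcard) hrU h1)
  have hirr : ∀ X : Subgroup G, X ≤ P → X ≠ ⊥ → zpowers z ≤ normalizer (X : Set G) →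
      X ⊓ centralizer ({z} : Set G) = ⊥ → X = P := by
    intro X hX hX1 hN hfix
    have h1 := dvd_card_sub_one (r := r) (by rw [Nat.card_zpowers, hzo]) hN
      (le_bot_iff.1 ((inf_le_inf_left X (centralizer_le (Set.singleton_subset_iff.2 (mem_zpowers z)))).trans hfix.le))
    obtain ⟨k, hk, hXc⟩ := (Nat.dvd_prime_pow hs.hp).1 (hs.card_P ▸ card_dvd_of_le hX)
    have hqk : q ∣ k := hord ▸ (Schmidt.orderOf_dvd_iff_dvd_sub p r k).2 (hXc ▸ h1)
    refine Subgroup.eq_of_le_of_card_ge hX ?_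
    rw [hs.card_P, hXc]
    refine Nat.pow_le_pow_right hs.hp.pos (Nat.le_of_dvd (Nat.pos_of_ne_zero fun e => hX1 ?_) hqk)
    rw [e, pow_zero, Subgroup.card_eq_one] at hXc
    exact hXc
  refine ⟨?_, hirr⟩
  have hzP : z ∈ normalizer (P : Set G) := (hs.compl.2.1.trans (M.commutator_le_self.trans hs.norm_P)) hz
  let φ : P →* G :=
    { toFun := fun x => z * x * z⁻¹ * (x : G)⁻¹
      map_one' := by simp
      map_mul' := fun a b => by
        have ha : z * (a : G) * z⁻¹ * (a : G)⁻¹ ∈ P := P.mul_mem (Grp.mem_conj_normalizer hzP a.2) (P.inv_mem a.2)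
        have hb : z * (b : G) * z⁻¹ * (b : G)⁻¹ ∈ P := P.mul_mem (Grp.mem_conj_normalizer hzP b.2) (P.inv_mem b.2)
        calc z * ((a : G) * b) * z⁻¹ * ((a : G) * b)⁻¹
            = z * a * z⁻¹ * ((z * b * z⁻¹ * (b : G)⁻¹) * (a : G)⁻¹) := by group
          _ = z * a * z⁻¹ * ((a : G)⁻¹ * (z * b * z⁻¹ * (b : G)⁻¹)) := by rw [hs.comm_P hb (P.inv_mem a.2)]
          _ = z * a * z⁻¹ * (a : G)⁻¹ * (z * b * z⁻¹ * (b : G)⁻¹) := by group }
  have hYP : φ.range ≤ P := by
    rintro _ ⟨a, rfl⟩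
    exact P.mul_mem (Grp.mem_conj_normalizer hzP a.2) (P.inv_mem a.2)
  have hYfix : φ.range ⊓ centralizer ({z} : Set G) = ⊥ := by
    rw [Subgroup.eq_bot_iff_forall]
    rintro y ⟨⟨a, rfl⟩, hy⟩
    have hyc : z * φ a = φ a * z := (mem_centralizer_singleton_iff.1 hy).symm
    have hpow : ∀ i : ℕ, z ^ i * (a : G) * (z ^ i)⁻¹ = φ a ^ i * a := by
      intro i
      induction i with
      | zero => simp
      | succ i ih =>
        calc z ^ (i + 1) * (a : G) * (z ^ (i + 1))⁻¹ = z * (z ^ i * a * (z ^ i)⁻¹) * z⁻¹ := by group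
          _ = z * (φ a ^ i * a) * z⁻¹ := by rw [ih]
          _ = z * φ a ^ i * (a * z⁻¹) := by group
          _ = φ a ^ i * z * (a * z⁻¹) := by rw [(Commute.pow_right hyc i).eq]
          _ = φ a ^ i * (φ a * a) := by
              show φ a ^ i * z * (a * z⁻¹) = φ a ^ i * (z * a * z⁻¹ * (a : G)⁻¹ * a)
              group
          _ = φ a ^ (i + 1) * a := by rw [pow_succ, mul_assoc]
    have h2 := hpow r
    rw [show z ^ r = 1 from hzo ▸ pow_orderOf_eq_one z, inv_one, one_mul, mul_one, right_eq_mul] at h2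
    refine orderOf_eq_one_iff.1 (Nat.eq_one_of_dvd_coprimes ((Nat.coprime_primes hs.hp hr.out).2 hrp) ?_
      (orderOf_dvd_of_pow_eq_one h2))
    exact orderOf_dvd_of_pow_eq_one (hs.elem.2 _ (hYP ⟨a, rfl⟩))
  have hYN : zpowers z ≤ normalizer (φ.range : Set G) := Grp.PiHall.le_normalizer_of_conj_mem fun w hw y hy => by
    obtain ⟨a, rfl⟩ := hy
    obtain ⟨i, rfl⟩ := mem_zpowers_iff.1 hw
    refine ⟨⟨z ^ i * (a : G) * (z ^ i)⁻¹, Grp.mem_conj_normalizer (zpow_mem hzP i) a.2⟩, ?_⟩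
    show z * (z ^ i * (a : G) * (z ^ i)⁻¹) * z⁻¹ * (z ^ i * (a : G) * (z ^ i)⁻¹)⁻¹ =
      z ^ i * (z * a * z⁻¹ * (a : G)⁻¹) * (z ^ i)⁻¹
    group
  have hY1 : φ.range ≠ ⊥ := fun e => hz1 (mem_bot.1 (hs.C_eq.le ⟨hz, mem_centralizer_iff.2 fun x hx => by
    have h1 : φ ⟨x, hx⟩ = 1 := by rw [← mem_bot, ← e]; exact ⟨_, rfl⟩
    exact (mul_inv_eq_iff_eq_mul.1 (mul_inv_eq_one.1 (h1 : z * x * z⁻¹ * x⁻¹ = 1))).symm⟩))
  rw [← hirr _ hYP hY1 hYN hYfix]
  exact hYfix

/-- Every nonidentity element of `U` is fixed-point-free on `P`. -/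
theorem fpf {z : G} (hz : z ∈ U) (hz1 : z ≠ 1) : P ⊓ centralizer ({z} : Set G) = ⊥ := by
  obtain ⟨r, _, w, hw, hwo, -, -⟩ := exists_prime_zpowers_le hz1
  refine le_bot_iff.1 ((inf_le_inf_left P fun x hx => ?_).trans (hs.prime_elt hcard (zpowers_le.2 hz hw) hwo).1.le)
  obtain ⟨i, rfl⟩ := mem_zpowers_iff.1 hw
  exact mem_centralizer_singleton_iff.2 ((show Commute x z from mem_centralizer_singleton_iff.1 hx).zpow_right i).eq

/-- `U` is irreducible on `P`. -/
theorem irred_U {X : Subgroup G} (hX : X ≤ P) (hX1 : X ≠ ⊥) (hN : U ≤ normalizer (X : Set G)) : X = P := by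
  obtain ⟨r, hr, hrd⟩ := Nat.exists_prime_and_dvd (n := Nat.card U) fun e => hs.C_lt.ne' (Subgroup.card_eq_one.1 e)
  haveI := Fact.mk hr
  obtain ⟨z, hz⟩ := exists_prime_orderOf_dvd_card' (G := U) r hrd
  obtain ⟨h1, h2⟩ := hs.prime_elt hcard z.2 (show orderOf (z : G) = r by rw [Subgroup.orderOf_coe, hz])
  exact h2 X hX hX1 ((zpowers_le.2 z.2).trans hN) (le_bot_iff.1 ((inf_le_inf_right _ hX).trans h1.le))

/-- The field structure on `P`. -/
theorem exists_field : ∃ (F : Type u) (_ : Field F) (_ : Fintype F) (f ψ : G → F),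
    Fintype.card F = p ^ q ∧ Set.BijOn f (P : Set G) Set.univ ∧
      (∀ x ∈ P, ∀ z ∈ P, f (x * z) = f x + f z) ∧
      (∀ u ∈ U, ψ u ≠ 0 ∧ ∀ x ∈ P, f (u * x * u⁻¹) = ψ u * f x) ∧
      (∀ u ∈ U, ∀ v ∈ U, ψ (u * v) = ψ u * ψ v) ∧ Set.InjOn ψ (U : Set G) ∧
      ∀ x ∈ P, f x ^ p = f x → x ∈ W₂ := by
  classical
  haveI := Fact.mk hs.hp
  haveI := hs.elem.1
  letI : CommGroup P := { mul_comm := fun a b => hs.elem.1.is_comm.comm a b }
  let V := Additive P
  have hUP : U ≤ normalizer (P : Set G) := hs.compl.2.1.trans (M.commutator_le_self.trans hs.norm_P)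
  let ρ : U → AddMonoid.End V := fun u =>
    MonoidHom.toAdditive (P.normalizerMonoidHom (Subgroup.inclusion hUP u)).toMonoidHom
  have hρ : ∀ (u : U) (v : V), ((Additive.toMul (ρ u v) : P) : G) = (u : G) * ((Additive.toMul v : P) : G) * (u : G)⁻¹ :=
    fun _ _ => rfl
  have hext : ∀ a b : V, ((Additive.toMul a : P) : G) = ((Additive.toMul b : P) : G) → a = b :=
    fun a b h => Additive.toMul.injective (Subtype.ext h)
  have hρmul : ∀ u v : U, ρ (u * v) = ρ u * ρ v := fun u v => AddMonoidHom.ext fun x => hext _ _ (by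
    show (u : G) * v * ((Additive.toMul x : P) : G) * ((u : G) * v)⁻¹ =
      (u : G) * ((v : G) * ((Additive.toMul x : P) : G) * (v : G)⁻¹) * (u : G)⁻¹
    group)
  have hUab : ∀ u v : U, u * v = v * u := fun u v => commutatorElement_eq_one_iff_mul_comm.1 (Subtype.ext
    (mem_bot.1 (hs.comm_quot (commutator_mem_commutator u.2 v.2))))
  let R := Subring.closure (Set.range ρ)
  letI : CommRing R := Subring.closureCommRingOfComm (fun x hx y hy => by
    obtain ⟨u, rfl⟩ := hx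
    obtain ⟨v, rfl⟩ := hy
    rw [← hρmul, ← hρmul, hUab])
  have hmemR : ∀ u, ρ u ∈ R := fun u => Subring.subset_closure ⟨u, rfl⟩
  -- invariant subgroups
  have hirr : ∀ A : AddSubgroup V, (∀ u, ∀ v ∈ A, ρ u v ∈ A) → A = ⊥ ∨ A = ⊤ := by
    intro A hA
    let X : Subgroup G := (AddSubgroup.toSubgroup' A).map P.subtype
    by_cases hX1 : X = ⊥
    · refine Or.inl ((AddSubgroup.eq_bot_iff_forall _).2 fun v hv => ?_)
      have h1 : ((Additive.toMul v : P) : G) ∈ X := ⟨Additive.toMul v, hv, rfl⟩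
      rw [hX1, mem_bot] at h1
      exact hext _ _ h1
    · refine Or.inr (eq_top_iff.2 fun v _ => ?_)
      have hXN : U ≤ normalizer (X : Set G) := Grp.PiHall.le_normalizer_of_conj_mem fun u hu y hy => by
        obtain ⟨a, ha, rfl⟩ := hy
        exact ⟨Additive.toMul (ρ ⟨u, hu⟩ (Additive.ofMul a)), hA ⟨u, hu⟩ _ ha, rfl⟩
      have hXP := hs.irred_U hcard (map_subtype_le _) hX1 hXN
      have h1 : ((Additive.toMul v : P) : G) ∈ X := hXP.ge (Additive.toMul v).2
      obtain ⟨a, ha, hae⟩ := h1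
      rw [← hext (Additive.ofMul a) v hae]
      exact ha
  have hker : ∀ z : R, z ≠ 0 → ∀ v, (z : AddMonoid.End V) v = 0 → v = 0 := by
    intro z hz v hv
    let zh : V →+ V := (z : AddMonoid.End V)
    rcases hirr zh.ker (fun u w hw => by
      have hzu : (z : AddMonoid.End V) * ρ u = ρ u * z := congrArg Subtype.val (mul_comm z ⟨ρ u, hmemR u⟩)
      rw [AddMonoidHom.mem_ker] at hw ⊢
      calc (z : AddMonoid.End V) (ρ u w) = ρ u ((z : AddMonoid.End V) w) := DFunLike.congr_fun hzu w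
        _ = 0 := by rw [show (z : AddMonoid.End V) w = 0 from hw, map_zero]) with h | h
    · exact (AddSubgroup.eq_bot_iff_forall _).mp h v (AddMonoidHom.mem_ker.mpr hv)
    · refine absurd (Subtype.ext (AddMonoidHom.ext fun w => ?_)) hz
      exact AddMonoidHom.mem_ker.mp (h.ge (AddSubgroup.mem_top w))
  obtain ⟨w₀, hw₀, hw₀1⟩ := (bot_or_exists_ne_one W₂).resolve_left
    fun e => hs.hp.ne_one (by rw [← hs.card₂, e, Subgroup.card_bot])
  let v₀ : V := Additive.ofMul ⟨w₀, hs.W₂_le hw₀⟩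
  have hv₀ : v₀ ≠ 0 := fun e => hw₀1 (congrArg (fun a : V => ((Additive.toMul a : P) : G)) e)
  let ev : R →+ V :=
    { toFun := fun z => (z : AddMonoid.End V) v₀, map_zero' := rfl, map_add' := fun _ _ => rfl }
  have hinj : Function.Injective ev := by
    rw [injective_iff_map_eq_zero]
    intro z hz
    by_contra h
    exact hv₀ (hker z h v₀ hz)
  have hsurj : Function.Surjective ev := by
    rw [← AddMonoidHom.range_eq_top]
    refine (hirr ev.range ?_).resolve_left fun h => hv₀ ?_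
    · rintro u _ ⟨z, rfl⟩
      exact ⟨⟨ρ u, hmemR u⟩ * z, rfl⟩
    · exact (AddSubgroup.eq_bot_iff_forall _).mp h v₀ ⟨1, rfl⟩
  haveI : Finite V := Finite.of_equiv P Additive.ofMul
  haveI : Finite R := Finite.of_injective ev hinj
  haveI : Nontrivial R := ⟨0, 1, fun e => hv₀ (congrArg ev e).symm⟩
  haveI : NoZeroDivisors R := ⟨fun {x y} hxy => by
    by_contra h
    push Not at h
    refine h.2 (hinj ?_)
    show (y : AddMonoid.End V) v₀ = 0
    exact hker x h.1 _ (congrArg ev hxy)⟩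
  haveI : IsDomain R := NoZeroDivisors.to_isDomain R
  letI : Fintype R := Fintype.ofFinite R
  letI : Field R := Fintype.fieldOfDomain R
  let e : R ≃+ V := AddEquiv.ofBijective ev ⟨hinj, hsurj⟩
  let f : G → R := fun x => if hx : x ∈ P then e.symm (Additive.ofMul ⟨x, hx⟩) else 0
  let ψ : G → R := fun u => if hu : u ∈ U then ⟨ρ ⟨u, hu⟩, hmemR _⟩ else 0
  have hf : ∀ x (hx : x ∈ P), (f x : AddMonoid.End V) v₀ = Additive.ofMul ⟨x, hx⟩ := fun x hx => by
    simp only [f, dif_pos hx]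
    exact e.apply_symm_apply _
  have hψ : ∀ u (hu : u ∈ U), ψ u = ⟨ρ ⟨u, hu⟩, hmemR _⟩ := fun u hu => by simp only [ψ, dif_pos hu]
  have hcardR : Fintype.card R = p ^ q := by
    rw [← Nat.card_eq_fintype_card, Nat.card_congr e.toEquiv]
    exact (Nat.card_congr Additive.toMul).trans hs.card_P
  have hchar : ∀ z : R, p • z = 0 := fun z => hinj (by
    rw [map_nsmul, map_zero]
    exact Additive.toMul.injective (Subtype.ext (hs.elem.2 _ (Additive.toMul (ev z)).2)))
  haveI : CharP R p := by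
    obtain ⟨c, hc⟩ := CharP.exists R
    have hd : c ∣ p := (CharP.cast_eq_zero_iff R c p).mp (by simpa using hchar 1)
    rcases (Nat.dvd_prime hs.hp).mp hd with rfl | rfl
    · exfalso
      have h1 : ((1 : ℕ) : R) = 0 := (CharP.cast_eq_zero_iff R 1 1).mpr dvd_rfl
      rw [Nat.cast_one] at h1
      exact one_ne_zero h1
    · exact hc
  refine ⟨R, inferInstance, inferInstance, f, ψ, hcardR, ⟨fun x _ => Set.mem_univ _, fun x hx y hy h => ?_,
    fun z _ => ?_⟩, fun x hx y hy => ?_, fun u hu => ⟨?_, fun x hx => ?_⟩, fun u hu v hv => ?_,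
    fun u hu v hv h => ?_, fun x hx hxp => ?_⟩
  · exact congrArg (fun a : V => ((Additive.toMul a : P) : G))
      ((hf x hx).symm.trans ((congrArg ev h).trans (hf y hy)))
  · refine ⟨((Additive.toMul (ev z) : P) : G), (Additive.toMul (ev z)).2, hinj ?_⟩
    exact hf _ (Additive.toMul (ev z)).2
  · refine hinj ?_
    rw [map_add]
    exact (hf _ (P.mul_mem hx hy)).trans (congrArg₂ (· + ·) (hf x hx) (hf y hy)).symm
  · intro e0
    rw [hψ u hu] at e0
    have h1 := congrArg (fun a : V => ((Additive.toMul a : P) : G)) (congrArg ev e0)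
    change u * w₀ * u⁻¹ = 1 at h1
    exact hw₀1 (conj_eq_one_iff.1 h1)
  · refine hinj ?_
    rw [hψ u hu]
    have hxu : u * x * u⁻¹ ∈ P := Grp.mem_conj_normalizer (hUP hu) hx
    refine (hf _ hxu).trans (hext _ _ ?_)
    show u * x * u⁻¹ = ((Additive.toMul (ρ ⟨u, hu⟩ (ev (f x))) : P) : G)
    rw [show ev (f x) = Additive.ofMul (⟨x, hx⟩ : P) from hf x hx, hρ]
    rfl
  · rw [hψ u hu, hψ v hv, hψ _ (U.mul_mem hu hv)]
    exact Subtype.ext (hρmul ⟨u, hu⟩ ⟨v, hv⟩)
  · rw [hψ u hu, hψ v hv] at h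
    have h1 := congrArg (fun a : V => ((Additive.toMul a : P) : G)) (congrArg ev h)
    change u * w₀ * u⁻¹ = v * w₀ * v⁻¹ at h1
    by_contra hne
    have h2 : w₀ ∈ P ⊓ centralizer ({u⁻¹ * v} : Set G) := ⟨hs.W₂_le hw₀, mem_centralizer_singleton_iff.2 <| calc
      w₀ * (u⁻¹ * v) = u⁻¹ * (u * w₀ * u⁻¹) * v := by group
      _ = u⁻¹ * (v * w₀ * v⁻¹) * v := by rw [h1]
      _ = u⁻¹ * v * w₀ := by group⟩
    rw [hs.fpf hcard (U.mul_mem (U.inv_mem hu) hv) fun h3 => hne (inv_mul_eq_one.1 h3), mem_bot] at h2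
    exact hw₀1 h2
  · obtain ⟨n, hn⟩ : ∃ n : ℕ, f x = (n : R) := by
      by_contra hc
      push Not at hc
      have hnz : (Polynomial.X ^ p - Polynomial.X : Polynomial R) ≠ 0 :=
        FiniteField.X_pow_card_sub_X_ne_zero R hs.hp.one_lt
      have hsub : insert (f x) ((Finset.range p).image fun n : ℕ => (n : R)) ⊆
          (Polynomial.X ^ p - Polynomial.X : Polynomial R).roots.toFinset := by
        intro z hz
        rw [Multiset.mem_toFinset, Polynomial.mem_roots hnz]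
        rcases Finset.mem_insert.1 hz with rfl | hz
        · simp [Polynomial.IsRoot, hxp]
        · obtain ⟨n, -, rfl⟩ := Finset.mem_image.1 hz
          have h0 : (n : R) ^ p = n := map_natCast (frobenius R p) n
          simp [Polynomial.IsRoot, h0]
      have h1 := (Finset.card_le_card hsub).trans ((Multiset.toFinset_card_le _).trans (Polynomial.card_roots' _))
      rw [FiniteField.X_pow_card_sub_X_natDegree_eq R hs.hp.one_lt, Finset.card_insert_of_notMem
        (by simp only [Finset.mem_image, not_exists, not_and]; exact fun n _ e => hc n e.symm),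
        Finset.card_image_of_injOn, Finset.card_range] at h1
      · omega
      · intro a ha b hb hab
        have h2 := (CharP.natCast_eq_natCast R p).1 hab
        rwa [Nat.ModEq, Nat.mod_eq_of_lt (Finset.mem_range.1 ha), Nat.mod_eq_of_lt (Finset.mem_range.1 hb)] at h2
    have h1 : (Additive.ofMul (⟨x, hx⟩ : P) : V) = n • v₀ := by
      rw [← hf x hx, hn]
      exact (congrArg ev (nsmul_one n).symm).trans (map_nsmul ev n 1)
    have h2 := congrArg (fun a : V => ((Additive.toMul a : P) : G)) h1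
    change x = _ at h2
    rw [h2, toMul_nsmul]
    exact W₂.pow_mem hw₀ n

end Side

/-- The contradiction for `q < p`. -/
theorem finale {S T P U Q V D W₁ W₂ : Subgroup G} {p q : ℕ} (hs : Side S P U ⊥ W₁ W₂ p q)
    (ht : Side T Q V D W₂ W₁ q p) (hlt : q < p) (hcard : Nat.card U * (p - 1) = p ^ q - 1)
    (hy : ∃ y ∈ Q, W₂.map (MulAut.conj y).toMonoidHom ≤ normalizer (U : Set G)) : False := by
  haveI := Fact.mk hs.hp
  haveI := Fact.mk hs.hq
  obtain ⟨y, hy, hyU⟩ := hy
  obtain ⟨F, iF, iF', f, ψ, hcardF, hf, hfadd, hψ, hψmul, hψinj, hP0⟩ := hs.exists_field hcard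
  have hW₂Q : W₂ ≤ normalizer (Q : Set G) := ht.compl₁.2.1.trans ht.norm_P
  have hp2 := hs.hp.two_le
  have hA : Nat.Coprime ((p ^ q - 1) / (p - 1)) (p - 1) := by
    rw [← hcard, Nat.mul_div_cancel _ (by omega)]
    exact hs.coprime_sub_one hcard
  have hQp : (Nat.card Q).Coprime p := by
    rw [ht.card_P]
    exact ((Nat.coprime_primes hs.hq hs.hp).2 hs.hpq.symm).pow_left _
  exact absurd (Cfsg.Agent.S1472.result p q hA F hcardF P U Q f ψ hf hfadd
    (hs.compl.2.1.trans (S.commutator_le_self.trans hs.norm_P)) hψ hψmul hψinj hcard ht.elem.1 hQp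
    (fun x hx hxp => hW₂Q (hP0 x hx hxp)) y hy fun x hx hxp => hyU ⟨x, hP0 x hx hxp, rfl⟩) (not_le.2 hlt)

end Cfsg.Agent.Grp.FT
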