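import Cfsg.Agent.Lib.Grp.FT.Defs
import Cfsg.Agent.Lib.Transfer.Local.TypeIFree
import Cfsg.Agent.Lib.Transfer.Local.Types
import Cfsg.Agent.S1541
import Cfsg.Agent.S1369
import Cfsg.Agent.S1376
import Cfsg.Agent.S1380

/-!
Existence of the pair and first facts about it: centralisers of elements of the cores of `S` and `T`.
-/

set_option autoImplicit false
set_option maxHeartbeats 1000000

namespace Cfsg.Agent.Grp.FT

open Subgroup Cfsg.Agent.Transfer Cfsg.Agent.Transfer.Loc Cfsg.Agent.Transfer.Loc.TypeI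

universe u

variable {G : Type u} [Group G] [Finite G]

/-- A maximal subgroup with empty `κ` is of type I. -/
theorem typeI_of_kappa_empty (hG : Cfsg.IsMinSimpleOddOrder G) {M : Subgroup G} (hM : IsCoatom M)
    (hκ : Cfsg.kappa M = ∅) : Cfsg.IsOfTypeI M := by
  have hK : Cfsg.IsPiHallOf (Cfsg.kappa M) ⊥ M := by
    refine ⟨bot_le, fun q hq hd => ?_, fun q hq h => ?_⟩
    · rw [Subgroup.card_bot] at hd
      exact absurd (Nat.eq_one_of_dvd_one hd) hq.ne_one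
    · rw [hκ] at h
      exact absurd h (Set.notMem_empty q)
  obtain ⟨U, hKU⟩ := exists_decomp hG hM inferInstance hK
  refine (Cfsg.Agent.S1380.result hG M hM ⊥ U hKU).2 ⟨rfl, fun hU => sigmaCore_ne_bot hG hM ?_⟩
  obtain ⟨hE, -, -⟩ := decomp_compl hG hM hKU
  rw [← (Cfsg.Agent.S1426.result hG M hM _ hE).2.1, hU, bot_sup_eq]
  exact Subgroup.commutator_bot_right _

/-- A maximal subgroup not of type I has `κ ≠ ∅`. -/
theorem kappa_nonempty_of_not_typeI (hG : Cfsg.IsMinSimpleOddOrder G) {M : Subgroup G} (hM : IsCoatom M)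
    (h : ¬ Cfsg.IsOfTypeI M) : (Cfsg.kappa M).Nonempty :=
  Set.nonempty_iff_ne_empty.2 fun e => h (typeI_of_kappa_empty hG hM e)

/-- A type I subgroup has empty `κ`. -/
theorem kappa_empty_of_typeI (hG : Cfsg.IsMinSimpleOddOrder G) {M : Subgroup G} (hM : IsCoatom M)
    (h : Cfsg.IsOfTypeI M) : Cfsg.kappa M = ∅ :=
  kappa_empty_of_typeF hG hM h.1

/-- If `C(x)` leaves `M`, for `x` in the core of `M`, the maximal subgroup over it has `κ ≠ ∅`. -/
theorem exists_support_kappa (hG : Cfsg.IsMinSimpleOddOrder G) {M : Subgroup G} (hM : IsCoatom M) {x : G}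
    (hx : x ∈ Cfsg.sigmaCore M) (hx1 : x ≠ 1) (hC : ¬ centralizer ({x} : Set G) ≤ M) :
    ∃ N : Subgroup G, Support M N x ∧ (Cfsg.kappa N).Nonempty ∧ Cfsg.kappa M = ∅ := by
  obtain ⟨N, hsup, -, -, -, hτ⟩ := support_unique hG hM hx hx1 hC
  have hκN : (Cfsg.kappa N).Nonempty := by
    refine Set.nonempty_iff_ne_empty.2 fun e => ?_
    obtain ⟨s, hs, hsd⟩ := Nat.exists_prime_and_dvd fun e' => hx1 (orderOf_eq_one_iff.1 e')
    haveI := Fact.mk hs
    obtain ⟨H, E, N', A, T, P, v, hset⟩ := exists_setup hG hsup.hN e (hτ s hs hsd)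
    exact no_setup hset fun t _ ht => fixed_eq_bot hG t ht
  exact ⟨N, hsup, hκN, (Cfsg.Agent.S1376.result hG M hM x hx hx1 hC N hsup.hN hsup.le hκN).1⟩

/-- For `κ(M) ≠ ∅` the centralisers of nonidentity elements of the core stay inside `M`. -/
theorem centralizer_le_of_kappa (hG : Cfsg.IsMinSimpleOddOrder G) {M : Subgroup G} (hM : IsCoatom M)
    (hκ : (Cfsg.kappa M).Nonempty) {x : G} (hx : x ∈ Cfsg.sigmaCore M) (hx1 : x ≠ 1) :
    centralizer ({x} : Set G) ≤ M := by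
  by_contra hC
  obtain ⟨N, -, -, he⟩ := exists_support_kappa hG hM hx hx1 hC
  exact hκ.ne_empty he

omit [Finite G] in
/-- `R(x)` is trivial when the centraliser stays inside. -/
theorem supportR_eq_bot {M : Subgroup G} {x : G} (h : centralizer ({x} : Set G) ≤ M) :
    Cfsg.supportR M x = ⊥ := by
  unfold Cfsg.supportR
  rw [dif_neg fun h' => h'.1 h]

/-- For `κ(M) ≠ ∅` all `R(x)` are trivial. -/
theorem supportR_eq_bot_of_kappa (hG : Cfsg.IsMinSimpleOddOrder G) {M : Subgroup G} (hM : IsCoatom M)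
    (hκ : (Cfsg.kappa M).Nonempty) {x : G} (hx : x ∈ Cfsg.sigmaCore M) (hx1 : x ≠ 1) :
    Cfsg.supportR M x = ⊥ :=
  supportR_eq_bot (centralizer_le_of_kappa hG hM hκ hx hx1)

/-- A pair `(S, T)` with `S` of type II. -/
theorem exists_pair (hG : Cfsg.IsMinSimpleOddOrder G) :
    ∃ S T W₁ W₂ : Subgroup G, Pair S T W₁ W₂ := by
  obtain ⟨M, hM, hMI⟩ := Cfsg.Agent.S1541.result hG
  obtain ⟨q, hq⟩ := kappa_nonempty_of_not_typeI hG hM hMI
  haveI := solvable_of_ne_top hG hM.1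
  obtain ⟨K, hK⟩ := Grp.PiHall.exists_piHall (Cfsg.kappa M) M
  have hK1 : K ≠ ⊥ := fun e => hK.2.2 q hq.1 hq (by rw [e, Subgroup.relIndex_bot_left]; exact hq.2.1)
  obtain ⟨Ms, hp⟩ := exists_kappaPair hG hM hK hK1
  obtain ⟨U, hKU⟩ := exists_decomp hG hM hp.cycK hK
  by_cases hU : U = ⊥
  · obtain ⟨V, hKV⟩ := exists_decomp hG hp.hMs hp.cycStar hp.hall
    have hV : V ≠ ⊥ :=
      ((Cfsg.Agent.S1369.result hG M hM K U hKU hK1 Ms hp.hMs hp.dual.symm hp.hall).1.resolve_left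
        fun h => h hU) V hKV
    exact ⟨Ms, M, kStar M K, K, hp.symm, hp.dual, (typeII_iff hG hp.hMs hKV).2 ⟨hp.star1, hV⟩,
      (Cfsg.Agent.S1372.result hG Ms hp.hMs _ V hKV hp.star1 hV).1⟩
  · exact ⟨M, Ms, K, kStar M K, hp, rfl, (typeII_iff hG hM hKU).2 ⟨hK1, hU⟩,
      (Cfsg.Agent.S1372.result hG M hM K U hKU hK1 hU).1⟩

namespace Pair

variable {S T W₁ W₂ : Subgroup G} (h : Pair S T W₁ W₂)
include h

theorem hG : Cfsg.IsMinSimpleOddOrder G := h.kp.hG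

theorem hS : IsCoatom S := h.kp.hM

theorem hT : IsCoatom T := h.kp.hMs

theorem dual : kStar T W₂ = W₁ := h.star ▸ h.kp.dual

theorem hall₁ : Cfsg.IsPiHallOf (Cfsg.kappa S) W₁ S := h.kp.hK

theorem hall₂ : Cfsg.IsPiHallOf (Cfsg.kappa T) W₂ T := h.star ▸ h.kp.hall

theorem symm_kp : KappaPair T W₂ S := h.star ▸ h.kp.symm

theorem W₁_ne : W₁ ≠ ⊥ := h.kp.hK1

theorem W₂_ne : W₂ ≠ ⊥ := h.star ▸ h.kp.star1

theorem kappa_S : (Cfsg.kappa S).Nonempty :=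
  ⟨_, h.hall₁.2.1 _ h.prime₁ dvd_rfl⟩

theorem kappa_T : (Cfsg.kappa T).Nonempty := by
  obtain ⟨p, hp, hd⟩ := Nat.exists_prime_and_dvd fun e => h.W₂_ne (Subgroup.card_eq_one.1 e)
  exact ⟨p, h.hall₂.2.1 p hp hd⟩

theorem centralizer_le_S {a : G} (ha : a ∈ Cfsg.sigmaCore S) (ha1 : a ≠ 1) :
    centralizer ({a} : Set G) ≤ S :=
  centralizer_le_of_kappa h.hG h.hS h.kappa_S ha ha1

theorem centralizer_le_T {a : G} (ha : a ∈ Cfsg.sigmaCore T) (ha1 : a ≠ 1) :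
    centralizer ({a} : Set G) ≤ T :=
  centralizer_le_of_kappa h.hG h.hT h.kappa_T ha ha1

theorem supportR_S {a : G} (ha : a ∈ Cfsg.sigmaCore S) (ha1 : a ≠ 1) : Cfsg.supportR S a = ⊥ :=
  supportR_eq_bot (h.centralizer_le_S ha ha1)

theorem supportR_T {a : G} (ha : a ∈ Cfsg.sigmaCore T) (ha1 : a ≠ 1) : Cfsg.supportR T a = ⊥ :=
  supportR_eq_bot (h.centralizer_le_T ha ha1)

/-- The factorisation of `S`. -/
theorem decomp_S : ∃ U : Subgroup G, Cfsg.IsSigmaDecomposition S W₁ U ∧ U ≠ ⊥ := by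
  obtain ⟨U, hU⟩ := exists_decomp h.hG h.hS h.kp.cycK h.hall₁
  exact ⟨U, hU, ((typeII_iff h.hG h.hS hU).1 h.typeII).2⟩

/-- The core of `S` is `S_F`. -/
theorem sigmaCore_S : Cfsg.sigmaCore S = Cfsg.fittingHallOf S := by
  obtain ⟨U, hU, hU1⟩ := h.decomp_S
  exact (fittingHallOf_of_U h.hG h.hS hU hU1).symm

/-- Either `T` is of type II with `T_σ = T_F`, or `T_σ = T'`. -/
theorem cases_T : (Cfsg.IsOfTypeII T ∧ Cfsg.sigmaCore T = Cfsg.fittingHallOf T) ∨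
    (Cfsg.IsSigmaDecomposition T W₂ ⊥ ∧ Cfsg.sigmaCore T = ⁅T, T⁆) := by
  obtain ⟨V, hV⟩ := exists_decomp h.hG h.hT h.symm_kp.cycK h.hall₂
  by_cases hV1 : V = ⊥
  · subst hV1
    refine Or.inr ⟨hV, ?_⟩
    rw [(Cfsg.Agent.S1365.result h.hG T h.hT W₂ ⊥ hV h.W₂_ne).1, bot_sup_eq]
  · exact Or.inl ⟨(typeII_iff h.hG h.hT hV).2 ⟨h.W₂_ne, hV1⟩, (fittingHallOf_of_U h.hG h.hT hV hV1).symm⟩

/-- For `T` of type II the order of `W₂` is prime. -/
theorem prime₂_of_typeII (hT : Cfsg.IsOfTypeII T) : (Nat.card W₂).Prime := by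
  obtain ⟨V, hV⟩ := exists_decomp h.hG h.hT h.symm_kp.cycK h.hall₂
  exact (Cfsg.Agent.S1372.result h.hG T h.hT W₂ V hV h.W₂_ne ((typeII_iff h.hG h.hT hV).1 hT).2).1

/-- The reversed pair when `T` is of type II. -/
theorem symm_of_typeII (hT : Cfsg.IsOfTypeII T) : Pair T S W₂ W₁ :=
  ⟨h.symm_kp, h.dual, hT, h.prime₂_of_typeII hT⟩

end Pair

end Cfsg.Agent.Grp.FT
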