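import Cfsg.Agent.Lib.Grp.FT.SetupPair
import Cfsg.Agent.S1363
import Cfsg.Agent.S1364
import Cfsg.Agent.S1435
import Cfsg.Agent.S1545

/-!
A member of type II gives a side: `M' = P U`, `P` elementary abelian of order `p ^ q`, irreducible under
`U W₁`, and `F(M) = P C`.
-/

set_option autoImplicit false
set_option maxHeartbeats 1000000

namespace Cfsg.Agent.Grp.FT

open Subgroup Cfsg.Agent.Transfer Cfsg.Agent.Transfer.Loc

universe u

variable {G : Type u} [Group G] [Finite G] {M K Ms U : Subgroup G}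

omit [Finite G] in
/-- Multiplication decomposition with the factors exchanged. -/
theorem compl_exists_mul {A B X : Subgroup G} (h : Cfsg.IsComplIn A B X) {x : G} (hx : x ∈ X) :
    ∃ a ∈ A, ∃ b ∈ B, x = a * b :=
  h.2.2.2 x hx

/-- The overgroup of the normaliser of a Sylow subgroup of `U`. -/
theorem exists_over (h : KappaPair M K Ms) (hKU : Cfsg.IsSigmaDecomposition M K U) (hU : U ≠ ⊥) :
    ∃ H : Subgroup G, IsCoatom H ∧ Cfsg.kappa H = ∅ ∧ U ≤ Cfsg.sigmaCore H ∧ M ⊓ H = U ⊔ K ∧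
      ¬ H ⊓ normalizer (U : Set G) ≤ M ∧ centralizer (U : Set G) ≤ H ∧
      K ≤ Cfsg.fittingOf (H ⊓ Ms) ∧ Cfsg.IsComplIn (H ⊓ Ms) (Cfsg.sigmaCore H) H := by
  obtain ⟨r, hr, hrU⟩ := Nat.exists_prime_and_dvd fun e => hU (Subgroup.card_eq_one.1 e)
  haveI := Fact.mk hr
  let R : Sylow r U := default
  set R' := (R : Subgroup U).map U.subtype
  have hRU : R' ≤ U := map_subtype_le _
  have hR1 : R' ≠ ⊥ := fun e => R.ne_bot_of_dvd_card hrU
    (Subgroup.map_injective U.subtype_injective (e.trans (Subgroup.map_bot _).symm))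
  obtain ⟨H, hH, hNH⟩ := exists_coatom_normalizer h.hG (K := R') hR1
    fun e => h.hM.1 (top_le_iff.1 (e ▸ hRU.trans hKU.compl.1))
  obtain ⟨h1, h2, h3, h4, h5, h6⟩ :=
    Cfsg.Agent.S1435.result h.hG M h.hM K U hKU h.hK1 hU Ms h.hMs h.dual.symm h.hall r hrU R H hH hNH
  exact ⟨H, hH, h1, h2, h3, h4,
    ((centralizer_le hRU).trans (centralizer_le_normalizer _)).trans hNH, h5, h6⟩

section
variable (h : KappaPair M K Ms) (hKU : Cfsg.IsSigmaDecomposition M K U) (hU : U ≠ ⊥)
include h hKU hU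

/-- `U` has no fixed point on the core. -/
theorem sigmaCore_inf_centralizer_U : Cfsg.sigmaCore M ⊓ centralizer (U : Set G) = ⊥ := by
  obtain ⟨H, -, -, -, hMH, -, hCH, -⟩ := exists_over h hKU hU
  refine le_bot_iff.1 ((le_inf ?_ inf_le_left).trans (decomp_compl h.hG h.hM hKU).1.2.2.1.le)
  exact (inf_le_inf (TransHyp.piCoreOf_le M) hCH).trans hMH.le

/-- The order of a `U K`-invariant subgroup of the core. -/
theorem card_invariant {X : Subgroup G} (hX : X ≤ Cfsg.sigmaCore M)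
    (hN : U ⊔ K ≤ normalizer (X : Set G)) :
    Nat.card X = Nat.card ↥(X ⊓ centralizer (K : Set G)) ^ Nat.card K := by
  haveI := solvable_of_ne_top h.hG h.hM.1
  obtain ⟨hE, hcard, -⟩ := decomp_compl h.hG h.hM hKU
  obtain ⟨-, -, hcop, hcopU⟩ := derived_compl h.hG h.hM hKU h.hK1
  have hUK : U ⊓ K = ⊥ := le_bot_iff.1 ((inf_le_inf_left U le_sup_left).trans hKU.compl.2.2.1.le)
  have hdisj : X ⊓ (U ⊔ K) = ⊥ := le_bot_iff.1 (((inf_le_inf_right _ hX).trans (inf_comm _ _).le).trans hE.2.2.1.le)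
  have hcK : (Nat.card (Cfsg.sigmaCore M)).Coprime (Nat.card K) :=
    hcop.coprime_dvd_left (card_dvd_of_le (derived_compl h.hG h.hM hKU h.hK1).1.1)
  have hcopX : (Nat.card X).Coprime (Nat.card ↥(U ⊔ K)) := by
    rw [hcard]
    exact (hcopU.mul_right hcK).coprime_dvd_left (card_dvd_of_le hX)
  have key := Cfsg.Agent.S1545.result U K X hU h.hK1 hUK
    (fun e he u hu => Grp.mem_conj_normalizer (hKU.normal he) hu)
    (fun e he he1 u hu hc => by
      have h1 : u ∈ U ⊓ centralizer ({e} : Set G) := ⟨hu, mem_centralizer_singleton_iff.2 hc.symm⟩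
      rwa [(decomp_facts h.hG h.hM hKU).2.1 e he he1, mem_bot] at h1)
    (fun x hx y hy => Grp.mem_conj_normalizer (hN hx) hy) hdisj
    (Cfsg.Agent.Transfer.Loc.isSolvable_of_le (hX.trans (TransHyp.piCoreOf_le M))) hcopX
  have h0 : X ⊓ centralizer (U : Set G) = ⊥ :=
    le_bot_iff.1 ((inf_le_inf_right _ hX).trans (sigmaCore_inf_centralizer_U h hKU hU).le)
  have h0' : X ⊓ centralizer ((U ⊔ K : Subgroup G) : Set G) = ⊥ :=
    le_bot_iff.1 ((inf_le_inf_left X (centralizer_le (SetLike.coe_subset_coe.2 le_sup_left))).trans h0.le)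
  rw [h0, h0', Subgroup.card_bot, one_pow, one_mul, mul_one] at key
  exact key

/-- `M_σ` has order `p ^ q` and is irreducible under `U K`. -/
theorem card_core_and_irred (hp : (Nat.card (kStar M K)).Prime) :
    Nat.card (Cfsg.sigmaCore M) = Nat.card (kStar M K) ^ Nat.card K ∧
      ∀ X : Subgroup G, X ≤ Cfsg.sigmaCore M → X ≠ ⊥ → U ⊔ K ≤ normalizer (X : Set G) →
        X = Cfsg.sigmaCore M := by
  have hN : U ⊔ K ≤ normalizer (Cfsg.sigmaCore M : Set G) :=
    (sup_le hKU.compl.1 h.hK.1).trans (TransHyp.le_normalizer_piCoreOf M)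
  have hc := card_invariant h hKU hU le_rfl hN
  refine ⟨hc, fun X hX hX1 hXN => Subgroup.eq_of_le_of_card_ge hX ?_⟩
  have hcX := card_invariant h hKU hU hX hXN
  rcases (Nat.dvd_prime hp).1 (card_dvd_of_le (inf_le_inf_right (centralizer (K : Set G)) hX) :
      Nat.card ↥(X ⊓ centralizer (K : Set G)) ∣ Nat.card (kStar M K)) with e | e
  · rw [e, one_pow, Subgroup.card_eq_one] at hcX
    exact absurd hcX hX1
  · rw [hcX, e, hc]

/-- `M_σ` is elementary abelian. -/
theorem core_elementary (hp : (Nat.card (kStar M K)).Prime) :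
    Cfsg.IsElementaryAbelian (Nat.card (kStar M K)) (Cfsg.sigmaCore M) := by
  obtain ⟨hc, hirr⟩ := card_core_and_irred h hKU hU hp
  set P := Cfsg.sigmaCore M
  set p := Nat.card (kStar M K)
  haveI := Fact.mk hp
  have hN : U ⊔ K ≤ normalizer (P : Set G) :=
    (sup_le hKU.compl.1 h.hK.1).trans (TransHyp.le_normalizer_piCoreOf M)
  haveI : Nontrivial P := (Subgroup.nontrivial_iff_ne_bot _).2 (sigmaCore_ne_bot h.hG h.hM)
  have hPp : IsPGroup p P := IsPGroup.of_card hc
  have hz := hPp.center_nontrivial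
  set Z := (Subgroup.center P).map P.subtype
  have hZ1 : Z ≠ ⊥ := fun e => (Subgroup.nontrivial_iff_ne_bot _).1 hz
    (Subgroup.map_injective P.subtype_injective (e.trans (Subgroup.map_bot _).symm))
  have hZN : U ⊔ K ≤ normalizer (Z : Set G) := Grp.PiHall.le_normalizer_of_conj_mem fun x hx z hz => by
    obtain ⟨z, hzc, rfl⟩ := hz
    refine ⟨⟨x * (z : G) * x⁻¹, Grp.mem_conj_normalizer (hN hx) z.2⟩, Subgroup.mem_center_iff.2 fun y => ?_, rfl⟩
    have h1 := congrArg Subtype.val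
      (Subgroup.mem_center_iff.1 hzc ⟨x⁻¹ * (y : G) * x⁻¹⁻¹, Grp.mem_conj_normalizer (inv_mem (hN hx)) y.2⟩)
    simp only [Subgroup.coe_mul, inv_inv] at h1
    refine Subtype.ext ?_
    show (y : G) * (x * z * x⁻¹) = x * z * x⁻¹ * y
    calc (y : G) * (x * z * x⁻¹) = x * (x⁻¹ * (y : G) * x * z) * x⁻¹ := by group
      _ = x * ((z : G) * (x⁻¹ * (y : G) * x)) * x⁻¹ := by rw [h1]
      _ = x * z * x⁻¹ * y := by group
  have hZP : Z = P := hirr Z (map_subtype_le _) hZ1 hZN
  have hab : ∀ a ∈ P, ∀ b ∈ P, a * b = b * a := by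
    intro a ha b hb
    rw [← hZP] at ha
    obtain ⟨a, hac, rfl⟩ := ha
    exact (congrArg Subtype.val (Subgroup.mem_center_iff.1 hac ⟨b, hb⟩)).symm
  refine ⟨⟨⟨fun a b => Subtype.ext (hab a a.2 b b.2)⟩⟩, ?_⟩
  let Ω : Subgroup G :=
    { carrier := {x | x ∈ P ∧ x ^ p = 1}
      one_mem' := ⟨P.one_mem, one_pow _⟩
      mul_mem' := fun {a b} ha hb => ⟨P.mul_mem ha.1 hb.1, by
        rw [(show Commute a b from hab a ha.1 b hb.1).mul_pow, ha.2, hb.2, one_mul]⟩
      inv_mem' := fun {a} ha => ⟨P.inv_mem ha.1, by rw [inv_pow, ha.2, inv_one]⟩ }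
  have hΩN : U ⊔ K ≤ normalizer (Ω : Set G) := Grp.PiHall.le_normalizer_of_conj_mem fun x hx z hz =>
    ⟨Grp.mem_conj_normalizer (hN hx) hz.1, by rw [conj_pow, hz.2, mul_one, mul_inv_cancel]⟩
  have hstar : kStar M K ≤ Ω := fun z hz =>
    ⟨hz.1, orderOf_dvd_iff_pow_eq_one.1 (Subgroup.orderOf_dvd_natCard _ hz)⟩
  have hΩ : Ω = P := hirr Ω (fun z hz => hz.1) (fun e => h.star1 (le_bot_iff.1 (e ▸ hstar))) hΩN
  intro a ha
  rw [← hΩ] at ha
  exact ha.2

/-- A member of type II of a pair gives a side. -/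
theorem side_of_decomp (hp : (Nat.card (kStar M K)).Prime) :
    Side M (Cfsg.fittingHallOf M) U (U ⊓ centralizer (Cfsg.fittingHallOf M : Set G)) K (kStar M K)
      (Nat.card (kStar M K)) (Nat.card K) := by
  have hG := h.hG
  have hM := h.hM
  have hK1 := h.hK1
  haveI := Fact.mk hp
  have hFP := fittingHallOf_of_U hG hM hKU hU
  obtain ⟨hab, -⟩ := Cfsg.Agent.S1363.result hG M hM K U hKU hK1
  obtain ⟨hq, hti, -⟩ := Cfsg.Agent.S1372.result hG M hM K U hKU hK1 hU
  obtain ⟨h1, -, hcop, hcopU⟩ := derived_compl hG hM hKU hK1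
  obtain ⟨-, -, -, hcopS, -⟩ := kStar_facts hG hM h.hK
  obtain ⟨hc, hirr⟩ := card_core_and_irred h hKU hU hp
  have hel := core_elementary h hKU hU hp
  have htp := isTypePWith_of hG hM hKU hK1 (isNilpotent_of_comm hab) hKU.normal (hFP.symm ▸ h1)
  have hdvd : Nat.card (kStar M K) ∣ Nat.card (Cfsg.sigmaCore M) := card_dvd_of_le inf_le_left
  exact
    { hG := hG
      hM := hM
      hp := hp
      hq := hq
      hpq := fun e => hp.ne_one (by
        have h' := hcop.coprime_dvd_left (hdvd.trans (card_dvd_of_le h1.1))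
        rw [← e] at h'
        exact (Nat.coprime_self _).1 h')
      card₁ := rfl
      card₂ := rfl
      self := htp.selfNormalizing
      elem := hFP.symm ▸ hel
      card_P := hFP.symm ▸ hc
      W₂_le := htp.W₂_le.trans inf_le_left
      norm_P := le_normalizer_fittingHallOf M
      compl := htp.U_compl
      compl₁ := htp.W₁_compl
      fix := htp.W₂_centralizer
      nilp_U := isNilpotent_of_comm hab
      comm_quot := by
        refine Subgroup.commutator_le.2 fun a ha b hb => ?_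
        rw [commutatorElement_def, show a * b = b * a from congrArg Subtype.val (hab.is_comm.comm ⟨a, ha⟩ ⟨b, hb⟩)]
        simp
      norm_U := hKU.normal
      free₁ := (decomp_facts hG hM hKU).2.1
      coprime := (hcopU.coprime_dvd_left hdvd).symm
      coprime₁ := hcop.coprime_dvd_left (card_dvd_of_le h1.2.1)
      C_eq := rfl
      C_lt := by
        refine lt_of_le_of_ne inf_le_left fun e => sigmaCore_ne_bot hG hM ?_
        refine le_bot_iff.1 ((le_inf le_rfl ?_).trans (sigmaCore_inf_centralizer_U h hKU hU).le)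
        rw [← hFP]
        exact le_centralizer_iff.1 (inf_eq_left.1 e)
      irred := fun X hX hX1 hN => hFP.symm ▸ hirr X (hX.trans hFP.le) hX1 hN
      fit := by
        obtain ⟨-, hfe, hfle⟩ := Cfsg.Agent.S1356.result hG M hM
        refine le_antisymm (hfe.le.trans (sup_le (fun c hc' => ?_) le_sup_left))
          (hfe.ge.trans' (sup_le le_sup_right (le_sup_left.trans' (inf_le_inf_right _ hKU.compl.1))))
        obtain ⟨q', hq', hqd⟩ := Nat.exists_prime_and_dvd fun e => hK1 (Subgroup.card_eq_one.1 e)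
        have hcM' : c ∈ ⁅M, M⁆ := hfle ⟨q', h.hK.2.1 q' hq' hqd⟩ (hfe.ge (mem_sup_left hc'))
        obtain ⟨y, hy, u, hu, rfl⟩ := htp.U_compl.2.2.2 c hcM'
        refine mul_mem (mem_sup_left hy) (mem_sup_right ⟨hu, mem_centralizer_iff.2 fun z hz => ?_⟩)
        have h2 : z * (y * u) = y * u * z := mem_centralizer_iff.1 hc'.2 z hz
        have h3 : z * y = y * z := congrArg Subtype.val
          ((hFP.symm ▸ hel).1.is_comm.comm (⟨z, hz⟩ : Cfsg.fittingHallOf M) ⟨y, hy⟩)
        rw [← mul_assoc, h3, mul_assoc, mul_assoc] at h2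
        exact mul_left_cancel h2
      ti := hti }

end

namespace Pair

variable {S T W₁ W₂ : Subgroup G} (h : Pair S T W₁ W₂)
include h

/-- The side of `S`. -/
theorem side_S (hp : (Nat.card W₂).Prime) :
    ∃ U C : Subgroup G, Side S (Cfsg.fittingHallOf S) U C W₁ W₂ (Nat.card W₂) (Nat.card W₁) := by
  obtain ⟨U, hU, hU1⟩ := h.decomp_S
  have h1 := side_of_decomp h.kp hU hU1 (h.star.symm ▸ hp)
  rw [h.star] at h1
  exact ⟨_, _, h1⟩

/-- The side of `T` of type II. -/
theorem side_T (hT : Cfsg.IsOfTypeII T) :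
    ∃ V D : Subgroup G, Side T (Cfsg.fittingHallOf T) V D W₂ W₁ (Nat.card W₁) (Nat.card W₂) :=
  (h.symm_of_typeII hT).side_S h.prime₁

end Pair

/-- `|U| ≡ 1 (mod q)` and `U ≠ 1` on a side. -/
theorem Side.card_U_mod {P C W₁ W₂ : Subgroup G} {p q : ℕ} (hs : Side M P U C W₁ W₂ p q) :
    q ∣ Nat.card U - 1 ∧ U ≠ ⊥ := by
  refine ⟨?_, fun e => not_lt_bot (e ▸ hs.C_lt)⟩
  haveI := Fact.mk hs.hq
  have hK : IsPGroup q W₁ := IsPGroup.of_card (n := 1) (hs.card₁.trans (pow_one q).symm)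
  letI : MulAction W₁ U := MulAction.compHom U (U.normalizerMonoidHom.comp (Subgroup.inclusion hs.norm_U))
  have hfp : MulAction.fixedPoints W₁ U = {1} := by
    obtain ⟨x, hx, hx1⟩ := (bot_or_exists_ne_one W₁).resolve_left
      fun e => hs.hq.ne_one (by rw [← hs.card₁, e, Subgroup.card_bot])
    refine Set.eq_singleton_iff_unique_mem.2 ⟨fun w => map_one (U.normalizerMonoidHom (Subgroup.inclusion hs.norm_U w)),
      fun u hu => Subtype.ext ?_⟩
    have h1 : x * (u : G) * x⁻¹ = u := congrArg Subtype.val (hu ⟨x, hx⟩)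
    have h2 : (u : G) ∈ U ⊓ centralizer ({x} : Set G) :=
      ⟨u.2, mem_centralizer_singleton_iff.2 (mul_inv_eq_iff_eq_mul.1 h1).symm⟩
    rwa [hs.free₁ x hx hx1, mem_bot] at h2
  have h := hK.card_modEq_card_fixedPoints (α := U)
  rw [hfp, Nat.card_eq_fintype_card (α := ({1} : Set U)), Set.card_singleton] at h
  exact (Nat.modEq_iff_dvd' Nat.card_pos).1 h.symm

end Cfsg.Agent.Grp.FT
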