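import Cfsg.Agent.Lib.Grp.FT.MuCoef
import Cfsg.Agent.Lib.Grp.FT.SetupFinale
import Cfsg.Agent.Lib.Grp.FT.Arith

/-!
Counting the linear characters of `P × C`: the weight of a side, the two cases, and the shape of `u`.
-/

set_option autoImplicit false
set_option linter.unusedSectionVars false
set_option linter.style.haveILetI false
set_option maxHeartbeats 1000000

namespace Cfsg.Agent.Grp.FT

open Subgroup Cfsg.Agent.Char Cfsg.Agent.Transfer Cfsg.Agent.Transfer.Loc
open scoped Pointwise commutatorElement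

attribute [local instance] _root_.Classical.propDecidable

universe u

variable {G : Type u} [Group G] [Fintype G]

/-- The linear characters of a finite group. -/
theorem card_linHom (H : Type u) [Group H] [Finite H] :
    Nat.card (H →* ℂˣ) = (_root_.commutator H).index := by
  haveI : Finite (Abelianization H) := inferInstanceAs (Finite (H ⧸ _root_.commutator H))
  haveI : NeZero (Monoid.exponent (Abelianization H)) := ⟨Monoid.exponent_ne_zero_of_finite⟩
  haveI : HasEnoughRootsOfUnity ℂ (Monoid.exponent (Abelianization H)) := inferInstance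
  exact (Nat.card_congr Abelianization.lift).trans
    ((CommGroup.card_monoidHom_of_hasEnoughRootsOfUnity _ ℂ).trans (_root_.commutator H).index_eq_card.symm)

theorem finite_linHom (H : Type u) [Group H] [Finite H] : Finite (H →* ℂˣ) :=
  Nat.finite_of_card_ne_zero (by rw [card_linHom]; exact index_ne_zero_of_finite)

/-- The linear characters of a subgroup. -/
theorem card_linHom_subgroup (C : Subgroup G) : Nat.card (↥C →* ℂˣ) = (⁅C, C⁆).relIndex C := by
  rw [card_linHom]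
  have e : (⁅C, C⁆).subgroupOf C = _root_.commutator C := by
    rw [← map_subtype_commutator, subgroupOf, comap_map_eq_self_of_injective C.subtype_injective]
  rw [relIndex, e]

theorem card_subtype_ne {α : Type*} [Finite α] (a : α) : Nat.card {x : α // x ≠ a} = Nat.card α - 1 := by
  haveI := Fintype.ofFinite α
  simp [Nat.card_eq_fintype_card, Fintype.card_subtype_compl]

/-- The linear characters of `P × C` nontrivial on `P`. -/
def ntChar (P C : Subgroup G) : Set (↥(P ⊔ C) →* ℂˣ) := {l | ∃ y : ↥(P ⊔ C), (y : G) ∈ P ∧ l y ≠ 1}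

namespace Side

variable {M P U C A B : Subgroup G} {p q : ℕ} (hs : Side M P U C A B p q)
include hs

theorem exists_gen : ∃ a ∈ A, a ≠ 1 ∧ ∀ x ∈ A, x ∈ zpowers a := by
  obtain ⟨a, ha, ha1⟩ := (bot_or_exists_ne_one A).resolve_left
    fun e => hs.hq.ne_one (by rw [← hs.card₁, e, Subgroup.card_bot])
  refine ⟨a, ha, ha1, fun x hx => ?_⟩
  rcases (Nat.dvd_prime hs.hq).1 (hs.card₁ ▸ card_dvd_of_le (zpowers_le.2 ha)) with h | h
  · rw [Subgroup.card_eq_one, zpowers_eq_bot] at h; exact absurd h ha1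
  · rw [Subgroup.eq_of_le_of_card_ge (zpowers_le.2 ha) (by rw [h, hs.card₁])]; exact hx

theorem orderOf_gen {a : G} (ha : a ∈ A) (ha1 : a ≠ 1) : orderOf a = q :=
  ((Nat.dvd_prime hs.hq).1 (hs.card₁ ▸ Subgroup.orderOf_dvd_natCard A ha)).resolve_left
    fun e => ha1 (orderOf_eq_one_iff.1 e)

/-- Every element of `U a` is conjugate to `a` by an element of `U`. -/
theorem exists_conj_A {a u : G} (ha : a ∈ A) (ha1 : a ≠ 1) (hu : u ∈ U) :
    ∃ t ∈ U, u * a = t⁻¹ * a * t := by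
  let φ : U → U := fun v => ⟨(v : G)⁻¹ * (a * v * a⁻¹),
    U.mul_mem (U.inv_mem v.2) (Grp.mem_conj_normalizer (hs.norm_U ha) v.2)⟩
  have hinj : Function.Injective φ := fun v v' e => by
    have e' : (v : G)⁻¹ * (a * v * a⁻¹) = (v' : G)⁻¹ * (a * v' * a⁻¹) := congrArg Subtype.val e
    have h1 : (v : G) * (v' : G)⁻¹ ∈ U ⊓ centralizer ({a} : Set G) := ⟨U.mul_mem v.2 (U.inv_mem v'.2),
      mem_centralizer_singleton_iff.2 <| calc
        (v : G) * (v' : G)⁻¹ * a = v * ((v' : G)⁻¹ * (a * v' * a⁻¹)) * a * (v' : G)⁻¹ := by group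
        _ = v * ((v : G)⁻¹ * (a * v * a⁻¹)) * a * (v' : G)⁻¹ := by rw [e']
        _ = a * (v * (v' : G)⁻¹) := by group⟩
    rw [hs.free₁ a ha ha1, mem_bot, mul_inv_eq_one] at h1
    exact Subtype.ext h1
  obtain ⟨t, ht⟩ := Finite.injective_iff_surjective.1 hinj ⟨u, hu⟩
  refine ⟨t, t.2, ?_⟩
  rw [← show (t : G)⁻¹ * (a * t * a⁻¹) = u from congrArg Subtype.val ht]
  group

/-- A character fixed by a nonidentity element of `A` is one of the `lam g`. -/
theorem eq_lam {l : ↥(P ⊔ C) →* ℂˣ} (hl : l ∈ ntChar P C) {a : G} (ha : a ∈ A) (ha1 : a ≠ 1)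
    (hf : Fixes a l) : ∃ g : ↥B →* ℂˣ, g ≠ 1 ∧ l = hs.lam g := by
  have hfA : ∀ b ∈ A, Fixes b l := by
    let X : Subgroup G :=
      { carrier := {v | v ∈ A ∧ Fixes v l}
        one_mem' := ⟨A.one_mem, fixes_of_mem hs.PC_le hs.M_norm_PC (one_mem _) l⟩
        mul_mem' := fun {a b} ha hb => ⟨A.mul_mem ha.1 hb.1, fixes_mul hs.PC_le hs.M_norm_PC (hs.A_le hb.1) l ha.2 hb.2⟩
        inv_mem' := fun {a} ha => ⟨A.inv_mem ha.1, fun y z e => (ha.2 z y (by rw [← e]; group)).symm⟩ }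
    have hXA : X ≤ A := fun v hv => hv.1
    have hX : X = A := by
      rcases (Nat.dvd_prime hs.hq).1 (hs.card₁ ▸ card_dvd_of_le hXA) with h | h
      · exact absurd (mem_bot.1 ((Subgroup.card_eq_one.1 h).le (show a ∈ X from ⟨ha, hf⟩))) ha1
      · exact Subgroup.eq_of_le_of_card_ge hXA (by rw [h, hs.card₁])
    exact fun b hb => (hX.ge hb).2
  have hC : ∀ x : ↥(P ⊔ C), (x : G) ∈ C → l x = 1 := by
    intro x hx
    have haC := hs.A_le_normalizer_C ha
    let φ : C → C := fun c => ⟨(c : G)⁻¹ * (a * c * a⁻¹),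
      C.mul_mem (C.inv_mem c.2) (Grp.mem_conj_normalizer haC c.2)⟩
    have hinj : Function.Injective φ := fun c c' e => by
      have e' : (c : G)⁻¹ * (a * c * a⁻¹) = (c' : G)⁻¹ * (a * c' * a⁻¹) := congrArg Subtype.val e
      have h1 : (c : G) * (c' : G)⁻¹ ∈ U ⊓ centralizer ({a} : Set G) :=
        ⟨U.mul_mem (hs.C_lt.le c.2) (U.inv_mem (hs.C_lt.le c'.2)), mem_centralizer_singleton_iff.2 <| calc
          (c : G) * (c' : G)⁻¹ * a = c * ((c' : G)⁻¹ * (a * c' * a⁻¹)) * a * (c' : G)⁻¹ := by group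
          _ = c * ((c : G)⁻¹ * (a * c * a⁻¹)) * a * (c' : G)⁻¹ := by rw [e']
          _ = a * (c * (c' : G)⁻¹) := by group⟩
      rw [hs.free₁ a ha ha1, mem_bot, mul_inv_eq_one] at h1
      exact Subtype.ext h1
    obtain ⟨d, hd⟩ := Finite.injective_iff_surjective.1 hinj ⟨x, hx⟩
    have hd' : a * (d : G) * a⁻¹ ∈ P ⊔ C := mem_sup_right (Grp.mem_conj_normalizer haC d.2)
    rw [show x = (⟨d, mem_sup_right d.2⟩ : ↥(P ⊔ C))⁻¹ * ⟨_, hd'⟩ from
      Subtype.ext (congrArg Subtype.val hd).symm, map_mul, map_inv,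
      hf ⟨d, mem_sup_right d.2⟩ ⟨_, hd'⟩ rfl, inv_mul_cancel]
  let g : ↥B →* ℂˣ := l.comp (Subgroup.inclusion (hs.W₂_le.trans le_sup_left))
  have hlg : l = hs.lam g := hs.isLam_eq (g := g)
    ⟨hfA, hC, fun x b hx => congrArg l (Subtype.ext hx)⟩ (hs.lam_spec g)
  refine ⟨g, fun e => ?_, hlg⟩
  obtain ⟨y, hy, hy1⟩ := hl
  rw [hlg, e, hs.lam_one] at hy1
  exact hy1 rfl

/-- The characters conjugate to some `lam g`, `g ≠ 1`. -/
def lamConj (hs : Side M P U C A B p q) : Set (↥(P ⊔ C) →* ℂˣ) :=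
  {l | ∃ g : ↥B →* ℂˣ, g ≠ 1 ∧ ∃ x ∈ M, ConjEq x l (hs.lam g)}

/-- An irregular character nontrivial on `P` is conjugate to some `lam g` or is fixed only inside `M'`. -/
theorem irregular_cases {l : ↥(P ⊔ C) →* ℂˣ} (hl : l ∈ ntChar P C) :
    l ∈ hs.lamConj ∨ ∀ x ∈ M, Fixes x l → x ∈ ⁅M, M⁆ := by
  refine or_iff_not_imp_right.2 fun h => ?_
  push Not at h
  obtain ⟨x, hx, hf, hx'⟩ := h
  obtain ⟨y, hy, u, hu, a, ha, rfl⟩ := hs.decomp hx
  have hPC := hs.PC_le
  have hN := hs.M_norm_PC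
  have hyM : y ∈ M := hs.PC_le (mem_sup_left hy)
  have ha1 : a ≠ 1 := fun e => hx' (by
    rw [e, mul_one]; exact mul_mem (hs.compl.1 hy) (hs.compl.2.1 hu))
  have hua : Fixes (u * a) l := by
    rw [show u * a = y⁻¹ * (y * u * a) by group]
    exact fixes_mul hPC hN hx l (fixes_of_mem hPC hN (inv_mem (mem_sup_left hy)) l) hf
  obtain ⟨t, ht, e⟩ := hs.exists_conj_A ha ha1 hu
  rw [e] at hua
  have htM := hs.U_le ht
  have hmem : ∀ z : ↥(P ⊔ C), t⁻¹ * (z : G) * t ∈ P ⊔ C := fun z => by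
    simpa using conj_mem_of_mem hPC hN (inv_mem htM) z
  let l' : ↥(P ⊔ C) →* ℂˣ := MonoidHom.mk' (fun z => l ⟨_, hmem z⟩) fun a b => by
    rw [← map_mul]; congr 1; exact Subtype.ext (by simp [mul_assoc])
  have hl' : l' ∈ ntChar P C := by
    obtain ⟨w, hw, hw1⟩ := hl
    refine ⟨⟨_, conj_mem_of_mem hPC hN htM w⟩, Grp.mem_conj_normalizer (hs.norm_P htM) hw, ?_⟩
    show l ⟨_, hmem ⟨_, conj_mem_of_mem hPC hN htM w⟩⟩ ≠ 1
    rwa [show (⟨_, hmem ⟨_, conj_mem_of_mem hPC hN htM w⟩⟩ : ↥(P ⊔ C)) = w from Subtype.ext (by simp [mul_assoc])]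
  have hfa : Fixes a l' := fun z w hzw => hua ⟨_, hmem z⟩ ⟨_, hmem w⟩ (by
    show t⁻¹ * a * t * (t⁻¹ * (z : G) * t) * (t⁻¹ * a * t)⁻¹ = t⁻¹ * (w : G) * t
    rw [← hzw]; group)
  obtain ⟨g, hg, hgl⟩ := hs.eq_lam hl' ha ha1 hfa
  refine ⟨g, hg, t⁻¹, inv_mem htM, fun z w hzw => ?_⟩
  rw [← hgl]
  show l w = l ⟨_, hmem z⟩
  exact congrArg l (Subtype.ext (by rw [← hzw, inv_inv]))

theorem lamConj_nt {l : ↥(P ⊔ C) →* ℂˣ} (hl : l ∈ hs.lamConj) : l ∈ ntChar P C := by
  haveI : Fintype M := Fintype.ofFinite _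
  haveI := finite_linHom ↥(P ⊔ C)
  letI := Fintype.ofFinite (↥(P ⊔ C) →* ℂˣ)
  obtain ⟨g, hg, x, hx, h⟩ := hl
  exact hs.lam_orbit_ne hg (hs.mem_orbit.2 ⟨x, hx, h⟩)

theorem lamConj_not_reg {l : ↥(P ⊔ C) →* ℂˣ} (hl : l ∈ hs.lamConj) : l ∉ regChar M P C := by
  haveI : Fintype M := Fintype.ofFinite _
  obtain ⟨g, -, x, hx, h⟩ := hl
  exact fun hr => hs.reg_not_conj_lam hr g hx h

/-- The number of conjugates of the fixed characters. -/
theorem ncard_lamConj : hs.lamConj.ncard = (p - 1) * C.relIndex U := by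
  haveI : Fintype M := Fintype.ofFinite _
  haveI := finite_linHom ↥(P ⊔ C)
  letI := Fintype.ofFinite (↥(P ⊔ C) →* ℂˣ)
  haveI := finite_linHom ↥B
  letI := Fintype.ofFinite (↥B →* ℂˣ)
  have e : hs.lamConj = ↑((Finset.univ.erase (1 : ↥B →* ℂˣ)).biUnion fun g => hs.orbit (hs.lam g)) := by
    ext l
    simp only [lamConj, Set.mem_ofPred_eq, Finset.coe_biUnion, Set.mem_iUnion, Finset.mem_coe, Finset.mem_erase,
      Finset.mem_univ, and_true, hs.mem_orbit, exists_prop]
  rw [e, Set.ncard_coe_finset, Finset.card_biUnion fun g hg g' hg' hne => ?_]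
  · rw [Finset.sum_eq_card_nsmul fun g hg => hs.card_orbit_lam (Finset.ne_of_mem_erase hg), smul_eq_mul,
      Finset.card_erase_of_mem (Finset.mem_univ _), Finset.card_univ, ← Nat.card_eq_fintype_card, card_linHom_subgroup]
    congr
    rw [Subgroup.commutator_eq_bot_iff_le_centralizer.2 fun x hx => mem_centralizer_iff.2 fun y hy =>
      hs.comm_P (hs.W₂_le hy) (hs.W₂_le hx), relIndex_bot_left, hs.card₂]
  · rw [Function.onFun, Finset.disjoint_left]
    intro l hl hl'
    obtain ⟨x, hx, h⟩ := hs.mem_orbit.1 hl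
    obtain ⟨x', hx', h'⟩ := hs.mem_orbit.1 hl'
    refine hne (hs.conjEq_lam (m := x⁻¹ * x') (Finset.ne_of_mem_erase hg') (mul_mem (inv_mem hx) hx') ?_).1
    intro y z e
    rw [← h z ⟨_, conj_mem_of_mem hs.PC_le hs.M_norm_PC hx z⟩ rfl,
      h' y ⟨_, conj_mem_of_mem hs.PC_le hs.M_norm_PC hx z⟩ (by
        show x' * (y : G) * x'⁻¹ = x * (z : G) * x⁻¹
        rw [← e]; group)]

/-- The weight is the number of controlled characters. -/
theorem weight_eq : weight M P U C p = (hs.lamConj ∪ regChar M P C).ncard := by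
  haveI := finite_linHom ↥(P ⊔ C)
  rw [Set.ncard_union_eq (Set.disjoint_left.2 fun l => hs.lamConj_not_reg), hs.ncard_lamConj, weight]

/-- The characters of `P × C` are the pairs of characters of `P` and of `C`. -/
theorem exists_split : ∃ e : (↥(P ⊔ C) →* ℂˣ) ≃ (↥P →* ℂˣ) × (↥C →* ℂˣ),
    ∀ l, (e l).1 = l.comp (Subgroup.inclusion le_sup_left) := by
  let φ : ↥P × ↥C →* ↥(P ⊔ C) := MonoidHom.noncommCoprod (Subgroup.inclusion le_sup_left)
    (Subgroup.inclusion le_sup_right) fun y z => Subtype.ext (hs.comm_PC y.2 z.2)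
  have hval : ∀ w : ↥P × ↥C, (φ w : G) = (w.1 : G) * w.2 := fun w => rfl
  have hφ : Function.Bijective φ := by
    refine ⟨(MonoidHom.ker_eq_bot_iff φ).1 ?_, fun w => ?_⟩
    · rw [Subgroup.eq_bot_iff_forall]
      intro x hx
      have h : (x.1 : G) * x.2 = 1 := congrArg Subtype.val (MonoidHom.mem_ker.1 hx)
      have h1 : (x.1 : G) ∈ P ⊓ C := Subgroup.mem_inf.2 ⟨x.1.2, (eq_inv_of_mul_eq_one_left h).symm ▸ C.inv_mem x.2.2⟩
      rw [hs.P_inf_C, mem_bot] at h1
      exact Prod.ext (Subtype.ext h1) (Subtype.ext (by simpa [h1] using h))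
    · obtain ⟨y, hy, z, hz, e⟩ := hs.mem_PC w.2
      exact ⟨(⟨y, hy⟩, ⟨z, hz⟩), Subtype.ext e.symm⟩
  let e := MulEquiv.ofBijective φ hφ
  refine ⟨{
    toFun := fun l => (l.comp (Subgroup.inclusion le_sup_left), l.comp (Subgroup.inclusion le_sup_right))
    invFun := fun w => (w.1.comp (MonoidHom.fst _ _) * w.2.comp (MonoidHom.snd _ _)).comp e.symm.toMonoidHom
    left_inv := fun l => ?_
    right_inv := fun w => ?_ }, fun l => rfl⟩
  · refine MonoidHom.ext fun x => ?_
    obtain ⟨x, rfl⟩ := hφ.2 x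
    show l (Subgroup.inclusion le_sup_left (e.symm (e x)).1) * l (Subgroup.inclusion le_sup_right (e.symm (e x)).2) = l (φ x)
    rw [MulEquiv.symm_apply_apply, ← map_mul]
    rfl
  · refine Prod.ext (MonoidHom.ext fun y => ?_) (MonoidHom.ext fun z => ?_)
    · show w.1 (e.symm (Subgroup.inclusion le_sup_left y)).1 * w.2 (e.symm (Subgroup.inclusion le_sup_left y)).2 = w.1 y
      rw [show Subgroup.inclusion le_sup_left y = e (y, 1) from Subtype.ext (by
        show (y : G) = (φ (y, 1) : G); rw [hval]; simp), MulEquiv.symm_apply_apply, map_one, mul_one]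
    · show w.1 (e.symm (Subgroup.inclusion le_sup_right z)).1 * w.2 (e.symm (Subgroup.inclusion le_sup_right z)).2 = w.2 z
      rw [show Subgroup.inclusion le_sup_right z = e (1, z) from Subtype.ext (by
        show (z : G) = (φ (1, z) : G); rw [hval]; simp), MulEquiv.symm_apply_apply, map_one, one_mul]

/-- Counting the characters whose restriction to `P` has a given property. -/
theorem ncard_res (S : Set (↥P →* ℂˣ)) :
    {l : ↥(P ⊔ C) →* ℂˣ | l.comp (Subgroup.inclusion le_sup_left) ∈ S}.ncard =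
      S.ncard * (⁅C, C⁆).relIndex C := by
  obtain ⟨e, he⟩ := hs.exists_split
  rw [← Nat.card_coe_set_eq, ← Nat.card_coe_set_eq, ← card_linHom_subgroup, ← Nat.card_prod]
  refine Nat.card_congr ((e.subtypeEquiv fun l => ?_).trans (Equiv.prodSubtypeFstEquivSubtypeProd (p := fun a => a ∈ S)))
  show _ ↔ (e l).1 ∈ S
  rw [he]; rfl

theorem card_linHom_P : Nat.card (↥P →* ℂˣ) = p ^ q := by
  rw [card_linHom_subgroup, Subgroup.commutator_eq_bot_iff_le_centralizer.2 fun x hx =>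
    mem_centralizer_iff.2 fun y hy => hs.comm_P hy hx, relIndex_bot_left, hs.card_P]

theorem ntChar_eq : ntChar P C =
    {l : ↥(P ⊔ C) →* ℂˣ | l.comp (Subgroup.inclusion le_sup_left) ∈ ({1}ᶜ : Set (↥P →* ℂˣ))} := by
  ext l
  constructor
  · rintro ⟨y, hy, hy1⟩ h
    exact hy1 (DFunLike.congr_fun (Set.mem_singleton_iff.1 h) ⟨y, hy⟩)
  · intro h
    by_contra hn
    refine h (Set.mem_singleton_iff.2 (MonoidHom.ext fun y => ?_))
    by_contra hy
    exact hn ⟨_, y.2, hy⟩

theorem ncard_ntChar : (ntChar P C).ncard = (p ^ q - 1) * (⁅C, C⁆).relIndex C := by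
  haveI := finite_linHom ↥P
  rw [hs.ntChar_eq, hs.ncard_res, Set.ncard_compl, Set.ncard_singleton, hs.card_linHom_P]

/-! ### The Galois case -/

/-- In the Galois case the stabiliser in `U` of a character nontrivial on `P` is `C`. -/
theorem galois_fixes (hg : Galois P U) {l : ↥(P ⊔ C) →* ℂˣ} (hl : l ∈ ntChar P C) {u : G} (hu : u ∈ U)
    (hf : Fixes u l) : u ∈ C := by
  have huP : u ∈ normalizer (P : Set G) := hs.norm_P (hs.U_le hu)
  by_contra huC
  have hfix : P ⊓ centralizer ({u} : Set G) = ⊥ := by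
    by_contra hne
    have hN : U ≤ normalizer ((P ⊓ centralizer ({u} : Set G) : Subgroup G) : Set G) :=
      Grp.PiHall.le_normalizer_of_conj_mem fun v hv x hx => by
        refine ⟨Grp.mem_conj_normalizer (hs.norm_P (hs.U_le hv)) hx.1, mem_centralizer_singleton_iff.2 ?_⟩
        have h1 : x * u = u * x := mem_centralizer_singleton_iff.1 hx.2
        have hc : u⁻¹ * v⁻¹ * u * v ∈ C := by
          have := hs.comm_quot (commutator_mem_commutator (U.inv_mem hu) (U.inv_mem hv))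
          rwa [commutatorElement_def, inv_inv, inv_inv] at this
        have h2 : x * (v⁻¹ * u * v) = v⁻¹ * u * v * x := by
          rw [show v⁻¹ * u * v = u * (u⁻¹ * v⁻¹ * u * v) by group, ← mul_assoc, h1, mul_assoc,
            hs.comm_PC hx.1 hc, ← mul_assoc]
        calc v * x * v⁻¹ * u = v * (x * (v⁻¹ * u * v)) * v⁻¹ := by group
          _ = v * (v⁻¹ * u * v * x) * v⁻¹ := by rw [h2]
          _ = u * (v * x * v⁻¹) := by group
    have h := hg _ inf_le_left hne hN
    exact huC (hs.C_eq.le ⟨hu, mem_centralizer_iff.2 fun y hy =>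
      mem_centralizer_singleton_iff.1 (inf_eq_left.1 h hy)⟩)
  let ψ : P → P := fun y => ⟨u * y * u⁻¹ * (y : G)⁻¹,
    P.mul_mem (Grp.mem_conj_normalizer huP y.2) (P.inv_mem y.2)⟩
  have hinj : Function.Injective ψ := fun y y' e => by
    have e' : u * (y : G) * u⁻¹ * (y : G)⁻¹ = u * y' * u⁻¹ * (y' : G)⁻¹ := congrArg Subtype.val e
    have h1 : (y' : G)⁻¹ * y ∈ P ⊓ centralizer ({u} : Set G) := by
      refine ⟨P.mul_mem (P.inv_mem y'.2) y.2, mem_centralizer_singleton_iff.2 ?_⟩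
      have h2 : u * ((y' : G)⁻¹ * y) * u⁻¹ = (y' : G)⁻¹ * y := by
        calc u * ((y' : G)⁻¹ * y) * u⁻¹ = (u * y' * u⁻¹ * (y' : G)⁻¹ * y')⁻¹ * (u * y * u⁻¹ * (y : G)⁻¹ * y) := by group
          _ = (y' : G)⁻¹ * ((u * y' * u⁻¹ * (y' : G)⁻¹)⁻¹ * (u * y * u⁻¹ * (y : G)⁻¹)) * y := by group
          _ = (y' : G)⁻¹ * y := by rw [e', inv_mul_cancel, mul_one]
      exact (mul_inv_eq_iff_eq_mul.1 h2).symm
    rw [hfix, mem_bot, inv_mul_eq_one] at h1
    exact Subtype.ext h1.symm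
  obtain ⟨w, hw, hw1⟩ := hl
  obtain ⟨y, hy⟩ := Finite.injective_iff_surjective.1 hinj ⟨w, hw⟩
  refine hw1 ?_
  have hy' : u * (y : G) * u⁻¹ ∈ P ⊔ C := mem_sup_left (Grp.mem_conj_normalizer huP y.2)
  rw [show w = (⟨_, hy'⟩ : ↥(P ⊔ C)) * (⟨y, mem_sup_left y.2⟩)⁻¹ from Subtype.ext (congrArg Subtype.val hy).symm,
    map_mul, map_inv, hf ⟨y, mem_sup_left y.2⟩ ⟨_, hy'⟩ rfl, mul_inv_cancel]

/-- A fixing element inside `M'` gives one in `U`. -/
theorem fixes_derived {l : ↥(P ⊔ C) →* ℂˣ} {x : G} (hx : x ∈ ⁅M, M⁆) (hf : Fixes x l) :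
    ∃ y ∈ P, ∃ u ∈ U, x = y * u ∧ Fixes u l := by
  obtain ⟨y, hy, u, hu, rfl⟩ := hs.compl.2.2.2 x hx
  refine ⟨y, hy, u, hu, rfl, ?_⟩
  rw [show u = y⁻¹ * (y * u) by group]
  exact fixes_mul hs.PC_le hs.M_norm_PC (M.commutator_le_self hx) l
    (fixes_of_mem hs.PC_le hs.M_norm_PC (inv_mem (mem_sup_left hy)) l) hf

theorem galois_irregular (hg : Galois P U) {l : ↥(P ⊔ C) →* ℂˣ} (hl : l ∈ ntChar P C)
    (hr : l ∉ regChar M P C) : l ∈ hs.lamConj := by
  refine (hs.irregular_cases hl).resolve_right fun h => hr ⟨hl, fun x hx hf => ?_⟩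
  obtain ⟨y, hy, u, hu, rfl, hfu⟩ := hs.fixes_derived (h x hx hf) hf
  exact mul_mem (mem_sup_left hy) (mem_sup_right (hs.galois_fixes hg hl hu hfu))

/-- The weight in the Galois case. -/
theorem galois_weight (hg : Galois P U) : weight M P U C p = (⁅C, C⁆).relIndex C * (p ^ q - 1) := by
  rw [hs.weight_eq, mul_comm, ← hs.ncard_ntChar]
  congr 1
  ext l
  refine ⟨fun h => h.elim hs.lamConj_nt fun h => h.1, fun h => ?_⟩
  by_cases hr : l ∈ regChar M P C
  · exact Or.inr hr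
  · exact Or.inl (hs.galois_irregular hg h hr)

/-- In the Galois case `U / C` embeds into the units of a field and is prime to `p - 1`. -/
theorem galois_u (hg : Galois P U) :
    C.relIndex U ∣ ∑ i ∈ Finset.range q, p ^ i ∧ (C.relIndex U).Coprime (p - 1) ∧ (C = ⊥ → IsCyclic U) := by
  haveI := Fact.mk hs.hp
  letI : CommGroup P := { mul_comm := fun a b => hs.elem.1.is_comm.comm a b }
  let V := Additive P
  have hUP : U ≤ normalizer (P : Set G) := hs.U_le.trans hs.norm_P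
  let ρ : U → AddMonoid.End V := fun u =>
    MonoidHom.toAdditive (P.normalizerMonoidHom (Subgroup.inclusion hUP u)).toMonoidHom
  have hρ : ∀ (u : U) (v : V), ((Additive.toMul (ρ u v) : P) : G) = (u : G) * ((Additive.toMul v : P) : G) * (u : G)⁻¹ :=
    fun _ _ => rfl
  have hext : ∀ a b : V, ((Additive.toMul a : P) : G) = ((Additive.toMul b : P) : G) → a = b :=
    fun a b h => Additive.toMul.injective (Subtype.ext h)
  have hρmul : ∀ u v : U, ρ (u * v) = ρ u * ρ v := fun u v => AddMonoidHom.ext fun x => hext _ _ (by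
    show (u : G) * v * ((Additive.toMul x : P) : G) * ((u : G) * v)⁻¹ =
      (u : G) * ((v : G) * ((Additive.toMul x : P) : G) * (v : G)⁻¹) * (u : G)⁻¹
    group)
  have hρC : ∀ u : U, ρ u = 1 ↔ (u : G) ∈ C := fun u => by
    constructor
    · intro e
      refine hs.C_eq.le ⟨u.2, mem_centralizer_iff.2 fun y hy => ?_⟩
      have h1 := congrArg (fun f : AddMonoid.End V => ((Additive.toMul (f (Additive.ofMul ⟨y, hy⟩)) : P) : G)) e
      change (u : G) * y * (u : G)⁻¹ = y at h1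
      exact (mul_inv_eq_iff_eq_mul.1 h1).symm
    · intro hu
      refine AddMonoidHom.ext fun x => hext _ _ ?_
      show (u : G) * ((Additive.toMul x : P) : G) * (u : G)⁻¹ = ((Additive.toMul x : P) : G)
      rw [← hs.comm_PC (Additive.toMul x : P).2 hu, mul_inv_cancel_right]
  have hρone : ρ 1 = 1 := (hρC 1).2 C.one_mem
  have hcomm : ∀ u v : U, ρ u * ρ v = ρ v * ρ u := fun u v => by
    rw [← hρmul, ← hρmul, show u * v = ⁅u, v⁆ * (v * u) by rw [commutatorElement_def]; group, hρmul,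
      (hρC ⁅u, v⁆).2 (hs.comm_quot (commutator_mem_commutator u.2 v.2)), one_mul]
  let R := Subring.closure (Set.range ρ)
  letI : CommRing R := Subring.closureCommRingOfComm (fun x hx y hy => by
    obtain ⟨u, rfl⟩ := hx
    obtain ⟨v, rfl⟩ := hy
    exact hcomm u v)
  have hmemR : ∀ u, ρ u ∈ R := fun u => Subring.subset_closure ⟨u, rfl⟩
  have hirr : ∀ A : AddSubgroup V, (∀ u, ∀ v ∈ A, ρ u v ∈ A) → A = ⊥ ∨ A = ⊤ := by
    intro A hA
    let X : Subgroup G := (AddSubgroup.toSubgroup' A).map P.subtype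
    by_cases hX1 : X = ⊥
    · refine Or.inl ((AddSubgroup.eq_bot_iff_forall _).2 fun v hv => ?_)
      have h1 : ((Additive.toMul v : P) : G) ∈ X := ⟨Additive.toMul v, hv, rfl⟩
      rw [hX1, mem_bot] at h1
      exact hext _ _ h1
    · refine Or.inr (eq_top_iff.2 fun v _ => ?_)
      have hXN : U ≤ normalizer (X : Set G) := Grp.PiHall.le_normalizer_of_conj_mem fun u hu y hy => by
        obtain ⟨a, ha, rfl⟩ := hy
        exact ⟨Additive.toMul (ρ ⟨u, hu⟩ (Additive.ofMul a)), hA ⟨u, hu⟩ _ ha, rfl⟩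
      have h1 : ((Additive.toMul v : P) : G) ∈ X := (hg X (map_subtype_le _) hX1 hXN).ge (Additive.toMul v).2
      obtain ⟨a, ha, hae⟩ := h1
      rw [← hext (Additive.ofMul a) v hae]
      exact ha
  have hker : ∀ z : R, z ≠ 0 → ∀ v, (z : AddMonoid.End V) v = 0 → v = 0 := by
    intro z hz v hv
    let zh : V →+ V := (z : AddMonoid.End V)
    rcases hirr zh.ker (fun u w hw => by
      have hzu : (z : AddMonoid.End V) * ρ u = ρ u * z := congrArg Subtype.val (mul_comm z ⟨ρ u, hmemR u⟩)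
      rw [AddMonoidHom.mem_ker] at hw ⊢
      calc (z : AddMonoid.End V) (ρ u w) = ρ u ((z : AddMonoid.End V) w) := DFunLike.congr_fun hzu w
        _ = 0 := by rw [show (z : AddMonoid.End V) w = 0 from hw, map_zero]) with h | h
    · exact (AddSubgroup.eq_bot_iff_forall _).mp h v (AddMonoidHom.mem_ker.mpr hv)
    · refine absurd (Subtype.ext (AddMonoidHom.ext fun w => ?_)) hz
      exact AddMonoidHom.mem_ker.mp (h.ge (AddSubgroup.mem_top w))
  haveI : Nontrivial P := (Subgroup.nontrivial_iff_ne_bot _).2 fun e => by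
    have h := hs.card_P
    rw [e, Subgroup.card_bot] at h
    exact hs.hp.ne_one ((pow_eq_one_iff.1 h.symm).resolve_right hs.hq.ne_zero)
  obtain ⟨v₀, hv₀⟩ := exists_ne (0 : V)
  let ev : R →+ V :=
    { toFun := fun z => (z : AddMonoid.End V) v₀, map_zero' := rfl, map_add' := fun _ _ => rfl }
  have hinj : Function.Injective ev := by
    rw [injective_iff_map_eq_zero]
    intro z hz
    by_contra h
    exact hv₀ (hker z h v₀ hz)
  have hsurj : Function.Surjective ev := by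
    rw [← AddMonoidHom.range_eq_top]
    refine (hirr ev.range ?_).resolve_left fun h => hv₀ ?_
    · rintro u _ ⟨z, rfl⟩
      exact ⟨⟨ρ u, hmemR u⟩ * z, rfl⟩
    · exact (AddSubgroup.eq_bot_iff_forall _).mp h v₀ ⟨1, rfl⟩
  haveI : Finite V := Finite.of_equiv P Additive.ofMul
  haveI : Finite R := Finite.of_injective ev hinj
  haveI : Nontrivial R := ⟨0, 1, fun e => hv₀ (congrArg ev e).symm⟩
  haveI : NoZeroDivisors R := ⟨fun {x y} hxy => by
    by_contra h
    push Not at h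
    refine h.2 (hinj ?_)
    show (y : AddMonoid.End V) v₀ = 0
    exact hker x h.1 _ (congrArg ev hxy)⟩
  haveI : IsDomain R := NoZeroDivisors.to_isDomain R
  letI : Fintype R := Fintype.ofFinite R
  letI : Field R := Fintype.fieldOfDomain R
  have hcardR : Nat.card R = p ^ q := by
    rw [Nat.card_congr (AddEquiv.ofBijective ev ⟨hinj, hsurj⟩).toEquiv]
    exact (Nat.card_congr Additive.toMul).trans hs.card_P
  let ψ₀ : U →* R :=
    { toFun := fun u => ⟨ρ u, hmemR u⟩
      map_one' := Subtype.ext hρone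
      map_mul' := fun u v => Subtype.ext (hρmul u v) }
  let ψ : U →* Rˣ := ψ₀.toHomUnits
  have hψ : ∀ u : U, ψ u = 1 ↔ (u : G) ∈ C := fun u => by
    rw [← hρC]
    exact ⟨fun e => congrArg (fun z : Rˣ => ((z : R) : AddMonoid.End V)) e, fun e => Units.ext (Subtype.ext e)⟩
  have hkerψ : ψ.ker = C.subgroupOf U := by
    ext u; rw [MonoidHom.mem_ker, hψ, Subgroup.mem_subgroupOf]
  have hidx : C.relIndex U = Nat.card ψ.range := by
    rw [Subgroup.relIndex, ← hkerψ, Subgroup.index_ker]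
  have hcop : (C.relIndex U).Coprime (p - 1) := by
    refine Nat.coprime_of_dvd fun r hr h1 h2 => ?_
    haveI := Fact.mk hr
    obtain ⟨⟨ζ, t, rfl⟩, hζ⟩ := exists_prime_orderOf_dvd_card' (G := ψ.range) r (hidx ▸ h1)
    replace hζ : orderOf (ψ t) = r := (Subgroup.orderOf_coe (⟨ψ t, t, rfl⟩ : ψ.range)).trans hζ
    have hpow : (ψ t : R) ^ p = ψ t := by
      have h3 : (ψ t) ^ (p - 1) = 1 := orderOf_dvd_iff_pow_eq_one.1 (hζ ▸ h2)
      rw [← Nat.sub_add_cancel hs.hp.one_le, pow_succ, ← Units.val_pow_eq_pow_val, h3, Units.val_one, one_mul]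
    have hchar : ∀ z : R, p • z = 0 := fun z => hinj (by
      rw [map_nsmul, map_zero]
      exact Additive.toMul.injective (Subtype.ext (hs.elem.2 _ (Additive.toMul (ev z)).2)))
    haveI : CharP R p := by
      obtain ⟨c, hc⟩ := CharP.exists R
      rcases (Nat.dvd_prime hs.hp).mp ((CharP.cast_eq_zero_iff R c p).mp (by simpa using hchar 1)) with rfl | rfl
      · exfalso
        have h0 : ((1 : ℕ) : R) = 0 := (CharP.cast_eq_zero_iff R 1 1).mpr dvd_rfl
        rw [Nat.cast_one] at h0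
        exact one_ne_zero h0
      · exact hc
    obtain ⟨n, hn⟩ : ∃ n : ℕ, (ψ t : R) = (n : R) := by
      by_contra hc
      push Not at hc
      have hnz : (Polynomial.X ^ p - Polynomial.X : Polynomial R) ≠ 0 :=
        FiniteField.X_pow_card_sub_X_ne_zero R hs.hp.one_lt
      have hsub : insert (ψ t : R) ((Finset.range p).image fun n : ℕ => (n : R)) ⊆
          (Polynomial.X ^ p - Polynomial.X : Polynomial R).roots.toFinset := by
        intro z hz
        rw [Multiset.mem_toFinset, Polynomial.mem_roots hnz]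
        rcases Finset.mem_insert.1 hz with rfl | hz
        · simp [Polynomial.IsRoot, hpow]
        · obtain ⟨n, -, rfl⟩ := Finset.mem_image.1 hz
          have h0 : (n : R) ^ p = n := map_natCast (frobenius R p) n
          simp [Polynomial.IsRoot, h0]
      have h3 := (Finset.card_le_card hsub).trans ((Multiset.toFinset_card_le _).trans (Polynomial.card_roots' _))
      rw [FiniteField.X_pow_card_sub_X_natDegree_eq R hs.hp.one_lt, Finset.card_insert_of_notMem
        (by simp only [Finset.mem_image, not_exists, not_and]; exact fun n _ e => hc n e.symm),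
        Finset.card_image_of_injOn, Finset.card_range] at h3
      · omega
      · intro a ha b hb hab
        have h4 := (CharP.natCast_eq_natCast R p).1 hab
        rwa [Nat.ModEq, Nat.mod_eq_of_lt (Finset.mem_range.1 ha), Nat.mod_eq_of_lt (Finset.mem_range.1 hb)] at h4
    -- a scalar commutes with `A`
    have hscal : ∀ y ∈ P, (t : G) * y * (t : G)⁻¹ = y ^ n := fun y hy => by
      have h4 : (ψ t : R).val (Additive.ofMul (⟨y, hy⟩ : P)) = n • Additive.ofMul (⟨y, hy⟩ : P) := by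
        rw [hn]
        push_cast
        exact AddMonoid.End.natCast_apply n _
      exact congrArg (fun a : V => ((Additive.toMul a : P) : G)) h4
    obtain ⟨a, ha, ha1, -⟩ := hs.exists_gen
    have haP : a ∈ normalizer (P : Set G) := hs.A_norm_P ha
    have htC : (t : G) ∈ C := hs.free_mod ha ha1 t.2 (hs.C_eq.le
      ⟨U.mul_mem (U.inv_mem t.2) (Grp.mem_conj_normalizer (hs.norm_U ha) t.2), mem_centralizer_iff.2 fun y hy => by
        have hy' : a⁻¹ * y * a ∈ P := Grp.mem_conj_normalizer' haP hy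
        have h4 : a * t * a⁻¹ * y * (a * t * a⁻¹)⁻¹ = (t : G) * y * (t : G)⁻¹ := by
          calc a * t * a⁻¹ * y * (a * t * a⁻¹)⁻¹ = a * (t * (a⁻¹ * y * a) * (t : G)⁻¹) * a⁻¹ := by group
            _ = a * (a⁻¹ * y * a) ^ n * a⁻¹ := by rw [hscal _ hy']
            _ = (a * (a⁻¹ * y * a) * a⁻¹) ^ n := conj_pow.symm
            _ = (t : G) * y * (t : G)⁻¹ := by
              rw [hscal y hy]; congr 1; group
        calc y * ((t : G)⁻¹ * (a * t * a⁻¹)) = (t : G)⁻¹ * (t * y * (t : G)⁻¹) * (a * t * a⁻¹) := by group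
          _ = (t : G)⁻¹ * (a * t * a⁻¹ * y * (a * t * a⁻¹)⁻¹) * (a * t * a⁻¹) := by rw [h4]
          _ = (t : G)⁻¹ * (a * t * a⁻¹) * y := by group⟩)
    rw [(hψ t).2 htC, orderOf_one] at hζ
    exact hr.ne_one hζ.symm
  refine ⟨?_, hcop, fun hC => ?_⟩
  · refine hcop.dvd_of_dvd_mul_right ?_
    rw [Arith.gsum_mul p q hs.hp.one_le, ← hcardR, ← Nat.card_units R, hidx]
    exact card_subgroup_dvd_card _
  · refine isCyclic_of_injective ψ ((MonoidHom.ker_eq_bot_iff ψ).1 ?_)
    rw [hkerψ, hC, bot_subgroupOf]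

/-! ### The other case -/

/-- Outside the Galois case `P` is spanned by the `A`-conjugates of a `U`-invariant line. -/
theorem exists_line (hg : ¬ Galois P U) : ∃ X : Subgroup G, X ≤ P ∧ Nat.card X = p ∧ U ≤ normalizer (X : Set G) ∧
    ∀ Y : Subgroup G, (∀ b ∈ A, MulAut.conj b • X ≤ Y) → P ≤ Y := by
  let Inv : Subgroup G → Prop := fun X => X ≤ P ∧ X ≠ ⊥ ∧ U ≤ normalizer (X : Set G)
  have hconjN : ∀ {X : Subgroup G} {b : G}, b ∈ A → U ≤ normalizer (X : Set G) →
      U ≤ normalizer ((MulAut.conj b • X : Subgroup G) : Set G) := fun {X b} hb hX =>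
    Grp.PiHall.le_normalizer_of_conj_mem fun v hv y hy => by
      obtain ⟨x, hx, rfl⟩ := hy
      refine ⟨(b⁻¹ * v * b) * x * (b⁻¹ * v * b)⁻¹,
        Grp.mem_conj_normalizer (hX (Grp.mem_conj_normalizer' (hs.norm_U hb) hv)) hx, ?_⟩
      show b * ((b⁻¹ * v * b) * x * (b⁻¹ * v * b)⁻¹) * b⁻¹ = v * (b * x * b⁻¹) * v⁻¹
      group
  have hex : ∃ X, Inv X := ⟨P, le_rfl, fun e => hs.hp.ne_one (by
    have h := hs.card_P
    rw [e, Subgroup.card_bot] at h
    exact (pow_eq_one_iff.1 h.symm).resolve_right hs.hq.ne_zero), hs.U_le.trans hs.norm_P⟩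
  obtain ⟨X, ⟨hXP, hX1, hXU⟩, hmin⟩ : ∃ X, Inv X ∧ ∀ Y, Inv Y → Y ≤ X → X ≤ Y := by
    obtain ⟨X, hX⟩ := (Set.toFinite {X : Subgroup G | Inv X}).exists_minimal hex
    exact ⟨X, hX.1, fun Y hY hle => hX.2 hY hle⟩
  have hbP : ∀ b ∈ A, MulAut.conj b • X ≤ P := fun b hb =>
    (Subgroup.pointwise_smul_le_pointwise_smul_iff.2 hXP).trans_eq (Grp.mem_normalizer_iff_smul.1 (hs.A_norm_P hb))
  have hgen : ∀ Y : Subgroup G, (∀ b ∈ A, MulAut.conj b • X ≤ Y) → P ≤ Y := by
    intro Y hY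
    let Z : Subgroup G := ⨅ Y' ∈ {Y' : Subgroup G | ∀ b ∈ A, MulAut.conj b • X ≤ Y'}, Y'
    have hZ : ∀ b ∈ A, MulAut.conj b • X ≤ Z := fun b hb => le_iInf₂ fun Y' hY' => hY' b hb
    have hZP : Z ≤ P := iInf₂_le P hbP
    have hXZ : X ≤ Z := by simpa using hZ 1 A.one_mem
    have hmemZ : ∀ {g : G}, g ∈ Z ↔ ∀ Y' : Subgroup G, (∀ b ∈ A, MulAut.conj b • X ≤ Y') → g ∈ Y' := fun {g} => by
      simp only [Z, Subgroup.mem_iInf, Set.mem_ofPred_eq]
    have hZN : U ⊔ A ≤ normalizer (Z : Set G) := by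
      have key : ∀ v, (∀ b ∈ A, ∃ b' ∈ A, MulAut.conj v⁻¹ • MulAut.conj b' • X = MulAut.conj b • X) →
          ∀ z ∈ Z, v * z * v⁻¹ ∈ Z := by
        intro v hv z hz
        rw [hmemZ]
        intro Y' hY'
        have h := hmemZ.1 hz (MulAut.conj v⁻¹ • Y') fun b hb => by
          obtain ⟨b', hb', e⟩ := hv b hb
          rw [← e]
          exact Subgroup.pointwise_smul_le_pointwise_smul_iff.2 (hY' b' hb')
        obtain ⟨w, hw, e⟩ := h
        have e' : v⁻¹ * w * v⁻¹⁻¹ = z := e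
        rwa [← e', show v * (v⁻¹ * w * v⁻¹⁻¹) * v⁻¹ = w by group]
      refine sup_le (Grp.PiHall.le_normalizer_of_conj_mem fun v hv => key v fun b hb => ⟨b, hb, ?_⟩)
        (Grp.PiHall.le_normalizer_of_conj_mem fun a ha => key a fun b hb => ⟨a * b, A.mul_mem ha hb, ?_⟩)
      · exact Grp.mem_normalizer_iff_smul.1 (hconjN hb hXU (U.inv_mem hv))
      · rw [Grp.conj_smul_conj_smul, inv_mul_cancel_left]
    have hZeq := hs.irred Z hZP (fun e => hX1 (le_bot_iff.1 (hXZ.trans e.le))) hZN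
    exact hZeq.ge.trans (iInf₂_le Y hY)
  obtain ⟨k, hk, hXk⟩ := (Nat.dvd_prime_pow hs.hp).1 (hs.card_P ▸ card_dvd_of_le hXP)
  have hk0 : k ≠ 0 := fun e => hX1 (Subgroup.card_eq_one.1 (by rw [hXk, e, pow_zero]))
  have hstep : ∀ n, ∀ Y : Subgroup G, Y ≤ P → U ≤ normalizer (Y : Set G) → (∃ j, Nat.card Y = p ^ (k * j)) →
      Nat.card P < Nat.card Y + n → k ∣ q := by
    intro n
    induction n with
    | zero => intro Y hY _ _ h; have := Nat.le_of_dvd Nat.card_pos (card_dvd_of_le hY); omega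
    | succ n ih =>
      rintro Y hY hYU ⟨j, hj⟩ hlt
      by_cases hYP : P ≤ Y
      · rw [le_antisymm hY hYP, hs.card_P] at hj
        exact ⟨j, Nat.pow_right_injective hs.hp.two_le hj⟩
      · obtain ⟨b, hb, hbY⟩ : ∃ b ∈ A, ¬ MulAut.conj b • X ≤ Y := by
          by_contra h
          push Not at h
          exact hYP (hgen Y h)
        have hint : MulAut.conj b • X ⊓ Y = ⊥ := by
          by_contra hne
          have hWX : MulAut.conj b⁻¹ • (MulAut.conj b • X ⊓ Y) ≤ X :=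
            (Subgroup.pointwise_smul_le_pointwise_smul_iff.2 inf_le_left).trans_eq (by
              rw [Grp.conj_smul_conj_smul, inv_mul_cancel, map_one, one_smul])
          have hW : Inv (MulAut.conj b⁻¹ • (MulAut.conj b • X ⊓ Y)) := by
            refine ⟨hWX.trans hXP, fun e => hne ?_,
              hconjN (A.inv_mem hb) (Grp.le_normalizer_inf' (hconjN hb hXU) hYU)⟩
            have h1 := congrArg (fun W : Subgroup G => MulAut.conj b • W) e
            simpa [Grp.conj_smul_conj_smul] using h1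
          refine hbY (le_trans ?_ (inf_le_right : MulAut.conj b • X ⊓ Y ≤ Y))
          have h1 := Subgroup.pointwise_smul_le_pointwise_smul_iff (a := MulAut.conj b).2 (hmin _ hW hWX)
          rwa [Grp.conj_smul_conj_smul, mul_inv_cancel, map_one, one_smul] at h1
        have hbN : MulAut.conj b • X ≤ normalizer (Y : Set G) := fun x hx => by
          rw [Subgroup.mem_normalizer_iff]
          intro y
          have key : ∀ z ∈ P, x * z * x⁻¹ = z := fun z hz => by
            rw [hs.comm_P (hbP b hb hx) hz, mul_inv_cancel_right]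
          refine ⟨fun hy => by rwa [key y (hY hy)], fun hy => ?_⟩
          have hyP : y ∈ P := by
            have := P.mul_mem (P.mul_mem (P.inv_mem (hbP b hb hx)) (hY hy)) (hbP b hb hx)
            simpa [mul_assoc] using this
          rwa [key y hyP] at hy
        have hc := Grp.card_sup_mul_card_inf hbN
        rw [hint, Subgroup.card_bot, mul_one, Grp.card_conj_smul, hXk, hj, ← pow_add] at hc
        refine ih (MulAut.conj b • X ⊔ Y) (sup_le (hbP b hb) hY) ?_ ⟨j + 1, by rw [hc]; ring_nf⟩ ?_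
        · intro v hv
          rw [Grp.mem_normalizer_iff_smul, Subgroup.smul_sup, Grp.mem_normalizer_iff_smul.1 (hconjN hb hXU hv),
            Grp.mem_normalizer_iff_smul.1 (hYU hv)]
        · have h2 : Nat.card Y < Nat.card ↥(MulAut.conj b • X ⊔ Y) := by
            rw [hc, hj, add_comm]
            exact Nat.pow_lt_pow_right hs.hp.one_lt (by omega)
          omega
  have hkq : k ∣ q := hstep (Nat.card P + 1) ⊥ bot_le
    (fun v _ => by rw [Subgroup.mem_normalizer_iff]; simp [mul_inv_eq_one]) ⟨0, by simp⟩ (by rw [Subgroup.card_bot]; omega)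
  refine ⟨X, hXP, ?_, hXU, hgen⟩
  rcases (Nat.dvd_prime hs.hq).1 hkq with rfl | rfl
  · rw [hXk, pow_one]
  · refine absurd (fun Y hY hY1 hYU => ?_) hg
    have hXeq : X = P := Subgroup.eq_of_le_of_card_ge hXP (by rw [hXk, hs.card_P])
    exact le_antisymm hY (hXeq ▸ hmin Y ⟨hY, hY1, hYU⟩ (hY.trans hXeq.ge))

theorem C_le_centralizer_line {X : Subgroup G} (hXP : X ≤ P) : C ≤ centralizer (X : Set G) :=
  hs.C_le_centralizer.trans (centralizer_le hXP)

theorem mem_C_of_centralizes_lines {X : Subgroup G}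
    (hgen : ∀ Y : Subgroup G, (∀ b ∈ A, MulAut.conj b • X ≤ Y) → P ≤ Y) {t : G} (ht : t ∈ U)
    (h : ∀ b ∈ A, MulAut.conj b • X ≤ centralizer ({t} : Set G)) : t ∈ C := by
  have h2 := hgen _ h
  exact hs.C_eq.le ⟨ht, mem_centralizer_iff.2 fun y hy => mem_centralizer_singleton_iff.1 (h2 hy)⟩

/-- The shape of `u` outside the Galois case. -/
theorem nonGalois_u (hg : ¬ Galois P U) : ∃ k, p = 2 * k + 1 ∧ C.relIndex U ∣ k ^ (q - 1) := by
  haveI := Fact.mk hs.hp
  haveI := Fact.mk hs.hq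
  obtain ⟨X, hXP, hXc, hXU, hgen⟩ := hs.exists_line hg
  have hp2 : p ≠ 2 := fun e => by
    have h1 : p ∣ Nat.card G := by
      rw [← hXc]; exact card_subgroup_dvd_card X
    exact Nat.not_even_iff_odd.2 hs.hG.1 (even_iff_two_dvd.2 (e ▸ h1))
  obtain ⟨k, hk⟩ := hs.hp.odd_of_ne_two hp2
  refine ⟨k, hk, ?_⟩
  haveI hXf : Fact (Nat.card X).Prime := ⟨hXc ▸ hs.hp⟩
  haveI : IsCyclic X := isCyclic_of_prime_card hXc
  obtain ⟨a, ha, ha1, hagen⟩ := hs.exists_gen
  have hao := hs.orderOf_gen ha ha1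
  have haq : a ^ q = 1 := hao ▸ pow_orderOf_eq_one a
  let T := (ZMod (Nat.card X))ˣ
  let e : MulAut X ≃* T := IsCyclic.mulAutMulEquiv X
  let χ : U →* T := e.toMonoidHom.comp (X.normalizerMonoidHom.comp (Subgroup.inclusion hXU))
  have hχ : ∀ t : U, χ t = 1 ↔ (t : G) ∈ centralizer (X : Set G) := fun t => by
    rw [show χ t = e (X.normalizerMonoidHom (Subgroup.inclusion hXU t)) from rfl, map_eq_one_iff e e.injective,
      ← MonoidHom.mem_ker, normalizerMonoidHom_ker, Subgroup.mem_subgroupOf]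
    rfl
  let K : Subgroup T := (powMonoidHom k : T →* T).ker
  have hK : Nat.card K = k := by
    rw [IsCyclic.card_powMonoidHom_ker, Nat.card_eq_fintype_card, ZMod.card_units, hXc,
      show p - 1 = 2 * k by omega]
    exact Nat.gcd_eq_right (dvd_mul_left k 2)
  have hχK : ∀ t : U, χ t ∈ K := fun t => by
    rw [MonoidHom.mem_ker, powMonoidHom_apply]
    refine orderOf_dvd_iff_pow_eq_one.1 (Nat.Coprime.dvd_of_dvd_mul_left (k := orderOf (χ t)) (m := 2) ?_ ?_)
    · refine Nat.Coprime.symm (Nat.prime_two.coprime_iff_not_dvd.2 fun h2 => ?_)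
      exact Nat.not_even_iff_odd.2 hs.hG.1 (even_iff_two_dvd.2 (h2.trans ((orderOf_map_dvd χ t).trans
        ((Subgroup.orderOf_coe t) ▸ orderOf_dvd_natCard (t : G)))))
    · refine (orderOf_dvd_natCard (χ t)).trans ?_
      rw [Nat.card_eq_fintype_card, ZMod.card_units, hXc, show p - 1 = 2 * k by omega]
  let cj : ℕ → U →* U := fun i => MonoidHom.mk'
    (fun t => ⟨a ^ i * (t : G) * (a ^ i)⁻¹, Grp.mem_conj_normalizer (hs.norm_U (A.pow_mem ha i)) t.2⟩)
    fun x y => Subtype.ext (by simp [mul_assoc])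
  let F : U →* (Fin (q - 1) → K) := MonoidHom.mk' (fun t i => ⟨χ (cj i t), hχK _⟩)
    fun x y => funext fun i => Subtype.ext (by simp)
  have hF : F.ker = C.subgroupOf U := by
    ext t
    rw [MonoidHom.mem_ker, Subgroup.mem_subgroupOf]
    refine ⟨fun h => ?_, fun hC => funext fun i => Subtype.ext ((hχ _).2 ?_)⟩
    swap
    · exact hs.C_le_centralizer_line hXP (Grp.mem_conj_normalizer (hs.A_le_normalizer_C (A.pow_mem ha _)) hC)
    have hlow : ∀ i < q - 1, χ (cj i t) = 1 := fun i hi => congrArg Subtype.val (congrFun h ⟨i, hi⟩)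
    have hw : ∀ n : ℕ, ∃ w : U, (w : G) = ((t : G) * a) ^ n * (a ^ n)⁻¹ ∧
        χ w = ∏ i ∈ Finset.range n, χ (cj i t) := by
      intro n
      induction n with
      | zero => exact ⟨1, by simp, by simp⟩
      | succ n ih =>
        obtain ⟨w, hw, hw'⟩ := ih
        refine ⟨w * cj n t, ?_, by rw [map_mul, hw', Finset.prod_range_succ]⟩
        show (w : G) * (a ^ n * (t : G) * (a ^ n)⁻¹) = _
        rw [hw, pow_succ ((t : G) * a), pow_succ a]
        group
    obtain ⟨w, hw, hw'⟩ := hw q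
    rw [haq, inv_one, mul_one] at hw
    have hwC : (w : G) ∈ C := by
      refine hs.free_mod ha ha1 w.2 ?_
      have h1 : a * (w : G) * a⁻¹ = (t : G)⁻¹ * w * t := by
        rw [hw, ← conj_pow]
        calc (a * ((t : G) * a) * a⁻¹) ^ q = ((t : G)⁻¹ * ((t : G) * a) * t) ^ q := by congr 1; group
          _ = _ := by
            have := conj_pow (i := q) (a := (t : G)⁻¹) (b := (t : G) * a)
            simpa using this
      rw [h1]
      have h2 := hs.comm_quot (commutator_mem_commutator (U.inv_mem w.2) (U.inv_mem t.2))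
      rw [commutatorElement_def, inv_inv, inv_inv] at h2
      rwa [show (w : G)⁻¹ * ((t : G)⁻¹ * w * t) = (w : G)⁻¹ * (t : G)⁻¹ * w * t by group]
    have hlast : χ (cj (q - 1) t) = 1 := by
      have h1 : χ w = 1 := (hχ w).2 (hs.C_le_centralizer_line hXP hwC)
      rw [hw', ← Nat.sub_add_cancel hs.hq.one_le, Finset.prod_range_succ,
        Finset.prod_eq_one fun i hi => hlow i (Finset.mem_range.1 hi), one_mul] at h1
      exact h1
    refine hs.mem_C_of_centralizes_lines hgen t.2 fun b hb => ?_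
    obtain ⟨i, hi, e⟩ : ∃ i, i < q ∧ a ^ i = b⁻¹ := by
      have h1 := mem_zpowers_iff_mem_range_orderOf.1 (hagen _ (A.inv_mem hb))
      rw [hao, Finset.mem_image] at h1
      obtain ⟨i, hi, e⟩ := h1
      exact ⟨i, Finset.mem_range.1 hi, e⟩
    have h1 : χ (cj i t) = 1 := by
      rcases Nat.lt_or_ge i (q - 1) with h | h
      · exact hlow i h
      · rw [show i = q - 1 by omega]; exact hlast
    have h2 := (hχ _).1 h1
    rintro _ ⟨x, hx, rfl⟩
    have h3 : x * (a ^ i * (t : G) * (a ^ i)⁻¹) = a ^ i * (t : G) * (a ^ i)⁻¹ * x :=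
      mem_centralizer_iff.1 h2 x hx
    rw [e, inv_inv] at h3
    refine mem_centralizer_singleton_iff.2 ?_
    show b * x * b⁻¹ * (t : G) = (t : G) * (b * x * b⁻¹)
    calc b * x * b⁻¹ * (t : G) = b * (x * (b⁻¹ * t * b)) * b⁻¹ := by group
      _ = b * (b⁻¹ * (t : G) * b * x) * b⁻¹ := by rw [h3]
      _ = (t : G) * (b * x * b⁻¹) := by group
  rw [Subgroup.relIndex, ← hF, Subgroup.index_ker]
  refine (card_subgroup_dvd_card F.range).trans ?_
  rw [Nat.card_fun, hK, Nat.card_eq_fintype_card, Fintype.card_fin]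

/-- The lower bound of the weight outside the Galois case. -/
theorem nonGalois_weight (hg : ¬ Galois P U) : (⁅C, C⁆).relIndex C * (p - 1) ^ q ≤ weight M P U C p := by
  haveI := Fact.mk hs.hp
  haveI := finite_linHom ↥P
  obtain ⟨X, hXP, hXc, hXU, hgen⟩ := hs.exists_line hg
  have hle : ∀ b : A, MulAut.conj (b : G) • X ≤ P := fun b =>
    (Subgroup.pointwise_smul_le_pointwise_smul_iff.2 hXP).trans_eq
      (Grp.mem_normalizer_iff_smul.1 (hs.A_norm_P b.2))
  let Φ : (↥P →* ℂˣ) → (b : A) → (↥(MulAut.conj (b : G) • X) →* ℂˣ) := fun l b =>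
    l.comp (Subgroup.inclusion (hle b))
  have hinj : Function.Injective Φ := fun l l' e => by
    have hY : ∀ b ∈ A, MulAut.conj b • X ≤ (l.eqLocus l').map P.subtype := fun b hb x hx =>
      ⟨⟨x, hle ⟨b, hb⟩ hx⟩,
        (DFunLike.congr_fun (congrFun e ⟨b, hb⟩) (⟨x, hx⟩ : ↥(MulAut.conj ((⟨b, hb⟩ : A) : G) • X)) :), rfl⟩
    refine MonoidHom.ext fun y => ?_
    obtain ⟨z, hz, hzy⟩ := hgen _ hY y.2
    rw [← show z = y from Subtype.ext hzy]
    exact hz
  have hcardX : ∀ b : A, Nat.card (↥(MulAut.conj (b : G) • X) →* ℂˣ) = p := fun b => by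
    rw [card_linHom_subgroup, Subgroup.commutator_eq_bot_iff_le_centralizer.2 fun x hx =>
      mem_centralizer_iff.2 fun y hy => hs.comm_P (hle b hy) (hle b hx), relIndex_bot_left, Grp.card_conj_smul, hXc]
  haveI : ∀ b : A, Finite (↥(MulAut.conj (b : G) • X) →* ℂˣ) := fun b => finite_linHom _
  letI : Fintype A := Fintype.ofFinite _
  have hpi : Nat.card ((b : A) → (↥(MulAut.conj (b : G) • X) →* ℂˣ)) = p ^ q := by
    rw [Nat.card_pi, Finset.prod_congr rfl fun b _ => hcardX b, Finset.prod_const, Finset.card_univ,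
      ← Nat.card_eq_fintype_card, hs.card₁]
  have hbij : Function.Bijective Φ :=
    hinj.bijective_of_nat_card_le (by rw [hpi, hs.card_linHom_P])
  let S : Set (↥P →* ℂˣ) := {l | ∀ b : A, Φ l b ≠ 1}
  have hS : S.ncard = (p - 1) ^ q := by
    rw [← Nat.card_coe_set_eq]
    have e1 := Nat.card_congr ((Equiv.ofBijective Φ hbij).subtypeEquiv (p := fun l => l ∈ S)
      (q := fun f => ∀ b : A, f b ≠ 1) fun l => Iff.rfl)
    refine e1.trans ?_
    rw [Nat.card_congr (Equiv.subtypePiEquivPi (p := fun (b : A) (f : ↥(MulAut.conj (b : G) • X) →* ℂˣ) => f ≠ 1)),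
      Nat.card_pi,
      Finset.prod_congr rfl fun b _ => (card_subtype_ne _).trans (by rw [hcardX b]), Finset.prod_const,
      Finset.card_univ, ← Nat.card_eq_fintype_card, hs.card₁]
  rw [hs.weight_eq, mul_comm, ← hS, ← hs.ncard_res S]
  haveI := finite_linHom ↥(P ⊔ C)
  refine Set.ncard_le_ncard (fun l hl => ?_)
  have hnt : l ∈ ntChar P C := by
    rw [hs.ntChar_eq]
    intro h
    exact hl 1 (by
      refine MonoidHom.ext fun x => ?_
      exact DFunLike.congr_fun (Set.mem_singleton_iff.1 h) _)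
  by_cases hr : l ∈ regChar M P C
  · exact Or.inr hr
  refine Or.inl ((hs.irregular_cases hnt).resolve_right fun h => hr ⟨hnt, fun x hx hf => ?_⟩)
  obtain ⟨y, hy, u, hu, rfl, hfu⟩ := hs.fixes_derived (h x hx hf) hf
  refine mul_mem (mem_sup_left hy) (mem_sup_right (hs.mem_C_of_centralizes_lines hgen hu fun b hb z hz => ?_))
  set Z := MulAut.conj b • X with hZ
  have hZP : Z ≤ P := hle ⟨b, hb⟩
  have hUZ : u ∈ normalizer (Z : Set G) := by
    rw [Grp.mem_normalizer_iff_smul, hZ, Grp.conj_smul_conj_smul,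
      show u * b = b * (b⁻¹ * u * b) by group, map_mul, mul_smul,
      Grp.mem_normalizer_iff_smul.1 (hXU (Grp.mem_conj_normalizer' (hs.norm_U hb) hu))]
  have hw : u * z * u⁻¹ * z⁻¹ ∈ Z := Z.mul_mem (Grp.mem_conj_normalizer hUZ hz) (Z.inv_mem hz)
  have hker : Φ (l.comp (Subgroup.inclusion le_sup_left)) ⟨b, hb⟩ ⟨_, hw⟩ = 1 := by
    show l ⟨u * z * u⁻¹ * z⁻¹, _⟩ = 1
    rw [show (⟨u * z * u⁻¹ * z⁻¹, mem_sup_left (hZP hw)⟩ : ↥(P ⊔ C)) =
      (⟨u * z * u⁻¹, mem_sup_left (hZP (Grp.mem_conj_normalizer hUZ hz))⟩ : ↥(P ⊔ C)) * (⟨z, mem_sup_left (hZP hz)⟩)⁻¹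
      from rfl, map_mul, map_inv, hfu ⟨z, mem_sup_left (hZP hz)⟩ ⟨u * z * u⁻¹, _⟩ rfl, mul_inv_cancel]
  have hbot : (Φ (l.comp (Subgroup.inclusion le_sup_left)) ⟨b, hb⟩).ker = ⊥ := by
    haveI : Fact (Nat.card ↥(MulAut.conj ((⟨b, hb⟩ : A) : G) • X)).Prime := ⟨by rw [Grp.card_conj_smul, hXc]; exact hs.hp⟩
    exact (Subgroup.eq_bot_or_eq_top_of_prime_card _).resolve_right fun h => hl ⟨b, hb⟩
      (MonoidHom.ext fun x => MonoidHom.mem_ker.1 (h.ge (Subgroup.mem_top x)))
  have h1 := congrArg Subtype.val (Subgroup.mem_bot.1 (hbot.le (MonoidHom.mem_ker.2 hker)))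
  change u * z * u⁻¹ * z⁻¹ = 1 at h1
  exact mem_centralizer_singleton_iff.2 (mul_inv_eq_iff_eq_mul.1 (mul_inv_eq_one.1 h1)).symm

/-- The two possibilities for a side. -/
theorem weight_cases :
    (Galois P U ∧ C.relIndex U ∣ ∑ i ∈ Finset.range q, p ^ i ∧
      weight M P U C p = (⁅C, C⁆).relIndex C * (p ^ q - 1)) ∨
    (¬ Galois P U ∧ (∃ a, p = 2 * a + 1 ∧ C.relIndex U ∣ a ^ (q - 1)) ∧
      (⁅C, C⁆).relIndex C * (p - 1) ^ q ≤ weight M P U C p) := by
  by_cases hg : Galois P U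
  · exact Or.inl ⟨hg, (hs.galois_u hg).1, hs.galois_weight hg⟩
  · exact Or.inr ⟨hg, hs.nonGalois_u hg, hs.nonGalois_weight hg⟩

/-- In the Galois case with `C = 1` the group `U` is cyclic. -/
theorem cyclic_U (hg : Galois P U) (hC : C = ⊥) : IsCyclic U := (hs.galois_u hg).2.2 hC

theorem le_weight : (p - 1) * C.relIndex U ≤ weight M P U C p := Nat.le_add_right _ _

/-- A subgroup normalised by `A` without fixed points has odd order `1` modulo `q`. -/
theorem free_card {Y : Subgroup G} (hY : Y ≤ U) (hN : A ≤ normalizer (Y : Set G)) :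
    2 * q ∣ Nat.card Y - 1 := by
  haveI := Fact.mk hs.hq
  obtain ⟨a, ha, ha1, -⟩ := hs.exists_gen
  have hq2 : q ≠ 2 := fun e => Nat.not_even_iff_odd.2 hs.hG.1
    (even_iff_two_dvd.2 (e ▸ hs.card₁ ▸ card_subgroup_dvd_card A))
  refine Nat.Coprime.mul_dvd_of_dvd_of_dvd ((Nat.coprime_primes Nat.prime_two hs.hq).2 hq2.symm) ?_
    (dvd_card_sub_one hs.card₁ hN (le_bot_iff.1 ((inf_le_inf hY
      (centralizer_le (Set.singleton_subset_iff.2 ha))).trans (hs.free₁ a ha ha1).le)))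
  obtain ⟨k, hk⟩ := hs.hG.1.of_dvd_nat (card_subgroup_dvd_card Y)
  exact ⟨k, by omega⟩

theorem C_card_mod : 2 * q ∣ Nat.card C - 1 := hs.free_card hs.C_lt.le hs.A_le_normalizer_C

/-- The number `u` is more than one and is `1` modulo `2 q`. -/
theorem u_mod : 2 * q ∣ C.relIndex U - 1 ∧ 1 < C.relIndex U := by
  have hu0 : 1 ≤ C.relIndex U :=
    Nat.one_le_iff_ne_zero.2 fun e => Nat.card_pos.ne' (by rw [← Grp.card_mul_relIndex hs.C_lt.le, e, mul_zero] : Nat.card U = 0)
  refine ⟨Arith.cofactor Nat.card_pos hu0 hs.C_card_mod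
    (by rw [Grp.card_mul_relIndex hs.C_lt.le]; exact hs.free_card le_rfl hs.norm_U), ?_⟩
  rcases eq_or_lt_of_le hu0 with e | e
  · exact absurd (Subgroup.relIndex_eq_one.1 e.symm) (not_le_of_gt hs.C_lt)
  · exact e

/-- The number of linear characters of `C` is `1` modulo `2 q`. -/
theorem c_mod : 2 * q ∣ (⁅C, C⁆).relIndex C - 1 ∧ 1 ≤ (⁅C, C⁆).relIndex C := by
  have hle : ⁅C, C⁆ ≤ C := C.commutator_le_self
  have h0 : 1 ≤ (⁅C, C⁆).relIndex C :=
    Nat.one_le_iff_ne_zero.2 fun e => Nat.card_pos.ne' (by rw [← Grp.card_mul_relIndex hle, e, mul_zero] : Nat.card C = 0)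
  exact ⟨Arith.cofactor Nat.card_pos h0
    (hs.free_card (hle.trans hs.C_lt.le) (Grp.le_normalizer_commutator' hs.A_le_normalizer_C hs.A_le_normalizer_C))
    (by rw [Grp.card_mul_relIndex hle]; exact hs.C_card_mod), h0⟩

end Side

end Cfsg.Agent.Grp.FT
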