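import Cfsg.Agent.Lib.Block.SchurIndicator
import Cfsg.Agent.Lib.Char.Galois
import Cfsg.Agent.Lib.Char.Coherence
import Cfsg.Agent.Lib.Char.CohDescent
import Cfsg.Agent.Lib.Char.DadeImages
import Cfsg.Agent.Lib.Char.Clifford

/-!
Virtual characters: parity of inner products of real ones, Bessel inequalities, energies on sets and the
variance inequality.
-/

set_option autoImplicit false
set_option linter.unusedSectionVars false
set_option linter.style.haveILetI false

namespace Cfsg.Agent.Grp.FT

open Cfsg Cfsg.Agent.Char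
open scoped ComplexConjugate

universe u

variable {G : Type u} [Group G] [Fintype G]

theorem inner_conjFun (a b : G → ℂ) :
    classInner (conjFun a) (conjFun b) = conj (classInner a b) := by
  simp [classInner, conjFun]

theorem gen_conj {a : G → ℂ} (h : IsGeneralizedCharacter G a) : IsGeneralizedCharacter G (conjFun a) := by
  obtain ⟨χ, ψ, h1, h2, rfl⟩ := h
  exact ⟨_, _, IsChar.conj h1, IsChar.conj h2, funext fun g => by simp [conjFun]⟩

theorem gen_one : IsGeneralizedCharacter G (fun _ => (1 : ℂ)) := IsGenChar.of_isCharacter IsChar.one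

theorem gen_irr {a : G → ℂ} (h : IsIrrCharacter G a) : IsGeneralizedCharacter G a :=
  IsGenChar.of_isCharacter (IsIrr.isCharacter h)

theorem conjFun_sub (a b : G → ℂ) : conjFun (a - b) = conjFun a - conjFun b := funext fun g => by
  simp [conjFun]

theorem conjFun_add (a b : G → ℂ) : conjFun (a + b) = conjFun a + conjFun b := funext fun g => by
  simp [conjFun]

theorem conjFun_sum {ι : Type*} (s : Finset ι) (f : ι → G → ℂ) :
    conjFun (∑ i ∈ s, f i) = ∑ i ∈ s, conjFun (f i) := funext fun g => by
  simp [conjFun]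

theorem conjFun_const_one : conjFun (fun _ : G => (1 : ℂ)) = fun _ => 1 := funext fun g => by
  simp [conjFun]

/-- The integral inner product. -/
noncomputable def zInner (a b : G → ℂ) : ℤ := ⌊(classInner a b).re⌋

theorem zInner_spec {a b : G → ℂ} (ha : IsGeneralizedCharacter G a) (hb : IsGeneralizedCharacter G b) :
    classInner a b = (zInner a b : ℂ) := by
  obtain ⟨n, hn⟩ := IsGenChar.classInner_int ha hb
  simp [zInner, hn]

theorem zInner_eq {a b : G → ℂ} {n : ℤ} (h : classInner a b = n) : zInner a b = n := by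
  simp [zInner, h]

theorem zInner_comm {a b : G → ℂ} (ha : IsGeneralizedCharacter G a) (hb : IsGeneralizedCharacter G b) :
    zInner b a = zInner a b := by
  apply zInner_eq
  rw [← classInner_conj_symm, zInner_spec ha hb, map_intCast]

/-- In a group of odd order, two real virtual characters, one of them without principal part, have even inner
product. -/
theorem inner_even (hodd : Odd (Nat.card G)) {f g : G → ℂ} (hf : IsGeneralizedCharacter G f)
    (hg : IsGeneralizedCharacter G g) (hfr : conjFun f = f) (hgr : conjFun g = g)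
    (hf1 : classInner f (fun _ => 1) = 0) : Even (zInner f g) := by
  classical
  obtain ⟨a, ha, hfe⟩ := IsGenChar.exists_decomp hf
  obtain ⟨b, hb, hge⟩ := IsGenChar.exists_decomp hg
  let c : IrrCharacter G → IrrCharacter G := fun φ => ⟨conjFun φ, IsIrr.conj φ.2⟩
  have hcc : ∀ φ, c (c φ) = φ := fun φ => Subtype.ext (Coh.conjFun_conjFun _)
  have key : ∀ (f : G → ℂ) (a : IrrCharacter G → ℤ), conjFun f = f →
      (∀ φ : IrrCharacter G, classInner f (φ : G → ℂ) = a φ) → ∀ φ, a (c φ) = a φ := by
    intro f a hr h φ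
    have h1 := h (c φ)
    rw [← hr, show ((c φ : IrrCharacter G) : G → ℂ) = conjFun φ from rfl, inner_conjFun, h φ, map_intCast] at h1
    exact_mod_cast h1.symm
  have h0 : (∑ φ : IrrCharacter G, ((a φ * b φ : ℤ) : ZMod 2)) = 0 := by
    refine Finset.sum_involution (fun φ _ => c φ) (fun φ _ => ?_) (fun φ _ hne => ?_)
      (fun _ _ => Finset.mem_univ _) (fun φ _ => hcc φ)
    · rw [key f a hfr ha, key g b hgr hb, CharTwo.add_self_eq_zero]
    · intro hfix
      have h1 := Cfsg.Agent.Block.FS.eq_one_of_real_of_odd hodd φ fun x => congrFun (congrArg Subtype.val hfix) x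
      have h2 := ha φ
      rw [h1, hf1] at h2
      have h3 : a φ = 0 := by exact_mod_cast h2.symm
      simp [h3] at hne
  have h1 : zInner f g = ∑ φ : IrrCharacter G, a φ * b φ := by
    refine zInner_eq ?_
    rw [hfe, hge, classInner_sum_sum]
    simp
  rw [h1, ← ZMod.intCast_eq_zero_iff_even, Int.cast_sum, h0]

/-- Bessel's inequality. -/
theorem bessel {ι : Type*} [Fintype ι] [DecidableEq ι] (e : ι → G → ℂ)
    (he : ∀ i j, classInner (e i) (e j) = if i = j then 1 else 0) (f : G → ℂ) :
    ∑ i, Complex.normSq (classInner f (e i)) ≤ (classInner f f).re := by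
  set P : G → ℂ := ∑ i, classInner f (e i) • e i with hP
  have h1 : ∀ j, classInner P (e j) = classInner f (e j) := fun j => by
    simp [hP, classInner_sum_left, classInner_smul_left, he]
  have h2 : classInner f P = ((∑ i, Complex.normSq (classInner f (e i)) : ℝ) : ℂ) := by
    rw [hP, classInner_sum_right]
    push_cast
    exact Finset.sum_congr rfl fun i _ => by rw [classInner_smul_right, ← Complex.normSq_eq_conj_mul_self]
  have h3 : classInner P f = ((∑ i, Complex.normSq (classInner f (e i)) : ℝ) : ℂ) := by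
    rw [← classInner_conj_symm, h2, Complex.conj_ofReal]
  have h4 : classInner P P = ((∑ i, Complex.normSq (classInner f (e i)) : ℝ) : ℂ) := by
    conv_lhs => arg 2; rw [hP]
    rw [classInner_sum_right]
    push_cast
    exact Finset.sum_congr rfl fun i _ => by
      rw [classInner_smul_right, h1, ← Complex.normSq_eq_conj_mul_self]
  have h5 := classInner_self_re_nonneg (f - P)
  rw [classInner_sub_left, classInner_sub_right, classInner_sub_right, h2, h3, h4, Complex.sub_re,
    Complex.sub_re, Complex.sub_re, Complex.ofReal_re] at h5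
  linarith

/-- Bessel's inequality, equality case. -/
theorem bessel_eq {ι : Type*} [Fintype ι] [DecidableEq ι] (e : ι → G → ℂ)
    (he : ∀ i j, classInner (e i) (e j) = if i = j then 1 else 0) (f : G → ℂ)
    (h : (classInner f f).re ≤ ∑ i, Complex.normSq (classInner f (e i))) :
    f = ∑ i, classInner f (e i) • e i := by
  set P : G → ℂ := ∑ i, classInner f (e i) • e i with hP
  have h1 : ∀ j, classInner P (e j) = classInner f (e j) := fun j => by
    simp [hP, classInner_sum_left, classInner_smul_left, he]
  have hb : ∀ g : G → ℂ, (∀ j, classInner g (e j) = 0) → classInner g P = 0 := fun g hg => by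
    simp [hP, classInner_sum_right, classInner_smul_right, hg]
  have hd : classInner (f - P) P = 0 := hb _ fun j => by rw [classInner_sub_left, h1, sub_self]
  have h2 : classInner P P = ((∑ i, Complex.normSq (classInner f (e i)) : ℝ) : ℂ) := by
    conv_lhs => arg 2; rw [hP]
    rw [classInner_sum_right]
    push_cast
    exact Finset.sum_congr rfl fun i _ => by
      rw [classInner_smul_right, h1, ← Complex.normSq_eq_conj_mul_self]
  have hd' : classInner P (f - P) = 0 := by rw [← classInner_conj_symm, hd, map_zero]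
  have h3 : classInner f f = classInner (f - P) (f - P) + classInner P P := by
    conv_lhs => rw [← sub_add_cancel f P]
    rw [classInner_add_left, classInner_add_right, classInner_add_right, hd, hd']
    ring
  have h4 := classInner_self_re_nonneg (f - P)
  have h5 : (classInner (f - P) (f - P)).re = 0 := by
    rw [h3, Complex.add_re, h2, Complex.ofReal_re] at h
    linarith
  have h6 : classInner (f - P) (f - P) = 0 := by
    apply Complex.ext
    · exact h5
    · have := classInner_conj_symm (f - P) (f - P)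
      rw [Complex.conj_eq_iff_im] at this
      exact this
  exact sub_eq_zero.1 ((classInner_self_eq_zero _).1 h6)

/-- The integral form of Bessel's inequality. -/
theorem bessel_int {ι : Type*} [Fintype ι] [DecidableEq ι] (e : ι → G → ℂ)
    (he : ∀ i j, classInner (e i) (e j) = if i = j then 1 else 0) (f : G → ℂ) (c : ι → ℤ)
    (hc : ∀ i, classInner f (e i) = c i) {N : ℤ} (hN : classInner f f = N) :
    ∑ i, c i ^ 2 ≤ N ∧ (∑ i, c i ^ 2 = N → f = ∑ i, (c i : ℂ) • e i) := by
  have h1 : ∀ i, Complex.normSq (classInner f (e i)) = ((c i ^ 2 : ℤ) : ℝ) := fun i => by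
    rw [hc, show ((c i : ℤ) : ℂ) = ((c i : ℝ) : ℂ) by simp, Complex.normSq_ofReal]; push_cast; ring
  refine ⟨?_, fun h => ?_⟩
  · have := bessel e he f
    simp only [h1, hN, Complex.intCast_re, ← Int.cast_sum, Int.cast_le] at this
    exact this
  · have := bessel_eq e he f (by simp only [h1, hN, Complex.intCast_re, ← Int.cast_sum, h, le_refl])
    simp only [hc] at this
    exact this

/-- The mean of `‖f‖²` over a set. -/
noncomputable def energy (s : Set G) (f : G → ℂ) : ℝ :=
  (Nat.card G : ℝ)⁻¹ * ∑ g : G, s.indicator (fun g => Complex.normSq (f g)) g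

theorem energy_nonneg (s : Set G) (f : G → ℂ) : 0 ≤ energy s f :=
  mul_nonneg (by positivity) (Finset.sum_nonneg fun g _ => Set.indicator_nonneg (fun g _ => Complex.normSq_nonneg _) g)

theorem energy_univ (f : G → ℂ) : energy Set.univ f = (classInner f f).re := by
  simp only [energy, Set.indicator_univ, classInner]
  simp only [Complex.mul_conj]
  rw [← Complex.ofReal_sum, ← Complex.ofReal_natCast, ← Complex.ofReal_inv, ← Complex.ofReal_mul, Complex.ofReal_re]

theorem energy_mono {s t : Set G} (h : s ⊆ t) (f : G → ℂ) : energy s f ≤ energy t f :=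
  mul_le_mul_of_nonneg_left (Finset.sum_le_sum fun g _ =>
    Set.indicator_le_indicator_of_subset h (fun g => Complex.normSq_nonneg _) g) (by positivity)

theorem energy_union {s t : Set G} (h : Disjoint s t) (f : G → ℂ) : energy (s ∪ t) f = energy s f + energy t f := by
  simp only [energy, Set.indicator_union_of_disjoint h, Finset.sum_add_distrib, mul_add]

theorem energy_le_norm {s : Set G} (f : G → ℂ) : energy s f ≤ (classInner f f).re :=
  energy_univ f ▸ energy_mono (Set.subset_univ s) f

/-- Energies on disjoint sets add up to at most the norm. -/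
theorem sum_energy_le {ι : Type*} (s : Finset ι) (X : ι → Set G) (hX : ∀ i ∈ s, ∀ j ∈ s, i ≠ j → Disjoint (X i) (X j))
    (f : G → ℂ) : ∑ i ∈ s, energy (X i) f = energy (⋃ i ∈ s, X i) f := by
  classical
  induction s using Finset.induction_on with
  | empty => simp [energy]
  | @insert a s ha ih =>
    rw [Finset.sum_insert ha, ih fun i hi j hj => hX i (Finset.mem_insert_of_mem hi) j (Finset.mem_insert_of_mem hj),
      Finset.set_biUnion_insert, energy_union]
    rw [Set.disjoint_iUnion₂_right]
    exact fun i hi => hX a (Finset.mem_insert_self a s) i (Finset.mem_insert_of_mem hi) fun e => ha (e ▸ hi)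

theorem energy_const_one (s : Set G) : energy s (fun _ => (1 : ℂ)) = (Nat.card s : ℝ) / Nat.card G := by
  classical
  rw [energy, div_eq_inv_mul]
  congr 1
  simp only [map_one, Set.indicator_apply, Finset.sum_boole]
  rw [Nat.card_eq_fintype_card, Fintype.card_of_subtype (Finset.univ.filter fun g => g ∈ s) (fun x => by simp)]

/-- A lower bound for the squares of a function off the identity, from two blocks of coefficients
proportional to the degrees. -/
theorem two_block {K : Type u} [Group K] [Fintype K] {f : K → ℂ} (hf : IsClassFunction K f)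
    (d : IrrCharacter K → ℕ) (hd : ∀ φ : IrrCharacter K, (φ : K → ℂ) 1 = (d φ : ℂ))
    (O R : Finset (IrrCharacter K)) (hOR : Disjoint O R) (s ε : ℂ)
    (hR : ∀ φ ∈ R, classInner f (φ : K → ℂ) = s * d φ)
    (hO : ∀ φ ∈ O, classInner f (φ : K → ℂ) = (s + ε) * d φ) :
    Complex.normSq ε * ((Nat.card K : ℝ) * ((∑ φ ∈ O, (d φ : ℝ) ^ 2) * (∑ φ ∈ R, (d φ : ℝ) ^ 2) /
        (∑ φ ∈ O, (d φ : ℝ) ^ 2 + ∑ φ ∈ R, (d φ : ℝ) ^ 2))) ≤
      (∑ x : K, Complex.normSq (f x)) - Complex.normSq (f 1) := by
  classical
  set c : IrrCharacter K → ℂ := fun φ => classInner f (φ : K → ℂ) with hc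
  have hfe := classFunction_expansion hf
  have hcard : (Nat.card K : ℝ) ≠ 0 := Nat.cast_ne_zero.2 Nat.card_pos.ne'
  have hsum : (∑ x : K, Complex.normSq (f x)) = (Nat.card K : ℝ) * ∑ φ, Complex.normSq (c φ) := by
    have h1 : classInner f f = ∑ φ, c φ * conj (c φ) := by
      conv_lhs => rw [hfe]
      rw [classInner_sum_sum]
    have h2 := energy_univ f
    rw [h1] at h2
    simp only [Complex.mul_conj, ← Complex.ofReal_sum, Complex.ofReal_re, energy, Set.indicator_univ] at h2
    rw [← h2, ← mul_assoc, mul_inv_cancel₀ hcard, one_mul]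
  have hone : f 1 = ∑ φ, c φ * (d φ : ℂ) := by
    conv_lhs => rw [hfe]
    simp [Finset.sum_apply, hd, c]
  have hdsq : (Nat.card K : ℝ) = ∑ φ : IrrCharacter K, (d φ : ℝ) ^ 2 := by
    have := regular_expansion (G := K) (1 : K)
    simp only [hd, if_true] at this
    have h' : ((∑ φ : IrrCharacter K, (d φ : ℝ) ^ 2 : ℝ) : ℂ) = ((Nat.card K : ℝ) : ℂ) := by
      push_cast
      rw [← this]
      exact Finset.sum_congr rfl fun φ _ => sq _
    exact (Complex.ofReal_injective h').symm
  set μ : ℂ := (∑ φ, c φ * (d φ : ℂ)) / (Nat.card K : ℝ) with hμ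
  have key : (∑ φ, Complex.normSq (c φ - μ * (d φ : ℂ))) =
      (∑ φ, Complex.normSq (c φ)) - Complex.normSq (∑ φ, c φ * (d φ : ℂ)) / Nat.card K := by
    have e : ∀ φ, Complex.normSq (c φ - μ * (d φ : ℂ)) =
        Complex.normSq (c φ) + Complex.normSq μ * (d φ : ℝ) ^ 2 - 2 * (c φ * (d φ : ℂ) * conj μ).re := fun φ => by
      rw [Complex.normSq_sub, map_mul, Complex.normSq_natCast]
      congr 2
      · ring
      · rw [map_mul, map_natCast]; ring_nf
    simp only [e, Finset.sum_sub_distrib, Finset.sum_add_distrib, ← Finset.mul_sum, ← hdsq]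
    rw [← Complex.re_sum, ← Finset.sum_mul]
    have e2 : (∑ φ, c φ * (d φ : ℂ)) * conj μ = ((Complex.normSq (∑ φ, c φ * (d φ : ℂ)) / Nat.card K : ℝ) : ℂ) := by
      rw [hμ, map_div₀, Complex.conj_ofReal, ← mul_div_assoc, Complex.mul_conj, Complex.ofReal_div]
    rw [e2, Complex.ofReal_re, hμ, map_div₀, Complex.normSq_ofReal]
    field_simp
    ring
  have hlow : (∑ φ ∈ O, Complex.normSq (c φ - μ * (d φ : ℂ))) + ∑ φ ∈ R, Complex.normSq (c φ - μ * (d φ : ℂ)) ≤
      ∑ φ, Complex.normSq (c φ - μ * (d φ : ℂ)) := by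
    rw [← Finset.sum_union hOR]
    exact Finset.sum_le_sum_of_subset_of_nonneg (Finset.subset_univ _) fun φ _ _ => Complex.normSq_nonneg _
  have hO' : ∀ φ ∈ O, Complex.normSq (c φ - μ * (d φ : ℂ)) = Complex.normSq (s - μ + ε) * (d φ : ℝ) ^ 2 := fun φ hφ => by
    rw [show c φ - μ * (d φ : ℂ) = (s - μ + ε) * (d φ : ℂ) by simp only [c, hO φ hφ]; ring, map_mul,
      Complex.normSq_natCast, sq]
  have hR' : ∀ φ ∈ R, Complex.normSq (c φ - μ * (d φ : ℂ)) = Complex.normSq (s - μ) * (d φ : ℝ) ^ 2 := fun φ hφ => by
    rw [show c φ - μ * (d φ : ℂ) = (s - μ) * (d φ : ℂ) by simp only [c, hR φ hφ]; ring, map_mul,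
      Complex.normSq_natCast, sq]
  rw [Finset.sum_congr rfl hO', Finset.sum_congr rfl hR', ← Finset.mul_sum, ← Finset.mul_sum, key] at hlow
  set A := ∑ φ ∈ O, (d φ : ℝ) ^ 2
  set B := ∑ φ ∈ R, (d φ : ℝ) ^ 2
  have hA : 0 ≤ A := Finset.sum_nonneg fun _ _ => sq_nonneg _
  have hB : 0 ≤ B := Finset.sum_nonneg fun _ _ => sq_nonneg _
  have hmin : Complex.normSq ε * (A * B / (A + B)) ≤ Complex.normSq (s - μ + ε) * A + Complex.normSq (s - μ) * B := by
    rcases eq_or_lt_of_le (add_nonneg hA hB) with h | h
    · rw [← h, div_zero, mul_zero]; exact add_nonneg (mul_nonneg (Complex.normSq_nonneg _) hA) (mul_nonneg (Complex.normSq_nonneg _) hB)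
    rw [← mul_div_assoc, div_le_iff₀ h]
    have hnn := Complex.normSq_nonneg ((A : ℂ) * (s - μ + ε) + (B : ℂ) * (s - μ))
    simp only [Complex.normSq_apply, Complex.add_re, Complex.add_im, Complex.sub_re, Complex.sub_im, Complex.mul_re,
      Complex.mul_im, Complex.ofReal_re, Complex.ofReal_im, zero_mul, sub_zero, add_zero] at hnn ⊢
    linear_combination hnn
  rw [hsum, hone]
  have hpos : (0 : ℝ) < Nat.card K := lt_of_le_of_ne (Nat.cast_nonneg _) (Ne.symm hcard)
  have := mul_le_mul_of_nonneg_left (hmin.trans hlow) hpos.le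
  rw [mul_sub, mul_div_cancel₀ _ hcard, mul_left_comm] at this
  exact this

end Cfsg.Agent.Grp.FT
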